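import Cfsg.Agent.OddCyclic.EN.RepM
import Cfsg.Agent.OddCyclic.CompStart

/-!
# (B-b): the input of "(E1), `|V| = 4`, `ws V z` abelian, `C(z)/kq V z` nonsolvable"

* `Bb T V z`: the input (blueprints/S0342-Bb-helper217.md, section 0, with helper412's (tri*), (red*));
* `Star T V z L`: `L = L*`, the perfect normal subgroup of `C(z)` covering the component of `C(z)/kq V z` of order
  divisible by 3, with (F2), (RL), (RED), (f3), (Z), (F3).
-/

set_option autoImplicit false
set_option linter.unusedSectionVars false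

namespace Cfsg.Agent.OddCyclic.EN.BbDefs

open Subgroup Cfsg Cfsg.Agent.ZN Cfsg.Agent.MinSimple.Geo Cfsg.Agent.OddCyclic.GeoC Cfsg.Agent.OddCyclic.BTwoA
  Cfsg.Agent.OddCyclic.EN.Line Cfsg.Agent.OddCyclic.EN.Base
open scoped commutatorElement

universe u

variable {G : Type u} [Group G]

/-- `⟨z^X⟩` -/
def vx (X : Subgroup G) (z : G) : Subgroup G := closure {y | ∃ x ∈ X, y = x * z * x⁻¹}

/-- `L` is perfect, and every proper normal subgroup of `L` is a 2-group -/
structure IsStar (L : Subgroup G) : Prop where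
  perf : ⁅L, L⁆ = L
  max : ∀ D : Subgroup G, D ≤ L → L ≤ normalizer (D : Set G) → D = L ∨ IsPGroup 2 D
  three : 3 ∣ Nat.card L

/-- the input of (B-b) -/
structure Bb (T V : Subgroup G) (z : G) : Prop extends GeoC T V z where
  ab : ∀ a ∈ ws V z, ∀ b ∈ ws V z, a * b = b * a
  sec : CompStart.SecZero G
  /-- `N_G(T) ≤ N_G(V)` -/
  nor : normalizer (T : Set G) ≤ normalizer (V : Set G)
  /-- `V` is the only four-group normalised by `T` on which `N_G` induces `S₃` -/
  four : ∀ W : Subgroup G, Nat.card W = 4 → (∀ w ∈ W, w * w = 1) → T ≤ normalizer (W : Set G) →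
    ¬ T ≤ centralizer (W : Set G) → (∃ g ∈ normalizer (W : Set G), g * z ≠ z * g) → W = V
  /-- (tri*) -/
  tri : ∀ U : Subgroup G, IsPGroup 2 U → U ≠ ⊥ → T ≤ normalizer (U : Set G) →
    normalizer (U : Set G) ≤ centralizer ({z} : Set G) ∨
    (V ≤ vx (normalizer (U : Set G)) z ∧ ∀ c ∈ normalizer (U : Set G), c ∈ centralizer ({z} : Set G) →
      ∃ i j : ℕ, c ^ (2 ^ i * 3 ^ j) ∈ centralizer ((vx (normalizer (U : Set G)) z : Subgroup G) : Set G))
  /-- (red*) -/
  red : ∀ Y : Subgroup G, Y ≤ ws V z → centralizer ({z} : Set G) ≤ normalizer (Y : Set G) →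
    (∀ D : Subgroup G, D ≤ centralizer ({z} : Set G) → centralizer ({z} : Set G) ≤ normalizer (D : Set G) →
      (∀ d ∈ D, ∃ k : ℕ, d ^ 2 ^ k ∈ centralizer (Y : Set G)) → D ≤ centralizer (Y : Set G)) →
    ∀ L : Subgroup G, L ≤ centralizer ({z} : Set G) → centralizer ({z} : Set G) ≤ normalizer (L : Set G) →
      IsStar L → ¬ L ≤ centralizer (V : Set G) → L ≤ centralizer (Y : Set G)

/-- the output of section 1 -/
structure Star (T V : Subgroup G) (z : G) (L : Subgroup G) : Prop extends Bb T V z, IsStar L where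
  L_le : L ≤ centralizer ({z} : Set G)
  L_nor : centralizer ({z} : Set G) ≤ normalizer (L : Set G)
  L_mv : ¬ L ≤ centralizer (V : Set G)
  L_kq : L ⊓ kq V z ≤ o2 L
  /-- `C(z) = N(L)` is the only maximal 2-local over `LT` -/
  F2 : ∀ U : Subgroup G, IsPGroup 2 U → U ≠ ⊥ → T ≤ normalizer (U : Set G) → L ≤ normalizer (U : Set G) →
    normalizer (U : Set G) ≤ centralizer ({z} : Set G)
  L_nor' : normalizer (L : Set G) = centralizer ({z} : Set G)
  RL : ∀ g : G, L ≤ centralizer ({g * z * g⁻¹} : Set G) → g * z * g⁻¹ = z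
  /-- (RED), with `O₂(L)` and with `O₂(C(z))` -/
  RED : ∀ w ∈ ws V z, (∀ y ∈ o2 L, y * w = w * y) → ∀ l ∈ L, l * w = w * l
  mv : ¬ o2 L ≤ centralizer (V : Set G)
  f3 : ∀ g ∈ centralizer (V : Set G), orderOf g ≠ 3
  k3 : ∀ g ∈ kq V z, orderOf g ≠ 3

end Cfsg.Agent.OddCyclic.EN.BbDefs
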