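import Cfsg.Agent.OddCyclic.EN.S7Grp
import Cfsg.Agent.OddCyclic.RedSevenA

/-!
# S0342 (B-b), types (B), (B'), `n = 1`: the module

`Md ρ J T e`: `J ⊴ X` as in `Amb`, `e ∈ V` is fixed by the Sylow 2-subgroup `T` and by no element of order 3.
-/

set_option autoImplicit false
set_option linter.unusedSectionVars false

namespace Cfsg.Agent.OddCyclic.EN.S7Mod

open Subgroup Cfsg.Agent.OddCyclic.T1Module Cfsg.Agent.OddCyclic.FFBasic
  Cfsg.Agent.OddCyclic.FFRed Cfsg.Agent.OddCyclic.FFPsl Cfsg.Agent.OddCyclic.FFThree Cfsg.Agent.GH.L2Aut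
  Cfsg.Agent.OddCyclic.FFSl2 Cfsg.Agent.OddCyclic.EN.S7Grp

variable {X : Type*} [Group X] [Finite X] {V : Type*} [CommGroup V] [Finite V] {ρ : X →* MulAut V}
  {J : Subgroup X}

/-- `T ∩ J` as a Sylow subgroup of `J` -/
noncomputable def syl (T : Sylow 2 X) (J : Subgroup X) [J.Normal] : Sylow 2 J :=
  haveI : Fact (Nat.Prime 2) := ⟨Nat.prime_two⟩
  (Cfsg.Agent.Lib.SylowNormalInf.isPGroup_subgroupOf T J).toSylow
    (Cfsg.Agent.Lib.SylowNormalInf.not_dvd_relIndex T J)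

theorem mem_syl {T : Sylow 2 X} {J : Subgroup X} [J.Normal] {j : J} : j ∈ (syl T J : Subgroup J) ↔ (j : X) ∈ (T : Subgroup X) :=
  Iff.rfl

section

variable (ρ) (J)

/-- the elements `j ∈ J` with `[v, j] ∈ C_V(J)` -/
def st (v : V) : Subgroup J where
  carrier := {j | ρ j v * v⁻¹ ∈ CS ρ J}
  mul_mem' := by
    intro a b ha hb
    have h1 : ρ a (ρ b v * v⁻¹) = ρ b v * v⁻¹ := hb a a.2
    have e : ρ ((a * b : J) : X) v * v⁻¹ = (ρ b v * v⁻¹) * (ρ a v * v⁻¹) := by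
      rw [Subgroup.coe_mul, map_mul, MulAut.mul_apply]
      rw [map_mul, map_inv] at h1
      have h2 : ρ a (ρ b v) = (ρ b v * v⁻¹) * ρ a v := by rw [← h1, inv_mul_cancel_right]
      rw [h2, mul_assoc]
    show ρ ((a * b : J) : X) v * v⁻¹ ∈ CS ρ J
    rw [e]; exact mul_mem hb ha
  one_mem' := by
    show ρ ((1 : J) : X) v * v⁻¹ ∈ CS ρ J
    rw [Subgroup.coe_one, map_one, MulAut.one_apply, mul_inv_cancel]; exact one_mem _
  inv_mem' := by
    intro a ha
    have h1 : ρ (a : X)⁻¹ (ρ a v * v⁻¹) = ρ a v * v⁻¹ := ha _ (inv_mem a.2)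
    show ρ ((a⁻¹ : J) : X) v * v⁻¹ ∈ CS ρ J
    have h2 : ρ (a : X)⁻¹ (ρ a v) = v := by
      rw [← MulAut.mul_apply, ← map_mul, inv_mul_cancel, map_one]; rfl
    rw [map_mul (ρ (a : X)⁻¹), map_inv (ρ (a : X)⁻¹) v, h2] at h1
    have e : ρ ((a⁻¹ : J) : X) v * v⁻¹ = (ρ a v * v⁻¹)⁻¹ := by
      rw [← h1, mul_inv, inv_inv, mul_comm]; rfl
    rw [e]; exact inv_mem ha

end

theorem mem_st {v : V} {j : J} : j ∈ st ρ J v ↔ ρ j v * v⁻¹ ∈ CS ρ J := Iff.rfl

theorem apply_cm (hV : ∀ v : V, v * v = 1) {t : X} (ht : t * t = 1) {r : V} (hr : r ∈ (cm ρ t).range) : ρ t r = r := by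
  obtain ⟨v, rfl⟩ := hr
  rw [cm_apply, map_mul, map_inv, ← MulAut.mul_apply, ← map_mul, ht, map_one]
  change v * (ρ t v)⁻¹ = ρ t v * v⁻¹
  rw [inv_eq_of_mul_eq_one_right (hV (ρ t v)), inv_eq_of_mul_eq_one_right (hV v), mul_comm]

theorem fix_three (sq : ∀ v : V, v * v = 1) {v : V} {y : J} (hy : y ∈ st ρ J v) (hy3 : y * y * y = 1) : ρ y v = v := by
  set c := ρ y v * v⁻¹ with hc
  have hcC : c ∈ CS ρ J := hy
  have hyc : ρ y c = c := hcC y y.2
  have h1 : ρ y v = c * v := by rw [hc, inv_mul_cancel_right]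
  have h2 : ρ y (ρ y v) = v := by
    rw [h1, map_mul, hyc, h1, ← mul_assoc, sq, one_mul]
  have h3 : ρ y (ρ y (ρ y v)) = v := by
    rw [← MulAut.mul_apply, ← MulAut.mul_apply, ← map_mul, ← map_mul]
    have : (y : X) * y * y = 1 := congrArg Subtype.val hy3
    rw [this, map_one]; rfl
  rw [h2] at h3
  exact h3

/-- a homomorphism of `J` to an elementary abelian group: `[v, J] ≤ C_V(J)` implies `v ∈ C_V(J)` -/
theorem mem_CS_of_st (h : Amb J) (sq : ∀ v : V, v * v = 1) {v : V} (hv : st ρ J v = ⊤) : v ∈ CS ρ J := by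
  have := h.nor
  have := h.simple
  -- the kernel
  let f : J →* V :=
    { toFun := fun j => ρ j v * v⁻¹
      map_one' := by rw [Subgroup.coe_one, map_one, MulAut.one_apply, mul_inv_cancel]
      map_mul' := fun a b => by
        have hb : ρ b v * v⁻¹ ∈ CS ρ J := by
          have : b ∈ st ρ J v := by rw [hv]; trivial
          exact this
        have h1 : ρ a (ρ b v * v⁻¹) = ρ b v * v⁻¹ := hb a a.2
        rw [Subgroup.coe_mul, map_mul, MulAut.mul_apply]
        rw [map_mul, map_inv] at h1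
        have h2 : ρ a (ρ b v) = (ρ b v * v⁻¹) * ρ a v := by rw [← h1, inv_mul_cancel_right]
        rw [h2, mul_assoc, mul_comm] }
  obtain ⟨a, b, hf⟩ := h.l32.four
  obtain ⟨y, hy3, hy1, -⟩ := h.l32.fuse a b hf
  have hyn : y ≠ 1 := by
    rintro rfl
    rw [one_mul, inv_one, mul_one] at hy1
    exact hf.ne hy1
  have hyk : y ∈ f.ker := by
    rw [MonoidHom.mem_ker]
    have h1 : ρ y v = v := fix_three sq (by rw [hv]; trivial) hy3
    show ρ y v * v⁻¹ = 1
    rw [h1, mul_inv_cancel]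
  rcases IsSimpleGroup.eq_bot_or_eq_top_of_normal f.ker inferInstance with h1 | h1
  · rw [h1, mem_bot] at hyk
    exact absurd hyk hyn
  · intro j hj
    have h2 : (⟨j, hj⟩ : J) ∈ f.ker := by rw [h1]; trivial
    rw [MonoidHom.mem_ker] at h2
    have h3 : ρ j v * v⁻¹ = 1 := h2
    exact mul_inv_eq_one.1 h3

/-- `J` acts faithfully if it acts nontrivially -/
theorem faith_of (h : Amb J) (hne : ∃ j ∈ J, ∃ v, ρ j v ≠ v) {j : X} (hj : j ∈ J) (hj1 : j ≠ 1) : ∃ v, ρ j v ≠ v := by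
  by_contra hcon
  push Not at hcon
  have := h.simple
  have hk : (⟨j, hj⟩ : J) ∈ (ρ.comp J.subtype).ker := by
    rw [MonoidHom.mem_ker]
    ext v
    exact hcon v
  rcases IsSimpleGroup.eq_bot_or_eq_top_of_normal (ρ.comp J.subtype).ker inferInstance with h1 | h1
  · rw [h1, mem_bot] at hk
    exact hj1 (congrArg Subtype.val hk)
  · obtain ⟨i, hi, v, hv⟩ := hne
    apply hv
    have h2 : (⟨i, hi⟩ : J) ∈ (ρ.comp J.subtype).ker := by rw [h1]; trivial
    rw [MonoidHom.mem_ker] at h2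
    exact congrArg (fun α : MulAut V => α v) h2

/-- the module for `J` -/
theorem md (h : Amb J) (sq : ∀ v : V, v * v = 1) (hne : ∃ j ∈ J, ∃ v, ρ j v ≠ v) : Mod (ρ.comp J.subtype) :=
  ⟨h.l32, sq, fun y hy => faith_of h hne y.2 (fun e => hy (Subtype.ext e))⟩

/-- `|V : C_V(J)| ≤ |V : C_V(a)| ^ 3` and the same modulo `C_V(J)` -/
theorem index_le_cube (h : Amb J) (sq : ∀ v : V, v * v = 1) {a : X} (haJ : a ∈ J) (ha1 : a ≠ 1) (ha : a * a = 1) :
    (CS ρ J).index ≤ ((CS ρ J).comap (cm ρ a)).index ^ 3 := by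
  have hnor := h.nor
  set C := CS ρ J with hC
  obtain ⟨w, b, c, hw, hw1, hb, hb1, hc, hc1, -, hgen⟩ := h.l32.gen
  have hCinv : ∀ x : X, ∀ v ∈ C, ρ x v ∈ C := by
    intro x v hv j hj
    have h1 : x⁻¹ * j * x ∈ J := by
      have := hnor.conj_mem j hj x⁻¹
      rwa [inv_inv] at this
    have h2 := hv _ h1
    have h3 : ρ j (ρ x v) = ρ x (ρ (x⁻¹ * j * x) v) := by
      rw [← MulAut.mul_apply, ← MulAut.mul_apply, ← map_mul, ← map_mul]
      congr 2; group
    rw [h3, h2]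
  -- conjugate involutions
  have hidx : ∀ x : J, x * x = 1 → x ≠ 1 → (C.comap (cm ρ (x : X))).index = (C.comap (cm ρ a)).index := by
    intro x hx hx1
    obtain ⟨g, hg⟩ := h.l32.conj ⟨a, haJ⟩ x (fun e => ha1 (congrArg Subtype.val e)) (Subtype.ext ha) hx1 hx
    have hg' : (g : X) * a * (g : X)⁻¹ = x := congrArg Subtype.val hg
    have e : C.comap (cm ρ (x : X)) = (C.comap (cm ρ a)).comap (ρ (g : X)⁻¹ : V ≃* V).toMonoidHom := by
      ext v
      rw [mem_comap, mem_comap, mem_comap, cm_apply, cm_apply]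
      change ρ (x : X) v * v⁻¹ ∈ C ↔ ρ a (ρ (g : X)⁻¹ v) * (ρ (g : X)⁻¹ v)⁻¹ ∈ C
      have e1 : ρ (g : X)⁻¹ (ρ (x : X) v * v⁻¹) = ρ a (ρ (g : X)⁻¹ v) * (ρ (g : X)⁻¹ v)⁻¹ := by
        rw [map_mul (ρ (g : X)⁻¹), map_inv (ρ (g : X)⁻¹) v, ← hg']
        congr 1
        rw [← MulAut.mul_apply, ← MulAut.mul_apply, ← map_mul, ← map_mul]
        congr 2; group
      rw [← e1]
      constructor
      · intro h1; exact hCinv _ _ h1
      · intro h1
        have h2 := hCinv g _ h1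
        rwa [← MulAut.mul_apply, ← map_mul, mul_inv_cancel, map_one] at h2
    rw [e]
    exact index_comap_of_surjective _ (ρ (g : X)⁻¹).surjective
  have hle : C.comap (cm ρ (w : X)) ⊓ (C.comap (cm ρ (b : X)) ⊓ C.comap (cm ρ (c : X))) ≤ C := by
    rintro v ⟨h1, h2, h3⟩
    apply mem_CS_of_st h sq
    rw [← hgen, eq_comm]
    apply le_antisymm
    · rw [closure_le]
      rintro x (rfl | rfl)
      · exact h1
      · exact mul_mem (mul_mem h2 h3) h1
    · intro x _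
      rw [hgen]; trivial
  have h1 := index_le_of_le hle
  have h2 := Subgroup.index_inf_le (H := C.comap (cm ρ (w : X))) (K := C.comap (cm ρ (b : X)) ⊓ C.comap (cm ρ (c : X)))
  have h3 := Subgroup.index_inf_le (H := C.comap (cm ρ (b : X))) (K := C.comap (cm ρ (c : X)))
  rw [hidx w hw hw1] at h2
  rw [hidx b hb hb1, hidx c hc hc1] at h3
  set n := (C.comap (cm ρ a)).index with hn
  calc C.index ≤ n * (C.comap (cm ρ (b : X)) ⊓ C.comap (cm ρ (c : X))).index := h1.trans h2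
    _ ≤ n * (n * n) := Nat.mul_le_mul_left _ h3
    _ = n ^ 3 := by ring

theorem index_comap_le {a : X} : ((CS ρ J).comap (cm ρ a)).index ≤ (fx ρ a).index := by
  apply index_le_of_le
  intro v hv
  rw [← ker_cm, MonoidHom.mem_ker] at hv
  rw [mem_comap, hv]
  exact one_mem _

theorem index_le_cube' (h : Amb J) (sq : ∀ v : V, v * v = 1) {a : X} (haJ : a ∈ J) (ha1 : a ≠ 1) (ha : a * a = 1) :
    (CS ρ J).index ≤ (fx ρ a).index ^ 3 :=
  (index_le_cube h sq haJ ha1 ha).trans (Nat.pow_le_pow_left index_comap_le 3)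

/-! ### the line vector -/

/-- the module -/
structure Md (ρ : X →* MulAut V) (J : Subgroup X) (T : Sylow 2 X) (e : V) : Prop extends Amb J where
  sq : ∀ v : V, v * v = 1
  fix : ∀ t ∈ (T : Subgroup X), ρ t e = e
  f3 : ∀ g : X, g * g * g = 1 → g ≠ 1 → ρ g e ≠ e

namespace Md

variable {T : Sylow 2 X} {e : V}

theorem exists_y (h : Md ρ J T e) : ∃ y : J, y * y * y = 1 ∧ y ≠ 1 := by
  obtain ⟨a, b, hf⟩ := h.l32.four
  obtain ⟨y, hy3, hy1, -⟩ := h.l32.fuse a b hf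
  refine ⟨y, hy3, ?_⟩
  rintro rfl
  rw [one_mul, inv_one, mul_one] at hy1
  exact hf.ne hy1

theorem nt (h : Md ρ J T e) : ∃ j ∈ J, ∃ v, ρ j v ≠ v := by
  obtain ⟨y, hy3, hy1⟩ := h.exists_y
  exact ⟨y, y.2, e, h.f3 y (congrArg Subtype.val hy3) (fun e => hy1 (Subtype.ext e))⟩

theorem ne_one (h : Md ρ J T e) : e ≠ 1 := by
  rintro rfl
  obtain ⟨y, hy3, hy1⟩ := h.exists_y
  exact h.f3 y (congrArg Subtype.val hy3) (fun e => hy1 (Subtype.ext e)) (map_one _)

theorem mod (h : Md ρ J T e) : Mod (ρ.comp J.subtype) := md h.toAmb h.sq h.nt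

/-- no element of order 3 in `st e` -/
theorem not_three (h : Md ρ J T e) : ¬ 3 ∣ Nat.card (st ρ J e) := by
  intro h3
  have : Fact (Nat.Prime 3) := ⟨Nat.prime_three⟩
  obtain ⟨y, hy⟩ := exists_prime_orderOf_dvd_card' (G := st ρ J e) 3 h3
  have hy3 : (y : J) * y * y = 1 := by
    have h1 := pow_orderOf_eq_one y
    rw [hy, pow_succ, pow_two] at h1
    exact congrArg Subtype.val h1
  have hy1 : ((y : J) : X) ≠ 1 := by
    intro h1
    have : y = 1 := Subtype.ext (Subtype.ext h1)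
    rw [this, orderOf_one] at hy
    norm_num at hy
  exact h.f3 _ (congrArg Subtype.val hy3) hy1 (fix_three h.sq y.2 hy3)

theorem index_st_le (J : Subgroup X) (ρ : X →* MulAut V) (v : V) : (st ρ J v).index ≤ (CS ρ J).index := by
  have key : ∀ a b : J, (a⁻¹ * b ∈ st ρ J v) ↔ (ρ a v)⁻¹ * ρ b v ∈ CS ρ J := by
    intro a b
    rw [mem_st]
    have e1 : ρ a (ρ ((a⁻¹ * b : J) : X) v * v⁻¹) = (ρ a v)⁻¹ * ρ b v := by
      rw [map_mul, map_inv, Subgroup.coe_mul, Subgroup.coe_inv, map_mul, MulAut.mul_apply, ← MulAut.mul_apply,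
        ← map_mul, mul_inv_cancel, map_one, MulAut.one_apply, mul_comm]
    constructor
    · intro h1
      rw [← e1, h1 a a.2]; exact h1
    · intro h1
      have h2 : ρ (a : X)⁻¹ ((ρ a v)⁻¹ * ρ b v) = ρ ((a⁻¹ * b : J) : X) v * v⁻¹ := by
        rw [← e1, ← MulAut.mul_apply, ← map_mul, inv_mul_cancel, map_one]; rfl
      rw [← h2, h1 _ (inv_mem a.2)]; exact h1
  let f : J ⧸ st ρ J v → V ⧸ CS ρ J := Quotient.map' (fun j => ρ j v) (by
    intro a b hab
    rw [QuotientGroup.leftRel_apply] at hab ⊢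
    exact (key a b).1 hab)
  have hf : Function.Injective f := by
    intro x y hxy
    induction x using QuotientGroup.induction_on with | _ a
    induction y using QuotientGroup.induction_on with | _ b
    have h1 : ((ρ a v : V) : V ⧸ CS ρ J) = (ρ b v : V) := hxy
    rw [QuotientGroup.eq] at h1
    rw [QuotientGroup.eq]
    exact (key a b).2 h1
  exact Nat.card_le_card_of_injective f hf

/-- `|V : C_V(J)| > 8` -/
theorem eight_lt (h : Md ρ J T e) : 8 < (CS ρ J).index := by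
  have hnor := h.nor
  have hsimp := h.simple
  by_contra hcon
  push Not at hcon
  set K := st ρ J e with hK
  have hSK : (syl T J : Subgroup J) ≤ K := by
    intro s hs
    show ρ s e * e⁻¹ ∈ CS ρ J
    rw [h.fix _ (mem_syl.1 hs), mul_inv_cancel]; exact one_mem _
  have h8 : 8 ∣ Nat.card K := by
    have h1 := Subgroup.card_dvd_of_le hSK
    change Nat.card (syl T J) ∣ _ at h1
    rwa [card_sylow h.l32] at h1
  have h1 := K.card_mul_index
  rw [h.card] at h1
  have h2 : K.index ≤ 8 := (index_st_le J ρ e).trans hcon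
  have h3 := h.not_three
  obtain ⟨k, hk⟩ := h8
  rw [← hK] at h3
  rw [hk] at h1 h3
  have h4 : k * K.index = 21 := by
    have : 8 * (k * K.index) = 8 * 21 := by rw [← mul_assoc, h1]
    omega
  have h5 : K.index ∣ 21 := ⟨k, by rw [mul_comm, h4]⟩
  have h6 : K.index ≠ 0 := fun h0 => by rw [h0, mul_zero] at h4; omega
  have h7 : K.index = 1 ∨ K.index = 3 ∨ K.index = 7 := by
    generalize K.index = n at *
    interval_cases n <;> revert h5 <;> decide
  rcases h7 with h7 | h7 | h7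
  · rw [h7, mul_one] at h4
    rw [h4] at h3
    exact h3 (by norm_num)
  · refine not_index_le h.l32 (K := K) ?_ (by rw [h7]; norm_num)
    intro h8
    rw [h8, index_top] at h7
    omega
  · rw [h7] at h4
    have : k = 3 := by omega
    rw [this] at h3
    exact h3 (by norm_num)

/-- **(F1)** -/
theorem two_lt_comap (h : Md ρ J T e) {a : X} (haJ : a ∈ J) (ha1 : a ≠ 1) (ha : a * a = 1) :
    2 < ((CS ρ J).comap (cm ρ a)).index := by
  by_contra hcon
  push Not at hcon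
  have h1 := index_le_cube (ρ := ρ) h.toAmb h.sq haJ ha1 ha
  have h2 := h.eight_lt
  have h3 := Nat.pow_le_pow_left hcon 3
  omega

theorem two_lt (h : Md ρ J T e) {a : X} (haJ : a ∈ J) (ha1 : a ≠ 1) (ha : a * a = 1) : 2 < (fx ρ a).index :=
  (h.two_lt_comap haJ ha1 ha).trans_le index_comap_le

/-- `4 ≤ |V : C_V(a)|` -/
theorem four_le (h : Md ρ J T e) {a : X} (haJ : a ∈ J) (ha1 : a ≠ 1) (ha : a * a = 1) : 4 ≤ (fx ρ a).index := by
  have h1 := h.two_lt haJ ha1 ha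
  obtain ⟨d, hd⟩ := index_pow h.sq (fx ρ a)
  rw [hd] at h1 ⊢
  have h2 : 2 ≤ d := by
    by_contra hcon
    have : d ≤ 1 := by omega
    have := Nat.pow_le_pow_right (n := 2) (by norm_num) this
    omega
  exact (Nat.pow_le_pow_right (by norm_num) h2 : 2 ^ 2 ≤ 2 ^ d)

end Md

/-- an outer involution -/
theorem outer (h : Amb J) (sq : ∀ v : V, v * v = 1) (hne : ∃ j ∈ J, ∃ v, ρ j v ≠ v) {i : X} (hi : i ∉ J)
    (hii : i * i = 1) : 4 < (fx ρ i).index := by
  by_contra hcon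
  push Not at hcon
  obtain ⟨u, hu, hu7, hui⟩ := h.inv_of hi hii
  have hu1 : u ≠ 1 := by
    rintro rfl
    rw [orderOf_one] at hu7; norm_num at hu7
  rcases (small sq hii (by norm_num : Nat.Prime 7) (by norm_num) hu7 (faith_of h hne hu hu1) hui hcon).1 with h1 | h1 <;>
    norm_num at h1

/-- if `J ≠ X`: an element of order 7 with `|V : C_V(u)| ≥ 64` -/
theorem exists_seven (h : Amb J) (hJ : J ≠ ⊤) (sq : ∀ v : V, v * v = 1) (hne : ∃ j ∈ J, ∃ v, ρ j v ≠ v) :
    ∃ u ∈ J, orderOf u = 7 ∧ 64 ≤ (fx ρ u).index := by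
  obtain ⟨i, hi, hii⟩ := h.exists_inv hJ
  obtain ⟨u, hu, hu7, hui⟩ := h.inv_of hi hii
  refine ⟨u, hu, hu7, ?_⟩
  have hu1 : u ≠ 1 := by
    rintro rfl
    rw [orderOf_one] at hu7; norm_num at hu7
  obtain ⟨d, hd⟩ := prim_even (ρ := ρ) sq hii (by rw [hu7]; decide) hui
  obtain ⟨d', hd', h1, h2⟩ := prim (ρ := ρ) sq (by norm_num : Nat.Prime 7) (by norm_num) hu7 (faith_of h hne hu hu1)
  rw [← h1, hd] at h2
  rw [hd]
  have h3 : 3 ≤ d := by
    by_contra hcon
    have hd2 : d ≤ 2 := by omega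
    interval_cases d
    · rw [hd] at h1
      have h5 : (2 : ℕ) ^ d' = 1 := by rw [← h1]; norm_num
      have h4 : d' = 0 := by
        by_contra h6
        have := Nat.one_lt_two_pow h6
        omega
      omega
    · norm_num at h2
    · norm_num at h2
  have h4 : (2 : ℕ) ^ 3 ≤ 2 ^ d := Nat.pow_le_pow_right (by norm_num) h3
  calc 64 = (2 ^ 3) ^ 2 := by norm_num
    _ ≤ (2 ^ d) ^ 2 := Nat.pow_le_pow_left h4 2

theorem fx_ge (ρ : X →* MulAut V) {u : X} (hu : u ∈ J) : CS ρ J ≤ fx ρ u := fun _ hv => hv u hu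

/-- if `J ≠ X`: involutions of `J` have `|F : C_F(a)| ≥ 4` on all modules -/
theorem four_le_of (h : Amb J) (hJ : J ≠ ⊤) (sq : ∀ v : V, v * v = 1) (hne : ∃ j ∈ J, ∃ v, ρ j v ≠ v) {a : X}
    (haJ : a ∈ J) (ha1 : a ≠ 1) (ha : a * a = 1) : 4 ≤ (fx ρ a).index := by
  obtain ⟨u, hu, -, hi⟩ := exists_seven h hJ sq hne
  have h1 := index_le_cube' (ρ := ρ) h sq haJ ha1 ha
  have h2 : (fx ρ u).index ≤ (CS ρ J).index := index_le_of_le (fx_ge ρ hu)
  by_contra hcon
  have h3 : (fx ρ a).index ≤ 3 := by omega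
  have h4 := Nat.pow_le_pow_left h3 3
  omega

end Cfsg.Agent.OddCyclic.EN.S7Mod
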