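import Mathlib
import Cfsg.Agent.OddCyclic.COneSeven
import Cfsg.Agent.OddCyclic.FFPsl
import Cfsg.Agent.SmallSimple.Simple168Classes

/-!
# Groups with a normal simple subgroup of order 168 and trivial centralizer: `L₃(2)` and `PGL₂(7)`

* `Sv L`: `L` is normal, simple of order 168, `C(L) = 1`;
* `Sv.mul_mem_L`: `|X : L| ≤ 2`;
* `Sv.cent_four`: four-groups are self-centralising; `Sv.card_le_four`;
* `Sv.outer_seven`: an involution outside `L` inverts an element of order 7;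
* `Sv.outer_three`: if an involution `s` outside `L` commutes with an involution `t ≠ s` then `s` commutes with an
  element of order 3 inverted by `t`;
* `Sv.no_three`: an involution of `L` commutes with no element of order 3;
* `Sv.mem_of_norm`: an element of `X` normalising a four-group of `L` lies in `L`.
-/

set_option autoImplicit false
set_option linter.unusedSectionVars false

namespace Cfsg.Agent.OddCyclic.EN.SevGrp

open Subgroup Matrix Cfsg.Agent.Lib.SL2Mat Cfsg.Agent.GH.L2Aut Cfsg.Agent.OddCyclic.FFThree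
  Cfsg.Agent.OddCyclic.FFPslMat Cfsg.Agent.OddCyclic.PGLTorus

variable {X : Type*} [Group X] [Finite X]

/-- `L` is a normal simple subgroup of order 168 with trivial centralizer -/
structure Sv (L : Subgroup X) : Prop where
  nrm : L.Normal
  simp : IsSimpleGroup L
  card : Nat.card L = 168
  cent : centralizer (L : Set X) = ⊥

theorem two_ne : (2 : ZMod 7) ≠ 0 := by decide

theorem not_isSquare : ¬ IsSquare (-1 : ZMod 7) := by decide

theorem isSquare_neg : ∀ a : ZMod 7, ¬ IsSquare a → IsSquare (-a) := by decide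

theorem four_two : (4 : ZMod 7) * ((2 : ℕ) : ZMod 7) = 1 := by decide

/-- `-1 / c` is a square if `-c` is a nonzero square -/
theorem exists_beta : ∀ c : ZMod 7, c ≠ 0 → IsSquare (-c) → ∃ b : ZMod 7, 4 * 4 + c * (b * b) = 1 := by decide

namespace Sv

variable {L : Subgroup X} (h : Sv L)
include h

theorem l32 : L32 L := COneSeven.l32 h.simp h.card

theorem exists_rep : Nonempty (Cfsg.Agent.GH.L2Aut.Rep (ZMod 7) L) := by
  have := h.simp
  have : Fact (Nat.Prime 7) := ⟨by norm_num⟩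
  obtain ⟨e⟩ := Cfsg.Agent.S0495.result (G := L) h.card (F := ZMod 7) (ZMod.card 7)
  exact ⟨Cfsg.Agent.GH.L2Aut.Rep.ofEquiv (F := ZMod 7) two_ne e⟩

theorem faith {a : X} (ha : ∀ l ∈ L, a * l = l * a) : a = 1 := by
  have h1 : a ∈ centralizer (L : Set X) := by
    rw [mem_centralizer_iff]
    intro l hl
    exact (ha l hl).symm
  rw [h.cent, mem_bot] at h1
  exact h1

theorem inn {a g : X} (ha : ∀ l ∈ L, a * l * a⁻¹ = g * l * g⁻¹) : a = g := by
  have h1 : g⁻¹ * a = 1 := by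
    apply h.faith
    intro l hl
    have h3 : a * l = g * l * g⁻¹ * a := by rw [← ha l hl]; group
    calc g⁻¹ * a * l = g⁻¹ * (a * l) := by group
      _ = g⁻¹ * (g * l * g⁻¹ * a) := by rw [h3]
      _ = _ := by group
  exact (inv_mul_eq_one.1 h1).symm

omit h in
theorem psi_inj (h : Sv L) [L.Normal] {a : X} (h1 : MulAut.conjNormal (H := L) a = 1) : a = 1 := by
  apply h.faith
  intro l hl
  have h2 := congrArg (fun α : MulAut L => ((α ⟨l, hl⟩ : L) : X)) h1
  simp only [MulAut.conjNormal_apply, MulAut.one_apply] at h2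
  exact mul_inv_eq_iff_eq_mul.1 h2

end Sv

section mat

variable {L : Subgroup X} [L.Normal] (h : Sv L) (R : Cfsg.Agent.GH.L2Aut.Rep (ZMod 7) L)

local notation "ψ" => (MulAut.conjNormal (H := L))

include R in
theorem exists_gl (a : X) : ∃ γ : GL (Fin 2) (ZMod 7), R.gl γ = ψ a := by
  have : Fact (Nat.Prime 7) := ⟨by norm_num⟩
  obtain ⟨γ, hγ⟩ := R.mem_PGL.1 (mem_PGL_of_prime R (by rw [Nat.card_eq_fintype_card, ZMod.card]; norm_num) (ψ a))
  exact ⟨γ, hγ.symm⟩

include h in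
theorem trace_eq {a : X} (ha : a * a = 1) (ha1 : a ≠ 1) {γ : GL (Fin 2) (ZMod 7)} (hγ : R.gl γ = ψ a) :
    γ.1.trace = 0 := by
  have : Fact (Nat.Prime 7) := ⟨by norm_num⟩
  apply trace_of_sq R
  · rw [hγ]; exact fun h1 => ha1 (h.psi_inj h1)
  · rw [hγ, ← map_mul, ha, map_one]

include h in
theorem mem_of_isSquare {a : X} {γ : GL (Fin 2) (ZMod 7)} (hγ : R.gl γ = ψ a)
    (hs : IsSquare γ.1.det) : a ∈ L := by
  have : Fact (Nat.Prime 7) := ⟨by norm_num⟩
  obtain ⟨y, hy⟩ := R.gl_mem_inn.2 hs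
  rw [h.inn (a := a) (g := y) fun l hl => ?_]
  · exact y.2
  · rw [hγ] at hy
    have h1 := congrArg (fun α : MulAut L => ((α ⟨l, hl⟩ : L) : X)) hy
    simp only [MulAut.conjNormal_apply, MulAut.conj_apply] at h1
    exact h1.symm

include h in
theorem isSquare_of {a : X} (ha : a ∉ L) {γ : GL (Fin 2) (ZMod 7)} (hγ : R.gl γ = ψ a) :
    IsSquare (-γ.1.det) := isSquare_neg _ fun h1 => ha (mem_of_isSquare h R hγ h1)

omit [Finite X] in
theorem conj_of_psi {a : X} {x y : L} (h : ψ a x = y) : a * x * a⁻¹ = y := by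
  have := congrArg (fun z : L => (z : X)) h
  simpa [MulAut.conjNormal_apply] using this

include h in
theorem mul_mem' {a b : X} (ha : a ∉ L) (hb : b ∉ L) : a * b ∈ L := by
  have : Fact (Nat.Prime 7) := ⟨by norm_num⟩
  obtain ⟨R⟩ := h.exists_rep
  obtain ⟨γ, hγ⟩ := exists_gl R a
  obtain ⟨δ, hδ⟩ := exists_gl R b
  apply mem_of_isSquare h R (γ := γ * δ) (by rw [map_mul, map_mul, hγ, hδ])
  rw [Units.val_mul, Matrix.det_mul]
  have h1 : γ.1.det * δ.1.det = (-γ.1.det) * (-δ.1.det) := by ring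
  rw [h1]
  exact (isSquare_of h R ha hγ).mul (isSquare_of h R hb hδ)

include h in
/-- commuting with a four-group -/
theorem cent_four' {a b x : X} (hab : Four a b) (ha : x * a = a * x) (hb : x * b = b * x) :
    x = 1 ∨ x = a ∨ x = b ∨ x = a * b := by
  have : Fact (Nat.Prime 7) := ⟨by norm_num⟩
  obtain ⟨R⟩ := h.exists_rep
  have h2 := R.two
  obtain ⟨γ, hγ⟩ := exists_gl R a
  obtain ⟨δ, hδ⟩ := exists_gl R b
  have hγ0 := trace_eq h R hab.aa hab.a1 hγ
  have hδ0 := trace_eq h R hab.bb hab.b1 hδ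
  have hγδ0 : (γ.1 * δ.1).trace = 0 :=
    trace_eq h R (a := a * b) hab.right.bb hab.right.b1 (γ := γ * δ) (by rw [map_mul, map_mul, hγ, hδ])
  have hanti := anticomm hγ0 hδ0 hγδ0
  -- sign of the commutator with a traceless matrix
  have hd0 : ∀ g : GL (Fin 2) (ZMod 7), g.1.det ≠ 0 := fun g => (Matrix.GeneralLinearGroup.det g).ne_zero
  have sgn : ∀ (y c : X) (ξ ε : GL (Fin 2) (ZMod 7)), R.gl ξ = ψ y → R.gl ε = ψ c → y * c = c * y →
      ξ.1 * ε.1 = ε.1 * ξ.1 ∨ ξ.1 * ε.1 = -(ε.1 * ξ.1) := by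
    intro y c ξ ε hξ hε hyc
    have e1 : R.gl (ε * ξ) = R.gl (ξ * ε) := by
      rw [map_mul, map_mul, hξ, hε, ← map_mul, ← map_mul, hyc]
    obtain ⟨k, hk⟩ := (gl_eq_gl_iff R).1 e1
    rw [Units.val_mul, Units.val_mul] at hk
    have e2 := congrArg Matrix.det hk
    rw [Matrix.det_smul, Matrix.det_mul, Matrix.det_mul, Fintype.card_fin] at e2
    have e3 : k ^ 2 = 1 := by
      have e4 : (k ^ 2 - 1) * (ξ.1.det * ε.1.det) = 0 := by linear_combination -e2
      rcases mul_eq_zero.1 e4 with e5 | e5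
      · linear_combination e5
      · exact absurd e5 (mul_ne_zero (hd0 ξ) (hd0 ε))
    have e6 : (k - 1) * (k + 1) = 0 := by linear_combination e3
    rcases mul_eq_zero.1 e6 with e5 | e5
    · left; rw [hk, sub_eq_zero.1 e5, one_smul]
    · right; rw [hk, eq_neg_of_add_eq_zero_left e5, neg_smul, one_smul]
  -- an element whose matrix commutes with both is trivial
  have triv : ∀ (y : X) (ξ : GL (Fin 2) (ZMod 7)), R.gl ξ = ψ y → ξ.1 * γ.1 = γ.1 * ξ.1 → ξ.1 * δ.1 = δ.1 * ξ.1 →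
      y = 1 := by
    intro y ξ hξ e1 e2
    obtain ⟨p, q, hpq⟩ := exists_coef h2 hγ0 e1
    have hq : q = 0 := by
      rw [hpq, Matrix.add_mul, Matrix.mul_add, Matrix.smul_mul, Matrix.smul_mul, Matrix.mul_smul, Matrix.mul_smul,
        Matrix.one_mul, Matrix.mul_one] at e2
      have e3 := add_left_cancel e2
      rw [hanti, smul_neg] at e3
      have e4 : (2 * q) • (δ.1 * γ.1) = 0 := by
        rw [two_mul, add_smul]
        nth_rw 1 [← e3]
        exact neg_add_cancel _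
      by_contra hq0
      have e5 := congrArg Matrix.det e4
      rw [Matrix.det_smul, Matrix.det_mul, Matrix.det_zero, Fintype.card_fin] at e5
      exact mul_ne_zero (pow_ne_zero 2 (mul_ne_zero h2 hq0)) (mul_ne_zero (hd0 δ) (hd0 γ)) e5
    have e6 : R.gl ξ = 1 := by
      rw [R.gl_eq_one_iff]
      exact ⟨p, by rw [hpq, hq, zero_smul, add_zero]⟩
    rw [hξ] at e6
    exact h.psi_inj e6
  obtain ⟨ξ, hξ⟩ := exists_gl R x
  have hanti' : δ.1 * γ.1 = -(γ.1 * δ.1) := by rw [hanti, neg_neg]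
  have inv2 : ∀ c : X, c * c = 1 → x * c = 1 → x = c := by
    intro c hc e
    rw [eq_inv_of_mul_eq_one_left e, inv_eq_of_mul_eq_one_left hc]
  rcases sgn x a ξ γ hξ hγ ha with s1 | s1 <;> rcases sgn x b ξ δ hξ hδ hb with s2 | s2
  · exact Or.inl (triv x ξ hξ s1 s2)
  · right; left
    refine inv2 a hab.aa (triv (x * a) (ξ * γ) (by rw [map_mul, map_mul, hξ, hγ]) ?_ ?_)
    · rw [Units.val_mul, s1]
      simp only [Matrix.mul_assoc]
      rw [s1]
    · rw [Units.val_mul, Matrix.mul_assoc, hanti, Matrix.mul_neg, ← Matrix.mul_assoc, s2, Matrix.neg_mul, neg_neg,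
        Matrix.mul_assoc]
  · right; right; left
    refine inv2 b hab.bb (triv (x * b) (ξ * δ) (by rw [map_mul, map_mul, hξ, hδ]) ?_ ?_)
    · rw [Units.val_mul, Matrix.mul_assoc, hanti', Matrix.mul_neg, ← Matrix.mul_assoc, s1, Matrix.neg_mul, neg_neg,
        Matrix.mul_assoc]
    · rw [Units.val_mul, s2]
      simp only [Matrix.mul_assoc]
      rw [s2]
  · right; right; right
    refine inv2 (a * b) hab.right.bb (triv (x * (a * b)) (ξ * (γ * δ))
      (by rw [map_mul, map_mul, map_mul, map_mul, hξ, hγ, hδ]) ?_ ?_)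
    · rw [Units.val_mul, Units.val_mul]
      calc ξ.1 * (γ.1 * δ.1) * γ.1 = (ξ.1 * γ.1) * (δ.1 * γ.1) := by simp only [Matrix.mul_assoc]
        _ = γ.1 * (ξ.1 * (γ.1 * δ.1)) := by rw [s1, hanti', neg_mul_neg]; simp only [Matrix.mul_assoc]
    · rw [Units.val_mul, Units.val_mul]
      calc ξ.1 * (γ.1 * δ.1) * δ.1 = ξ.1 * (-(δ.1 * γ.1)) * δ.1 := by rw [hanti]
        _ = -((ξ.1 * δ.1) * (γ.1 * δ.1)) := by
          rw [Matrix.mul_neg, Matrix.neg_mul]; simp only [Matrix.mul_assoc]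
        _ = δ.1 * (ξ.1 * (γ.1 * δ.1)) := by
          rw [s2, Matrix.neg_mul, neg_neg]; simp only [Matrix.mul_assoc]

include h in
theorem outer_seven' {a : X} (haL : a ∉ L) (ha : a * a = 1) :
    ∃ y ∈ L, orderOf y = 7 ∧ a * y * a⁻¹ = y⁻¹ := by
  have : Fact (Nat.Prime 7) := ⟨by norm_num⟩
  obtain ⟨R⟩ := h.exists_rep
  obtain ⟨γ, hγ⟩ := exists_gl R a
  have ha1 : a ≠ 1 := fun e => haL (e ▸ one_mem L)
  have hγ0 := trace_eq h R ha ha1 hγ
  obtain ⟨s, hs⟩ := isSquare_of h R haL hγ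
  obtain ⟨u, hu1, hup, hui⟩ := split_inv R hγ0 hs.symm
  refine ⟨(R.π u : L), (R.π u).2, ?_, ?_⟩
  · rw [Subgroup.orderOf_coe]
    refine orderOf_eq_prime ?_ hu1
    rw [← map_pow, hup 7 (by decide), map_one]
  · rw [hγ] at hui
    exact conj_of_psi hui

include h in
theorem outer_three' {s t : X} (hsL : s ∉ L) (hst : Four s t) :
    ∃ u ∈ L, orderOf u = 3 ∧ s * u * s⁻¹ = u ∧ t * u * t⁻¹ = u⁻¹ := by
  have : Fact (Nat.Prime 7) := ⟨by norm_num⟩
  obtain ⟨R⟩ := h.exists_rep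
  obtain ⟨γ, hγ⟩ := exists_gl R s
  obtain ⟨δ, hδ⟩ := exists_gl R t
  have hγ0 := trace_eq h R hst.aa hst.a1 hγ
  have hδ0 := trace_eq h R hst.bb hst.b1 hδ
  have hγδ0 : (γ.1 * δ.1).trace = 0 :=
    trace_eq h R (a := s * t) hst.right.bb hst.right.b1 (γ := γ * δ) (by rw [map_mul, map_mul, hγ, hδ])
  have hd0 : γ.1.det ≠ 0 := (Matrix.GeneralLinearGroup.det γ).ne_zero
  obtain ⟨β, hβ⟩ := exists_beta _ hd0 (isSquare_of h R hsL hγ)
  have hdet : ((4 : ZMod 7) • (1 : Matrix (Fin 2) (Fin 2) (ZMod 7)) + β • γ.1).det = 1 := by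
    rw [det_add_smul _ _ hγ0, hβ]
  let x : Matrix.SpecialLinearGroup (Fin 2) (ZMod 7) := ⟨_, hdet⟩
  have hx : x.1 = (4 : ZMod 7) • (1 : Matrix (Fin 2) (Fin 2) (ZMod 7)) + β • γ.1 := rfl
  have htr : ent x 0 0 + ent x 1 1 = 1 := by
    have e1 : x.1.trace = 1 := by
      rw [hx, Matrix.trace_add, Matrix.trace_smul, Matrix.trace_smul, hγ0, smul_zero, add_zero, Matrix.trace_one,
        Fintype.card_fin, smul_eq_mul]
      exact four_two
    rw [Matrix.trace_fin_two] at e1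
    exact e1
  obtain ⟨h3, h1⟩ := order_three_one R (by decide) htr
  refine ⟨(R.π x : L), (R.π x).2, ?_, ?_, ?_⟩
  · have : Fact (Nat.Prime 3) := ⟨Nat.prime_three⟩
    rw [Subgroup.orderOf_coe]
    exact orderOf_eq_prime h3 h1
  · apply conj_of_psi
    rw [← hγ, R.gl_apply]
    congr 1
    apply Subtype.ext
    rw [conjGL_val]
    show γ.1 * x.1 * γ⁻¹.1 = x.1
    have e1 : γ.1 * x.1 = x.1 * γ.1 := by
      rw [hx, Matrix.mul_add, Matrix.add_mul, Matrix.smul_mul, Matrix.smul_mul, Matrix.mul_smul, Matrix.mul_smul,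
        Matrix.one_mul, Matrix.mul_one]
    have e2 : γ.1 * γ⁻¹.1 = 1 := by rw [← Units.val_mul, mul_inv_cancel]; rfl
    rw [e1, Matrix.mul_assoc, e2, Matrix.mul_one]
  · have e0 : R.gl δ (R.π x) = (R.π x)⁻¹ := gl_inv R hδ0 ?_
    · rw [hδ] at e0
      exact conj_of_psi e0
    rw [hx, Matrix.mul_add, Matrix.mul_smul, Matrix.mul_smul, Matrix.mul_one, Matrix.trace_add, Matrix.trace_smul,
      Matrix.trace_smul, hδ0, Matrix.trace_mul_comm, hγδ0, smul_zero, smul_zero, add_zero]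

end mat

namespace Sv

variable {L : Subgroup X} (h : Sv L)
include h

theorem mul_mem_L {a b : X} (ha : a ∉ L) (hb : b ∉ L) : a * b ∈ L := by
  have := h.nrm
  exact mul_mem' h ha hb

theorem cent_four {a b x : X} (hab : Four a b) (ha : x * a = a * x) (hb : x * b = b * x) :
    x = 1 ∨ x = a ∨ x = b ∨ x = a * b := by
  have := h.nrm
  exact cent_four' h hab ha hb

theorem outer_seven {a : X} (haL : a ∉ L) (ha : a * a = 1) : ∃ y ∈ L, orderOf y = 7 ∧ a * y * a⁻¹ = y⁻¹ := by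
  have := h.nrm
  exact outer_seven' h haL ha

theorem outer_three {s t : X} (hsL : s ∉ L) (hst : Four s t) :
    ∃ u ∈ L, orderOf u = 3 ∧ s * u * s⁻¹ = u ∧ t * u * t⁻¹ = u⁻¹ := by
  have := h.nrm
  exact outer_three' h hsL hst

theorem mem_of_odd {u : X} (hu : Odd (orderOf u)) : u ∈ L := by
  by_contra huL
  obtain ⟨k, hk⟩ := hu
  have h1 : ∀ n : ℕ, u ^ (2 * n) ∈ L := fun n => by
    rw [pow_mul, pow_two]; exact pow_mem (h.mul_mem_L huL huL) n
  have h2 : u ^ (2 * k + 1) = 1 := by rw [← hk]; exact pow_orderOf_eq_one u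
  apply huL
  have h3 : u = (u ^ (2 * k))⁻¹ := by
    rw [pow_succ] at h2
    exact eq_inv_of_mul_eq_one_right h2
  rw [h3]
  exact inv_mem (h1 k)

theorem no_three {t u : X} (htL : t ∈ L) (ht : t * t = 1) (ht1 : t ≠ 1) (hu : orderOf u = 3)
    (hut : u * t = t * u) : False := by
  have := h.simp
  have huL : u ∈ L := h.mem_of_odd (by rw [hu]; decide)
  have hfact : Fact (Nat.Prime 2) := ⟨Nat.prime_two⟩
  have h1 : orderOf (⟨t, htL⟩ : L) = 2 := by
    rw [← Subgroup.orderOf_coe]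
    exact orderOf_eq_prime (by rw [pow_two]; exact ht) ht1
  have h2 := Cfsg.Agent.SmallSimple.Simple168.card_centralizer_dvd_eight h.card (⟨t, htL⟩ : L) (by rw [h1])
  have h3 : (⟨u, huL⟩ : L) ∈ centralizer ({(⟨t, htL⟩ : L)} : Set L) := by
    rw [mem_centralizer_singleton_iff]
    exact Subtype.ext hut
  have h4 : orderOf (⟨u, huL⟩ : L) ∣ 8 := by
    have := orderOf_dvd_natCard (⟨_, h3⟩ : centralizer ({(⟨t, htL⟩ : L)} : Set L))
    rw [Subgroup.orderOf_mk] at this
    exact this.trans h2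
  rw [Subgroup.orderOf_mk, hu] at h4
  omega

/-- an elementary abelian 2-subgroup has order at most 4 -/
theorem card_le_four {A : Subgroup X} (hA : ∀ a ∈ A, a * a = 1) : Nat.card A ≤ 4 := by
  classical
  by_contra hcon
  push Not at hcon
  have hc : ∀ x ∈ A, ∀ y ∈ A, x * y = y * x := fun x hx y hy => FFRed.comm_of_sq hA hx hy
  obtain ⟨a, ha, ha1, -, -, -⟩ := JInner.exists_notin A hcon 1 1 1 1
  obtain ⟨b, hb, hb1, hba, -, -⟩ := JInner.exists_notin A hcon 1 a 1 1
  obtain ⟨c, hc', hc1, hca, hcb, hcab⟩ := JInner.exists_notin A hcon 1 a b (a * b)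
  have hab : Four a b := ⟨hA a ha, hA b hb, ha1, hb1, hba.symm, hc a ha b hb⟩
  rcases h.cent_four hab (hc c hc' a ha) (hc c hc' b hb) with e | e | e | e
  · exact hc1 e
  · exact hca e
  · exact hcb e
  · exact hcab e

/-- an element normalising a four-group of `L` lies in `L` -/
theorem mem_of_norm {a b : X} (haL : a ∈ L) (hbL : b ∈ L) (hab : Four a b) {s : X}
    (h1 : s * a * s⁻¹ = a ∨ s * a * s⁻¹ = b ∨ s * a * s⁻¹ = a * b)
    (h2 : s * b * s⁻¹ = a ∨ s * b * s⁻¹ = b ∨ s * b * s⁻¹ = a * b) : s ∈ L := by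
  have hab' : Four (⟨a, haL⟩ : L) ⟨b, hbL⟩ := by
    refine ⟨Subtype.ext hab.aa, Subtype.ext hab.bb, fun e => hab.a1 (congrArg Subtype.val e),
      fun e => hab.b1 (congrArg Subtype.val e), fun e => hab.ne (congrArg Subtype.val e), Subtype.ext hab.comm⟩
  obtain ⟨y, -, hy1, hy2⟩ := h.l32.fuse _ _ hab'
  obtain ⟨d, hd1, hd2⟩ := h.l32.swap _ _ hab'
  have y1 : (y : X) * a * (y : X)⁻¹ = b := congrArg Subtype.val hy1
  have y2 : (y : X) * b * (y : X)⁻¹ = a * b := congrArg Subtype.val hy2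
  have d1 : (d : X) * a * (d : X)⁻¹ = b := congrArg Subtype.val hd1
  have d2 : (d : X) * b * (d : X)⁻¹ = a := congrArg Subtype.val hd2
  have fin : ∀ g ∈ L, g * a * g⁻¹ = s * a * s⁻¹ → g * b * g⁻¹ = s * b * s⁻¹ → s ∈ L := by
    intro g hg e1 e2
    have k : ∀ c, g * c * g⁻¹ = s * c * s⁻¹ → g⁻¹ * s * c = c * (g⁻¹ * s) := by
      intro c e
      calc g⁻¹ * s * c = g⁻¹ * (s * c * s⁻¹) * s := by group
        _ = g⁻¹ * (g * c * g⁻¹) * s := by rw [e]
        _ = c * (g⁻¹ * s) := by group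
    have h3 : g⁻¹ * s ∈ L := by
      rcases h.cent_four hab (k a e1) (k b e2) with e | e | e | e <;> rw [e]
      · exact one_mem _
      · exact haL
      · exact hbL
      · exact mul_mem haL hbL
    have h4 : s = g * (g⁻¹ * s) := by group
    rw [h4]
    exact mul_mem hg h3
  have conjmul : ∀ g c c' : X, g * (c * c') * g⁻¹ = (g * c * g⁻¹) * (g * c' * g⁻¹) := fun g c c' => by group
  have conjconj : ∀ g g' c : X, (g * g') * c * (g * g')⁻¹ = g * (g' * c * g'⁻¹) * g⁻¹ := fun g g' c => by group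
  have hsne : s * a * s⁻¹ ≠ s * b * s⁻¹ := fun e => hab.ne (by
    have e1 : a = s⁻¹ * (s * a * s⁻¹) * s := by group
    rw [e1, e]; group)
  have eab : a * (a * b) = b := by rw [← mul_assoc, hab.aa, one_mul]
  have ebb : a * b * b = a := by rw [mul_assoc, hab.bb, mul_one]
  have eba : b * (a * b) = a := by rw [← mul_assoc, ← hab.comm, mul_assoc, hab.bb, mul_one]
  have eba' : a * b * a = b := by rw [hab.comm, mul_assoc, hab.aa, mul_one]
  rcases h1 with h1 | h1 | h1 <;> rcases h2 with h2 | h2 | h2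
  · exact absurd (h1.trans h2.symm) hsne
  · exact fin 1 (one_mem _) (by rw [h1]; group) (by rw [h2]; group)
  · -- a ↦ a, b ↦ ab : d y
    refine fin (d * y) (mul_mem d.2 y.2) ?_ ?_
    · rw [conjconj, y1, d2, h1]
    · rw [conjconj, y2, conjmul, d1, d2, h2, hab.comm]
  · exact fin d d.2 (d1.trans h1.symm) (d2.trans h2.symm)
  · exact absurd (h1.trans h2.symm) hsne
  · exact fin y y.2 (y1.trans h1.symm) (y2.trans h2.symm)
  · -- a ↦ ab, b ↦ a : y y
    refine fin (y * y) (mul_mem y.2 y.2) ?_ ?_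
    · rw [conjconj, y1, y2, h1]
    · rw [conjconj, y2, conjmul, y1, y2, eba, h2]
  · -- a ↦ ab, b ↦ b : y d
    refine fin (y * d) (mul_mem y.2 d.2) ?_ ?_
    · rw [conjconj, d1, y2, h1]
    · rw [conjconj, d2, y1, h2]
  · exact absurd (h1.trans h2.symm) hsne

end Sv

end Cfsg.Agent.OddCyclic.EN.SevGrp
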