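import Cfsg.Agent.OddCyclic.BTwoLin.Three

/-!
# (f3): `3` does not divide `|C_G(V)|` if `O₂(C(z))` moves `V` (copy of BTwoLin/Three.lean)
-/

set_option autoImplicit false
set_option linter.dupNamespace false
set_option linter.unusedSectionVars false

namespace Cfsg.Agent.OddCyclic.EN.NotThree

open Subgroup Cfsg Cfsg.Agent.ZN Cfsg.Agent.MinSimple.Geo Cfsg.Agent.OddCyclic.GeoC
  Cfsg.Agent.OddCyclic.BTwoA Cfsg.Agent.OddCyclic.BTwoLin.Three
open Cfsg.Agent.OddCyclic.T1Defs (OddCyc)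
open scoped Pointwise
open Cfsg.Agent.ZN.Block (conj_mem_of_normalizer conj_mem_of_normalizer' le_normalizer_of_forall
  mem_normalizer_of)

universe u

variable {G : Type u} [Group G] [Finite G] {T V : Subgroup G} {z : G}

theorem index_two (h : GeoC T V z) {w : G} (hwQ : w ∈ o2 (centralizer ({z} : Set G)))
    (hwV : w ∉ centralizer (V : Set G)) :
    (o2 (centralizer ({z} : Set G)) ⊓ centralizer (V : Set G)).relIndex (o2 (centralizer ({z} : Set G))) = 2 := by
  rw [relIndex_eq_two_iff]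
  have hQC : ∀ g ∈ o2 (centralizer ({z} : Set G)), g ∈ centralizer ({z} : Set G) := fun g hg => h.T_le (h.o2_le_T hg)
  have hQN : ∀ g ∈ o2 (centralizer ({z} : Set G)), g ∈ normalizer (V : Set G) := fun g hg => h.T_norm (h.o2_le_T hg)
  refine ⟨w, hwQ, fun b hb => ?_⟩
  by_cases hbV : b ∈ centralizer (V : Set G)
  · right
    refine ⟨⟨hb, hbV⟩, fun h1 => hwV ?_⟩
    have e : w = b⁻¹ * (b * w) := by group
    rw [e]
    exact mul_mem (inv_mem hbV) h1.2
  · left
    exact ⟨⟨mul_mem hb hwQ, mul_mem_centralizer h (hQC b hb) (hQN b hb) hbV (hQC w hwQ) (hQN w hwQ) hwV⟩,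
      fun h1 => hbV h1.2⟩

/-- **(f3)** -/
theorem not_three (h : GeoC T V z) {w0 : G} (hw0 : w0 ∈ o2 (centralizer ({z} : Set G)))
    (hw0V : w0 ∉ centralizer (V : Set G)) {x : G} (hx : x ∈ centralizer (V : Set G)) : orderOf x ≠ 3 := by
  intro ho
  obtain ⟨q, hq, hq1, hqz⟩ := h.exists_y
  have hzq : z * q ≠ 1 := fun e => hqz (by rw [← h.inv_eq h.z_mem]; exact (inv_eq_of_mul_eq_one_right e).symm)
  have hzqz : z * q ≠ z := fun e => hq1 (mul_left_cancel (e.trans (mul_one z).symm))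
  have hzqq : z * q ≠ q := fun e => h.z_ne (mul_right_cancel (e.trans (one_mul q).symm))
  have hqq := h.sq q hq
  have hcomm := h.comm h.z_mem hq
  have hx3 : x ^ 3 = 1 := by rw [← ho]; exact pow_orderOf_eq_one x
  have hxC : x ∈ centralizer ({z} : Set G) := centralizer_le_of_mem h.z_mem hx
  have hxN : x ∈ normalizer (V : Set G) := Subgroup.centralizer_le_normalizer _ hx
  set Q := o2 (centralizer ({z} : Set G)) with hQ
  have hQC : ∀ g ∈ Q, g ∈ centralizer ({z} : Set G) := fun g hg => h.T_le (h.o2_le_T hg)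
  have hQN : ∀ g ∈ Q, g ∈ normalizer (V : Set G) := fun g hg => h.T_norm (h.o2_le_T hg)
  obtain ⟨s, hsQ, hsK, hsx⟩ := exists_fixed (Q := Q) (K := Q ⊓ centralizer (V : Set G))
    (h.two.to_le h.o2_le_T) inf_le_left (index_two h hw0 hw0V) hx3
    (fun g hg => conj_mem_of_normalizer (le_normalizer_o2 _) hxC hg)
    (fun g hg hg' => Subgroup.mem_inf.2 ⟨hg, by
      have e : g = x⁻¹ * (x * g * x⁻¹) * x := by group
      rw [e]
      exact mul_mem (mul_mem (inv_mem hx) hg'.2) hx⟩)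
  have hsV : s ∉ centralizer (V : Set G) := fun h1 => hsK ⟨hsQ, h1⟩
  have hw0N := hQN w0 hw0
  have f1 : w0 * z * w0⁻¹ = z := mul_inv_eq_iff_eq_mul.2 (h.z_comm (hQC w0 hw0))
  have f2 : w0 * q * w0⁻¹ = z * q := move h (hQC w0 hw0) hw0N hw0V hq hq1 hqz
  -- an element interchanging `z` and `q`
  obtain ⟨w1, hw1N, e1, e2⟩ : ∃ w1 ∈ normalizer (V : Set G), w1 * z * w1⁻¹ = q ∧ w1 * q * w1⁻¹ = z := by
    obtain ⟨g, hg, hgz⟩ := h.trans (z * q) (mul_mem h.z_mem hq) hzq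
    have hn : g * w0 * g⁻¹ ∈ normalizer (V : Set G) := mul_mem (mul_mem hg hw0N) (inv_mem hg)
    have hc : (g * w0 * g⁻¹) * (z * q) = (z * q) * (g * w0 * g⁻¹) := by
      rw [← hgz]
      calc g * w0 * g⁻¹ * (g * z * g⁻¹) = g * (w0 * z) * g⁻¹ := by group
        _ = g * (z * w0) * g⁻¹ := by rw [h.z_comm (hQC w0 hw0)]
        _ = g * z * g⁻¹ * (g * w0 * g⁻¹) := by group
    have hnc : ¬ (g * w0 * g⁻¹) * z * (g * w0 * g⁻¹)⁻¹ = z := by
      intro e
      apply hw0V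
      have e' : (g * w0 * g⁻¹) * q * (g * w0 * g⁻¹)⁻¹ = q := by
        have h1 : (g * w0 * g⁻¹) * (z * q) * (g * w0 * g⁻¹)⁻¹ = z * q := by rw [hc]; group
        have h2 : (g * w0 * g⁻¹) * (z * q) * (g * w0 * g⁻¹)⁻¹ =
          ((g * w0 * g⁻¹) * z * (g * w0 * g⁻¹)⁻¹) * ((g * w0 * g⁻¹) * q * (g * w0 * g⁻¹)⁻¹) := by group
        rw [h2, e] at h1
        exact mul_left_cancel h1
      have h3 : g * w0 * g⁻¹ ∈ centralizer (V : Set G) := mem_centralizer_of_comm h hq hq1 hqz e e'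
      rw [mem_centralizer_iff] at h3 ⊢
      intro v hv
      have h4 := h3 (g * v * g⁻¹) ((mem_normalizer_iff.mp hg v).mp hv)
      calc v * w0 = g⁻¹ * (g * v * g⁻¹ * (g * w0 * g⁻¹)) * g := by group
        _ = g⁻¹ * (g * w0 * g⁻¹ * (g * v * g⁻¹)) * g := by rw [h4]
        _ = w0 * v := by group
    have hz' : (g * w0 * g⁻¹) * z * (g * w0 * g⁻¹)⁻¹ = q := by
      rcases h.conj_cases (mul_mem h.z_mem hq) h.z_mem hzq hc hn with e | e
      · exact absurd e hnc
      · rw [e, mul_assoc, ← hcomm, ← mul_assoc, h.zz, one_mul]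
    refine ⟨g * w0 * g⁻¹, hn, hz', ?_⟩
    have h1 : (g * w0 * g⁻¹) * (z * q) * (g * w0 * g⁻¹)⁻¹ = z * q := by rw [hc]; group
    have h2 : (g * w0 * g⁻¹) * (z * q) * (g * w0 * g⁻¹)⁻¹ =
      ((g * w0 * g⁻¹) * z * (g * w0 * g⁻¹)⁻¹) * ((g * w0 * g⁻¹) * q * (g * w0 * g⁻¹)⁻¹) := by group
    rw [h2, hz', hcomm] at h1
    exact mul_left_cancel h1
  have s1 : s * z * s⁻¹ = z := mul_inv_eq_iff_eq_mul.2 (h.z_comm (hQC s hsQ))
  have s2 : s * q * s⁻¹ = z * q := move h (hQC s hsQ) (hQN s hsQ) hsV hq hq1 hqz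
  have y1 : (w0 * w1) * z * (w0 * w1)⁻¹ = z * q := cj_mul e1 f2
  have y2 : (w0 * w1) * q * (w0 * w1)⁻¹ = z := cj_mul e2 f1
  have hyN : w0 * w1 ∈ normalizer (V : Set G) := mul_mem hw0N hw1N
  have y3 : (w0 * w1) * (z * q) * (w0 * w1)⁻¹ = q := by
    rw [cj_mul' y1 y2, hcomm, mul_assoc, h.zz, mul_one]
  have s3 : s * (z * q) * s⁻¹ = q := by
    rw [cj_mul' s1 s2, ← mul_assoc, h.zz, one_mul]
  set φ := V.normalizerMonoidHom with hφ
  have hker : ∀ g : normalizer (V : Set G), φ g = 1 ↔ (g : G) ∈ centralizer (V : Set G) := by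
    intro g
    rw [← MonoidHom.mem_ker, hφ, normalizerMonoidHom_ker, mem_subgroupOf]
  have hφeq : ∀ a b : normalizer (V : Set G), (a : G) * z * (a : G)⁻¹ = b * z * (b : G)⁻¹ →
      (a : G) * q * (a : G)⁻¹ = b * q * (b : G)⁻¹ → φ a = φ b := by
    intro a b h1 h2
    have h3 : φ (b⁻¹ * a) = 1 := by
      rw [hker]
      refine mem_centralizer_of_comm h hq hq1 hqz ?_ ?_
      · exact cj_mul (b := (a : G)) (a := (b : G)⁻¹) h1 (cj_inv rfl)
      · exact cj_mul (b := (a : G)) (a := (b : G)⁻¹) h2 (cj_inv rfl)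
    rw [map_mul, map_inv, inv_mul_eq_one] at h3
    exact h3.symm
  have hone : ∀ g : normalizer (V : Set G), (g : G) * (g : G) ∈ centralizer (V : Set G) →
      (∃ k : ℕ, g ^ 3 ^ k = 1) → φ g = 1 := by
    rintro g hg ⟨k, hk⟩
    have h1 : φ g ^ 2 = 1 := by
      rw [pow_two, ← map_mul, hker]; exact hg
    have h2 : φ g ^ 3 ^ k = 1 := by rw [← map_pow, hk, map_one]
    have h3 : orderOf (φ g) ∣ Nat.gcd 2 (3 ^ k) := Nat.dvd_gcd (orderOf_dvd_of_pow_eq_one h1) (orderOf_dvd_of_pow_eq_one h2)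
    have h4 : Nat.gcd 2 (3 ^ k) = 1 := Nat.Coprime.pow_right k (by norm_num)
    rw [h4, Nat.dvd_one] at h3
    exact orderOf_eq_one_iff.1 h3
  refine false_of_comm (CompBasic.oddCyc_subgroup h.cyc (normalizer (V : Set G)) : OddCyc (normalizer (V : Set G))) φ
    (x := ⟨x, hxN⟩) (s := ⟨s, hQN s hsQ⟩) (y₀ := ⟨w0 * w1, hyN⟩) ?_ ?_ ?_ ?_ ?_ ?_
  · rw [← Subgroup.orderOf_coe]; exact ho
  · exact Subtype.ext hsx
  · rw [← map_mul, ← map_mul, ← map_one φ]
    refine hφeq _ _ ?_ ?_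
    · exact (cj_mul (a := w0 * w1 * (w0 * w1)) (b := w0 * w1) y1 (cj_mul y3 y2)).trans (by simp)
    · exact (cj_mul (a := w0 * w1 * (w0 * w1)) (b := w0 * w1) y2 (cj_mul y1 y3)).trans (by simp)
  · intro h1
    rw [hker] at h1
    have h2 := mem_centralizer_iff.1 h1 z h.z_mem
    have h3 : w0 * w1 * z * (w0 * w1)⁻¹ = z := mul_inv_eq_iff_eq_mul.2 h2.symm
    exact hzqz (y1.symm.trans h3)
  · rw [← map_mul, ← map_inv, ← map_mul, ← map_inv]
    refine hφeq _ _ ?_ ?_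
    · refine (cj_mul (a := s * (w0 * w1)) (b := s⁻¹) (cj_inv s1) (cj_mul y1 s3)).trans ?_
      exact (cj_inv y2).symm
    · refine (cj_mul (a := s * (w0 * w1)) (b := s⁻¹) (cj_inv s3) (cj_mul y3 s2)).trans ?_
      exact (cj_inv y3).symm
  · intro g hg
    have hgN : (g : G) ∈ normalizer (V : Set G) := g.2
    have hgz : (g : G) * z * (g : G)⁻¹ ∈ V := (mem_normalizer_iff.mp hgN z).mp h.z_mem
    have hgq : (g : G) * q * (g : G)⁻¹ ∈ V := (mem_normalizer_iff.mp hgN q).mp hq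
    have hinj : ∀ {a b : G}, (g : G) * a * (g : G)⁻¹ = g * b * (g : G)⁻¹ → a = b := by
      intro a b e
      exact mul_left_cancel (mul_right_cancel e)
    have hz1 : (g : G) * z * (g : G)⁻¹ ≠ 1 := fun e => h.z_ne (hinj (by rw [e]; group))
    have hq1' : (g : G) * q * (g : G)⁻¹ ≠ 1 := fun e => hq1 (hinj (by rw [e]; group))
    rcases h.four h.z_mem hq h.z_ne hq1 (Ne.symm hqz) hgz with e | e | e | e
    · exact absurd e hz1
    · -- fixes `z`
      have h1 : φ g = 1 := by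
        refine hone g ?_ hg
        by_cases hgV : (g : G) ∈ centralizer (V : Set G)
        · exact mul_mem hgV hgV
        · have hgC : (g : G) ∈ centralizer ({z} : Set G) :=
            mem_centralizer_singleton_iff.2 (mul_inv_eq_iff_eq_mul.1 e)
          exact mul_mem_centralizer h hgC hgN hgV hgC hgN hgV
      rw [h1]; exact one_mem _
    · rcases h.four h.z_mem hq h.z_ne hq1 (Ne.symm hqz) hgq with e' | e' | e' | e'
      · exact absurd e' hq1'
      · have h1 : φ g = 1 := hone g (mem_centralizer_of_comm h hq hq1 hqz (cj_mul e e') (cj_mul e' e)) hg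
        rw [h1]; exact one_mem _
      · exact absurd (hinj (e.trans e'.symm)) (Ne.symm hqz)
      · have h1 : φ g = φ (⟨w0 * w1, hyN⟩⁻¹) := by
          refine hφeq _ _ ?_ ?_
          · rw [e]; exact (cj_inv y2).symm
          · rw [e']; exact (cj_inv y3).symm
        rw [h1, map_inv]; exact inv_mem (mem_zpowers _)
    · rcases h.four h.z_mem hq h.z_ne hq1 (Ne.symm hqz) hgq with e' | e' | e' | e'
      · exact absurd e' hq1'
      · have h1 : φ g = φ (⟨w0 * w1, hyN⟩) := by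
          refine hφeq _ _ ?_ ?_
          · rw [e]; exact y1.symm
          · rw [e']; exact y2.symm
        rw [h1]; exact mem_zpowers _
      · have h1 : φ g = 1 := by
          refine hone g (mem_centralizer_of_comm h hq hq1 hqz (cj_mul e ?_) (cj_mul e' e')) hg
          rw [cj_mul' e e', mul_assoc, hqq, mul_one]
        rw [h1]; exact one_mem _
      · exact absurd (hinj (e.trans e'.symm)) (Ne.symm hqz)

end Cfsg.Agent.OddCyclic.EN.NotThree
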