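import Cfsg.Agent.OddCyclic.FFStruct
import Cfsg.Agent.OddCyclic.CycConj
import Cfsg.Agent.Schreier.Basic
import Cfsg.Agent.Lib.GenFitting
import Cfsg.Agent.Lib.Cores
import Cfsg.Agent.ThreePrime.SzRel

/-!
# The perfect normal subgroup covering a simple normal subgroup of a quotient

`X` finite with cyclic odd Sylow subgroups.

* `not_dvd_map`: (3-UNIQ) if `p` divides `|ker f|` then it does not divide the order of the image of a perfect subgroup;
* `Cov f L S`: `S` is the smallest normal subgroup of `X` covering the normal subgroup `L` (simple, nonabelian) of `H`;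
  `exists_cov`, `Cov.perfect`, `Cov.map_eq`, `Cov.le`, `Cov.eq_or`.
-/

set_option autoImplicit false
set_option linter.unusedSectionVars false

namespace Cfsg.Agent.OddCyclic.EN.Star

open Subgroup Cfsg Cfsg.Agent.OddCyclic.T1Defs Cfsg.Agent.OddCyclic.CompBasic Cfsg.Agent.OddCyclic.FFStruct
open Cfsg.Agent.OddCyclic.PumpMain (KZero)
open Cfsg.Agent.Schreier.Basic (map_perfect)
open Cfsg.Agent.SignalizersComponents.Components
open scoped commutatorElement

variable {X : Type*} [Group X] [Finite X] {H : Type*} [Group H]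

/-- a perfect group normalising `⟨x⟩` centralises `x` -/
theorem comm_of_perfect {A : Subgroup X} (hA : ⁅A, A⁆ = A) {x : X} (h : ∀ a ∈ A, a * x * a⁻¹ ∈ zpowers x) :
    ∀ a ∈ A, a * x = x * a := by
  have hp : ∀ a ∈ A, ∀ y ∈ zpowers x, a * y * a⁻¹ ∈ zpowers x := by
    rintro a ha _ ⟨n, rfl⟩
    change a * x ^ n * a⁻¹ ∈ zpowers x
    rw [← conj_zpow]
    exact zpow_mem (h a ha) n
  have key : ⁅A, A⁆ ≤ centralizer ({x} : Set X) := by
    rw [commutator_le]
    intro a ha b hb
    obtain ⟨k, hk⟩ := mem_zpowers_iff.mp (h a ha)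
    obtain ⟨l, hl⟩ := mem_zpowers_iff.mp (h b hb)
    have h1 : a * (b * x * b⁻¹) * a⁻¹ = b * (a * x * a⁻¹) * b⁻¹ := by
      rw [← hk, ← hl]
      calc a * x ^ l * a⁻¹ = (a * x * a⁻¹) ^ l := by rw [conj_zpow]
        _ = (b * x * b⁻¹) ^ k := by rw [← hk, ← hl, ← zpow_mul, ← zpow_mul, mul_comm]
        _ = b * x ^ k * b⁻¹ := by rw [conj_zpow]
    rw [mem_centralizer_singleton_iff, commutatorElement_def]
    have h2 := hp a⁻¹ (inv_mem ha) _ (hp b⁻¹ (inv_mem hb) x (mem_zpowers x))
    -- `y := a⁻¹ b⁻¹ x b a`; move to `x`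
    have h3 : a * b * x * b⁻¹ * a⁻¹ = b * a * x * a⁻¹ * b⁻¹ := by
      calc a * b * x * b⁻¹ * a⁻¹ = a * (b * x * b⁻¹) * a⁻¹ := by group
        _ = b * (a * x * a⁻¹) * b⁻¹ := h1
        _ = b * a * x * a⁻¹ * b⁻¹ := by group
    -- `x` is a power of `b a x (b a)⁻¹`
    have h4 : ∀ y ∈ zpowers x, a * b * y * b⁻¹ * a⁻¹ = b * a * y * a⁻¹ * b⁻¹ := by
      rintro _ ⟨n, rfl⟩
      change a * b * x ^ n * b⁻¹ * a⁻¹ = b * a * x ^ n * a⁻¹ * b⁻¹
      calc a * b * x ^ n * b⁻¹ * a⁻¹ = (a * b) * x ^ n * (a * b)⁻¹ := by group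
        _ = (a * b * x * (a * b)⁻¹) ^ n := by rw [conj_zpow]
        _ = (b * a * x * (b * a)⁻¹) ^ n := by
          congr 1
          calc a * b * x * (a * b)⁻¹ = a * b * x * b⁻¹ * a⁻¹ := by group
            _ = b * a * x * a⁻¹ * b⁻¹ := h3
            _ = b * a * x * (b * a)⁻¹ := by group
        _ = (b * a) * x ^ n * (b * a)⁻¹ := by rw [conj_zpow]
        _ = b * a * x ^ n * a⁻¹ * b⁻¹ := by group
    have h5 := h4 _ h2
    have e1 : a * b * (a⁻¹ * (b⁻¹ * x * b⁻¹⁻¹) * a⁻¹⁻¹) * b⁻¹ * a⁻¹ = (a * b * a⁻¹ * b⁻¹) * x * (a * b * a⁻¹ * b⁻¹)⁻¹ := by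
      group
    have e2 : b * a * (a⁻¹ * (b⁻¹ * x * b⁻¹⁻¹) * a⁻¹⁻¹) * a⁻¹ * b⁻¹ = x := by group
    rw [e1, e2] at h5
    exact mul_inv_eq_iff_eq_mul.mp h5
  intro a ha
  rw [← hA] at ha
  exact mem_centralizer_singleton_iff.mp (key ha)

theorem mem_normalizer_zpowers {x g : X} (h : zpowers (g * x * g⁻¹) = zpowers x) :
    g ∈ normalizer ((zpowers x : Subgroup X) : Set X) := by
  rw [mem_normalizer_iff_map_conj_eq, ← h]
  have : (zpowers x).map (MulAut.conj g : X →* X) = zpowers (g * x * g⁻¹) := by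
    rw [MonoidHom.map_zpowers]; rfl
  rw [h]
  exact this.trans h

/-- a subgroup mapping onto a perfect group contains a perfect one -/
theorem exists_perfect_le (f : X →* H) {B : Subgroup X} {D : Subgroup H} (hD : ⁅D, D⁆ = D) (hB : B.map f = D) :
    ∃ C : Subgroup X, C ≤ B ∧ C.map f = D ∧ ⁅C, C⁆ = C := by
  obtain ⟨C, hC⟩ := (Set.toFinite {C : Subgroup X | C ≤ B ∧ C.map f = D}).exists_minimal ⟨B, le_rfl, hB⟩
  obtain ⟨h1, h2⟩ := hC.prop
  refine ⟨C, h1, h2, ?_⟩
  have hle : ⁅C, C⁆ ≤ C := commutator_le_self C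
  have h3 : ⁅C, C⁆.map f = D := by rw [map_commutator, h2, hD]
  exact le_antisymm hle (hC.le_of_le ⟨hle.trans h1, h3⟩ hle)

/-- **(3-UNIQ)**, for all odd primes -/
theorem not_dvd_map (hc : OddCyc X) {p : ℕ} (hp : p.Prime) (hp2 : p ≠ 2) (f : X →* H) (hk : p ∣ Nat.card f.ker)
    {A : Subgroup X} (hA : ⁅A, A⁆ = A) : ¬ p ∣ Nat.card (A.map f) := by
  classical
  intro hd
  have : Fact p.Prime := ⟨hp⟩
  obtain ⟨⟨x, hxN⟩, hx⟩ := exists_prime_orderOf_dvd_card' (G := f.ker) p hk
  rw [Subgroup.orderOf_mk] at hx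
  set N := f.ker with hN
  set B : Subgroup X := normalizer ((zpowers x : Subgroup X) : Set X) with hB
  have hcov : A.map f ≤ B.map f := by
    rintro _ ⟨a, ha, rfl⟩
    have h1 : a * x * a⁻¹ ∈ N := (inferInstance : N.Normal).conj_mem x hxN a
    have h2 : orderOf (a * x * a⁻¹) = p := by
      rw [← hx]
      have := orderOf_injective (MulAut.conj a).toMonoidHom (MulAut.conj a).injective x
      simpa using this
    obtain ⟨n, hn, e⟩ := CycConj.zpowers_conj hc p N x (a * x * a⁻¹) hxN h1 hx h2 (hp.odd_of_ne_two hp2)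
    refine ⟨n * a, ?_, ?_⟩
    · apply mem_normalizer_zpowers
      rw [← e]
      congr 1
      group
    · rw [map_mul, MonoidHom.mem_ker.mp hn, one_mul]
  have hB' : (B ⊓ (A.map f).comap f).map f = A.map f := by
    apply le_antisymm
    · rintro _ ⟨b, hb, rfl⟩
      exact hb.2
    · intro y hy
      obtain ⟨b, hb, rfl⟩ := hcov hy
      exact ⟨b, ⟨hb, hy⟩, rfl⟩
  obtain ⟨C, hC1, hC2, hC3⟩ := exists_perfect_le f (map_perfect f hA) hB'
  have hCx : ∀ c ∈ C, c * x = x * c := by
    apply comm_of_perfect hC3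
    intro c hc
    have h1 : c ∈ B := (hC1 hc).1
    rw [hB] at h1
    exact (mem_normalizer_iff.mp h1 x).mp (mem_zpowers x)
  rw [← hC2] at hd
  obtain ⟨⟨y, hyC⟩, hy⟩ := exists_prime_orderOf_dvd_card' (G := C) p (hd.trans (card_map_dvd C f))
  rw [Subgroup.orderOf_mk] at hy
  have h1 := zpowers_eq_of_commute hc hp hp2 hx hy (hCx y hyC).symm
  have hxC : x ∈ C := by
    have h2 : x ∈ zpowers y := by rw [← h1]; exact mem_zpowers x
    exact (zpowers_le.mpr hyC) h2
  have hP : Group.IsPerfect C := Subgroup.isPerfect_iff.mpr hC3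
  have h2 := eq_one_of_center (oddCyc_subgroup hc C) hP (z := ⟨x, hxC⟩) (by
    rw [mem_center_iff]
    intro c
    exact Subtype.ext (hCx c c.2)) (by rw [Subgroup.orderOf_mk, hx]; exact hp.odd_of_ne_two hp2)
  have h3 : x = 1 := congrArg Subtype.val h2
  rw [h3, orderOf_one] at hx
  exact hp.one_lt.ne hx

/-- `S` is the smallest normal subgroup of `X` covering `L` -/
structure Cov (f : X →* H) (L : Subgroup H) (S : Subgroup X) : Prop where
  nor : S.Normal
  cov : L ≤ S.map f
  min : ∀ D : Subgroup X, D.Normal → L ≤ D.map f → S ≤ D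

theorem cov_inf (f : X →* H) {L : Subgroup H} (hL : ⁅L, L⁆ = L) {S D : Subgroup X}
    (hSD : S ≤ normalizer (D : Set X)) (hDS : D ≤ normalizer (S : Set X)) (hS : L ≤ S.map f) (hD : L ≤ D.map f) :
    L ≤ (S ⊓ D).map f := by
  have h1 : L ≤ ⁅S, D⁆.map f := by
    rw [map_commutator]
    calc L = ⁅L, L⁆ := hL.symm
      _ ≤ ⁅S.map f, D.map f⁆ := commutator_mono hS hD
  refine h1.trans (map_mono ?_)
  rw [commutator_le]
  intro s hs d hd
  refine ⟨?_, ?_⟩
  · rw [commutatorElement_def]
    have h2 : d * s⁻¹ * d⁻¹ ∈ S := (mem_normalizer_iff.mp (hDS hd) s⁻¹).mp (S.inv_mem hs)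
    have e : s * d * s⁻¹ * d⁻¹ = s * (d * s⁻¹ * d⁻¹) := by group
    rw [e]; exact mul_mem hs h2
  · rw [commutatorElement_def]
    exact mul_mem ((mem_normalizer_iff.mp (hSD hs) d).mp hd) (D.inv_mem hd)

theorem exists_cov (f : X →* H) (hf : Function.Surjective f) {L : Subgroup H} (hL : ⁅L, L⁆ = L) :
    ∃ S : Subgroup X, Cov f L S := by
  obtain ⟨S, hS⟩ := (Set.toFinite {D : Subgroup X | D.Normal ∧ L ≤ D.map f}).exists_minimal
    ⟨⊤, inferInstance, by rw [← MonoidHom.range_eq_map, MonoidHom.range_eq_top_of_surjective f hf]; exact le_top⟩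
  obtain ⟨h1, h2⟩ := hS.prop
  refine ⟨S, h1, h2, fun D hD hLD => ?_⟩
  have h3 : L ≤ (S ⊓ D).map f := cov_inf f hL (normalizer_eq_top (H := D) ▸ le_top)
    (normalizer_eq_top (H := S) ▸ le_top) h2 hLD
  exact (hS.le_of_le ⟨inferInstance, h3⟩ inf_le_left).trans inf_le_right

namespace Cov

variable {f : X →* H} {L : Subgroup H} {S : Subgroup X}

theorem perfect (h : Cov f L S) (hL : ⁅L, L⁆ = L) : ⁅S, S⁆ = S := by
  have := h.nor
  refine le_antisymm (commutator_le_self S) (h.min _ inferInstance ?_)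
  rw [map_commutator]
  calc L = ⁅L, L⁆ := hL.symm
    _ ≤ ⁅S.map f, S.map f⁆ := commutator_mono h.cov h.cov

theorem map_eq (h : Cov f L S) (hLn : L.Normal) : S.map f = L := by
  have := h.nor
  have h1 : S ≤ S ⊓ L.comap f := by
    refine h.min _ inferInstance ?_
    intro l hl
    obtain ⟨s, hs, rfl⟩ := h.cov hl
    exact ⟨s, ⟨hs, hl⟩, rfl⟩
  apply le_antisymm
  · rintro _ ⟨s, hs, rfl⟩
    exact (h1 hs).2
  · exact h.cov

/-- the subgroups normal in `S` -/
theorem eq_or (h : Cov f L S) (hLn : L.Normal) (hs : IsSimpleGroup L) (hL : ⁅L, L⁆ = L) {D : Subgroup X}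
    (hDS : D ≤ S) (hSD : S ≤ normalizer (D : Set X)) : D = S ∨ D ≤ f.ker := by
  have hSn := h.nor
  have hmap := h.map_eq hLn
  by_cases hDk : D ≤ f.ker
  · exact Or.inr hDk
  left
  -- `D` covers `L`
  have hDL : L ≤ D.map f := by
    have h1 : D.map f ≤ L := by rw [← hmap]; exact map_mono hDS
    have h2 : ((D.map f).subgroupOf L).Normal := by
      rw [normal_subgroupOf_iff_le_normalizer h1]
      rw [← hmap]
      rintro _ ⟨s, hs', rfl⟩
      rw [mem_normalizer_iff_map_conj_eq, map_map]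
      have h3 : (D.map (MulAut.conj s : X →* X)) = D := mem_normalizer_iff_map_conj_eq.mp (hSD hs')
      conv_rhs => rw [← h3, map_map]
      congr 1
      ext d
      simp
    rcases hs.eq_bot_or_eq_top_of_normal _ h2 with h3 | h3
    · exfalso
      apply hDk
      rw [← Subgroup.map_eq_bot_iff]
      rw [subgroupOf_eq_bot, disjoint_iff, inf_eq_left.mpr h1] at h3
      exact h3
    · rwa [subgroupOf_eq_top] at h3
  -- a minimal one
  obtain ⟨D₁, hD₁⟩ := (Set.toFinite {C : Subgroup X | C ≤ S ∧ S ≤ normalizer (C : Set X) ∧ L ≤ C.map f}).exists_minimal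
    ⟨D, hDS, hSD, hDL⟩
  obtain ⟨h1, h2, h3⟩ := hD₁.prop
  have hmin : ∀ C : Subgroup X, C ≤ S → S ≤ normalizer (C : Set X) → L ≤ C.map f → D₁ ≤ C := by
    intro C hC1 hC2 hC3
    have h4 : L ≤ (D₁ ⊓ C).map f := cov_inf f hL (h1.trans hC2) (hC1.trans h2) h3 hC3
    refine (hD₁.le_of_le ⟨inf_le_left.trans h1, ?_, h4⟩ inf_le_left).trans inf_le_right
    intro s hs'
    rw [mem_normalizer_iff_map_conj_eq, map_inf_eq _ _ _ (MulAut.conj s).injective,
      mem_normalizer_iff_map_conj_eq.mp (h2 hs'), mem_normalizer_iff_map_conj_eq.mp (hC2 hs')]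
  have hD₁n : D₁.Normal := by
    have key : ∀ x : X, D₁ ≤ D₁.map (MulAut.conj x : X →* X) := by
      intro x
      refine hmin _ ?_ ?_ ?_
      · rintro _ ⟨d, hd, rfl⟩
        exact hSn.conj_mem d (h1 hd) x
      · intro s hs'
        have h4 : x⁻¹ * s * x ∈ S := by
          have := hSn.conj_mem s hs' x⁻¹
          rwa [inv_inv] at this
        have h5 := mem_normalizer_iff_map_conj_eq.mp (h2 h4)
        rw [mem_normalizer_iff_map_conj_eq, map_map]
        conv_rhs => rw [← h5, map_map]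
        congr 1
        ext d
        simp [mul_assoc]
      · intro l hl
        have h4 : (f x)⁻¹ * l * f x ∈ L := by
          have := hLn.conj_mem l hl (f x)⁻¹
          rwa [inv_inv] at this
        obtain ⟨d, hd, e⟩ := h3 h4
        refine ⟨x * d * x⁻¹, ⟨d, hd, rfl⟩, ?_⟩
        rw [map_mul, map_mul, map_inv, e]; group
    refine ⟨fun d hd g => ?_⟩
    obtain ⟨d', hd', e⟩ := key g⁻¹ hd
    have e' : g⁻¹ * d' * g⁻¹⁻¹ = d := e
    rw [← e']
    have : g * (g⁻¹ * d' * g⁻¹⁻¹) * g⁻¹ = d' := by group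
    rw [this]; exact hd'
  have h4 : S ≤ D₁ := h.min D₁ hD₁n h3
  exact le_antisymm hDS (h4.trans (hmin D hDS hSD hDL))

end Cov

/-- a perfect group with cyclic odd Sylow subgroups is generated by its 2-elements -/
theorem le_of_two (hc : OddCyc X) {S B : Subgroup X} (hS : ⁅S, S⁆ = S)
    (hB : ∀ s ∈ S, (∃ k : ℕ, s ^ 2 ^ k = 1) → s ∈ B) : S ≤ B := by
  classical
  have : Fact (Nat.Prime 2) := ⟨Nat.prime_two⟩
  set E : Subgroup S := closure {s : S | ∃ k : ℕ, s ^ 2 ^ k = 1} with hE
  have hEn : E.Normal := by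
    refine ⟨fun x hx g => ?_⟩
    induction hx using Subgroup.closure_induction with
    | mem y hy =>
      obtain ⟨k, hk⟩ := hy
      refine subset_closure ⟨k, ?_⟩
      rw [conj_pow, hk]; simp
    | one => simp
    | mul a b _ _ iha ihb =>
      have e : g * (a * b) * g⁻¹ = (g * a * g⁻¹) * (g * b * g⁻¹) := by group
      rw [e]; exact mul_mem iha ihb
    | inv a _ iha =>
      have e : g * a⁻¹ * g⁻¹ = (g * a * g⁻¹)⁻¹ := by group
      rw [e]; exact inv_mem iha
  have hodd : ¬ 2 ∣ Nat.card (S ⧸ E) := by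
    intro h2
    obtain ⟨P⟩ : Nonempty (Sylow 2 S) := inferInstance
    have hPE : (P : Subgroup S) ≤ E := by
      intro p hp
      obtain ⟨k, hk⟩ := P.isPGroup' ⟨p, hp⟩
      exact subset_closure ⟨k, congrArg Subtype.val hk⟩
    have h3 : E.index ∣ (P : Subgroup S).index := index_dvd_of_le hPE
    exact P.not_dvd_index (h2.trans h3)
  have hZ : IsZGroup (S ⧸ E) := by
    rw [isZGroup_iff]
    intro p hp P
    by_cases hp2 : p = 2
    · subst hp2
      have h1 : (P : Subgroup (S ⧸ E)) = ⊥ := by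
        rw [← Subgroup.card_eq_one]
        obtain ⟨n, hn⟩ := IsPGroup.iff_card.mp P.isPGroup'
        rcases Nat.eq_zero_or_pos n with rfl | hn0
        · rw [hn, pow_zero]
        · exfalso
          apply hodd
          exact (hn ▸ dvd_pow_self 2 hn0.ne').trans (card_subgroup_dvd_card _)
      rw [h1]; infer_instance
    · exact oddCyc_quotient (oddCyc_subgroup hc S) E p P hp hp2
  have hsol : Group.IsSolvable (S ⧸ E) := inferInstance
  have hP : Group.IsPerfect S := Subgroup.isPerfect_iff.mpr hS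
  have hP' : Group.IsPerfect (S ⧸ E) := inferInstance
  have htop : E = ⊤ := by
    rw [← QuotientGroup.subsingleton_iff]
    by_contra hcon
    rw [not_subsingleton_iff_nontrivial] at hcon
    exact Group.IsPerfect.not_isSolvable (S ⧸ E) hsol
  intro s hs
  have h1 : (⟨s, hs⟩ : S) ∈ E := by rw [htop]; exact mem_top _
  have h2 : E ≤ B.subgroupOf S := by
    rw [hE, closure_le]
    rintro ⟨t, ht⟩ ⟨k, hk⟩
    exact hB t ht ⟨k, congrArg Subtype.val hk⟩
  exact h2 h1

/-- `S ∩ ker f` is a 2-group -/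
theorem Cov.inf_ker_le (hc : OddCyc X) (hk : ∀ J : Subgroup (X ⧸ pCore 2 X), IsSimpleGroup J →
    (∃ x y : J, x * y ≠ y * x) → KZero J) {f : X →* H} {L : Subgroup H} {S : Subgroup X} (h : Cov f L S)
    (hLn : L.Normal) (hs : IsSimpleGroup L) (hL : ⁅L, L⁆ = L) (h3 : 3 ∣ Nat.card L) :
    S ⊓ f.ker ≤ pCore 2 X := by
  classical
  have : Fact (Nat.Prime 2) := ⟨Nat.prime_two⟩
  have hSn := h.nor
  have hmap := h.map_eq hLn
  have hSp := h.perfect hL
  have hLne : L ≠ ⊥ := by
    intro h1
    have := hs.toNontrivial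
    exact (Subgroup.nontrivial_iff_ne_bot L).mp this h1
  set π := QuotientGroup.mk' (pCore 2 X) with hπ
  have hπs : Function.Surjective π := QuotientGroup.mk'_surjective _
  have hker : π.ker = pCore 2 X := QuotientGroup.ker_mk' _
  have hcY : OddCyc (X ⧸ pCore 2 X) := oddCyc_quotient hc _
  have h2 : pCore 2 (X ⧸ pCore 2 X) = ⊥ := Cfsg.Agent.Lib.Cores.pCore_quotient_pCore 2
  set S' := S.map π with hS'
  have hSn' : S'.Normal := hSn.map π hπs
  have hSp' : ⁅S', S'⁆ = S' := map_perfect π hSp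
  -- subgroups normal in `S'`
  have hmax : ∀ D : Subgroup (X ⧸ pCore 2 X), D ≤ S' → S' ≤ normalizer (D : Set _) → D = S' ∨ D ≤ f.ker.map π := by
    intro D hD hn
    have h4 : (D.comap π ⊓ S).map π = D := by
      apply le_antisymm
      · rintro _ ⟨d, hd, rfl⟩
        exact hd.1
      · intro d hd
        obtain ⟨s, hs', rfl⟩ := hD hd
        exact ⟨s, ⟨hd, hs'⟩, rfl⟩
    rcases h.eq_or hLn hs hL (D := D.comap π ⊓ S) inf_le_right (by
      intro s hs'
      rw [mem_normalizer_iff]
      have h5 := hn (mem_map_of_mem π hs')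
      rw [mem_normalizer_iff] at h5
      intro x
      rw [mem_inf, mem_inf, mem_comap, mem_comap, h5 (π x), map_mul, map_mul, map_inv]
      refine and_congr_right fun _ => ?_
      constructor
      · intro hx; exact mul_mem (mul_mem hs' hx) (inv_mem hs')
      · intro hx
        have : x = s⁻¹ * (s * x * s⁻¹) * s := by group
        rw [this]; exact mul_mem (mul_mem (inv_mem hs') hx) hs') with h5 | h5
    · left
      rw [← h4, h5]
    · right
      rw [← h4]; exact map_mono h5
  -- `S'` is not contained in the image of the kernel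
  have hnk : ¬ S' ≤ f.ker.map π := by
    intro hle
    have h4 : S ≤ f.ker ⊔ pCore 2 X := by
      intro s hs'
      obtain ⟨k, hk', e⟩ := hle (mem_map_of_mem π hs')
      have h5 : k⁻¹ * s ∈ pCore 2 X := by
        rw [← hker, MonoidHom.mem_ker, map_mul, map_inv, e, inv_mul_cancel]
      have h6 : s = k * (k⁻¹ * s) := by group
      rw [h6]
      exact mul_mem (mem_sup_left hk') (mem_sup_right h5)
    -- then `L` is a 2-group
    have h5 : L ≤ (pCore 2 X).map f := by
      rw [← hmap]
      rintro _ ⟨s, hs', rfl⟩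
      have h6 : (f.ker ⊔ pCore 2 X).map f = (pCore 2 X).map f := by
        rw [Subgroup.map_sup]
        have : f.ker.map f = ⊥ := (Subgroup.map_eq_bot_iff _).mpr le_rfl
        rw [this, bot_sup_eq]
      rw [← h6]
      exact mem_map_of_mem f (h4 hs')
    have h6 : IsPGroup 2 (pCore 2 X) := Cfsg.Agent.Lib.Cores.pCore_isPGroup 2
    have : Finite L := by
      rw [← hmap]; exact Finite.of_surjective (f.subgroupMap S) (f.subgroupMap_surjective S)
    have h7 : IsPGroup 2 L := (h6.map f).to_le h5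
    obtain ⟨n, hn⟩ := IsPGroup.iff_card.mp h7
    rw [hn] at h3
    have := Nat.Prime.dvd_of_dvd_pow Nat.prime_three h3
    omega
  have h3K : ¬ 3 ∣ Nat.card (f.ker.map π) := by
    intro h4
    have h5 : 3 ∣ Nat.card f.ker := h4.trans (card_map_dvd _ _)
    refine not_dvd_map hc Nat.prime_three (by norm_num) f h5 hSp ?_
    rw [hmap]; exact h3
  -- `S'` is a component
  have hcomp : IsComponent S' := by
    by_contra hcon
    -- `S'` centralises the Fitting subgroup
    have hfit : ∀ s ∈ S', ∀ x ∈ fittingSubgroup (X ⧸ pCore 2 X), s * x = x * s := by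
      have hcyc := isCyclic_fitting hcY h2
      obtain ⟨⟨g, hg⟩, hgen⟩ := hcyc.exists_generator
      have hz : ∀ x ∈ fittingSubgroup (X ⧸ pCore 2 X), x ∈ zpowers g := by
        intro x hx
        obtain ⟨k, hk'⟩ := mem_zpowers_iff.mp (hgen ⟨x, hx⟩)
        exact ⟨k, congrArg Subtype.val hk'⟩
      have hFn : (fittingSubgroup (X ⧸ pCore 2 X)).Normal := inferInstance
      have h4 := comm_of_perfect hSp' (x := g) (fun a _ => hz _ (hFn.conj_mem g hg a))
      intro s hs' x hx
      obtain ⟨k, rfl⟩ := hz x hx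
      exact (Commute.zpow_right (h4 s hs') k)
    -- `S'` centralises the components
    have hcmp : ∀ N : Subgroup (X ⧸ pCore 2 X), IsComponent N → ∀ s ∈ S', s ∈ centralizer (N : Set _) := by
      intro N hN
      have hNn := component_normal hcY hN
      rcases component_le_or_commutator_eq_bot_of_le_normalizer hN (H := S')
        (by rw [normalizer_eq_top (H := S')]; exact le_top) with h4 | h4
      · exfalso
        rcases hmax N h4 (by rw [normalizer_eq_top (H := N)]; exact le_top) with h5 | h5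
        · exact hcon (h5 ▸ hN)
        · have hsimp := simple_component hcY h2 hN
          have h3N : ¬ 3 ∣ Nat.card N := fun h6 => h3K (h6.trans (card_dvd_of_le h5))
          have hnc : ∃ x y : N, x * y ≠ y * x := by
            by_contra hab
            push Not at hab
            have h7 := center_component hcY h2 hN
            have h8 : center N = ⊤ := by
              rw [eq_top_iff]
              intro a _
              rw [mem_center_iff]
              intro b
              exact hab b a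
            rw [h8] at h7
            have := hsimp.toNontrivial
            exact top_ne_bot h7
          have hsz : Cfsg.Lie.IsoSuzuki N := by
            by_contra hns
            exact h3N (three_dvd_of_kZero (hk N hsimp hnc) hns)
          -- every element of `S'` acts as an inner automorphism
          have hinn : S' ≤ N ⊔ (S' ⊓ centralizer (N : Set _)) := by
            refine le_of_two hcY hSp' fun s hs' hs2 => ?_
            obtain ⟨F, iF, iF', m, hm, hF, ⟨R⟩⟩ := Cfsg.Agent.ThreePrime.SzRel.exists_rel hsz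
            obtain ⟨k, hk'⟩ := hs2
            obtain ⟨j, hj⟩ := R.inner hm hF (MulAut.conjNormal s) ⟨k, by
              rw [← map_pow, hk', map_one]⟩
            have h6 : ∀ y ∈ N, s * y * s⁻¹ = (j : X ⧸ pCore 2 X) * y * (j : X ⧸ pCore 2 X)⁻¹ := by
              intro y hy
              have h1 := congrArg (fun α : MulAut N => ((α ⟨y, hy⟩ : N) : X ⧸ pCore 2 X)) hj
              simpa [MulAut.conjNormal_apply, eq_comm] using h1
            have h7 : (j : X ⧸ pCore 2 X)⁻¹ * s ∈ centralizer (N : Set (X ⧸ pCore 2 X)) := by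
              rw [mem_centralizer_iff]
              intro y hy
              have := h6 y hy
              calc y * ((j : X ⧸ pCore 2 X)⁻¹ * s) =
                  (j : X ⧸ pCore 2 X)⁻¹ * ((j : X ⧸ pCore 2 X) * y * (j : X ⧸ pCore 2 X)⁻¹) * s := by group
                _ = (j : X ⧸ pCore 2 X)⁻¹ * s * y := by rw [← this]; group
            have h8 : s = (j : X ⧸ pCore 2 X) * ((j : X ⧸ pCore 2 X)⁻¹ * s) := by group
            rw [h8]
            exact mul_mem (mem_sup_left j.2) (mem_sup_right ⟨mul_mem (S'.inv_mem (h4 j.2)) hs', h7⟩)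
          rcases hmax (S' ⊓ centralizer (N : Set _)) inf_le_left (by
            rw [normalizer_eq_top (H := S' ⊓ centralizer (N : Set _))]; exact le_top) with h6 | h6
          · obtain ⟨x, y, hxy⟩ := hnc
            apply hxy
            have h7 : (x : X ⧸ pCore 2 X) ∈ S' ⊓ centralizer (N : Set _) := by rw [h6]; exact h4 x.2
            exact Subtype.ext ((mem_centralizer_iff.mp h7.2 y y.2).symm)
          · exact hnk (hinn.trans (sup_le h5 h6))
      · intro s hs'
        rw [Subgroup.commutator_comm, Subgroup.commutator_eq_bot_iff_le_centralizer] at h4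
        exact h4 hs'
    -- involutions
    have h4 : ∀ s ∈ S', s * s = 1 → s = 1 := fun s hs' hss =>
      eq_one_of_centralizes h2 hss (hfit s hs') fun K hK => hcmp K hK s hs'
    have h5 : S' ≤ ⊥ := by
      refine le_of_two hcY hSp' fun s hs' hs2 => ?_
      obtain ⟨k, hk'⟩ := hs2
      rw [mem_bot]
      induction k with
      | zero => simpa using hk'
      | succ k ih =>
        apply ih
        apply h4 _ (pow_mem hs' _)
        rw [← pow_two, ← pow_mul, ← pow_succ]; exact hk'
    exact hnk (h5.trans bot_le)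
  -- hence simple
  have hsimp := simple_component hcY h2 hcomp
  have h4 : ((f.ker.map π ⊓ S').subgroupOf S').Normal := by
    have hn1 : (f.ker.map π).Normal := Subgroup.Normal.map inferInstance π hπs
    have hn2 : (f.ker.map π ⊓ S').Normal := inferInstance
    exact hn2.subgroupOf S'
  rcases hsimp.eq_bot_or_eq_top_of_normal _ h4 with h5 | h5
  · rw [subgroupOf_eq_bot, disjoint_iff, inf_assoc, inf_idem] at h5
    rintro s ⟨hs1, hs2⟩
    have h6 : π s ∈ f.ker.map π ⊓ S' := ⟨mem_map_of_mem π hs2, mem_map_of_mem π hs1⟩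
    rw [h5, mem_bot, ← MonoidHom.mem_ker, hker] at h6
    exact h6
  · exfalso
    rw [subgroupOf_eq_top] at h5
    exact hnk (h5.trans inf_le_left)

end Cfsg.Agent.OddCyclic.EN.Star
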