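import Cfsg.Agent.OddCyclic.EN.Bb
import Cfsg.Agent.OddCyclic.EN.Star
import Cfsg.Agent.OddCyclic.EN.NotThree
import Cfsg.Agent.OddCyclic.FFSec
import Cfsg.Agent.S0144

/-!
# (B-b), section 1: `L*`, (F2), (RL), (RED), (f3)

`main`: `Bb T V z` and a simple normal subgroup `J` of `X = C(z)/kq V z` of order divisible by 3 give
`Star T V z L` with `L` mapping onto `J`.
-/

set_option autoImplicit false
set_option linter.unusedSectionVars false

namespace Cfsg.Agent.OddCyclic.EN.BbMain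

open Subgroup Cfsg Cfsg.Agent.ZN Cfsg.Agent.MinSimple.Geo Cfsg.Agent.OddCyclic.GeoC Cfsg.Agent.OddCyclic.BTwoA
  Cfsg.Agent.OddCyclic.EN.Line Cfsg.Agent.OddCyclic.EN.Base Cfsg.Agent.OddCyclic.EN.RepM
  Cfsg.Agent.OddCyclic.EN.BbDefs Cfsg.Agent.OddCyclic.EN.Star Cfsg.Agent.MinSimple.SecRep
open Cfsg.Agent.OddCyclic.T1Defs (OddCyc)
open Cfsg.Agent.Schreier.Basic (map_perfect)
open Cfsg.Agent.ZN.Block (conj_mem_of_normalizer conj_mem_of_normalizer' le_normalizer_of_forall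
  mem_normalizer_of)
open scoped commutatorElement

universe u

variable {G : Type u} [Group G]

/-- the homomorphism `C → X` of a section -/
def hom {C W Z : Subgroup G} {M X : Type u} [AddCommGroup M] [Group X] [DistribMulAction X M] (R : Sec C W Z M X) :
    C →* X where
  toFun c := R.rho c
  map_one' := R.rho_one
  map_mul' a b := R.rho_mul a a.2 b b.2

theorem hom_apply {C W Z : Subgroup G} {M X : Type u} [AddCommGroup M] [Group X] [DistribMulAction X M]
    (R : Sec C W Z M X) (c : C) : hom R c = R.rho c := rfl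

theorem hom_surj {C W Z : Subgroup G} {M X : Type u} [AddCommGroup M] [Group X] [DistribMulAction X M]
    (R : Sec C W Z M X) : Function.Surjective (hom R) := fun x => by
  obtain ⟨c, hc, e⟩ := R.rho_surj x
  exact ⟨⟨c, hc⟩, e⟩

/-! ### perfect groups -/

/-- a perfect group acting on an abelian group, trivially on a quotient by fixed elements, acts trivially -/
theorem comm_of_perfect' {L : Subgroup G} (hL : ⁅L, L⁆ = L) {w : G} (u : G → G)
    (hu : ∀ l ∈ L, l * w * l⁻¹ = u l * w) (hc : ∀ l ∈ L, ∀ k ∈ L, k * u l = u l * k)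
    (hcc : ∀ l ∈ L, ∀ k ∈ L, u k * u l = u l * u k) : ∀ l ∈ L, l * w = w * l := by
  have key : ⁅L, L⁆ ≤ centralizer ({w} : Set G) := by
    rw [commutator_le]
    intro a ha b hb
    have ha' : a⁻¹ ∈ L := inv_mem ha
    have hb' : b⁻¹ ∈ L := inv_mem hb
    have h1 : ∀ x ∈ L, ∀ y ∈ L, x * y * w * (x * y)⁻¹ = u x * u y * w := by
      intro x hx y hy
      calc x * y * w * (x * y)⁻¹ = x * (y * w * y⁻¹) * x⁻¹ := by group
        _ = x * (u y * w) * x⁻¹ := by rw [hu y hy]
        _ = (x * u y) * w * x⁻¹ := by group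
        _ = u y * (x * w * x⁻¹) := by rw [hc y hy x hx]; group
        _ = u x * u y * w := by rw [hu x hx, ← mul_assoc, hcc x hx y hy]
    have h2 : a⁻¹ * b⁻¹ * w * (a⁻¹ * b⁻¹)⁻¹ = b⁻¹ * a⁻¹ * w * (b⁻¹ * a⁻¹)⁻¹ := by
      rw [h1 _ ha' _ hb', h1 _ hb' _ ha', hcc _ ha' _ hb']
    rw [mem_centralizer_singleton_iff, commutatorElement_def]
    -- conjugate by `b a`
    have h3 : (a * b) * (a⁻¹ * b⁻¹ * w * (a⁻¹ * b⁻¹)⁻¹) * (a * b)⁻¹ =
        (a * b) * (b⁻¹ * a⁻¹ * w * (b⁻¹ * a⁻¹)⁻¹) * (a * b)⁻¹ := by rw [h2]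
    have e1 : (a * b) * (a⁻¹ * b⁻¹ * w * (a⁻¹ * b⁻¹)⁻¹) * (a * b)⁻¹ =
        (a * b * a⁻¹ * b⁻¹) * w * (a * b * a⁻¹ * b⁻¹)⁻¹ := by group
    have e2 : (a * b) * (b⁻¹ * a⁻¹ * w * (b⁻¹ * a⁻¹)⁻¹) * (a * b)⁻¹ = w := by group
    rw [e1, e2] at h3
    exact mul_inv_eq_iff_eq_mul.mp h3
  intro l hl
  rw [← hL] at hl
  exact mem_centralizer_singleton_iff.mp (key hl)

variable [Finite G] {T V : Subgroup G} {z : G}

/-- `C(z) ≠ G` -/
theorem centralizer_ne_top (h : GeoC T V z) : centralizer ({z} : Set G) ≠ ⊤ := by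
  intro ht
  have h1 : ∀ g : G, g * z = z * g := fun g => mem_centralizer_singleton_iff.mp (by rw [ht]; exact mem_top g)
  have h2 : IsPGroup 2 (zpowers z) := by
    rintro ⟨y, hy⟩
    refine ⟨1, Subtype.ext ?_⟩
    rw [pow_one]
    rcases (mem_zpowers_iff_of_mul_self h.zz).mp hy with e | e
    · change y ^ 2 = 1
      rw [e]; simp
    · change y ^ 2 = 1
      rw [e, pow_two, h.zz]
  have hn : ∀ A : Subgroup G, A ≤ normalizer ((zpowers z : Subgroup G) : Set G) := fun A =>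
    le_normalizer_of_forall fun g _ y hy => by
      rcases (mem_zpowers_iff_of_mul_self h.zz).mp hy with e | e
      · rw [e]; simp
      · rw [e, h1 g, mul_inv_cancel_right]; exact mem_zpowers z
  have h3 := h.core (zpowers z) h2 (hn _) (hn _)
  rw [zpowers_eq_bot] at h3
  exact h.z_ne h3

/-- characteristic 2 -/
theorem mem_o2_of_cent (h : GeoC T V z) {g : G} (hg : g ∈ centralizer ({z} : Set G))
    (hq : ∀ q ∈ o2 (centralizer ({z} : Set G)), g * q = q * g) : g ∈ o2 (centralizer ({z} : Set G)) :=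
  mem_o2_of_stab h.charTwo h.zz h.z_ne hg fun q hq' => by
    rw [hq q hq', mul_inv_cancel_right, mul_inv_cancel]; exact one_mem _

theorem o2_le_kq (h : GeoC T V z) : o2 (centralizer ({z} : Set G)) ≤ kq V z := by
  intro q hq
  have hqC : q ∈ centralizer ({z} : Set G) := o2_le _ hq
  refine mem_kq0.mpr ⟨hqC, fun w hw => ?_, fun w hw => ?_⟩
  · have h1 := h.comm_mem hw hq
    have e : q * w * q⁻¹ * w⁻¹ = (w * q * w⁻¹ * q⁻¹)⁻¹ := by group
    rw [e]; exact inv_mem h1
  · have h1 := h.comm_mem hw (inv_mem hq)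
    have e : q⁻¹ * w * q * w⁻¹ = (w * q⁻¹ * w⁻¹ * q⁻¹⁻¹)⁻¹ := by group
    rw [e]; exact inv_mem h1

theorem ws_sq (h : Bb T V z) {w : G} (hw : w ∈ ws V z) : w * w = 1 := by
  let A : Subgroup G :=
    { carrier := {w | w ∈ ws V z ∧ w * w = 1}
      mul_mem' := by
        rintro a b ⟨ha, ha1⟩ ⟨hb, hb1⟩
        refine ⟨mul_mem ha hb, ?_⟩
        calc a * b * (a * b) = a * (b * a) * b := by group
          _ = (a * a) * (b * b) := by rw [h.ab b hb a ha]; group
          _ = 1 := by rw [ha1, hb1, one_mul]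
      one_mem' := ⟨one_mem _, one_mul 1⟩
      inv_mem' := by
        rintro a ⟨ha, ha1⟩
        refine ⟨inv_mem ha, ?_⟩
        have : a⁻¹ * a⁻¹ = (a * a)⁻¹ := by group
        rw [this, ha1, inv_one] }
  refine (ws_le (U := A) (fun L hL x hx => ⟨le_ws hL hx, ?_⟩) hw).2
  obtain ⟨c, hc, rfl⟩ := h.exists_of_mem_lines hL
  rw [mem_cj] at hx
  have := h.sq _ hx
  have e : x * x = c * (c⁻¹ * x * c * (c⁻¹ * x * c)) * c⁻¹ := by group
  rw [e, this]; group

/-- a {2,3}-group which is perfect is trivial -/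
theorem false_of_two_three {L : Subgroup G} (hL : IsStar L) (h : ∀ l ∈ L, ∃ i j : ℕ, l ^ (2 ^ i * 3 ^ j) = 1) :
    False := by
  have hP : ∀ p : ℕ, p.Prime → p ∣ Nat.card L → p = 2 ∨ p = 3 := by
    intro p hp hd
    have : Fact p.Prime := ⟨hp⟩
    obtain ⟨x, hx⟩ := exists_prime_orderOf_dvd_card' (G := L) p hd
    obtain ⟨i, j, hij⟩ := h x x.2
    have h1 : p ∣ 2 ^ i * 3 ^ j := by
      rw [← hx]
      apply orderOf_dvd_of_pow_eq_one
      exact Subtype.ext hij
    rcases (Nat.Prime.dvd_mul hp).mp h1 with h2 | h2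
    · exact Or.inl ((Nat.prime_dvd_prime_iff_eq hp Nat.prime_two).mp (hp.dvd_of_dvd_pow h2))
    · exact Or.inr ((Nat.prime_dvd_prime_iff_eq hp Nat.prime_three).mp (hp.dvd_of_dvd_pow h2))
  obtain ⟨a, m, hm, e1⟩ := Nat.exists_eq_pow_mul_and_not_dvd (Nat.card_pos (α := L)).ne' 2 (by norm_num)
  have hm0 : m ≠ 0 := by rintro rfl; exact hm (dvd_zero 2)
  obtain ⟨b, k, hk, e2⟩ := Nat.exists_eq_pow_mul_and_not_dvd hm0 3 (by norm_num)
  have hk1 : k = 1 := by
    by_contra hk1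
    obtain ⟨p, hp, hpk⟩ := Nat.exists_prime_and_dvd hk1
    rcases hP p hp (by rw [e1, e2]; exact (hpk.mul_left _).mul_left _) with rfl | rfl
    · exact hm (by rw [e2]; exact hpk.mul_left _)
    · exact hk hpk
  rw [hk1, mul_one] at e2
  have hsol : Group.IsSolvable L := Cfsg.Agent.S0144.result 2 3 a b Nat.prime_two Nat.prime_three (by rw [e1, e2])
  have h1 := Cfsg.Agent.Schreier.Basic.eq_bot_of_perfect_of_solvable hL.perf hsol
  have h3 := hL.three
  rw [h1, Subgroup.card_bot] at h3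
  omega

/-- Thompson's `A × B`-lemma for conjugation on an elementary abelian 2-subgroup -/
theorem axb {Y D : Subgroup G} (hab : ∀ a ∈ Y, ∀ b ∈ Y, a * b = b * a) (hsq : ∀ a ∈ Y, a * a = 1)
    (hD : D ≤ normalizer (Y : Set G)) (hDk : ∀ d ∈ D, ∃ k : ℕ, d ^ 2 ^ k ∈ centralizer (Y : Set G)) {y : G}
    (hyN : y ∈ normalizer (Y : Set G)) (hy : Odd (orderOf y))
    (hcom : ∀ d ∈ D, d * y * d⁻¹ * y⁻¹ ∈ centralizer (Y : Set G)) (hne : y ∉ centralizer (Y : Set G)) :
    ∃ v ∈ Y, (∀ d ∈ D, d * v = v * d) ∧ y * v ≠ v * y := by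
  let iY : CommGroup Y := { (inferInstance : Group Y) with mul_comm := fun a b => Subtype.ext (hab a a.2 b b.2) }
  let φ : normalizer (Y : Set G) →* MulAut Y := Y.normalizerMonoidHom
  have hφ : ∀ (g : normalizer (Y : Set G)) (v : Y), ((φ g v : Y) : G) = g * v * (g : G)⁻¹ := fun g v => rfl
  have hker : ∀ g : normalizer (Y : Set G), φ g = 1 ↔ (g : G) ∈ centralizer (Y : Set G) := by
    intro g
    rw [← MonoidHom.mem_ker, normalizerMonoidHom_ker, mem_subgroupOf]
  let A₀ : Subgroup (MulAut Y) := (D.subgroupOf (normalizer (Y : Set G))).map φ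
  have hA₀ : IsPGroup 2 A₀ := by
    rintro ⟨_, ⟨d, hd⟩, hdD, rfl⟩
    rw [SetLike.mem_coe, mem_subgroupOf] at hdD
    obtain ⟨k, hk⟩ := hDk d hdD
    refine ⟨k, Subtype.ext ?_⟩
    change (φ ⟨d, hd⟩) ^ 2 ^ k = 1
    rw [← map_pow, hker]
    exact hk
  have hyo : Odd (orderOf (φ ⟨y, hyN⟩)) := by
    refine Odd.of_dvd_nat hy ?_
    have h1 := orderOf_map_dvd φ ⟨y, hyN⟩
    rwa [Subgroup.orderOf_mk] at h1
  obtain ⟨v, hv1, hv2⟩ := Cfsg.Agent.OddCyclic.FFRed.axb (X := MulAut Y) (V := Y) (ρ := MonoidHom.id _)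
    (fun v => Subtype.ext (hsq v v.2)) (A₀ := A₀) hA₀ (y := φ ⟨y, hyN⟩) hyo (by
      rintro _ ⟨⟨d, hd⟩, hdD, rfl⟩
      rw [SetLike.mem_coe, mem_subgroupOf] at hdD
      rw [← mul_inv_eq_one, mul_inv_rev, ← map_inv, ← map_inv, ← map_mul, ← map_mul, ← map_mul, hker]
      have e : ((⟨d, hd⟩ * ⟨y, hyN⟩ * (⟨d, hd⟩⁻¹ * ⟨y, hyN⟩⁻¹) : normalizer (Y : Set G)) : G) =
          d * y * d⁻¹ * y⁻¹ := by
        change d * y * (d⁻¹ * y⁻¹) = _
        group
      rw [e]
      exact hcom d hdD) (by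
      by_contra hcon
      push Not at hcon
      apply hne
      have h1 : φ ⟨y, hyN⟩ = 1 := by
        ext v
        exact congrArg Subtype.val (hcon v)
      exact (hker _).mp h1)
  refine ⟨v, v.2, fun d hd => ?_, fun e => hv2 ?_⟩
  · have h1 := hv1 (φ ⟨d, hD hd⟩) ⟨⟨d, hD hd⟩, hd, rfl⟩
    have h2 : d * (v : G) * d⁻¹ = v := congrArg Subtype.val h1
    exact mul_inv_eq_iff_eq_mul.mp h2
  · apply Subtype.ext
    change y * (v : G) * y⁻¹ = v
    exact mul_inv_eq_iff_eq_mul.mpr e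

/-- a perfect group acting as a 2-group acts trivially -/
theorem cent_of_two {Y L : Subgroup G} (hL : ⁅L, L⁆ = L) (hN : L ≤ normalizer (Y : Set G))
    (h : ∀ l ∈ L, ∃ k : ℕ, l ^ 2 ^ k ∈ centralizer (Y : Set G)) : L ≤ centralizer (Y : Set G) := by
  have : Fact (Nat.Prime 2) := ⟨Nat.prime_two⟩
  let φ : normalizer (Y : Set G) →* MulAut Y := Y.normalizerMonoidHom
  have hker : ∀ g : normalizer (Y : Set G), φ g = 1 ↔ (g : G) ∈ centralizer (Y : Set G) := by
    intro g
    rw [← MonoidHom.mem_ker, normalizerMonoidHom_ker, mem_subgroupOf]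
  have hL' : ⁅L.subgroupOf (normalizer (Y : Set G)), L.subgroupOf (normalizer (Y : Set G))⁆ =
      L.subgroupOf (normalizer (Y : Set G)) := by
    apply map_injective (normalizer (Y : Set G)).subtype_injective
    rw [map_commutator, map_subgroupOf_eq_of_le hN, hL]
  have h2 : IsPGroup 2 ((L.subgroupOf (normalizer (Y : Set G))).map φ) := by
    rintro ⟨_, ⟨l, hl⟩, hlL, rfl⟩
    rw [SetLike.mem_coe, mem_subgroupOf] at hlL
    obtain ⟨k, hk⟩ := h l hlL
    refine ⟨k, Subtype.ext ?_⟩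
    change (φ ⟨l, hl⟩) ^ 2 ^ k = 1
    rw [← map_pow, hker]
    exact hk
  have h3 : Group.IsSolvable ((L.subgroupOf (normalizer (Y : Set G))).map φ) := by
    have : Finite ((L.subgroupOf (normalizer (Y : Set G))).map φ) := inferInstance
    have := h2.isNilpotent
    infer_instance
  have h4 := Cfsg.Agent.Schreier.Basic.le_ker_of_perfect φ hL' h3
  intro l hl
  exact (hker ⟨l, hN hl⟩).mp (h4 (show (⟨l, hN hl⟩ : normalizer (Y : Set G)) ∈ _ from hl))

/-- if all elements of odd order of the perfect group `L` centralise `Y` then `L` does -/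
theorem cent_of_odd {Y L : Subgroup G} (hL : ⁅L, L⁆ = L) (hN : L ≤ normalizer (Y : Set G))
    (h : ∀ l ∈ L, Odd (orderOf l) → l ∈ centralizer (Y : Set G)) : L ≤ centralizer (Y : Set G) := by
  refine cent_of_two hL hN fun l hl => ?_
  obtain ⟨a, m, hm, e⟩ := Nat.exists_eq_pow_mul_and_not_dvd (orderOf_pos l).ne' 2 (by norm_num)
  refine ⟨a, h _ (pow_mem hl _) ?_⟩
  rw [orderOf_pow' l (pow_pos (by norm_num) a).ne', e, Nat.gcd_mul_right_left, Nat.mul_div_cancel_left _ (pow_pos (by norm_num) a)]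
  exact Nat.not_even_iff_odd.mp fun h1 => hm (even_iff_two_dvd.mp h1)

section Facts

variable {L : Subgroup G}

/-- normal 2-subgroups of `L` -/
theorem le_o2_of {D : Subgroup G} (hDL : D ≤ L) (hn : L ≤ normalizer (D : Set G)) (h2 : IsPGroup 2 D) : D ≤ o2 L :=
  le_o2 hDL h2 hn

/-- `O₂(L) ≤ O₂(C(z))` -/
theorem o2L_le (hLC : L ≤ centralizer ({z} : Set G)) (hCL : centralizer ({z} : Set G) ≤ normalizer (L : Set G)) :
    o2 L ≤ o2 (centralizer ({z} : Set G)) :=
  le_o2 ((o2_le L).trans hLC) (isPGroup_o2 L) (hCL.trans (normalizer_le_normalizer_o2 L))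

theorem inf_o2_le (hLC : L ≤ centralizer ({z} : Set G)) : L ⊓ o2 (centralizer ({z} : Set G)) ≤ o2 L := by
  refine le_o2 inf_le_left ((isPGroup_o2 _).to_le inf_le_right) ?_
  refine le_normalizer_of_forall fun l hl x hx => ⟨mul_mem (mul_mem hl hx.1) (L.inv_mem hl), ?_⟩
  exact conj_mem_of_normalizer (le_normalizer_o2 _) (hLC hl) hx.2

/-- conjugation-invariance of centralisers -/
theorem le_normalizer_cent {C Y : Subgroup G} (h : C ≤ normalizer (Y : Set G)) :
    C ≤ normalizer ((centralizer (Y : Set G) : Subgroup G) : Set G) := by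
  refine le_normalizer_of_forall fun c hc x hx => mem_centralizer_iff.mpr fun y hy => ?_
  have h1 := mem_centralizer_iff.mp hx (c⁻¹ * y * c) (conj_mem_of_normalizer' h hc hy)
  calc y * (c * x * c⁻¹) = c * (c⁻¹ * y * c * x) * c⁻¹ := by group
    _ = c * (x * (c⁻¹ * y * c)) * c⁻¹ := by rw [h1]
    _ = c * x * c⁻¹ * y := by group

theorem le_normalizer_inf {C A B : Subgroup G} (hA : C ≤ normalizer (A : Set G)) (hB : C ≤ normalizer (B : Set G)) :
    C ≤ normalizer ((A ⊓ B : Subgroup G) : Set G) :=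
  le_normalizer_of_forall fun _ hc _ hx =>
    ⟨conj_mem_of_normalizer hA hc hx.1, conj_mem_of_normalizer hB hc hx.2⟩

/-- **(RED), first part**: `L*` centralises `C_{V_z}(O₂(C(z)))` -/
theorem red_one (h : Bb T V z) (hL : IsStar L) (hLC : L ≤ centralizer ({z} : Set G))
    (hCL : centralizer ({z} : Set G) ≤ normalizer (L : Set G)) (hmv : ¬ L ≤ centralizer (V : Set G)) {w : G}
    (hw : w ∈ ws V z) (hwq : ∀ q ∈ o2 (centralizer ({z} : Set G)), q * w = w * q) : ∀ l ∈ L, l * w = w * l := by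
  set C := centralizer ({z} : Set G) with hC
  have hws : C ≤ normalizer ((ws V z : Subgroup G) : Set G) := Cfsg.Agent.MinSimple.Geo.centralizer_le_normalizer_ws V z
  set A := ws V z ⊓ centralizer ((o2 C : Subgroup G) : Set G) with hA
  have hAn : C ≤ normalizer (A : Set G) := le_normalizer_inf hws (le_normalizer_cent (le_normalizer_o2 C))
  have hwA : w ∈ A := ⟨hw, mem_centralizer_iff.mpr fun q hq => hwq q hq⟩
  by_contra hcon
  have hLA : ¬ L ≤ centralizer (A : Set G) := fun hle => hcon fun l hl =>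
    (mem_centralizer_iff.mp (hle hl) w hwA).symm
  obtain ⟨Y, hY⟩ := (Set.toFinite {Y : Subgroup G | Y ≤ A ∧ C ≤ normalizer (Y : Set G) ∧
    ¬ L ≤ centralizer (Y : Set G)}).exists_minimal ⟨A, le_rfl, hAn, hLA⟩
  obtain ⟨hYA, hYn, hLY⟩ := hY.prop
  have hYws : Y ≤ ws V z := hYA.trans inf_le_left
  have hYq : o2 C ≤ centralizer (Y : Set G) := by
    rw [le_centralizer_iff]
    exact hYA.trans inf_le_right
  have hab : ∀ a ∈ Y, ∀ b ∈ Y, a * b = b * a := fun a ha b hb => h.ab a (hYws ha) b (hYws hb)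
  have hsq : ∀ a ∈ Y, a * a = 1 := by
    intro a ha
    exact ws_sq h (hYws ha)
  apply hLY
  refine h.red Y hYws hYn (fun D hDC hDn hDk => ?_) L hLC hCL hL hmv
  have hY1n : C ≤ normalizer ((Y ⊓ centralizer (D : Set G) : Subgroup G) : Set G) :=
    le_normalizer_inf hYn (le_normalizer_cent hDn)
  by_cases hLY1 : L ≤ centralizer ((Y ⊓ centralizer (D : Set G) : Subgroup G) : Set G)
  · exfalso
    have hDL2 : IsPGroup 2 (D ⊓ L : Subgroup G) := by
      rcases hL.max (D ⊓ L) inf_le_right (le_normalizer_inf (hLC.trans hDn) le_normalizer) with e | e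
      · exfalso
        apply hLY
        refine cent_of_two hL.perf (hLC.trans hYn) fun l hl => hDk l ?_
        rw [← e] at hl
        exact hl.1
      · exact e
    have hDLY : D ⊓ L ≤ centralizer (Y : Set G) := by
      refine le_trans (le_trans ?_ (o2L_le hLC hCL)) hYq
      exact le_o2_of inf_le_right (le_normalizer_inf (hLC.trans hDn) le_normalizer) hDL2
    obtain ⟨y, hyL, hyo, hyY⟩ : ∃ y ∈ L, Odd (orderOf y) ∧ y ∉ centralizer (Y : Set G) := by
      by_contra hcon2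
      push Not at hcon2
      exact hLY (cent_of_odd hL.perf (hLC.trans hYn) fun l hl ho => hcon2 l hl ho)
    obtain ⟨v, hvY, hvD, hvy⟩ := axb hab hsq (hDC.trans hYn) hDk (hYn (hLC hyL)) hyo (fun d hd => hDLY ⟨by
      have e : d * y * d⁻¹ * y⁻¹ = d * (y * d⁻¹ * y⁻¹) := by group
      rw [e]
      exact mul_mem hd (conj_mem_of_normalizer hDn (hLC hyL) (inv_mem hd)), by
      exact mul_mem (conj_mem_of_normalizer hCL (hDC hd) hyL) (L.inv_mem hyL)⟩) hyY
    have hv1 : v ∈ Y ⊓ centralizer (D : Set G) := ⟨hvY, mem_centralizer_iff.mpr fun d hd => hvD d hd⟩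
    exact hvy ((mem_centralizer_iff.mp (hLY1 hyL) v hv1).symm)
  · have h1 := hY.le_of_le ⟨inf_le_left.trans hYA, hY1n, hLY1⟩ inf_le_left
    rw [le_centralizer_iff]
    exact h1.trans inf_le_right

/-- **(RED)** -/
theorem red_two (h : Bb T V z) (hL : IsStar L) (hLC : L ≤ centralizer ({z} : Set G))
    (hCL : centralizer ({z} : Set G) ≤ normalizer (L : Set G)) (hmv : ¬ L ≤ centralizer (V : Set G)) {w : G}
    (hw : w ∈ ws V z) (hwq : ∀ q ∈ o2 L, q * w = w * q) : ∀ l ∈ L, l * w = w * l := by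
  set C := centralizer ({z} : Set G) with hC
  have hws : C ≤ normalizer ((ws V z : Subgroup G) : Set G) := Cfsg.Agent.MinSimple.Geo.centralizer_le_normalizer_ws V z
  have hzw : ∀ x ∈ C, ∀ y ∈ zpowers z, x * y = y * x := by
    intro x hx y hy
    obtain ⟨n, rfl⟩ := hy
    exact (Commute.zpow_right (show Commute x z from mem_centralizer_singleton_iff.mp hx) n)
  have hwsC : ws V z ≤ C := h.toGeoC.ws_le_centralizer
  -- `u l := l w l⁻¹ w⁻¹` is centralised by `O₂(C)`
  have hu : ∀ l ∈ L, l * w * l⁻¹ * w⁻¹ ∈ ws V z := fun l hl =>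
    mul_mem (conj_mem_of_normalizer hws (hLC hl) hw) (inv_mem hw)
  have huq : ∀ l ∈ L, ∀ q ∈ o2 C, q * (l * w * l⁻¹ * w⁻¹) = (l * w * l⁻¹ * w⁻¹) * q := by
    intro l hl q hq
    have hqC : q ∈ C := o2_le _ hq
    -- `q w q⁻¹ = y w`
    obtain ⟨y, hy, e1⟩ : ∃ y ∈ zpowers z, q * w * q⁻¹ = y * w := by
      have h1 := h.toGeoC.comm_mem hw hq
      refine ⟨(w * q * w⁻¹ * q⁻¹)⁻¹, inv_mem h1, by group⟩
    -- `q l = l q c` with `c ∈ O₂(L)`
    have hc : q⁻¹ * l⁻¹ * q * l ∈ o2 L := by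
      refine inf_o2_le hLC ⟨?_, ?_⟩
      · exact mul_mem (conj_mem_of_normalizer' hCL hqC (inv_mem hl)) hl
      · have h2 : l⁻¹ * q * l ∈ o2 C := conj_mem_of_normalizer' (le_normalizer_o2 C) (hLC hl) hq
        have e : q⁻¹ * l⁻¹ * q * l = q⁻¹ * (l⁻¹ * q * l) := by group
        rw [e]; exact mul_mem ((o2 C).inv_mem hq) h2
    have e2 : q * (l * w * l⁻¹) * q⁻¹ = y * (l * w * l⁻¹) := by
      have h3 := hwq _ hc
      calc q * (l * w * l⁻¹) * q⁻¹
          = l * q * ((q⁻¹ * l⁻¹ * q * l) * w * (q⁻¹ * l⁻¹ * q * l)⁻¹) * q⁻¹ * l⁻¹ := by group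
        _ = l * (q * w * q⁻¹) * l⁻¹ := by rw [h3]; group
        _ = (l * y) * w * l⁻¹ := by rw [e1]; group
        _ = y * (l * w * l⁻¹) := by rw [hzw l (hLC hl) y hy]; group
    have e3 : q * (l * w * l⁻¹ * w⁻¹) * q⁻¹ = l * w * l⁻¹ * w⁻¹ := by
      have hm : l * w * l⁻¹ ∈ ws V z := conj_mem_of_normalizer hws (hLC hl) hw
      calc q * (l * w * l⁻¹ * w⁻¹) * q⁻¹ = (q * (l * w * l⁻¹) * q⁻¹) * (q * w * q⁻¹)⁻¹ := by group
        _ = y * (l * w * l⁻¹) * (w⁻¹ * y⁻¹) := by rw [e1, e2, mul_inv_rev]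
        _ = y * (l * w * l⁻¹ * w⁻¹) * y⁻¹ := by group
        _ = (l * w * l⁻¹ * w⁻¹) * y * y⁻¹ := by rw [hzw _ (hwsC (mul_mem hm (inv_mem hw))) y hy]
        _ = _ := by group
    exact mul_inv_eq_iff_eq_mul.mp e3
  have huL : ∀ l ∈ L, ∀ k ∈ L, k * (l * w * l⁻¹ * w⁻¹) = (l * w * l⁻¹ * w⁻¹) * k := fun l hl k hk =>
    red_one h hL hLC hCL hmv (hu l hl) (huq l hl) k hk
  exact comm_of_perfect' hL.perf (w := w) (fun l => l * w * l⁻¹ * w⁻¹) (fun l _ => by group) huL
    (fun l hl k hk => h.ab _ (hu k hk) _ (hu l hl))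

/-- **(F2)** -/
theorem f2 (h : Bb T V z) (hL : IsStar L) (hmv : ¬ L ≤ centralizer (V : Set G))
    (hLC : L ≤ centralizer ({z} : Set G)) {U : Subgroup G} (hU : IsPGroup 2 U) (hU1 : U ≠ ⊥)
    (hTU : T ≤ normalizer (U : Set G)) (hLU : L ≤ normalizer (U : Set G)) :
    normalizer (U : Set G) ≤ centralizer ({z} : Set G) := by
  rcases h.tri U hU hU1 hTU with h1 | ⟨h1, h2⟩
  · exact h1
  exfalso
  set W := vx (normalizer (U : Set G)) z with hW
  have hWn : normalizer (U : Set G) ≤ normalizer (W : Set G) := by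
    refine le_normalizer_of_forall fun g hg y hy => ?_
    have h3 : W ≤ W.comap (MulAut.conj g).toMonoidHom := by
      rw [hW]
      conv_lhs => unfold vx
      rw [closure_le]
      rintro _ ⟨x, hx, rfl⟩
      change g * (x * z * x⁻¹) * g⁻¹ ∈ vx _ z
      refine subset_closure ⟨g * x, mul_mem hg hx, by group⟩
    exact h3 hy
  have hD : L ⊓ centralizer (W : Set G) = L ∨ IsPGroup 2 (L ⊓ centralizer (W : Set G) : Subgroup G) :=
    hL.max _ inf_le_left (le_normalizer_inf le_normalizer (le_normalizer_cent (hLU.trans hWn)))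
  rcases hD with e | e
  · apply hmv
    intro l hl
    rw [← e] at hl
    exact (centralizer_le (show (V : Set G) ⊆ (W : Set G) from h1)) hl.2
  · refine false_of_two_three hL fun l hl => ?_
    obtain ⟨i, j, hij⟩ := h2 l (hLU hl) (hLC hl)
    obtain ⟨k, hk⟩ := e ⟨l ^ (2 ^ i * 3 ^ j), pow_mem hl _, hij⟩
    have hk' : (l ^ (2 ^ i * 3 ^ j)) ^ 2 ^ k = 1 := congrArg Subtype.val hk
    refine ⟨i + k, j, ?_⟩
    rw [← hk', ← pow_mul]
    congr 1
    ring

/-- `O₂(L*) ≠ 1` -/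
theorem o2_ne_bot (h : Bb T V z) (hL : IsStar L) (hLC : L ≤ centralizer ({z} : Set G))
    (hCL : centralizer ({z} : Set G) ≤ normalizer (L : Set G)) : o2 L ≠ ⊥ := by
  intro hb
  have h1 : L ≤ o2 (centralizer ({z} : Set G)) := by
    intro l hl
    refine mem_o2_of_cent h.toGeoC (hLC hl) fun q hq => ?_
    have hqC := o2_le _ hq
    have h2 : l * q * l⁻¹ * q⁻¹ ∈ o2 L := by
      refine inf_o2_le hLC ⟨?_, ?_⟩
      · have e : l * q * l⁻¹ * q⁻¹ = l * (q * l⁻¹ * q⁻¹) := by group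
        rw [e]; exact mul_mem hl (conj_mem_of_normalizer hCL hqC (L.inv_mem hl))
      · exact mul_mem (conj_mem_of_normalizer (le_normalizer_o2 _) (hLC hl) hq) ((o2 _).inv_mem hq)
    rw [hb, mem_bot, mul_inv_eq_one] at h2
    exact mul_inv_eq_iff_eq_mul.mp h2
  have h3 : IsPGroup 2 L := (isPGroup_o2 _).to_le h1
  obtain ⟨n, hn⟩ := IsPGroup.iff_card.mp h3
  have h4 := hL.three
  rw [hn] at h4
  have := Nat.Prime.dvd_of_dvd_pow Nat.prime_three h4
  omega

theorem nor' (h : Bb T V z) (hL : IsStar L) (hmv : ¬ L ≤ centralizer (V : Set G))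
    (hLC : L ≤ centralizer ({z} : Set G)) (hCL : centralizer ({z} : Set G) ≤ normalizer (L : Set G)) :
    normalizer (L : Set G) = centralizer ({z} : Set G) := by
  refine le_antisymm ((normalizer_le_normalizer_o2 L).trans ?_) hCL
  exact f2 h hL hmv hLC (isPGroup_o2 L) (o2_ne_bot h hL hLC hCL)
    (h.T_le.trans (hCL.trans (normalizer_le_normalizer_o2 L))) (hLC.trans (hCL.trans (normalizer_le_normalizer_o2 L)))

/-- **(RL)** -/
theorem rl (h : Bb T V z) (hL : IsStar L) (hmv : ¬ L ≤ centralizer (V : Set G))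
    (hLC : L ≤ centralizer ({z} : Set G)) (hCL : centralizer ({z} : Set G) ≤ normalizer (L : Set G)) {g : G}
    (hg : L ≤ centralizer ({g * z * g⁻¹} : Set G)) : g * z * g⁻¹ = z := by
  set q := g * z * g⁻¹ with hq
  set Cq := centralizer ({q} : Set G) with hCq
  have hcj : cj g (centralizer ({z} : Set G)) = Cq := by rw [cj_centralizer_singleton]
  have hLq : cj g L ≤ Cq := by rw [← hcj]; exact cj_mono hLC
  have hnq : Cq ≤ normalizer ((cj g L : Subgroup G) : Set G) := by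
    rw [← hcj, ← cj_normalizer]; exact cj_mono hCL
  -- `L ≤ cj g L`
  have hle : L ≤ cj g L := by
    have hD := hL.max (L ⊓ cj g L) inf_le_left (le_normalizer_inf le_normalizer (hg.trans hnq))
    rcases hD with e | e
    · exact inf_eq_left.mp e
    exfalso
    have hn : ((cj g L).subgroupOf Cq).Normal := normal_subgroupOf_of_le_normalizer hnq
    let f := QuotientGroup.mk' ((cj g L).subgroupOf Cq)
    have hk : 3 ∣ Nat.card f.ker := by
      rw [QuotientGroup.ker_mk', Nat.card_congr (subgroupOfEquivOfLe hLq).toEquiv, card_cj]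
      exact hL.three
    have hLp : ⁅L.subgroupOf Cq, L.subgroupOf Cq⁆ = L.subgroupOf Cq := by
      apply map_injective Cq.subtype_injective
      rw [map_commutator, map_subgroupOf_eq_of_le hg, hL.perf]
    apply not_dvd_map (CompBasic.oddCyc_subgroup h.cyc Cq) Nat.prime_three (by norm_num) f hk hLp
    let φ : L →* Cq ⧸ (cj g L).subgroupOf Cq := f.comp (inclusion hg)
    have h1 : Nat.card φ.ker * Nat.card φ.range = Nat.card L := by
      rw [← index_ker, card_mul_index]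
    have h2 : φ.range = (L.subgroupOf Cq).map f := by
      ext y
      constructor
      · rintro ⟨l, rfl⟩
        exact ⟨inclusion hg l, l.2, rfl⟩
      · rintro ⟨⟨l, hl'⟩, hl, rfl⟩
        exact ⟨⟨l, hl⟩, rfl⟩
    have h3 := hL.three
    rw [← h1, h2] at h3
    rcases (Nat.Prime.dvd_mul Nat.prime_three).mp h3 with h3 | h3
    · exfalso
      have h4 : IsPGroup 2 φ.ker := by
        rintro ⟨⟨l, hl⟩, hlk⟩
        have h5 : f ⟨l, hg hl⟩ = 1 := hlk
        have h6 : (⟨l, hg hl⟩ : Cq) ∈ (cj g L).subgroupOf Cq := by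
          rw [← MonoidHom.mem_ker, QuotientGroup.ker_mk'] at h5
          exact h5
        obtain ⟨k, hk⟩ := e ⟨l, hl, h6⟩
        refine ⟨k, Subtype.ext (Subtype.ext ?_)⟩
        have h7 : l ^ 2 ^ k = 1 := congrArg Subtype.val hk
        exact h7
      obtain ⟨n, hn⟩ := IsPGroup.iff_card.mp h4
      rw [hn] at h3
      have := Nat.Prime.dvd_of_dvd_pow Nat.prime_three h3
      omega
    · exact h3
  have heq : L = cj g L := eq_of_le_of_card_ge hle (by rw [card_cj])
  have hCC : Cq = centralizer ({z} : Set G) := by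
    have h1 := nor' h hL hmv hLC hCL
    rw [← hcj, ← h1, cj_normalizer, ← heq]
  -- `q` is central in `C(z)`
  have hqc : ∀ c ∈ centralizer ({z} : Set G), c * q = q * c := by
    intro c hc
    rw [← hCC] at hc
    exact mem_centralizer_singleton_iff.mp hc
  have hqC : q ∈ centralizer ({z} : Set G) := by
    rw [← hCC, hCq, mem_centralizer_singleton_iff]
  have hqT : q ∈ T := by
    refine h.toGeoC.o2_le_T (mem_o2_of_cent h.toGeoC hqC fun x hx => ?_)
    exact (hqc x (o2_le _ hx)).symm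
  have hqq : q * q = 1 := by
    rw [hq]
    calc g * z * g⁻¹ * (g * z * g⁻¹) = g * (z * z) * g⁻¹ := by group
      _ = 1 := by rw [h.zz]; group
  rcases h.soc q hqT hqq (fun s hs => hqc s (h.T_le hs)) with e | e
  · exfalso
    apply h.z_ne
    have : z = g⁻¹ * q * g := by rw [hq]; group
    rw [this, e]; group
  · exact e

end Facts

variable {M X : Type u} [AddCommGroup M] [Group X] [DistribMulAction X M]

theorem ker_hom (R : Rep V z M X) (c : centralizer ({z} : Set G)) : hom R c = 1 ↔ (c : G) ∈ kq V z := by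
  rw [hom_apply, Rep.rho_eq_one R c.2]

/-- an element of `C(z)` centralising all conjugates of `V` -/
theorem rho_eq_one_of (h : Bb T V z) (R : Rep V z M X) {L : Subgroup G} (hLC : L ≤ centralizer ({z} : Set G))
    (hCL : centralizer ({z} : Set G) ≤ normalizer (L : Set G)) (hLV : L ≤ centralizer (V : Set G)) :
    ∀ l ∈ L, R.rho l = 1 := by
  have hws : L ≤ centralizer (ws V z : Set G) := by
    rw [le_centralizer_iff]
    refine ws_le fun K hK => ?_
    obtain ⟨c, hc, rfl⟩ := h.exists_of_mem_lines hK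
    intro x hx
    rw [mem_cj] at hx
    refine mem_centralizer_iff.mpr fun l hl => ?_
    have h1 := mem_centralizer_iff.mp (hLV (conj_mem_of_normalizer' hCL hc hl)) _ hx
    calc l * x = c * (c⁻¹ * l * c * (c⁻¹ * x * c)) * c⁻¹ := by group
      _ = c * (c⁻¹ * x * c * (c⁻¹ * l * c)) * c⁻¹ := by rw [← h1]
      _ = x * l := by group
  intro l hl
  rw [Rep.rho_eq_one R (hLC hl)]
  refine mem_kq0.mpr ⟨hLC hl, fun w hw => ?_, fun w hw => ?_⟩
  · have h1 := mem_centralizer_iff.mp (hws hl) w hw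
    have e : l * w * l⁻¹ * w⁻¹ = 1 := by rw [← h1]; group
    rw [e]; exact one_mem _
  · have h1 := mem_centralizer_iff.mp (hws (inv_mem hl)) w hw
    have e : l⁻¹ * w * l * w⁻¹ = 1 := by
      calc l⁻¹ * w * l * w⁻¹ = (l⁻¹ * w) * l * w⁻¹ := by group
        _ = (w * l⁻¹) * l * w⁻¹ := by rw [h1]
        _ = 1 := by group
    rw [e]; exact one_mem _

/-- **section 1**: existence of `L*` -/
theorem main (h : Bb T V z) (R : Rep V z M X) {J : Subgroup X} (hJn : J.Normal) (hJs : IsSimpleGroup J)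
    (hJ : ⁅J, J⁆ = J) (h3 : 3 ∣ Nat.card J) :
    ∃ L : Subgroup G, BbDefs.Star T V z L ∧ (∀ j : X, j ∈ J ↔ ∃ l ∈ L, R.rho l = j) := by
  classical
  set C := centralizer ({z} : Set G) with hC
  have hcC : OddCyc C := CompBasic.oddCyc_subgroup h.cyc C
  obtain ⟨S, hS⟩ := exists_cov (hom R) (hom_surj R) hJ
  have hSn := hS.nor
  have hSp := hS.perfect hJ
  have hSm := hS.map_eq hJn
  have hcore : S ⊓ (hom R).ker ≤ pCore 2 C :=
    hS.inf_ker_le hcC (FFSec.kzero_of_image h.sec (centralizer_ne_top h.toGeoC) (QuotientGroup.mk' (pCore 2 C))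
      (QuotientGroup.mk'_surjective _)) hJn hJs hJ h3
  set L : Subgroup G := S.map C.subtype with hLdef
  have hLC : L ≤ C := map_subtype_le _
  have hmem : ∀ {c : G} (hc : c ∈ C), c ∈ L ↔ (⟨c, hc⟩ : C) ∈ S := by
    intro c hc
    constructor
    · rintro ⟨s, hs, rfl⟩
      exact hs
    · intro hs
      exact ⟨_, hs, rfl⟩
  have hCL : C ≤ normalizer (L : Set G) := by
    refine le_normalizer_of_forall fun c hc x hx => ?_
    have hxC := hLC hx
    rw [hmem hxC] at hx
    rw [hmem (mul_mem (mul_mem hc hxC) (inv_mem hc))]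
    exact hSn.conj_mem _ hx ⟨c, hc⟩
  have hstar : IsStar L := by
    refine ⟨map_perfect _ hSp, fun D hDL hLD => ?_, ?_⟩
    · have hDC : D ≤ C := hDL.trans hLC
      rcases hS.eq_or hJn hJs hJ (D := D.subgroupOf C) (by
        intro x hx
        exact (hmem x.2).mp (hDL hx)) (by
        intro s hs
        rw [mem_normalizer_iff]
        intro x
        rw [mem_subgroupOf, mem_subgroupOf]
        exact (mem_normalizer_iff.mp (hLD ((hmem s.2).mpr hs)) (x : G))) with e | e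
      · left
        rw [hLdef, ← e, map_subgroupOf_eq_of_le hDC]
      · right
        have h1 : D.subgroupOf C ≤ pCore 2 C := by
          refine le_trans (le_inf ?_ e) hcore
          intro x hx
          exact (hmem x.2).mp (hDL hx)
        have h2 : IsPGroup 2 (D.subgroupOf C) := (Cfsg.Agent.Lib.Cores.pCore_isPGroup 2).to_le h1
        have h4 := h2.map C.subtype
        rwa [map_subgroupOf_eq_of_le hDC] at h4
    · have h1 : Nat.card J ∣ Nat.card S := by rw [← hSm]; exact card_map_dvd S (hom R)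
      have h2 : Nat.card L = Nat.card S := (Nat.card_congr (S.equivMapOfInjective _ C.subtype_injective).toEquiv).symm
      rw [h2]; exact h3.trans h1
  have hJmem : ∀ j : X, j ∈ J ↔ ∃ l ∈ L, R.rho l = j := by
    intro j
    rw [← hSm]
    constructor
    · rintro ⟨s, hs, rfl⟩
      exact ⟨s, (hmem s.2).mpr hs, rfl⟩
    · rintro ⟨l, hl, rfl⟩
      exact ⟨⟨l, hLC hl⟩, (hmem (hLC hl)).mp hl, rfl⟩
  have hmv : ¬ L ≤ centralizer (V : Set G) := by
    intro hle
    have h1 := rho_eq_one_of h R hLC hCL hle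
    have h2 : J = ⊥ := by
      rw [eq_bot_iff]
      intro j hj
      obtain ⟨l, hl, rfl⟩ := (hJmem j).mp hj
      rw [mem_bot]; exact h1 l hl
    rw [h2, Subgroup.card_bot] at h3
    omega
  have hk3 : ∀ g ∈ kq V z, orderOf g ≠ 3 := by
    intro g hg ho
    have hgC : g ∈ C := (mem_kq0.mp hg).1
    refine not_dvd_map hcC Nat.prime_three (by norm_num) (hom R) ?_ hSp (by rw [hSm]; exact h3)
    have h1 : (⟨g, hgC⟩ : C) ∈ (hom R).ker := (ker_hom R _).mpr hg
    have h2 : orderOf (⟨⟨g, hgC⟩, h1⟩ : (hom R).ker) = 3 := by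
      rw [Subgroup.orderOf_mk, Subgroup.orderOf_mk, ho]
    rw [← h2]; exact orderOf_dvd_natCard _
  have hmv2 : ¬ o2 L ≤ centralizer (V : Set G) := by
    intro hle
    apply hmv
    intro l hl
    refine mem_centralizer_iff.mpr fun v hv => ?_
    have h1 := red_two h hstar hLC hCL hmv (h.V_le_ws hv) (fun q hq =>
      ((mem_centralizer_iff.mp (hle hq)) v hv).symm) l hl
    exact h1.symm
  refine ⟨L, ?_, hJmem⟩
  obtain ⟨s, hs, hsV⟩ := Set.not_subset.mp hmv2
  exact
  { toBb := h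
    toIsStar := hstar
    L_le := hLC
    L_nor := hCL
    L_mv := hmv
    L_kq := by
      refine le_o2_of inf_le_left (le_normalizer_inf le_normalizer (hLC.trans (BTwoB.centralizer_le_normalizer_kq V z))) ?_
      rintro ⟨x, hxL, hxk⟩
      have hxC := hLC hxL
      have h1 : (⟨x, hxC⟩ : C) ∈ pCore 2 C := hcore ⟨(hmem hxC).mp hxL, (ker_hom R _).mpr hxk⟩
      obtain ⟨k, hk⟩ := Cfsg.Agent.Lib.Cores.pCore_isPGroup 2 (G := C) ⟨_, h1⟩
      exact ⟨k, Subtype.ext (congrArg (fun t => ((t : C) : G)) (congrArg Subtype.val hk))⟩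
    F2 := fun U hU hU1 hTU hLU => f2 h hstar hmv hLC hU hU1 hTU hLU
    L_nor' := nor' h hstar hmv hLC hCL
    RL := fun g hg => rl h hstar hmv hLC hCL hg
    RED := fun w hw hq => red_two h hstar hLC hCL hmv hw hq
    mv := hmv2
    f3 := fun g hg => NotThree.not_three h.toGeoC (o2L_le hLC hCL hs) hsV hg
    k3 := hk3 }

/-- `O₂(L*) ≤ T ∩ kq V z` -/
theorem o2L_le_T {L : Subgroup G} (h : BbDefs.Star T V z L) : o2 L ≤ T ⊓ kq V z :=
  le_inf ((o2L_le h.L_le h.L_nor).trans h.toGeoC.o2_le_T) ((o2L_le h.L_le h.L_nor).trans (o2_le_kq h.toGeoC))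

/-- the frame of EN/Line.lean -/
theorem toAb {L : Subgroup G} (h : BbDefs.Star T V z L) : Line.Ab T V z where
  toGeoC := h.toGeoC
  ab := h.ab
  mv := fun hle => h.mv ((o2L_le_T h).trans hle)

end Cfsg.Agent.OddCyclic.EN.BbMain
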