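import Mathlib
import Cfsg.Agent.OddCyclic.EN.SevGrp
import Cfsg.Agent.OddCyclic.EmpC.Irr
import Cfsg.Agent.OddCyclic.EmpE.SevenA

/-!
# Modules for `L₃(2)` and `PGL₂(7)` generated by a vector fixed by a Sylow 2-subgroup but by no element of order 3

`Sit ρ L lam`.  Results, for involutions `t` and four-groups `A` of `X`:

* `Sit.four_le`: `|V : C_V(t)| ≥ 4`; `Sit.eight_le` : `|V : C_V(t)| ≥ 8` for `t ∉ L`;
* `Sit.exists_pair` (F1): `|[V,t] : [V,t] ∩ C_V(L)| ≥ 4`;
* `Sit.eight_le_four` (F3): `|V : C_V(A)| ≥ 8`;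
* `Sit.le_of_index` (F4): `|V : C_V(A)| ≤ 8` implies `A ≤ L`.
-/

set_option autoImplicit false
set_option linter.unusedSectionVars false

namespace Cfsg.Agent.OddCyclic.EN.SevMod

open Subgroup Cfsg.Agent.GH.L2Aut Cfsg.Agent.OddCyclic.T1Module Cfsg.Agent.OddCyclic.FFBasic
  Cfsg.Agent.OddCyclic.FFRed Cfsg.Agent.OddCyclic.FFSl2 Cfsg.Agent.OddCyclic.FFThree
  Cfsg.Agent.OddCyclic.EN.SevGrp Cfsg.Agent.OddCyclic.EmpC

theorem exists_ne_one_of_card {K : Type*} [Group K] (h : Nat.card K = 2) : ∃ x : K, x ≠ 1 := by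
  obtain ⟨p, q, hpq, -⟩ := Nat.card_eq_two_iff.1 h
  by_cases hp : p = 1
  · exact ⟨q, fun e => hpq (hp.trans e.symm)⟩
  · exact ⟨p, hp⟩

theorem eq_of_card_two {K : Type*} [Group K] {C : Subgroup K} (h : Nat.card C = 2) {x y : K} (hx : x ∈ C) (hy : y ∈ C)
    (hx1 : x ≠ 1) (hy1 : y ≠ 1) : x = y := by
  obtain ⟨p, q, hpq, hall⟩ := Nat.card_eq_two_iff.1 h
  have h1 : ∀ t : C, t = p ∨ t = q := by
    intro t
    have : t ∈ ({p, q} : Set _) := by rw [hall]; trivial
    simpa using this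
  by_contra hcon
  have e1 : (⟨x, hx⟩ : C) ≠ 1 := fun h => hx1 (congrArg Subtype.val h)
  have e2 : (⟨y, hy⟩ : C) ≠ 1 := fun h => hy1 (congrArg Subtype.val h)
  have e3 : (⟨x, hx⟩ : C) ≠ ⟨y, hy⟩ := fun h => hcon (congrArg Subtype.val h)
  rcases h1 1 with h2 | h2 <;> rcases h1 ⟨x, hx⟩ with h3 | h3 <;> rcases h1 ⟨y, hy⟩ with h4 | h4
  · exact e1 (h3.trans h2.symm)
  · exact e1 (h3.trans h2.symm)
  · exact e2 (h4.trans h2.symm)
  · exact e3 (h3.trans h4.symm)
  · exact e3 (h3.trans h4.symm)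
  · exact e2 (h4.trans h2.symm)
  · exact e1 (h3.trans h2.symm)
  · exact e1 (h3.trans h2.symm)

section pure

variable {W : Type*} [CommGroup W] [Finite W]

/-- `S₃` acting on a group of order at most 8: the fixed points of the element of order 3 have order `|W|/4`, and
every vector is fixed by an involution -/
theorem swap_fix (hW : ∀ w : W, w * w = 1) (h8 : Nat.card W ≤ 8) {y r : MulAut W} (hy : y ^ 3 = 1) (hr : r * r = 1)
    (hry : r * y * r⁻¹ = y⁻¹) {v : W} (hv : y v ≠ v) :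
    Nat.card (fx (MonoidHom.id (MulAut W)) y) * 4 = Nat.card W ∧ ∃ j : ℕ, (y ^ j * r * (y ^ j)⁻¹) v = v := by
  set τ := MonoidHom.id (MulAut W) with hτ
  have : Fact (Nat.Prime 3) := ⟨Nat.prime_three⟩
  have hy1 : y ≠ 1 := fun e => hv (by rw [e]; rfl)
  have hy3 : orderOf y = 3 := orderOf_eq_prime hy hy1
  have hodd : Odd (orderOf y) := by rw [hy3]; decide
  obtain ⟨d, hd, h1, h2⟩ := prim (ρ := τ) hW Nat.prime_three (by norm_num) hy3 ⟨v, hv⟩
  have h3 := (fx τ y).card_mul_index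
  have hpos : 0 < Nat.card (fx τ y) := Nat.card_pos
  have hd2 : d = 2 := by
    have : d < 4 := by
      by_contra hd4
      have e1 := Nat.pow_le_pow_right (n := 2) (by norm_num) (not_lt.1 hd4)
      rw [← h1] at e1
      have e2 : (fx τ y).index ≤ Nat.card W := by
        rw [← h3]; exact Nat.le_mul_of_pos_left _ hpos
      omega
    interval_cases d
    · norm_num at h2
    · rfl
    · norm_num at h2
  rw [hd2] at h1
  rw [h1] at h3
  have hC2 : Nat.card (fx τ y) ≤ 2 := by omega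
  refine ⟨h3, ?_⟩
  have hU4 : Nat.card (cm τ y).range = 4 := by rw [card_range_cm, h1]; norm_num
  have hinv : ∀ w : W, w⁻¹ = w := fun w => inv_eq_of_mul_eq_one_left (hW w)
  have hyyy : ∀ w : W, y (y (y w)) = w := fun w => by
    have : (y ^ 3) w = w := by rw [hy]; rfl
    simpa [pow_succ] using this
  have hcm : ∀ w : W, cm τ y w = y w * w := fun w => by rw [cm_apply, hinv]; rfl
  set u : W := y v * y (y v) with hu
  set c : W := v * u with hc
  have hcy : y c = c := by
    rw [hc, hu, map_mul, map_mul, hyyy, ← mul_assoc, mul_comm]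
  have huU : u ∈ (cm τ y).range := ⟨y v, by rw [hcm, hu, mul_comm]⟩
  have hvcu : v = c * u := by rw [hc, mul_assoc, hW, mul_one]
  have huy : u * y u * y (y u) = 1 := by
    rw [hu, map_mul, map_mul, hyyy]
    have e1 := hW v
    have e2 := hW (y v)
    have e3 := hW (y (y v))
    calc y v * y (y v) * (y (y v) * v) * (v * y v) = y v * (y (y v) * y (y v)) * (v * v) * y v := by group
      _ = 1 := by rw [e3, e1, mul_one, mul_one, e2]
  have hu1 : u ≠ 1 := by
    intro e
    apply hv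
    have e1 : c = v := by rw [hc, e, mul_one]
    rw [← e1]; exact hcy
  have hyu : y u ≠ u := by
    intro e
    rw [e, e, hW, one_mul] at huy
    exact hu1 huy
  have hyyu : y (y u) ≠ u := by
    intro e
    apply hyu
    have := congrArg y e
    rw [hyyy] at this
    exact this.symm
  have hyyu' : y (y u) ≠ y u := fun e => hyu (y.injective e)
  have hyu1 : y u ≠ 1 := fun e => hu1 (y.injective (by rw [e, map_one]))
  have hyyu1 : y (y u) ≠ 1 := fun e => hyu1 (y.injective (by rw [e, map_one]))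
  have hyU : ∀ w ∈ (cm τ y).range, y w ∈ (cm τ y).range := by
    rintro _ ⟨w, rfl⟩
    exact ⟨y w, by rw [hcm, hcm, map_mul]⟩
  have hrr : ∀ w, r (r w) = w := fun w => by
    have : (r * r) w = w := by rw [hr]; rfl
    exact this
  have hryw : ∀ w, r (y w) = y⁻¹ (r w) := fun w => by
    have : (r * y) w = (y⁻¹ * r) w := by rw [← hry]; group
    exact this
  have hcomm : ∀ w, y (r (y w)) = r w := fun w => by
    rw [hryw]; exact MulAut.apply_inv_self _ y (r w)
  -- `r` preserves `U`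
  have hrU : ∀ w ∈ (cm τ y).range, r w ∈ (cm τ y).range := fun w hw => apply_mem_range_of_inv τ hry hw
  -- `r` fixes `c`
  have hrc : r c = c := by
    have h5 : y (r c) = r c := by
      nth_rewrite 1 [← hcy]
      exact hcomm c
    by_contra hne
    have hc1 : c ≠ 1 := fun e => hne (by rw [e, map_one])
    have hrc1 : r c ≠ 1 := fun e => hc1 (r.injective (by rw [e, map_one]))
    have hcard : 3 ≤ Nat.card (fx τ y) := by
      classical
      have hsub : ({1, c, r c} : Finset W) ⊆ (Set.toFinite (fx τ y : Set W)).toFinset := by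
        intro w hw
        simp only [Finset.mem_insert, Finset.mem_singleton] at hw
        simp only [Set.Finite.mem_toFinset, SetLike.mem_coe]
        rcases hw with rfl | rfl | rfl
        · exact one_mem _
        · exact hcy
        · exact h5
      have h6 := Finset.card_le_card hsub
      rw [← Set.ncard_eq_toFinset_card, ← Nat.card_coe_set_eq] at h6
      have h7 : ({1, c, r c} : Finset W).card = 3 := by
        rw [Finset.card_insert_of_notMem, Finset.card_insert_of_notMem, Finset.card_singleton]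
        · simpa using fun e : c = r c => hne e.symm
        · simp only [Finset.mem_insert, Finset.mem_singleton, not_or]
          exact ⟨hc1.symm, hrc1.symm⟩
      rw [h7] at h6
      exact h6
    omega
  -- `U = {1, u, yu, y²u}`
  have hUall : ∀ w ∈ (cm τ y).range, w ≠ 1 → w = u ∨ w = y u ∨ w = y (y u) := by
    classical
    intro w hw hw1
    by_contra hcon
    push Not at hcon
    obtain ⟨k1, k2, k3⟩ := hcon
    have hsub : ({1, w, u, y u, y (y u)} : Finset W) ⊆ (Set.toFinite ((cm τ y).range : Set W)).toFinset := by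
      intro x hx
      simp only [Finset.mem_insert, Finset.mem_singleton] at hx
      simp only [Set.Finite.mem_toFinset, SetLike.mem_coe]
      rcases hx with rfl | rfl | rfl | rfl | rfl
      · exact one_mem _
      · exact hw
      · exact huU
      · exact hyU _ huU
      · exact hyU _ (hyU _ huU)
    have h6 := Finset.card_le_card hsub
    rw [← Set.ncard_eq_toFinset_card, ← Nat.card_coe_set_eq] at h6
    have h7 : ({1, w, u, y u, y (y u)} : Finset W).card = 5 := by
      rw [Finset.card_insert_of_notMem, Finset.card_insert_of_notMem, Finset.card_insert_of_notMem,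
        Finset.card_insert_of_notMem, Finset.card_singleton]
      · simpa using hyyu'.symm
      · simp only [Finset.mem_insert, Finset.mem_singleton, not_or]
        exact ⟨hyu.symm, hyyu.symm⟩
      · simp only [Finset.mem_insert, Finset.mem_singleton, not_or]
        exact ⟨k1, k2, k3⟩
      · simp only [Finset.mem_insert, Finset.mem_singleton, not_or]
        exact ⟨hw1.symm, hu1.symm, hyu1.symm, hyyu1.symm⟩
    rw [h7] at h6
    have h8 : 5 ≤ Nat.card (cm τ y).range := h6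
    omega
  have hru1 : r u ≠ 1 := fun e => hu1 (r.injective (by rw [e, map_one]))
  have hcpow : ∀ j : ℕ, (y ^ j) c = c := by
    intro j
    induction j with
    | zero => rfl
    | succ j ih => rw [pow_succ, MulAut.mul_apply, hcy, ih]
  have hcpow' : ∀ j : ℕ, (y ^ j)⁻¹ c = c := fun j => by
    nth_rewrite 1 [← hcpow j]
    exact MulAut.inv_apply_self _ _ _
  have main : ∀ j : ℕ, (y ^ j * r * (y ^ j)⁻¹) u = u → (y ^ j * r * (y ^ j)⁻¹) v = v := by
    intro j hj
    have e1 : (y ^ j * r * (y ^ j)⁻¹) c = c := by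
      rw [MulAut.mul_apply, MulAut.mul_apply, hcpow', hrc, hcpow]
    rw [hvcu, map_mul, e1, hj]
  have hinvy : y⁻¹ u = y (y u) := by
    have := hyyy u
    nth_rewrite 1 [← this]
    exact MulAut.inv_apply_self _ _ _
  rcases hUall _ (hrU _ huU) hru1 with e | e | e
  · exact ⟨0, main 0 (by rw [pow_zero, one_mul, inv_one, mul_one]; exact e)⟩
  · refine ⟨1, main 1 ?_⟩
    rw [pow_one, MulAut.mul_apply, MulAut.mul_apply, hinvy]
    -- y r y y u = (y r y) (y u) = r (y u) ; r (y u) = y⁻¹ (r u) = y⁻¹ (y u) = u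
    rw [hcomm, hryw, e]
    exact MulAut.inv_apply_self _ _ _
  · refine ⟨2, main 2 ?_⟩
    have e2 : (y ^ 2)⁻¹ = y := by
      rw [inv_eq_iff_mul_eq_one, ← pow_succ, hy]
    rw [MulAut.mul_apply, MulAut.mul_apply, e2, pow_two, MulAut.mul_apply, hcomm, e, hyyy]

end pure

/-! ### elements normalising a four-group -/

section norm

variable {L : Type*} [Group L] [Finite L] {V : Type*} [CommGroup V] {ρ : L →* MulAut V}

theorem norm_fix (h : L32 L) {z a b y : L} (hza : Four z a) (hbz : b * z * b⁻¹ = z) (hba : b * a * b⁻¹ = z * a)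
    (hyz : y * z * y⁻¹ = a) (hya : y * a * y⁻¹ = z * a) {c : V} (cz : ρ z c = c) (ca : ρ a c = c) (cb : ρ b c = c)
    (cy : ρ y c = c) {g : L} (hg : g ∈ normalizer (hza.sub : Set L)) : ρ g c = c := by
  have fin : ∀ w : L, ρ w c = c → w * z * w⁻¹ = g * z * g⁻¹ → w * a * w⁻¹ = g * a * g⁻¹ → ρ g c = c := by
    intro w hw e1 e2
    have k : ∀ x, w * x * w⁻¹ = g * x * g⁻¹ → w⁻¹ * g * x = x * (w⁻¹ * g) := by
      intro x e
      calc w⁻¹ * g * x = w⁻¹ * (g * x * g⁻¹) * g := by group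
        _ = w⁻¹ * (w * x * w⁻¹) * g := by rw [e]
        _ = x * (w⁻¹ * g) := by group
    have h3 : ρ (w⁻¹ * g) c = c := by
      rcases h.cent z a _ hza (k z e1) (k a e2) with e | e | e | e <;> rw [e]
      · rw [map_one]; rfl
      · exact cz
      · exact ca
      · rw [map_mul, MulAut.mul_apply, ca, cz]
    have h4 : g = w * (w⁻¹ * g) := by group
    rw [h4, map_mul, MulAut.mul_apply, h3, hw]
  have mulc : ∀ {w w' : L}, ρ w c = c → ρ w' c = c → ρ (w * w') c = c := fun {w w'} h1 h2 => by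
    rw [map_mul, MulAut.mul_apply, h2, h1]
  have conjmul : ∀ g c c' : L, g * (c * c') * g⁻¹ = (g * c * g⁻¹) * (g * c' * g⁻¹) := fun g c c' => by group
  have conjconj : ∀ g g' c : L, (g * g') * c * (g * g')⁻¹ = g * (g' * c * g'⁻¹) * g⁻¹ := fun g g' c => by group
  have hz : z ∈ hza.sub := Or.inr (Or.inl rfl)
  have ha : a ∈ hza.sub := Or.inr (Or.inr (Or.inl rfl))
  have hgz1 : g * z * g⁻¹ ≠ 1 := fun e => hza.a1 (by
    have : z = g⁻¹ * (g * z * g⁻¹) * g := by group
    rw [this, e]; group)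
  have hga1 : g * a * g⁻¹ ≠ 1 := fun e => hza.b1 (by
    have : a = g⁻¹ * (g * a * g⁻¹) * g := by group
    rw [this, e]; group)
  have hne : g * z * g⁻¹ ≠ g * a * g⁻¹ := fun e => hza.ne (by
    have e1 : z = g⁻¹ * (g * z * g⁻¹) * g := by group
    rw [e1, e]; group)
  have yza : y * (z * a) * y⁻¹ = z := by
    rw [conjmul, hyz, hya, ← mul_assoc, ← hza.comm, mul_assoc, hza.bb, mul_one]
  rcases (mem_sub hza).1 (mem_normalizer_conj hg hz) with h1 | h1 | h1 | h1
  · exact absurd h1 hgz1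
  · rcases (mem_sub hza).1 (mem_normalizer_conj hg ha) with h2 | h2 | h2 | h2
    · exact absurd h2 hga1
    · exact absurd (h1.trans h2.symm) hne
    · exact fin 1 (by rw [map_one]; rfl) (by rw [h1]; group) (by rw [h2]; group)
    · exact fin b cb (hbz.trans h1.symm) (hba.trans h2.symm)
  · rcases (mem_sub hza).1 (mem_normalizer_conj hg ha) with h2 | h2 | h2 | h2
    · exact absurd h2 hga1
    · exact fin (y * b) (mulc cy cb) (by rw [conjconj, hbz, hyz, h1]) (by rw [conjconj, hba, yza, h2])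
    · exact absurd (h1.trans h2.symm) hne
    · exact fin y cy (hyz.trans h1.symm) (hya.trans h2.symm)
  · rcases (mem_sub hza).1 (mem_normalizer_conj hg ha) with h2 | h2 | h2 | h2
    · exact absurd h2 hga1
    · exact fin (y * y) (mulc cy cy) (by rw [conjconj, hyz, hya, h1]) (by rw [conjconj, hya, yza, h2])
    · refine fin (y * (y * b)) (mulc cy (mulc cy cb)) ?_ ?_
      · rw [conjconj, conjconj, hbz, hyz, hya, h1]
      · rw [conjconj, conjconj, hba, yza, hyz, h2]
    · exact absurd (h1.trans h2.symm) hne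

end norm

variable {X : Type*} [Group X] [Finite X] {V : Type*} [CommGroup V] {ρ : X →* MulAut V}
  {L : Subgroup X} {lam : V}

/-- the situation -/
structure Sit (ρ : X →* MulAut V) (L : Subgroup X) (lam : V) : Prop extends Sv L where
  sq : ∀ v : V, v * v = 1
  syl : ∃ P : Sylow 2 X, ∀ g ∈ P, ρ g lam = lam
  f3 : ∀ g : X, orderOf g = 3 → ρ g lam ≠ lam

theorem Sv.exists_three {L : Subgroup X} (h : Sv L) : ∃ y ∈ L, orderOf y = 3 := by
  have : Fact (Nat.Prime 3) := ⟨Nat.prime_three⟩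
  obtain ⟨y, hy⟩ := exists_prime_orderOf_dvd_card' (G := L) 3 (by rw [h.card]; norm_num)
  exact ⟨y, y.2, by rw [Subgroup.orderOf_coe]; exact hy⟩

namespace Sit

variable (h : Sit ρ L lam)
include h

theorem moved {y : X} (hy : y ≠ 1) : ∃ v, ρ y v ≠ v := by
  by_contra hcon
  push Not at hcon
  have hs := h.simp
  have hn := h.nrm
  have hyK : y ∈ ρ.ker := by
    rw [MonoidHom.mem_ker]
    ext v
    exact hcon v
  have hbot : ρ.ker ⊓ L = ⊥ := by
    have h1 : ((ρ.ker ⊓ L).subgroupOf L).Normal := inferInstance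
    rcases h1.eq_bot_or_eq_top with h2 | h2
    · rw [subgroupOf_eq_bot, disjoint_iff] at h2
      rwa [inf_assoc, inf_idem] at h2
    · exfalso
      rw [subgroupOf_eq_top] at h2
      obtain ⟨g, hg, hg3⟩ := Sv.exists_three h.toSv
      have h3 : ρ g = 1 := (h2 hg).1
      exact h.f3 g hg3 (by rw [h3]; rfl)
  apply hy
  apply h.faith
  intro l hl
  have h1 : y * l * y⁻¹ * l⁻¹ ∈ ρ.ker ⊓ L := by
    have e : y * l * y⁻¹ * l⁻¹ = y * (l * y⁻¹ * l⁻¹) := by group
    have e1 : y * l * y⁻¹ * l⁻¹ ∈ ρ.ker := by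
      rw [e]
      have e2 : y⁻¹ ∈ ρ.ker := ρ.ker.inv_mem hyK
      exact ρ.ker.mul_mem hyK ((MonoidHom.normal_ker ρ).conj_mem _ e2 l)
    exact mem_inf.mpr ⟨e1, mul_mem (hn.conj_mem l hl y) (inv_mem hl)⟩
  rw [hbot, mem_bot] at h1
  calc y * l = (y * l * y⁻¹ * l⁻¹) * (l * y) := by group
    _ = l * y := by rw [h1, one_mul]

theorem mod : Mod (ρ.comp L.subtype) where
  l32 := h.l32
  sq := h.sq
  faith _ hy := h.moved (fun e => hy (Subtype.ext e))

theorem f3g (g : X) {y : X} (hy : orderOf y = 3) : ρ y (ρ g lam) ≠ ρ g lam := by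
  intro e
  refine h.f3 (g⁻¹ * y * g) ?_ ?_
  · rw [← hy]
    have := (SemiconjBy.orderOf_eq (x := y) (y := g⁻¹ * y * g) g⁻¹ (by
      show g⁻¹ * y = g⁻¹ * y * g * g⁻¹
      group))
    exact this.symm
  · rw [map_mul, map_mul, MulAut.mul_apply, MulAut.mul_apply, e, ← MulAut.mul_apply, ← map_mul, inv_mul_cancel,
      map_one]; rfl

theorem exists_fix (T : Sylow 2 L) : ∃ g : X, ∀ x ∈ T, ρ (x : X) (ρ g lam) = ρ g lam := by
  obtain ⟨P, hP⟩ := h.syl
  have h1 : IsPGroup 2 ((T : Subgroup L).map L.subtype) := T.2.map _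
  obtain ⟨Q, hQ⟩ := h1.exists_le_sylow
  obtain ⟨g, hg⟩ := MulAction.exists_smul_eq X P Q
  refine ⟨g, fun x hx => ?_⟩
  have h2 : (x : X) ∈ Q := hQ ⟨x, hx, rfl⟩
  rw [← hg] at h2
  have h3 : (MulAut.conj g)⁻¹ • (x : X) ∈ (P : Subgroup X) := Subgroup.mem_pointwise_smul_iff_inv_smul_mem.mp h2
  rw [MulAut.smul_def, MulAut.conj_inv_apply] at h3
  have h4 := hP _ h3
  have e : (x : X) * g = g * (g⁻¹ * x * g) := by group
  rw [← MulAut.mul_apply, ← map_mul, e, map_mul, MulAut.mul_apply, h4]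

/-- no four-group of `L` all of whose involutions have the same fixed points -/
theorem not_ax [Finite V] {C : Subgroup L} (hC : IsFour C)
    (hfix : ∀ a ∈ C, a ≠ 1 → fx (ρ.comp L.subtype) a = CS (ρ.comp L.subtype) C) : False := by
  obtain ⟨T, hT⟩ := EmpE.SevenA.exists_sylow hC
  obtain ⟨B, hB⟩ := FFThree.par h.l32 T hC hT hfix
  obtain ⟨g, hg⟩ := h.exists_fix T
  obtain ⟨z, hz, a, ha, hza, hmem⟩ := hB.four.exists_four
  obtain ⟨y, hyN, hy3, hy1, -⟩ := fuse_mem h.l32 hza hmem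
  have hy1' : y ≠ 1 := by
    rintro rfl
    rw [one_mul, inv_one, mul_one] at hy1
    exact hza.ne hy1
  have : Fact (Nat.Prime 3) := ⟨Nat.prime_three⟩
  have h5 : orderOf y = 3 := orderOf_eq_prime (by rw [pow_succ, pow_two]; exact hy3) hy1'
  exact h.f3g g ((Subgroup.orderOf_coe y).trans h5) (hB.cent y hyN (ρ g lam) hg)

variable [Finite V]

theorem pow_index (C : Subgroup V) : ∃ d : ℕ, C.index = 2 ^ d := index_pow h.sq C

theorem four_le_in {t : L} (ht1 : t ≠ 1) (ht : t * t = 1) : 4 ≤ (fx ρ (t : X)).index := by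
  have h2 : 2 ≤ (fx (ρ.comp L.subtype) t).index := h.mod.two_le ht1
  obtain ⟨d, hd⟩ := h.pow_index (fx (ρ.comp L.subtype) t)
  show 4 ≤ (fx (ρ.comp L.subtype) t).index
  by_contra hcon
  push Not at hcon
  have h3 : (fx (ρ.comp L.subtype) t).index = 2 := by
    rw [hd] at h2 hcon ⊢
    have : d < 2 := by
      by_contra hd2
      have := Nat.pow_le_pow_right (n := 2) (by norm_num) (not_lt.1 hd2)
      omega
    interval_cases d <;> omega
  have hal := alpha_of h.mod ht1 ht h3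
  obtain ⟨T⟩ : Nonempty (Sylow 2 L) := inferInstance
  obtain ⟨C, h4, -, h5⟩ := Alpha.exists_axis h.mod hal T
  exact h.not_ax h4 h5

/-- outer involutions -/
theorem eight_le {s : X} (hsL : s ∉ L) (hs : s * s = 1) : 8 ≤ (fx ρ s).index := by
  obtain ⟨y, hy, hy7, hinv⟩ := h.outer_seven hsL hs
  have hy1 : y ≠ 1 := by rintro rfl; rw [orderOf_one] at hy7; norm_num at hy7
  by_contra hcon
  push Not at hcon
  obtain ⟨d, hd⟩ := h.pow_index (fx ρ s)
  have h4 : (fx ρ s).index ≤ 4 := by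
    rw [hd] at hcon ⊢
    have : d < 3 := by
      by_contra hd2
      have := Nat.pow_le_pow_right (n := 2) (by norm_num) (not_lt.1 hd2)
      omega
    interval_cases d <;> omega
  rcases (FFPsl.small h.sq hs (by norm_num : Nat.Prime 7) (by norm_num) hy7 (h.moved hy1) hinv h4).1 with h5 | h5 <;>
    omega

theorem inv_CS : Inv ρ (CS ρ L) := by
  intro x v hv l hl
  have h1 := hv (x⁻¹ * l * x) (by
    have := h.nrm.conj_mem l hl x⁻¹
    rwa [inv_inv] at this)
  have e : l * x = x * (x⁻¹ * l * x) := by group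
  rw [← MulAut.mul_apply, ← map_mul, e, map_mul, MulAut.mul_apply, h1]

/-- the quotient by `C_V(L)` -/
theorem quo : Sit (EmpC.quo ρ (CS ρ L) h.inv_CS) L (lam : V ⧸ CS ρ L) where
  toSv := h.toSv
  sq := EmpC.quo_sq h.sq
  syl := by
    obtain ⟨P, hP⟩ := h.syl
    exact ⟨P, fun g hg => by rw [quo_apply, hP g hg]⟩
  f3 := by
    intro g hg e
    rw [quo_apply, QuotientGroup.eq] at e
    have hgL : g ∈ L := h.mem_of_odd (by rw [hg]; decide)
    set c := (ρ g lam)⁻¹ * lam with hc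
    have h1 : lam = ρ g lam * c := by rw [hc]; group
    have hgc : ρ g c = c := e g hgL
    have hcc : c * c = 1 := h.sq c
    have h2 : ρ g (ρ g lam) = lam := by
      have h3 := congrArg (ρ g) h1
      rw [map_mul, hgc] at h3
      calc ρ g (ρ g lam) = ρ g (ρ g lam) * c * c := by rw [mul_assoc, hcc, mul_one]
        _ = ρ g lam * c := by rw [← h3]
        _ = lam := h1.symm
    have h4 : ρ g (ρ g (ρ g lam)) = lam := by
      have : g ^ 3 = 1 := by rw [← hg]; exact pow_orderOf_eq_one g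
      rw [← MulAut.mul_apply, ← MulAut.mul_apply, ← map_mul, ← map_mul, ← pow_two, ← pow_succ, this, map_one]
      rfl
    rw [h2] at h4
    exact h.f3 g hg h4

theorem four_le {t : X} (ht1 : t ≠ 1) (ht : t * t = 1) : 4 ≤ (fx ρ t).index := by
  by_cases htL : t ∈ L
  · exact h.four_le_in (t := ⟨t, htL⟩) (fun e => ht1 (congrArg Subtype.val e)) (Subtype.ext ht)
  · have := h.eight_le htL ht
    omega

/-- **(F1)** `|[V,t] : [V,t] ∩ C_V(L)| ≥ 4` -/
theorem exists_pair {t : X} (ht1 : t ≠ 1) (ht : t * t = 1) : ∃ v w : V, cm ρ t v ∉ CS ρ L ∧ cm ρ t w ∉ CS ρ L ∧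
    cm ρ t (v * w) ∉ CS ρ L := by
  have h4 := h.quo.four_le ht1 ht
  rw [← card_range_cm] at h4
  set σ := EmpC.quo ρ (CS ρ L) h.inv_CS with hσ
  have hq : ∀ v : V, cm σ t (v : V ⧸ CS ρ L) = ((cm ρ t v : V) : V ⧸ CS ρ L) := fun v => by
    rw [cm_apply, cm_apply, quo_apply]; rfl
  have key : ∀ v : V, cm σ t (v : V ⧸ CS ρ L) ≠ 1 → cm ρ t v ∉ CS ρ L := fun v hv hm => hv (by
    rw [hq, QuotientGroup.eq_one_iff]; exact hm)
  -- an element of the range
  obtain ⟨v, hv⟩ : ∃ v : V, cm σ t (v : V ⧸ CS ρ L) ≠ 1 := by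
    by_contra hcon
    push Not at hcon
    have : (cm σ t).range = ⊥ := by
      rw [eq_bot_iff]
      rintro _ ⟨w, rfl⟩
      obtain ⟨w, rfl⟩ := QuotientGroup.mk_surjective w
      exact mem_bot.2 (hcon w)
    rw [this, card_bot] at h4
    omega
  obtain ⟨w, hw, hvw⟩ : ∃ w : V, cm σ t (w : V ⧸ CS ρ L) ≠ 1 ∧ cm σ t (w : V ⧸ CS ρ L) ≠ cm σ t (v : V ⧸ CS ρ L) := by
    by_contra hcon
    push Not at hcon
    have h1 := FFPsl.card_le_two_of (B := (cm σ t).range) (a := cm σ t (v : V ⧸ CS ρ L)) (by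
      rintro _ ⟨w, rfl⟩
      obtain ⟨w, rfl⟩ := QuotientGroup.mk_surjective w
      by_cases h1 : cm σ t (w : V ⧸ CS ρ L) = 1
      · exact Or.inl h1
      · exact Or.inr (hcon w h1))
    omega
  refine ⟨v, w, key v hv, key w hw, key (v * w) fun e => hvw ?_⟩
  rw [QuotientGroup.mk_mul, map_mul] at e
  have e2 := eq_inv_of_mul_eq_one_right e
  rw [e2]
  exact inv_eq_of_mul_eq_one_left (EmpC.quo_sq h.sq _)

/-! ### four-groups -/

theorem index_dvd_cases {C : Subgroup V} {k : ℕ} (hC : C.index < 2 ^ (k + 1)) : C.index ≤ 2 ^ k := by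
  obtain ⟨d, hd⟩ := h.pow_index C
  rw [hd] at hC ⊢
  exact Nat.pow_le_pow_right (by norm_num) (Nat.lt_succ_iff.1 ((Nat.pow_lt_pow_iff_right (by norm_num)).1 hC))

/-- for a four-group `A ≤ L`: some involution of `A` has more fixed points than `A` -/
theorem exists_ne {A : Subgroup X} (hA : IsFour A) (hAL : A ≤ L) : ∃ a ∈ A, a ≠ 1 ∧ fx ρ a ≠ CS ρ A := by
  by_contra hcon
  push Not at hcon
  have hA' : IsFour (A.subgroupOf L) := by
    refine ⟨?_, fun a ha => Subtype.ext (hA.sq a ha)⟩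
    rw [Nat.card_congr (Subgroup.subgroupOfEquivOfLe hAL).toEquiv, hA.card]
  refine h.not_ax hA' fun a ha ha1 => ?_
  show fx ρ (a : X) = _
  rw [hcon a ha (fun e => ha1 (Subtype.ext e))]
  ext v
  constructor
  · exact fun hv b hb => hv b hb
  · exact fun hv b hb => hv ⟨b, hAL hb⟩ hb

/-- **(F3)** -/
theorem eight_le_four {A : Subgroup X} (hA : IsFour A) : 8 ≤ (CS ρ A).index := by
  by_cases hAL : A ≤ L
  · by_contra hcon
    push Not at hcon
    have h4 : (CS ρ A).index ≤ 4 := h.index_dvd_cases (k := 2) hcon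
    obtain ⟨a, ha, ha1, hne⟩ := h.exists_ne hA hAL
    exact hne (eq_of_index_le (CS_le_fx ha) (h4.trans (h.four_le ha1 (hA.sq a ha)))).symm
  · obtain ⟨s, hs, hsL⟩ := SetLike.not_le_iff_exists.1 hAL
    exact (h.eight_le hsL (hA.sq s hs)).trans (index_le_of_le (CS_le_fx hs))

/-- **(F4)**, first part -/
theorem le_of_index {A : Subgroup X} (hA : IsFour A) (hi : (CS ρ A).index ≤ 8) : A ≤ L := by
  by_contra hAL
  obtain ⟨s, hs, hsL⟩ := SetLike.not_le_iff_exists.1 hAL
  have hs1 : s ≠ 1 := fun e => hsL (e ▸ one_mem L)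
  obtain ⟨t, ht, ht1, hst⟩ := hA.exists_third s
  obtain ⟨hfour, -⟩ := hA.exists_pair hs hs1 ht ht1 hst
  have heq : CS ρ A = fx ρ s := eq_of_index_le (CS_le_fx hs) (hi.trans (h.eight_le hsL (hA.sq s hs)))
  have hle : fx ρ s ≤ fx ρ t := by rw [← heq]; exact CS_le_fx ht
  obtain ⟨u, -, hu3, hsu, htu⟩ := h.outer_three hsL hfour
  have hus : u * s = s * u := by
    calc u * s = (s * u * s⁻¹) * s := by rw [hsu]
      _ = s * u := by group
  have h1 : fx ρ s ≤ fx ρ (u * t * u⁻¹) := by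
    have e : u * s * u⁻¹ = s := by rw [hus]; group
    have := fx_conj_mono (ρ := ρ) (y := u) hle
    rwa [e] at this
  have h2 : fx ρ s ≤ fx ρ (u * u) := by
    intro v hv
    have h3 := fx_mul ρ (h1 hv) (hle hv)
    have e : u * t * u⁻¹ * t = u * u := by
      have e1 : t⁻¹ = t := inv_eq_of_mul_eq_one_left hfour.bb
      have e2 : t * u⁻¹ * t = u := by
        have e3 : t * u⁻¹ * t⁻¹ = u := by
          have := congrArg (·⁻¹) htu
          simp only [mul_inv_rev, inv_inv] at this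
          rw [mul_assoc]; exact this
        rwa [e1] at e3
      calc u * t * u⁻¹ * t = u * (t * u⁻¹ * t) := by group
        _ = u * u := by rw [e2]
    rwa [e] at h3
  have h3 : fx ρ s ≤ fx ρ u := fun v hv => fx_of_sq ρ (by rw [hu3]; decide) (h2 hv)
  -- `u` is trivial on `V / fx ρ s`
  have hu1 : u ≠ 1 := by rintro rfl; rw [orderOf_one] at hu3; norm_num at hu3
  obtain ⟨v, hv⟩ := h.moved hu1
  apply hv
  have h4 : cm ρ s v ∈ fx ρ s := by
    show ρ s (cm ρ s v) = cm ρ s v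
    rw [cm_apply, map_mul, map_inv, ← MulAut.mul_apply, ← map_mul, hA.sq s hs, map_one, MulAut.one_apply]
    have e1 := h.sq (ρ s v)
    have e2 := h.sq v
    rw [inv_eq_of_mul_eq_one_left e1, inv_eq_of_mul_eq_one_left e2, mul_comm]
  have h5 : cm ρ u v ∈ fx ρ s := by
    have h6 : ρ u (cm ρ s v) = cm ρ s v := h3 h4
    rw [cm_apply, map_mul, map_inv, ← MulAut.mul_apply, ← map_mul, hus, map_mul, MulAut.mul_apply] at h6
    show ρ s (cm ρ u v) = cm ρ u v
    rw [cm_apply, map_mul, map_inv]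
    calc ρ s (ρ u v) * (ρ s v)⁻¹ = (ρ s (ρ u v) * (ρ u v)⁻¹) * (ρ u v * (ρ s v)⁻¹) := by group
      _ = (ρ s v * v⁻¹) * (ρ u v * (ρ s v)⁻¹) := by rw [h6]
      _ = ρ u v * v⁻¹ := by rw [mul_comm (ρ u v), ← mul_assoc, mul_assoc (ρ s v), mul_comm v⁻¹, ← mul_assoc,
          mul_inv_cancel, one_mul, mul_comm]
  have h6 : ρ u (cm ρ u v) = cm ρ u v := h3 h5
  have h7 : cm ρ u v = 1 := eq_one_of_fix h.sq (by rw [hu3]; decide) ⟨v, rfl⟩ h6
  rw [cm_apply, mul_inv_eq_one] at h7
  exact h7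

end Sit

/-! ### (F4), second part -/

/-- the data: the four-groups `{1, z, a, za}`, `{1, z, b, zb}` of the Sylow 2-subgroup `T` of `L`, `W = [V, A]` -/
structure Dt0 (ρ : X →* MulAut V) (L : Subgroup X) (T : Sylow 2 L) (z a b y : L) (W : Subgroup V) : Prop where
  hza : Four z a
  hzb : Four z b
  hab : a * b * a⁻¹ = z * b
  hAT : hza.sub ≤ T
  hBT : hzb.sub ≤ T
  hAB : hza.sub ≠ hzb.sub
  sup : hza.sub ⊔ hzb.sub = T
  only : ∀ C : Subgroup L, IsFour C → C ≤ T → C = hza.sub ∨ C = hzb.sub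
  gen : normalizer (hza.sub : Set L) ⊔ normalizer (hzb.sub : Set L) = ⊤
  y3 : y * y * y = 1
  yz : y * z * y⁻¹ = a
  ya : y * a * y⁻¹ = z * a
  card8 : Nat.card W ≤ 8
  rle : (cm ρ (z : X)).range ≤ W
  r4 : Nat.card (cm ρ (z : X)).range = 4
  norm : ∀ g ∈ normalizer (hza.sub : Set L), ∀ w ∈ W, ρ (g : X) w ∈ W
  triv : ∀ g ∈ hza.sub, ∀ w ∈ W, ρ (g : X) w = w

/-- moreover `v ∈ W` is fixed by `b` but by no element of order 3 -/
structure Dt (ρ : X →* MulAut V) (L : Subgroup X) (T : Sylow 2 L) (z a b y : L) (W : Subgroup V) (v : V) : Prop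
    extends Dt0 ρ L T z a b y W where
  cfx : Nat.card ((fx ρ (y : X) ⊓ W : Subgroup V)) * 4 = Nat.card W
  mem : v ∈ W
  vb : ρ (b : X) v = v
  v3 : ∀ g : X, orderOf g = 3 → ρ g v ≠ v

namespace Dt0

variable {T : Sylow 2 L} {z a b y : L} {W : Subgroup V} (d : Dt0 ρ L T z a b y W)
include d

theorem ba : b * a * b⁻¹ = z * a := by
  have e : a * b = z * b * a := by rw [← d.hab]; group
  have e1 : b * a = z * a * b := by
    calc b * a = z * (z * b * a) := by rw [← mul_assoc, ← mul_assoc, d.hza.aa, one_mul]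
      _ = z * a * b := by rw [← e, mul_assoc]
  rw [e1, mul_inv_cancel_right]

theorem bz : b * z * b⁻¹ = z := by rw [← d.hzb.comm, mul_inv_cancel_right]

theorem z_mem : z ∈ d.hza.sub := Or.inr (Or.inl rfl)
theorem a_mem : a ∈ d.hza.sub := Or.inr (Or.inr (Or.inl rfl))

theorem conj_ya : y * (z * a) * y⁻¹ = z := by
  have e : y * (z * a) * y⁻¹ = (y * z * y⁻¹) * (y * a * y⁻¹) := by group
  rw [e, d.yz, d.ya, ← mul_assoc, ← d.hza.comm, mul_assoc, d.hza.bb, mul_one]

theorem mem_norm_of {g : L} (h1 : g * z * g⁻¹ ∈ d.hza.sub) (h2 : g * a * g⁻¹ ∈ d.hza.sub) :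
    g ∈ normalizer (d.hza.sub : Set L) := by
  have hle : ∀ x ∈ d.hza.sub, g * x * g⁻¹ ∈ d.hza.sub := by
    intro x hx
    rcases (mem_sub d.hza).1 hx with rfl | rfl | rfl | rfl
    · rw [mul_one, mul_inv_cancel]; exact one_mem _
    · exact h1
    · exact h2
    · have e : g * (z * a) * g⁻¹ = (g * z * g⁻¹) * (g * a * g⁻¹) := by group
      rw [e]; exact mul_mem h1 h2
  have hfin : (d.hza.sub).map (MulAut.conj g).toMonoidHom = d.hza.sub := by
    apply Subgroup.eq_of_le_of_card_ge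
    · rintro _ ⟨x, hx, rfl⟩
      exact hle x hx
    · rw [Subgroup.card_map_of_injective (MulAut.conj g).injective]
  rw [mem_normalizer_iff]
  intro x
  refine ⟨hle x, fun hx => ?_⟩
  rw [← hfin] at hx
  obtain ⟨x', hx', e⟩ := hx
  have : x' = x := by
    have e' : g * x' * g⁻¹ = g * x * g⁻¹ := e
    simpa using e'
  rw [← this]; exact hx'

theorem y_norm : y ∈ normalizer (d.hza.sub : Set L) :=
  d.mem_norm_of (by rw [d.yz]; exact d.a_mem) (by rw [d.ya]; exact mul_mem d.z_mem d.a_mem)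

theorem b_norm : b ∈ normalizer (d.hza.sub : Set L) :=
  d.mem_norm_of (by rw [d.bz]; exact d.z_mem) (by rw [d.ba]; exact mul_mem d.z_mem d.a_mem)

/-- `b y b⁻¹ y ∈ A` -/
theorem byb_mem (h : Sit ρ L lam) : b * y * b⁻¹ * y ∈ d.hza.sub := by
  have hbb := d.hzb.bb
  have hbi : b⁻¹ = b := inv_eq_of_mul_eq_one_left hbb
  have bza : b * (z * a) * b⁻¹ = a := by
    have e : b * (z * a) * b⁻¹ = (b * z * b⁻¹) * (b * a * b⁻¹) := by group
    rw [e, d.bz, d.ba, ← mul_assoc, d.hza.aa, one_mul]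
  have bz' : b⁻¹ * z * b⁻¹⁻¹ = z := by rw [hbi]; exact d.bz
  have ba' : b⁻¹ * a * b⁻¹⁻¹ = z * a := by rw [hbi]; exact d.ba
  have bza' : b⁻¹ * (z * a) * b⁻¹⁻¹ = a := by rw [hbi]; exact bza
  have conj4 : ∀ x : L, (b * y * b⁻¹ * y) * x * (b * y * b⁻¹ * y)⁻¹ = b * (y * (b⁻¹ * (y * x * y⁻¹) * b⁻¹⁻¹) * y⁻¹) * b⁻¹ :=
    fun x => by group
  apply h.l32.cent z a _ d.hza
  · rw [← mul_inv_eq_iff_eq_mul, conj4, d.yz, ba', d.conj_ya, d.bz]
  · rw [← mul_inv_eq_iff_eq_mul, conj4, d.ya, bza', d.ya, bza]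

theorem orderOf_y : orderOf (y : X) = 3 := by
  have hy1 : y ≠ 1 := fun e => by
    have := d.yz
    rw [e, one_mul, inv_one, mul_one] at this
    exact d.hza.ne this
  have : Fact (Nat.Prime 3) := ⟨Nat.prime_three⟩
  exact (Subgroup.orderOf_coe y).trans (orderOf_eq_prime (by rw [pow_succ, pow_two]; exact d.y3) hy1)

/-- on `W` : `b (y w) = y⁻¹ (b w)` -/
theorem byw (h : Sit ρ L lam) {w : V} (hw : w ∈ W) : ρ (y : X) (ρ (b : X) (ρ (y : X) w)) = ρ (b : X) w := by
  have e1 : y * b * y = b * ((b * y * b⁻¹ * y)) := by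
    have hbi : b⁻¹ = b := inv_eq_of_mul_eq_one_left d.hzb.bb
    rw [hbi]
    calc y * b * y = (b * b) * (y * b * y) := by rw [d.hzb.bb, one_mul]
      _ = b * (b * y * b * y) := by group
  have e2 : (y : X) * b * y = b * ((b * y * b⁻¹ * y : L) : X) := by
    have := congrArg (fun t : L => (t : X)) e1
    simpa using this
  rw [← MulAut.mul_apply, ← map_mul, ← MulAut.mul_apply, ← map_mul, e2, map_mul, MulAut.mul_apply,
    d.triv _ (d.byb_mem h) w hw]

theorem y_inj {w : V} (h : ρ (y : X) (ρ (y : X) w) = w) : ρ (y : X) w = w := by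
  have e : (y : X) ^ 3 = 1 := by rw [← d.orderOf_y]; exact pow_orderOf_eq_one _
  have e2 : ρ (y : X) (ρ (y : X) (ρ (y : X) w)) = w := by
    rw [← MulAut.mul_apply, ← MulAut.mul_apply, ← map_mul, ← map_mul, ← pow_two, ← pow_succ, e, map_one]; rfl
  rw [h] at e2
  exact e2

end Dt0

namespace Dt

variable {T : Sylow 2 L} {z a b y : L} {W : Subgroup V} {v : V} (d : Dt ρ L T z a b y W v)
include d

theorem yy_ne : ∃ w ∈ W, ρ (y : X) w ≠ w := ⟨v, d.mem, d.v3 y d.orderOf_y⟩

variable [Finite V]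

/-- `C_W(b) = [V, z]` -/
theorem fx_b (h : Sit ρ L lam) (hb : ∀ w ∈ (cm ρ (z : X)).range, ρ (b : X) w = w) {w : V} (hw : w ∈ W)
    (hwb : ρ (b : X) w = w) : w ∈ (cm ρ (z : X)).range := by
  set K := fx ρ (b : X) ⊓ W with hK
  have hRK : (cm ρ (z : X)).range ≤ K := fun x hx => ⟨hb x hx, d.rle hx⟩
  have hKW : K ≠ W := by
    intro e
    obtain ⟨u, hu, hne⟩ := d.yy_ne
    apply hne
    have hall : ∀ x ∈ W, ρ (b : X) x = x := fun x hx => by
      rw [← e] at hx; exact hx.1
    have h1 := d.byw h hu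
    rw [hall _ (d.norm y d.y_norm u hu), hall u hu] at h1
    exact d.y_inj h1
  have hcard : Nat.card K ≤ 4 := by
    have h1 : Nat.card K * K.relIndex W = Nat.card W := card_mul_relIndex inf_le_right
    have h2 : K.relIndex W ≠ 1 := by
      intro e
      rw [relIndex_eq_one] at e
      exact hKW (le_antisymm inf_le_right e)
    have h3 : 0 < K.relIndex W := Nat.pos_of_ne_zero (by
      intro e
      rw [e, mul_zero] at h1
      exact Nat.card_pos.ne' h1.symm)
    have h4 := d.card8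
    have h5 : Nat.card K * 2 ≤ Nat.card K * K.relIndex W := Nat.mul_le_mul_left _ (by omega)
    omega
  have heq : (cm ρ (z : X)).range = K := Subgroup.eq_of_le_of_card_ge hRK (by rw [d.r4]; exact hcard)
  rw [heq]
  exact ⟨hwb, hw⟩

/-- the vector of `W` fixed by `y` -/
theorem exists_c (h : Sit ρ L lam) (hb : ∀ w ∈ (cm ρ (z : X)).range, ρ (b : X) w = w) :
    ∃ c ∈ (cm ρ (z : X)).range, c ≠ 1 ∧ ρ (y : X) c = c ∧ ρ (b : X) c = c := by
  have hpos : 0 < Nat.card ((fx ρ (y : X) ⊓ W : Subgroup V)) := Nat.card_pos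
  have hcf := d.cfx
  have hc8 := d.card8
  have h2 : Nat.card ((fx ρ (y : X) ⊓ W : Subgroup V)) = 2 := by
    have h1 : Nat.card ((fx ρ (y : X) ⊓ W : Subgroup V)) ≠ 1 := by
      intro e
      rw [e, one_mul] at hcf
      have heq : (cm ρ (z : X)).range = W := Subgroup.eq_of_le_of_card_ge d.rle (by rw [d.r4, hcf])
      obtain ⟨u, hu, hne⟩ := d.yy_ne
      apply hne
      have hall : ∀ x ∈ W, ρ (b : X) x = x := fun x hx => hb x (by rw [heq]; exact hx)
      have h1 := d.byw h hu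
      rw [hall _ (d.norm y d.y_norm u hu), hall u hu] at h1
      exact d.y_inj h1
    omega
  obtain ⟨⟨c, hcm⟩, hc1⟩ := exists_ne_one_of_card h2
  have hc1' : c ≠ 1 := fun e => hc1 (Subtype.ext e)
  have hcy : ρ (y : X) c = c := hcm.1
  have hcW : c ∈ W := hcm.2
  have hbc : ρ (b : X) c = c := by
    have hbm : ρ (b : X) c ∈ (fx ρ (y : X) ⊓ W : Subgroup V) := by
      refine mem_inf.mpr ⟨?_, d.norm b d.b_norm c hcW⟩
      have := d.byw h hcW
      rw [hcy] at this
      exact this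
    have hb1 : ρ (b : X) c ≠ 1 := fun e => hc1' ((ρ (b : X)).injective (by rw [e, map_one]))
    exact eq_of_card_two h2 hbm hcm hb1 hc1'
  exact ⟨c, d.fx_b h hb hcW hbc, hc1', hcy, hbc⟩

/-- **an element outside `L` normalising `T` fixes `v`** -/
theorem outer (h : Sit ρ L lam) {s : X} (hsL : s ∉ L) (hsT : ∀ t ∈ T, ∀ t' : L, (t' : X) = s * t * s⁻¹ → t' ∈ T)
    (hss : ∀ t' : L, (t' : X) = s * s → t' ∈ T) : ρ s v = v := by
  have hn := h.nrm
  obtain ⟨α, hαv⟩ : ∃ α : MulAut L, ∀ t : L, ((α t : L) : X) = s * t * s⁻¹ :=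
    ⟨MulAut.conjNormal s, fun t => MulAut.conjNormal_apply s t⟩
  have hαT : ∀ t ∈ T, α t ∈ T := fun t ht => hsT t ht _ (hαv t)
  set A := d.hza.sub with hA
  set B := d.hzb.sub with hB
  have fourmap : ∀ C : Subgroup L, IsFour C → IsFour (C.map α.toMonoidHom) := by
    intro C hC
    refine ⟨?_, ?_⟩
    · rw [Subgroup.card_map_of_injective (f := α.toMonoidHom) α.injective, hC.card]
    · rintro _ ⟨x, hx, rfl⟩
      show α x * α x = 1
      rw [← map_mul, hC.sq x hx, map_one]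
  have hmapT : ∀ C : Subgroup L, C ≤ T → C.map α.toMonoidHom ≤ T := by
    rintro C hC _ ⟨x, hx, rfl⟩
    exact hαT x (hC hx)
  have hA' : A.map α.toMonoidHom = B := by
    rcases d.only _ (fourmap A (isFour_sub d.hza)) (hmapT A d.hAT) with e | e
    · exfalso
      apply hsL
      have hconj : ∀ x ∈ A, x ≠ 1 → s * (x : X) * s⁻¹ = z ∨ s * (x : X) * s⁻¹ = a ∨ s * (x : X) * s⁻¹ = z * a := by
        intro x hx hx1
        have h1 : α x ∈ A := by
          have : α x ∈ A.map α.toMonoidHom := ⟨x, hx, rfl⟩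
          rw [e] at this; exact this
        rcases (mem_sub d.hza).1 h1 with h2 | h2 | h2 | h2
        · exact absurd (α.injective (by rw [h2, map_one])) hx1
        · left; rw [← hαv, h2]
        · right; left; rw [← hαv, h2]
        · right; right; rw [← hαv, h2]; rfl
      have h4 : Four (z : X) (a : X) :=
        ⟨congrArg Subtype.val d.hza.aa, congrArg Subtype.val d.hza.bb, fun e => d.hza.a1 (Subtype.ext e),
          fun e => d.hza.b1 (Subtype.ext e), fun e => d.hza.ne (Subtype.ext e), congrArg Subtype.val d.hza.comm⟩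
      exact h.mem_of_norm z.2 a.2 h4 (hconj z d.z_mem d.hza.a1) (hconj a d.a_mem d.hza.b1)
    · exact e
  have hB' : B.map α.toMonoidHom = A := by
    rcases d.only _ (fourmap B (isFour_sub d.hzb)) (hmapT B d.hBT) with e | e
    · exact e
    · exfalso
      apply d.hAB
      exact (Subgroup.map_injective α.injective (hA'.trans e.symm))
  -- `z` is fixed
  have hαz : α z = z := by
    have h1 : α z ∈ B := by rw [← hA']; exact ⟨z, d.z_mem, rfl⟩
    have h2 : α z ∈ A := by rw [← hB']; exact ⟨z, Or.inr (Or.inl rfl), rfl⟩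
    have h3 : a * b ≠ b * a := by
      intro e
      have := d.hab
      rw [e, mul_inv_cancel_right] at this
      exact d.hzb.a1 (mul_eq_right.1 this.symm)
    have hzb' := d.hzb.comm
    have hcb : ∀ x ∈ B, x * b = b * x := fun x hx => comm_of_sq (isFour_sub d.hzb).sq hx (Or.inr (Or.inr (Or.inl rfl)))
    rcases (mem_sub d.hza).1 h2 with e | e | e | e
    · exact absurd (α.injective (by rw [e, map_one])) d.hza.a1
    · exact e
    · exfalso
      rw [e] at h1
      exact h3 (hcb a h1)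
    · exfalso
      rw [e] at h1
      have h5 := hcb (z * a) h1
      apply h3
      have h6 : z * (a * b) = z * (b * a) := by
        rw [← mul_assoc, h5, ← mul_assoc, ← hzb', mul_assoc]
      exact mul_left_cancel h6
  have hsz : s * (z : X) * s⁻¹ = z := by rw [← hαv, hαz]
  have hsz' : s * (z : X) = z * s := mul_inv_eq_iff_eq_mul.1 hsz
  have hsz'' : s⁻¹ * (z : X) = z * s⁻¹ := by
    calc s⁻¹ * (z : X) = s⁻¹ * (s * z * s⁻¹) := by rw [hsz]
      _ = z * s⁻¹ := by group
  set R := (cm ρ (z : X)).range with hR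
  have hsR : ∀ x ∈ R, ρ s x ∈ R := fun x hx => apply_mem_range ρ hsz' hx
  have hsR' : ∀ x ∈ R, ρ s⁻¹ x ∈ R := fun x hx => apply_mem_range ρ hsz'' hx
  have hss1 : ∀ x : V, ρ s (ρ s⁻¹ x) = x := fun x => by
    rw [← MulAut.mul_apply, ← map_mul, mul_inv_cancel, map_one]; rfl
  have hAR : ∀ g ∈ A, ∀ x ∈ R, ρ (g : X) x = x := fun g hg x hx => d.triv g hg x (d.rle hx)
  have hBR : ∀ g ∈ B, ∀ x ∈ R, ρ (g : X) x = x := by
    intro g hg x hx
    rw [← hA'] at hg
    obtain ⟨k, hk, hkg⟩ := hg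
    have e : (g : X) = s * k * s⁻¹ := by rw [← hkg]; exact hαv k
    rw [e, map_mul, map_mul, MulAut.mul_apply, MulAut.mul_apply, hAR k hk _ (hsR' x hx), hss1]
  have hTR : ∀ g ∈ T, ∀ x ∈ R, ρ (g : X) x = x := by
    intro g hg x hx
    have h1 : (T : Subgroup L) ≤ stb (ρ.comp L.subtype) x := by
      rw [← d.sup]
      exact sup_le (fun k hk => hAR k hk x hx) (fun k hk => hBR k hk x hx)
    exact h1 hg
  have hbB : b ∈ B := Or.inr (Or.inr (Or.inl rfl))
  have hb : ∀ w ∈ R, ρ (b : X) w = w := fun w hw => hBR b hbB w hw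
  obtain ⟨c, hcR, hc1, hcy, hcb⟩ := d.exists_c h hb
  have hsc1 : ρ s c ≠ 1 := fun e => hc1 ((ρ s).injective (by rw [e, map_one]))
  have hR4 : IsFour R := ⟨d.r4, fun x _ => h.sq x⟩
  -- `c` is not fixed by `L`
  have hcL : c ∉ CS ρ L := by
    intro hcL
    obtain ⟨v1, w1, k1, k2, k3⟩ := h.exists_pair (t := (z : X)) (fun e => d.hza.a1 (Subtype.ext e))
      (congrArg Subtype.val d.hza.aa)
    have n1 : cm ρ (z : X) v1 ≠ 1 := fun e => k1 (by rw [e]; exact one_mem _)
    have n2 : cm ρ (z : X) w1 ≠ 1 := fun e => k2 (by rw [e]; exact one_mem _)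
    have n3 : cm ρ (z : X) v1 ≠ cm ρ (z : X) w1 := fun e => k3 (by rw [map_mul, e, h.sq]; exact one_mem _)
    obtain ⟨-, hm⟩ := hR4.exists_pair (z := cm ρ (z : X) v1) (a := cm ρ (z : X) w1) ⟨v1, rfl⟩ n1 ⟨w1, rfl⟩ n2 n3
    rcases (hm c).1 hcR with e | e | e | e
    · exact hc1 e
    · rw [e] at hcL; exact k1 hcL
    · rw [e] at hcL; exact k2 hcL
    · rw [e, ← map_mul] at hcL; exact k3 hcL
  have hne : c ≠ ρ s c := by
    intro e
    apply hcL
    have hsc : ρ s⁻¹ c = c := by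
      nth_rewrite 1 [e]
      rw [← MulAut.mul_apply, ← map_mul, inv_mul_cancel, map_one]; rfl
    have hNA : ∀ g ∈ normalizer (A : Set L), ρ (g : X) c = c := fun g hg =>
      norm_fix (ρ := ρ.comp L.subtype) h.l32 d.hza d.bz d.ba d.yz d.ya (hAR z d.z_mem c hcR) (hAR a d.a_mem c hcR) hcb hcy hg
    have hNB : ∀ g ∈ normalizer (B : Set L), ρ (g : X) c = c := by
      intro g hg
      have h1 : α.symm g ∈ normalizer (A : Set L) := by
        have hcon : ∀ x ∈ A, α.symm g * x * (α.symm g)⁻¹ ∈ A := by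
          intro x hx
          have h2 : α x ∈ B := by rw [← hA']; exact ⟨x, hx, rfl⟩
          have h3 := mem_normalizer_conj hg h2
          rw [← hA'] at h3
          obtain ⟨k, hk, hkg⟩ := h3
          have h4 : α k = α (α.symm g * x * (α.symm g)⁻¹) := by
            rw [map_mul, map_mul, map_inv, MulEquiv.apply_symm_apply]; exact hkg
          rw [← α.injective h4]; exact hk
        exact d.mem_norm_of (hcon z d.z_mem) (hcon a d.a_mem)
      have h2 := hNA _ h1
      have h3 : (g : X) = s * ((α.symm g : L) : X) * s⁻¹ := by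
        rw [← hαv, MulEquiv.apply_symm_apply]
      rw [h3, map_mul, map_mul, MulAut.mul_apply, MulAut.mul_apply, hsc, h2, ← e]
    have hall : (⊤ : Subgroup L) ≤ stb (ρ.comp L.subtype) c := by
      rw [← d.gen]
      exact sup_le hNA hNB
    intro l hl
    exact hall (mem_top (⟨l, hl⟩ : L))
  obtain ⟨-, hm⟩ := hR4.exists_pair hcR hc1 (hsR c hcR) hsc1 hne
  have hssm : s * s ∈ L := h.mul_mem_L hsL hsL
  have hsscc : ρ s (ρ s c) = c := by
    rw [← MulAut.mul_apply, ← map_mul]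
    exact hTR ⟨s * s, hssm⟩ (hss _ rfl) c hcR
  have hvR : v ∈ R := d.fx_b h hb d.mem d.vb
  rcases (hm v).1 hvR with e | e | e | e
  · exfalso
    exact d.v3 _ d.orderOf_y (by rw [e, map_one])
  · exfalso
    exact d.v3 _ d.orderOf_y (by rw [e, hcy])
  · exfalso
    refine d.v3 (s * y * s⁻¹) ?_ ?_
    · rw [← d.orderOf_y]
      exact (SemiconjBy.orderOf_eq (x := (y : X)) (y := s * y * s⁻¹) s (by
        show s * (y : X) = s * y * s⁻¹ * s
        group)).symm
    · have h1 : ρ s⁻¹ (ρ s c) = c := by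
        rw [← MulAut.mul_apply, ← map_mul, inv_mul_cancel, map_one]; rfl
      rw [e, map_mul, map_mul, MulAut.mul_apply, MulAut.mul_apply, h1, hcy]
  · rw [e, map_mul, hsscc, mul_comm]

end Dt

namespace Sit

variable (h : Sit ρ L lam)
include h

/-- **(F4)**, second part -/
theorem fixed [Finite V] {A : Subgroup X} (hA : IsFour A) (hi : (CS ρ A).index ≤ 8)
    (hq : ∀ a ∈ A, ∀ b ∈ A, ∀ v, ρ b (cm ρ a v) = cm ρ a v) {v : V} (hv : v ∈ CM ρ A)
    (h3 : ∀ g : X, orderOf g = 3 → ρ g v ≠ v) : ∃ P : Sylow 2 X, ∀ g ∈ P, ρ g v = v := by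
  have hAL := h.le_of_index hA hi
  have hn := h.nrm
  have hA' : IsFour (A.subgroupOf L) := by
    refine ⟨?_, fun a ha => Subtype.ext (hA.sq a ha)⟩
    rw [Nat.card_congr (Subgroup.subgroupOfEquivOfLe hAL).toEquiv, hA.card]
  obtain ⟨T, hT⟩ := EmpE.SevenA.exists_sylow hA'
  obtain ⟨z, a, b, hza, hzb, hAeq, hBT, hab, hAB, hsup, honly, hgen⟩ := exists_other h.l32 T hA' hT
  have hmemA : ∀ l : L, l ∈ hza.sub ↔ (l : X) ∈ A := fun l => by rw [← hAeq]; rfl
  rw [hAeq] at hA' hT hAB hsup honly hgen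
  have hz : z ∈ hza.sub := Or.inr (Or.inl rfl)
  have ha : a ∈ hza.sub := Or.inr (Or.inr (Or.inl rfl))
  have hzA : (z : X) ∈ A := (hmemA z).1 hz
  have haA : (a : X) ∈ A := (hmemA a).1 ha
  obtain ⟨y, hy3, hyz, hya⟩ := h.l32.fuse z a hza
  -- indices
  obtain ⟨a₀, ha₀, ha₁, hne⟩ := h.exists_ne hA hAL
  have i0 : (fx ρ a₀).index = 4 := by
    refine le_antisymm (h.index_dvd_cases (k := 2) ?_) (h.four_le ha₁ (hA.sq _ ha₀))
    by_contra hcon
    push Not at hcon
    exact hne (eq_of_index_le (CS_le_fx ha₀) (hi.trans hcon)).symm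
  have hidx : ∀ t : L, t ≠ 1 → t * t = 1 → (fx ρ (t : X)).index = 4 := by
    intro t ht1 ht
    rw [← i0]
    exact h.mod.idx (a := t) (b := ⟨a₀, hAL ha₀⟩) ht1 ht (fun e => ha₁ (congrArg Subtype.val e))
      (Subtype.ext (hA.sq _ ha₀))
  have h8 : (CS ρ A).index = 8 := le_antisymm hi (h.eight_le_four hA)
  have hCS : fx ρ (z : X) ⊓ fx ρ (a : X) ≤ CS ρ A := by
    rintro w ⟨h1, h2⟩ k hk
    have hk' : (⟨k, hAL hk⟩ : L) ∈ hza.sub := (hmemA _).2 hk
    rcases (mem_sub hza).1 hk' with e | e | e | e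
    · have : k = 1 := congrArg Subtype.val e
      rw [this, map_one]; rfl
    · have : k = z := congrArg Subtype.val e
      rw [this]; exact h1
    · have : k = a := congrArg Subtype.val e
      rw [this]; exact h2
    · have : k = z * a := congrArg Subtype.val e
      rw [this]; exact fx_mul ρ h1 h2
  set W := CM ρ A with hW
  have hrz : (cm ρ (z : X)).range ≤ W := by
    rintro _ ⟨w, rfl⟩
    exact mem_CM hzA w
  -- `|W| ≤ 8`
  have hWle : W ≤ (cm ρ (z : X)).range ⊔ (cm ρ (a : X)).range := by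
    refine CM_le fun k hk w => ?_
    have e1 : ∀ w, cm ρ (z : X) w ∈ (cm ρ (z : X)).range ⊔ (cm ρ (a : X)).range := fun w =>
      mem_sup_left ⟨w, rfl⟩
    have e2 : ∀ w, cm ρ (a : X) w ∈ (cm ρ (z : X)).range ⊔ (cm ρ (a : X)).range := fun w =>
      mem_sup_right ⟨w, rfl⟩
    have hk' : (⟨k, hAL hk⟩ : L) ∈ hza.sub := (hmemA _).2 hk
    rcases (mem_sub hza).1 hk' with e | e | e | e
    · have : k = 1 := congrArg Subtype.val e
      rw [this, map_one, MulAut.one_apply, mul_inv_cancel]; exact one_mem _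
    · have : k = z := congrArg Subtype.val e
      rw [this]; exact e1 w
    · have : k = a := congrArg Subtype.val e
      rw [this]; exact e2 w
    · have : k = z * a := congrArg Subtype.val e
      have e3 : ρ k w * w⁻¹ = cm ρ (z : X) (ρ (a : X) w) * cm ρ (a : X) w := by
        rw [this, map_mul, MulAut.mul_apply, cm_apply, cm_apply]; group
      rw [e3]; exact mul_mem (e1 _) (e2 _)
  have hW8 : Nat.card W ≤ 8 := by
    have h1 := card_sup_mul (cm ρ (z : X)).range (cm ρ (a : X)).range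
    rw [card_range_cm, card_range_cm, hidx z hza.a1 hza.aa, hidx a hza.b1 hza.bb] at h1
    -- the intersection is not trivial
    obtain ⟨w, hw, hw'⟩ : ∃ w ∈ fx ρ ((z * a : L) : X), w ∉ CS ρ A := by
      by_contra hcon
      push Not at hcon
      have := index_le_of_le (show fx ρ ((z * a : L) : X) ≤ CS ρ A from hcon)
      rw [hidx _ hza.right.b1 hza.right.bb, h8] at this
      omega
    have e1 : ρ (a : X) w = ρ (z : X) w := by
      have hw2 : ρ ((z : X) * a) w = w := hw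
      rw [map_mul, MulAut.mul_apply] at hw2
      have h2 := congrArg (ρ (z : X)) hw2
      have hzz : (z : X) * z = 1 := congrArg Subtype.val hza.aa
      rw [← MulAut.mul_apply V (ρ (z : X)) (ρ (z : X)), ← map_mul, hzz, map_one, MulAut.one_apply] at h2
      exact h2
    have hmem : cm ρ (z : X) w ∈ (cm ρ (z : X)).range ⊓ (cm ρ (a : X)).range := by
      refine mem_inf.mpr ⟨⟨w, rfl⟩, ⟨w, ?_⟩⟩
      rw [cm_apply, cm_apply, e1]
    have hne1 : cm ρ (z : X) w ≠ 1 := by
      intro e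
      apply hw'
      have h2 : ρ (z : X) w = w := by rw [cm_apply, mul_inv_eq_one] at e; exact e
      exact hCS ⟨h2, e1.trans h2⟩
    have h2 : 2 ≤ Nat.card ((cm ρ (z : X)).range ⊓ (cm ρ (a : X)).range : Subgroup V) := by
      have h3 : Nat.card ((cm ρ (z : X)).range ⊓ (cm ρ (a : X)).range : Subgroup V) ≠ 1 := by
        intro e
        rw [Subgroup.card_eq_one] at e
        rw [e, mem_bot] at hmem
        exact hne1 hmem
      have h4 : 0 < Nat.card ((cm ρ (z : X)).range ⊓ (cm ρ (a : X)).range : Subgroup V) := Nat.card_pos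
      omega
    have h3 : Nat.card W ≤ Nat.card ((cm ρ (z : X)).range ⊔ (cm ρ (a : X)).range : Subgroup V) :=
      Nat.card_le_card_of_injective _ (Subgroup.inclusion_injective hWle)
    have h4 : Nat.card ((cm ρ (z : X)).range ⊔ (cm ρ (a : X)).range : Subgroup V) * 2 ≤ 16 := by
      calc _ ≤ Nat.card ((cm ρ (z : X)).range ⊔ (cm ρ (a : X)).range : Subgroup V) *
          Nat.card ((cm ρ (z : X)).range ⊓ (cm ρ (a : X)).range : Subgroup V) := Nat.mul_le_mul_left _ h2
        _ = 16 := h1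
    omega
  have hnorm : ∀ g ∈ normalizer (hza.sub : Set L), ∀ w ∈ W, ρ (g : X) w ∈ W := by
    intro g hg
    have h1 : W ≤ W.comap (ρ (g : X) : V →* V) := by
      refine CM_le fun k hk w => ?_
      rw [mem_comap]
      have h2 : (g : X) * k * (g : X)⁻¹ ∈ A := by
        have h3 := mem_normalizer_conj hg ((hmemA ⟨k, hAL hk⟩).2 hk)
        exact (hmemA _).1 h3
      have h3 : ρ (g : X) (ρ k w * w⁻¹) = ρ (g * k * (g : X)⁻¹) (ρ (g : X) w) * (ρ (g : X) w)⁻¹ := by
        rw [map_mul, map_inv, apply_eq]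
      show ρ (g : X) (ρ k w * w⁻¹) ∈ W
      rw [h3]
      exact mem_CM h2 _
    exact fun w hw => h1 hw
  have htriv : ∀ g ∈ hza.sub, ∀ w ∈ W, ρ (g : X) w = w := by
    intro g hg
    have h1 : W ≤ fx ρ (g : X) := CM_le fun k hk w => hq k hk _ ((hmemA g).1 hg) w
    exact fun w hw => h1 hw
  have d0 : Dt0 ρ L T z a b y W :=
    { hza := hza, hzb := hzb, hab := hab, hAT := hT, hBT := hBT, hAB := hAB, sup := hsup, only := honly, gen := hgen
      y3 := hy3, yz := hyz, ya := hya, card8 := hW8, rle := hrz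
      r4 := by rw [card_range_cm, hidx z hza.a1 hza.aa]
      norm := hnorm, triv := htriv }
  -- the action on `W`
  let σ := res (ρ.comp L.subtype) (normalizer (hza.sub : Set L)) W hnorm
  have hσ : ∀ (n : normalizer (hza.sub : Set L)) (w : W), ((σ n w : W) : V) = ρ ((n : L) : X) w := fun n w => rfl
  set y' : normalizer (hza.sub : Set L) := ⟨y, d0.y_norm⟩ with hy'
  set b' : normalizer (hza.sub : Set L) := ⟨b, d0.b_norm⟩ with hb'
  have s1 : σ y' ^ 3 = 1 := by
    rw [← map_pow]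
    have : y' ^ 3 = 1 := Subtype.ext (by show y ^ 3 = 1; rw [pow_succ, pow_two]; exact hy3)
    rw [this, map_one]
  have s2 : σ b' * σ b' = 1 := by
    rw [← map_mul]
    have : b' * b' = 1 := Subtype.ext hzb.bb
    rw [this, map_one]
  have s3 : σ b' * σ y' * (σ b')⁻¹ = (σ y')⁻¹ := by
    rw [eq_inv_iff_mul_eq_one, ← map_mul, ← map_inv, ← map_mul, ← map_mul]
    ext w
    rw [hσ]
    exact htriv _ (d0.byb_mem h) w w.2
  have s4 : σ y' ⟨v, hv⟩ ≠ ⟨v, hv⟩ := fun e => h3 y d0.orderOf_y (congrArg Subtype.val e)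
  obtain ⟨s5, j, s6⟩ := swap_fix (W := W) (fun w => Subtype.ext (h.sq w)) hW8 s1 s2 s3 s4
  -- the new vector
  set g : L := y ^ j with hg
  set v' := ρ (g : X)⁻¹ v with hv'
  have hgN : g ∈ normalizer (hza.sub : Set L) := pow_mem d0.y_norm j
  have hv'W : v' ∈ W := hnorm g⁻¹ (inv_mem hgN) v hv
  have hvb : ρ (b : X) v' = v' := by
    have h1 : σ (y' ^ j * b' * (y' ^ j)⁻¹) ⟨v, hv⟩ = ⟨v, hv⟩ := by
      rw [map_mul, map_mul, map_inv, map_pow]; exact s6
    have h2 : ρ ((g : X) * b * (g : X)⁻¹) v = v := congrArg Subtype.val h1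
    rw [map_mul, map_mul, MulAut.mul_apply, MulAut.mul_apply] at h2
    have h3 := congrArg (ρ (g : X)⁻¹) h2
    rw [← MulAut.mul_apply V (ρ (g : X)⁻¹) (ρ (g : X)), ← map_mul, inv_mul_cancel, map_one, MulAut.one_apply] at h3
    exact h3
  have hgv : ρ (g : X) v' = v := by
    rw [hv', ← MulAut.mul_apply, ← map_mul, mul_inv_cancel, map_one]; rfl
  have d : Dt ρ L T z a b y W v' :=
    { d0 with
      cfx := by
        rw [← s5]
        congr 1
        have e1 : (fx ρ (y : X)).subgroupOf W = fx (MonoidHom.id (MulAut W)) (σ y') := by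
          ext w
          rw [mem_subgroupOf, mem_fx, mem_fx, Subtype.ext_iff]; rfl
        rw [← e1, ← Subgroup.inf_subgroupOf_right]
        exact (Nat.card_congr (Subgroup.subgroupOfEquivOfLe inf_le_right).toEquiv).symm
      mem := hv'W
      vb := hvb
      v3 := by
        intro x hx e
        refine h3 (g * x * (g : X)⁻¹) ?_ ?_
        · rw [← hx]
          exact (SemiconjBy.orderOf_eq (x := x) (y := g * x * (g : X)⁻¹) (g : X) (by
            show (g : X) * x = g * x * (g : X)⁻¹ * g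
            group)).symm
        · rw [map_mul, map_mul, MulAut.mul_apply, MulAut.mul_apply]
          show ρ (g : X) (ρ x v') = v
          rw [e, hgv] }
  -- `T` fixes `v'`
  have hbB : b ∈ hzb.sub := Or.inr (Or.inr (Or.inl rfl))
  have hTv : ∀ t ∈ T, ρ (t : X) v' = v' := by
    have h1 : (T : Subgroup L) ≤ stb (ρ.comp L.subtype) v' := by
      rw [← hsup]
      refine sup_le (fun k hk => htriv k hk v' hv'W) ?_
      have hzv : ρ (z : X) v' = v' := htriv z hz v' hv'W
      rintro x (rfl | rfl | rfl | rfl)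
      · exact one_mem _
      · exact hzv
      · exact hvb
      · exact mul_mem (show z ∈ stb (ρ.comp L.subtype) v' from hzv) (show b ∈ stb (ρ.comp L.subtype) v' from hvb)
    exact fun t ht => h1 ht
  -- a Sylow 2-subgroup of `X` over `T`
  have h1 : IsPGroup 2 ((T : Subgroup L).map L.subtype) := T.2.map _
  obtain ⟨S, hS⟩ := h1.exists_le_sylow
  have hST : ∀ l : L, (l : X) ∈ S → l ∈ T := by
    have h2 : IsPGroup 2 ((S : Subgroup X).subgroupOf L) := by
      have h3 : IsPGroup 2 (((S : Subgroup X).subgroupOf L).map L.subtype) :=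
        S.2.to_le (by rw [subgroupOf_map_subtype]; exact inf_le_left)
      exact (h3.comap_of_injective L.subtype L.subtype_injective).to_le (le_comap_map _ _)
    have h3 : (T : Subgroup L) ≤ (S : Subgroup X).subgroupOf L := fun t ht => hS ⟨t, ht, rfl⟩
    have h4 := T.3 h2 h3
    intro l hl
    have : l ∈ (S : Subgroup X).subgroupOf L := hl
    rw [h4] at this
    exact this
  have hTS : ∀ t ∈ T, (t : X) ∈ S := fun t ht => hS ⟨t, ht, rfl⟩
  have hSv : ∀ s ∈ S, ρ s v' = v' := by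
    intro s hs
    by_cases hsL : s ∈ L
    · exact hTv ⟨s, hsL⟩ (hST _ hs)
    · refine d.outer h hsL ?_ ?_
      · intro t ht t' ht'
        apply hST
        rw [ht']
        exact mul_mem (mul_mem hs (hTS t ht)) (inv_mem hs)
      · intro t' ht'
        apply hST
        rw [ht']
        exact mul_mem hs hs
  refine ⟨(g : X) • S, fun x hx => ?_⟩
  have hx2 : (MulAut.conj (g : X))⁻¹ • x ∈ (S : Subgroup X) := Subgroup.mem_pointwise_smul_iff_inv_smul_mem.mp hx
  rw [MulAut.smul_def, MulAut.conj_inv_apply] at hx2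
  have h4 := hSv _ hx2
  rw [← hgv]
  have e : x * (g : X) = g * ((g : X)⁻¹ * x * g) := by group
  rw [← MulAut.mul_apply, ← map_mul, e, map_mul, MulAut.mul_apply, h4]

end Sit

end Cfsg.Agent.OddCyclic.EN.SevMod
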