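import Mathlib
import Cfsg.Agent.OddCyclic.FFPsl
import Cfsg.Agent.OddCyclic.COneSeven

/-!
# S0342 (B-b), types (B), (B'): the groups with a normal simple subgroup of order 168

`Amb J`: `J ⊴ X` simple of order 168, `C_X(J) = 1`.
* `cent_four`: four-groups of `J` are self-centralising in `X`; `mem_of_four`: `N_X(E) ≤ J`;
* `exists_inv`: if `J ≠ X`, an involution outside `J` inverts an element of order 7; `inv_of`: all of them do;
* `mul_mem`: `|X : J| ≤ 2`; `card_le`: elementary abelian 2-subgroups have order at most 4.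
-/

set_option autoImplicit false
set_option linter.unusedSectionVars false

namespace Cfsg.Agent.OddCyclic.EN.S7Grp

open Matrix Subgroup Cfsg.Agent.Lib.SL2Mat Cfsg.Agent.OddCyclic.T1Module Cfsg.Agent.OddCyclic.FFBasic
  Cfsg.Agent.OddCyclic.FFRed Cfsg.Agent.OddCyclic.FFPslMat Cfsg.Agent.OddCyclic.PGLTorus
  Cfsg.Agent.OddCyclic.FFPsl Cfsg.Agent.OddCyclic.FFThree Cfsg.Agent.GH.L2Aut

variable {X : Type*} [Group X] [Finite X]

section grp

variable {L : Type*} [Group L]

/-- the centre of the dihedral group -/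
theorem eq_of_comm (h : L32 L) {x b c y : L} (hb : Four x b) (hcb : c * b * c⁻¹ = x * b) (hc : Four x c)
    (hy1 : y ≠ 1) (hyx : y * x = x * y) (hyb : y * b = b * y) (hyc : y * c = c * y) : y = x := by
  have hne : x * b ≠ b := fun h1 => hb.a1 (mul_eq_right.1 h1)
  rcases h.cent x b y hb hyx hyb with h1 | h1 | h1 | h1
  · exact absurd h1 hy1
  · exact h1
  · exfalso
    rw [h1] at hyc
    have h2 : c * b * c⁻¹ = b := by rw [← hyc, mul_inv_cancel_right]
    rw [hcb] at h2
    exact hne h2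
  · exfalso
    rw [h1] at hyc
    have h2 : c * (x * b) * c⁻¹ = x * b := by rw [← hyc, mul_inv_cancel_right]
    have h3 : c * (x * b) * c⁻¹ = b := by
      have h4 : c * x = x * c := hc.comm.symm
      calc c * (x * b) * c⁻¹ = (c * x) * b * c⁻¹ := by group
        _ = x * (c * b * c⁻¹) := by rw [h4]; group
        _ = b := by rw [hcb, ← mul_assoc, hb.aa, one_mul]
    rw [h3] at h2
    exact hne h2.symm

variable [Finite L]

/-- no subgroup of index dividing 6 -/
theorem not_index_le [IsSimpleGroup L] (h : L32 L) {K : Subgroup L} (hK : K ≠ ⊤) (hi : K.index ∣ 6) : False := by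
  have h1 : K.normalCore = ⊥ := by
    rcases IsSimpleGroup.eq_bot_or_eq_top_of_normal K.normalCore inferInstance with h1 | h1
    · exact h1
    · exfalso
      apply hK
      rw [eq_top_iff, ← h1]
      exact K.normalCore_le
  rw [Subgroup.normalCore_eq_ker, MonoidHom.ker_eq_bot_iff] at h1
  have h2 := Subgroup.card_dvd_of_injective (MulAction.toPermHom L (L ⧸ K)) h1
  rw [h.card, Nat.card_perm] at h2
  have h3 : (Nat.card (L ⧸ K)).factorial ∣ 720 := by
    have h4 : Nat.card (L ⧸ K) ≤ 6 := Nat.le_of_dvd (by norm_num) hi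
    exact (Nat.factorial_dvd_factorial h4).trans (by decide)
  have h4 := h2.trans h3
  norm_num at h4

end grp

/-- `J` is a normal simple subgroup of order 168 with trivial centraliser -/
structure Amb (J : Subgroup X) : Prop where
  nor : J.Normal
  simple : IsSimpleGroup J
  card : Nat.card J = 168
  cent : centralizer (J : Set X) = ⊥

namespace Amb

variable {J : Subgroup X}

theorem l32 (h : Amb J) : L32 J := COneSeven.l32 h.simple h.card

theorem exists_rep (h : Amb J) : ∃ (F : Type) (_ : Field F) (_ : Finite F), Nat.card F = 7 ∧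
    Nonempty (Cfsg.Agent.GH.L2Aut.Rep F J) := by
  have : Fact (Nat.Prime 7) := ⟨by norm_num⟩
  have := h.simple
  obtain ⟨e⟩ := Cfsg.Agent.S0495.result (G := J) h.card (F := ZMod 7) (ZMod.card 7)
  exact ⟨ZMod 7, inferInstance, inferInstance, by simp,
    ⟨Cfsg.Agent.GH.L2Aut.Rep.ofEquiv (F := ZMod 7) COneSeven.two_ne e⟩⟩

theorem eq_one (h : Amb J) {x : X} (hx : ∀ j ∈ J, j * x = x * j) : x = 1 := by
  have h1 : x ∈ centralizer (J : Set X) := mem_centralizer_iff.2 hx
  rwa [h.cent, mem_bot] at h1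

/-- inner automorphisms come from `J` -/
theorem mem_of_inner (h : Amb J) [J.Normal] {a : X} {g : J} (hg : (MulAut.conjNormal a : MulAut J) = MulAut.conj g) :
    a ∈ J := by
  have h1 : (g : X)⁻¹ * a = 1 := by
    apply h.eq_one
    intro x hx
    have h2 := congrArg (fun α : MulAut J => ((α ⟨x, hx⟩ : J) : X)) hg
    have h3 : a * x * a⁻¹ = g * x * (g : X)⁻¹ := by
      have e1 : ((MulAut.conjNormal a : MulAut J) ⟨x, hx⟩ : X) = a * x * a⁻¹ := MulAut.conjNormal_apply _ _
      have e2 : (((MulAut.conj g : MulAut J) ⟨x, hx⟩ : J) : X) = g * x * (g : X)⁻¹ := rfl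
      rw [← e1, ← e2]; exact h2
    calc x * ((g : X)⁻¹ * a) = (g : X)⁻¹ * (g * x * (g : X)⁻¹) * a := by group
      _ = (g : X)⁻¹ * (a * x * a⁻¹) * a := by rw [h3]
      _ = (g : X)⁻¹ * a * x := by group
  have h2 : a = g := by
    calc a = g * ((g : X)⁻¹ * a) := by group
      _ = g := by rw [h1, mul_one]
  rw [h2]; exact g.2

/-- four-groups are self-centralising -/
theorem cent_four (h : Amb J) {a b : J} (hf : Four a b) {x : X} (ha : x * a = a * x) (hb : x * b = b * x) :
    x = 1 ∨ x = a ∨ x = b ∨ x = a * b := by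
  have := h.nor
  obtain ⟨F, _, _, hF, ⟨R⟩⟩ := h.exists_rep
  have hsub : ∀ σ : F ≃+* F, σ = 1 := by
    intro σ
    ext t
    obtain ⟨n, rfl⟩ := exists_cast hF t
    rw [map_natCast, map_natCast]
  obtain ⟨Φ, y, δ, -, -, -, -, -, -, -, -, -, -, -, -, -, h1, -⟩ := R.exists_frame hf
  obtain ⟨u, hu, hu'⟩ := h1 (MulAut.conjNormal x)
    (Subtype.ext (by rw [MulAut.conjNormal_apply, ha, mul_inv_cancel_right]))
    (Subtype.ext (by rw [MulAut.conjNormal_apply, hb, mul_inv_cancel_right]))
  rw [hsub (R.fld (MulAut.conjNormal x)), map_one, mul_one] at hu'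
  have h2 : (u : X)⁻¹ * x = 1 := by
    apply h.eq_one
    intro j hj
    have h3 := congrArg (fun α : MulAut J => ((α ⟨j, hj⟩ : J) : X)) hu'
    simp only [MulAut.conjNormal_apply, MulAut.conj_apply, Subgroup.coe_mul, Subgroup.coe_inv] at h3
    have h4 : x * j * x⁻¹ = u * j * (u : X)⁻¹ := h3
    calc j * ((u : X)⁻¹ * x) = (u : X)⁻¹ * (u * j * (u : X)⁻¹) * x := by group
      _ = (u : X)⁻¹ * (x * j * x⁻¹) * x := by rw [h4]
      _ = (u : X)⁻¹ * x * j := by group
  have h3 : x = u := by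
    calc x = u * ((u : X)⁻¹ * x) := by group
      _ = u := by rw [h2, mul_one]
  rw [h3]
  rcases hu with e | e | e | e
  · left; rw [e]; rfl
  · right; left; rw [e]
  · right; right; left; rw [e]
  · right; right; right; rw [e]; rfl

end Amb

/-- `N_L(E)` is transitive on the ordered pairs of a four-group -/
theorem exists_pair {L : Type*} [Group L] (h : L32 L) {a b p q : L} (hf : Four a b)
    (hp : p = a ∨ p = b ∨ p = a * b) (hq : q = a ∨ q = b ∨ q = a * b) (hpq : p ≠ q) :
    ∃ j : L, j * p * j⁻¹ = a ∧ j * q * j⁻¹ = b := by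
  obtain ⟨y, hy3, hy1, hy2⟩ := h.fuse a b hf
  obtain ⟨d, hd1, hd2⟩ := h.swap a b hf
  have aa := hf.aa
  have bb := hf.bb
  have hab := hf.comm
  have hyab : y * (a * b) * y⁻¹ = a := by
    calc y * (a * b) * y⁻¹ = (y * a * y⁻¹) * (y * b * y⁻¹) := by group
      _ = b * (a * b) := by rw [hy1, hy2]
      _ = (a * b) * b := by rw [← mul_assoc, ← hab]
      _ = a := by rw [mul_assoc, bb, mul_one]
  have hdab : d * (a * b) * d⁻¹ = a * b := by
    calc d * (a * b) * d⁻¹ = (d * a * d⁻¹) * (d * b * d⁻¹) := by group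
      _ = a * b := by rw [hd1, hd2, hab]
  have hmul : ∀ (g k x u v : L), k * x * k⁻¹ = u → g * u * g⁻¹ = v → (g * k) * x * (g * k)⁻¹ = v := by
    intro g k x u v h1 h2
    calc (g * k) * x * (g * k)⁻¹ = g * (k * x * k⁻¹) * g⁻¹ := by group
      _ = v := by rw [h1, h2]
  rcases hp with rfl | rfl | rfl <;> rcases hq with rfl | rfl | rfl
  · exact absurd rfl hpq
  · exact ⟨1, by group, by group⟩
  · -- (a, ab): d: (b, ab); y y : (a, b)
    exact ⟨y * y * d, hmul _ _ _ _ _ hd1 (hmul _ _ _ _ _ hy2 hyab), hmul _ _ _ _ _ hdab (hmul _ _ _ _ _ hyab hy1)⟩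
  · exact ⟨d, hd2, hd1⟩
  · exact absurd rfl hpq
  · -- (b, ab): y: (ab, a); y: (a, b)
    exact ⟨y * y, hmul _ _ _ _ _ hy2 hyab, hmul _ _ _ _ _ hyab hy1⟩
  · -- (ab, a): y : (a, b)
    exact ⟨y, hyab, hy1⟩
  · -- (ab, b) : d : (ab, a), y : (a, b)
    exact ⟨y * d, hmul _ _ _ _ _ hdab hyab, hmul _ _ _ _ _ hd2 hy1⟩
  · exact absurd rfl hpq

namespace Amb

variable {J : Subgroup X}

/-- `N_X(E) ≤ J` -/
theorem mem_of_four (h : Amb J) {a b : J} (hf : Four a b) {x : X}
    (ha : x * a * x⁻¹ = a ∨ x * a * x⁻¹ = b ∨ x * a * x⁻¹ = a * b)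
    (hb : x * b * x⁻¹ = a ∨ x * b * x⁻¹ = b ∨ x * b * x⁻¹ = a * b) : x ∈ J := by
  have := h.nor
  set p : J := MulAut.conjNormal x a with hp
  set q : J := MulAut.conjNormal x b with hq
  have hpe : (p : X) = x * a * x⁻¹ := MulAut.conjNormal_apply _ _
  have hqe : (q : X) = x * b * x⁻¹ := MulAut.conjNormal_apply _ _
  have hp' : p = a ∨ p = b ∨ p = a * b := by
    rw [← hpe] at ha
    rcases ha with e | e | e
    · exact Or.inl (Subtype.ext e)
    · exact Or.inr (Or.inl (Subtype.ext e))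
    · exact Or.inr (Or.inr (Subtype.ext e))
  have hq' : q = a ∨ q = b ∨ q = a * b := by
    rw [← hqe] at hb
    rcases hb with e | e | e
    · exact Or.inl (Subtype.ext e)
    · exact Or.inr (Or.inl (Subtype.ext e))
    · exact Or.inr (Or.inr (Subtype.ext e))
  have hpq : p ≠ q := fun e => hf.ne ((MulAut.conjNormal x : MulAut J).injective e)
  obtain ⟨j, h1, h2⟩ := exists_pair h.l32 hf hp' hq' hpq
  have e1 : (j : X) * x * a = a * ((j : X) * x) := by
    have h3 := congrArg Subtype.val h1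
    simp only [Subgroup.coe_mul, Subgroup.coe_inv, hpe] at h3
    calc (j : X) * x * a = (j * (x * a * x⁻¹) * (j : X)⁻¹) * (j * x) := by group
      _ = a * ((j : X) * x) := by rw [h3]
  have e2 : (j : X) * x * b = b * ((j : X) * x) := by
    have h3 := congrArg Subtype.val h2
    simp only [Subgroup.coe_mul, Subgroup.coe_inv, hqe] at h3
    calc (j : X) * x * b = (j * (x * b * x⁻¹) * (j : X)⁻¹) * (j * x) := by group
      _ = b * ((j : X) * x) := by rw [h3]
  have h4 : (j : X) * x ∈ J := by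
    rcases h.cent_four hf e1 e2 with e | e | e | e
    · rw [e]; exact one_mem J
    · rw [e]; exact a.2
    · rw [e]; exact b.2
    · rw [e]; exact mul_mem a.2 b.2
  have h5 : x = (j : X)⁻¹ * (j * x) := by group
  rw [h5]
  exact mul_mem (inv_mem j.2) h4

/-- conjugation as an automorphism of `J` is injective -/
theorem conj_inj (h : Amb J) {x y : X} (hxy : ∀ j ∈ J, x * j * x⁻¹ = y * j * y⁻¹) : x = y := by
  have h1 : y⁻¹ * x = 1 := by
    apply h.eq_one
    intro j hj
    have h2 := hxy j hj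
    calc j * (y⁻¹ * x) = y⁻¹ * (y * j * y⁻¹) * x := by group
      _ = y⁻¹ * (x * j * x⁻¹) * x := by rw [h2]
      _ = y⁻¹ * x * j := by group
  rw [inv_mul_eq_one] at h1
  exact h1.symm

/-- `|X : J| ≤ 2` -/
theorem mul_mem' (h : Amb J) {x y : X} (hx : x ∉ J) (hy : y ∉ J) : x * y ∈ J := by
  have := h.nor
  obtain ⟨F, _, _, hF, ⟨R⟩⟩ := h.exists_rep
  have hpr : (Nat.card F).Prime := by rw [hF]; norm_num
  have key : ∀ x : X, (MulAut.conjNormal x : MulAut J) ∈ (MulAut.conj : J →* MulAut J).range → x ∈ J := by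
    rintro x ⟨g, hg⟩
    exact h.mem_of_inner hg.symm
  obtain ⟨g, hg⟩ := mul_mem_inn R (mem_PGL_of_prime R hpr (MulAut.conjNormal x))
    (mem_PGL_of_prime R hpr (MulAut.conjNormal y)) (fun h1 => hx (key x h1)) (fun h1 => hy (key y h1))
  refine key _ ⟨g, ?_⟩
  rw [hg, map_mul]

/-- an involution outside `J` inverts an element of order 7 -/
theorem inv_of (h : Amb J) {i : X} (hi : i ∉ J) (hii : i * i = 1) : ∃ u ∈ J, orderOf u = 7 ∧ i * u * i⁻¹ = u⁻¹ := by
  have := h.nor
  obtain ⟨F, _, _, hF, ⟨R⟩⟩ := h.exists_rep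
  have hpr : (Nat.card F).Prime := by rw [hF]; norm_num
  obtain ⟨γ, hγ⟩ := R.mem_PGL.1 (mem_PGL_of_prime R hpr (MulAut.conjNormal i))
  have hγ0 : γ.1.trace = 0 := by
    apply trace_of_sq R
    · rw [← hγ]
      intro h1
      apply hi
      apply h.mem_of_inner (g := 1)
      rw [h1, map_one]
    · rw [← hγ, ← map_mul, hii, map_one]
  have hnd : ¬ IsSquare γ.1.det := by
    intro hs
    apply hi
    obtain ⟨y, hy⟩ := R.gl_mem_inn.2 hs
    rw [← hγ] at hy
    exact h.mem_of_inner hy.symm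
  have hm1 : ¬ IsSquare (-1 : F) := by
    have := Fintype.ofFinite F
    rw [PGLTorus.neg_one_sq, hF]; norm_num
  obtain ⟨s, hs⟩ : IsSquare (-γ.1.det) := by
    have h1 := Cfsg.Agent.GH.L2Aut.isSquare_mul_of_not hnd hm1
    have : γ.1.det * -1 = -γ.1.det := by ring
    rwa [this] at h1
  obtain ⟨u, hu1, hup, hui⟩ := split_inv R hγ0 hs.symm
  have hch := charP hpr
  have hfact : Fact (Nat.card F).Prime := ⟨hpr⟩
  have h1 := hup (Nat.card F) (CharP.cast_eq_zero F (Nat.card F))
  have h2 : orderOf ((R.π u : J) : X) = Nat.card F := by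
    rw [Subgroup.orderOf_coe]
    exact orderOf_eq_prime (by rw [← map_pow, h1, map_one]) hu1
  rw [← hγ] at hui
  exact ⟨_, (R.π u).2, by rw [h2, hF], conj_of_psi hui⟩

/-- if `J ≠ X`: an involution outside `J` -/
theorem exists_inv (h : Amb J) (hJ : J ≠ ⊤) : ∃ i : X, i ∉ J ∧ i * i = 1 := by
  have := h.nor
  obtain ⟨F, _, _, hF, ⟨R⟩⟩ := h.exists_rep
  have hpr : (Nat.card F).Prime := by rw [hF]; norm_num
  obtain ⟨x, hx⟩ : ∃ x : X, x ∉ J := by
    by_contra hcon
    push Not at hcon
    exact hJ (eq_top_iff.2 fun x _ => hcon x)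
  have hm1 : ¬ IsSquare (-1 : F) := by
    have := Fintype.ofFinite F
    rw [PGLTorus.neg_one_sq, hF]; norm_num
  -- the matrix `diag(1, -1)`
  let g : GL (Fin 2) F := Matrix.GeneralLinearGroup.mkOfDetNeZero !![1, 0; 0, -1] (by
    rw [Matrix.det_fin_two_of]
    simp)
  have hg1 : g.1 = !![1, 0; 0, -1] := rfl
  have hgd : g.1.det = -1 := by rw [hg1, Matrix.det_fin_two_of]; ring
  have hgt : g.1.trace = 0 := by rw [hg1, Matrix.trace_fin_two]; simp
  have hgn : R.gl g ∉ (MulAut.conj : J →* MulAut J).range := by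
    rw [R.gl_mem_inn, hgd]; exact hm1
  have hxn : (MulAut.conjNormal x : MulAut J) ∉ (MulAut.conj : J →* MulAut J).range := by
    rintro ⟨k, hk⟩
    exact hx (h.mem_of_inner hk.symm)
  obtain ⟨k, hk⟩ := mul_mem_inn R (R.gl_mem_PGL g) (mem_PGL_of_prime R hpr (MulAut.conjNormal x)) hgn hxn
  -- `gl g = conj (k * x⁻¹)`
  have e1 : ∀ j : J, R.gl g j = MulAut.conjNormal ((k : X) * x⁻¹) j := by
    intro j
    have h1 := congrArg (fun α : MulAut J => α ((MulAut.conjNormal x : MulAut J).symm j)) hk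
    simp only [MulAut.mul_apply, MulEquiv.apply_symm_apply] at h1
    rw [← h1]
    apply Subtype.ext
    rw [MulAut.conj_apply, MulAut.conjNormal_apply, Subgroup.coe_mul, Subgroup.coe_mul, Subgroup.coe_inv,
      MulAut.conjNormal_symm_apply]
    group
  have h2 := sq_of_trace R hgt
  refine ⟨(k : X) * x⁻¹, ?_, ?_⟩
  · intro h3
    apply hx
    have h4 := mul_mem (inv_mem h3) k.2
    have e : ((k : X) * x⁻¹)⁻¹ * k = x := by group
    rwa [e] at h4
  · apply h.conj_inj
    intro j hj
    have h3 := congrArg (fun α : MulAut J => ((α ⟨j, hj⟩ : J) : X)) h2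
    simp only [MulAut.mul_apply, MulAut.one_apply] at h3
    rw [e1, e1, MulAut.conjNormal_apply, MulAut.conjNormal_apply] at h3
    calc (k : X) * x⁻¹ * (k * x⁻¹) * j * ((k : X) * x⁻¹ * (k * x⁻¹))⁻¹ =
        (k : X) * x⁻¹ * (k * x⁻¹ * j * ((k : X) * x⁻¹)⁻¹) * ((k : X) * x⁻¹)⁻¹ := by group
      _ = j := h3
      _ = 1 * j * 1⁻¹ := by group

/-- elementary abelian 2-subgroups have order at most 4 -/
theorem card_le (h : Amb J) {A : Subgroup X} (hA : ∀ a ∈ A, a * a = 1) : Nat.card A ≤ 4 := by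
  have := h.nor
  set B := A.subgroupOf J with hB
  have hB2 : ∀ b ∈ B, b * b = 1 := fun b hb => Subtype.ext (hA _ hb)
  have hB4 := card_le_four h.l32 hB2
  have hrel : J.relIndex A ≤ 2 := by
    by_contra hcon
    push Not at hcon
    -- three cosets
    have h1 : (J.subgroupOf A).index ≤ 2 := by
      by_cases htop : J.subgroupOf A = ⊤
      · rw [htop, index_top]; norm_num
      · obtain ⟨x, hx⟩ : ∃ x : A, x ∉ J.subgroupOf A := by
          by_contra hc
          push Not at hc
          exact htop (eq_top_iff.2 fun x _ => hc x)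
        have : (J.subgroupOf A).index = 2 := by
          rw [index_eq_two_iff]
          refine ⟨x, fun b => ?_⟩
          by_cases hb : b ∈ J.subgroupOf A
          · right
            refine ⟨hb, fun h2 => hx ?_⟩
            exact (mul_mem_cancel_left hb).1 h2
          · left
            refine ⟨?_, hb⟩
            exact h.mul_mem' hb hx
        rw [this]
    exact absurd h1 (not_le.2 hcon)
  have hcardA : Nat.card (A ⊓ J : Subgroup X) * J.relIndex A = Nat.card A := by
    have h1 := card_mul_relIndex (inf_le_left : A ⊓ J ≤ A)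
    rwa [inf_relIndex_left] at h1
  have hcardB : Nat.card B = Nat.card (A ⊓ J : Subgroup X) := by
    rw [← subgroupOf_map_subtype, Subgroup.card_map_of_injective J.subtype_injective]
  rw [← hcardB] at hcardA
  by_cases h4 : Nat.card B = 4
  · -- `B` is a four-group: `A ≤ B`
    have hBf : IsFour B := ⟨h4, hB2⟩
    obtain ⟨a, ha, b, hb, hf, hmem⟩ := hBf.exists_four
    have hAJ : A ≤ J := by
      intro x hx
      have hc : ∀ c ∈ B, x * c = c * x := fun c hc => comm_of_sq hA hx hc
      rcases h.cent_four hf (hc a ha) (hc b hb) with e | e | e | e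
      · rw [e]; exact one_mem J
      · rw [e]; exact a.2
      · rw [e]; exact b.2
      · rw [e]; exact mul_mem a.2 b.2
    have h5 : J.relIndex A = 1 := by rw [relIndex_eq_one]; exact hAJ
    rw [h5, mul_one, h4] at hcardA
    exact hcardA.ge
  · have h2 : Nat.card B ≤ 2 := by
      have : Fact (Nat.Prime 2) := ⟨Nat.prime_two⟩
      have hp : IsPGroup 2 B := fun b => ⟨1, by
        rw [pow_one, pow_two]; exact Subtype.ext (hB2 b b.2)⟩
      obtain ⟨n, hn⟩ := IsPGroup.iff_card.1 hp
      rw [hn] at hB4 h4 ⊢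
      have : n ≤ 2 := by
        by_contra hcon
        have h3 : 3 ≤ n := by omega
        have := Nat.pow_le_pow_right (n := 2) (by norm_num) h3
        omega
      interval_cases n
      · norm_num
      · norm_num
      · exact absurd rfl h4
    rw [← hcardA]
    exact Nat.mul_le_mul h2 hrel

end Amb

end Cfsg.Agent.OddCyclic.EN.S7Grp
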