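import Cfsg.Agent.OddCyclic.EN.Shape

/-!
# (B-b): the end of the nonsolvable case

`Ends`: the four end theorems (`J ≅ SL₂(4^k)` or `PSL₂(7)`, `n = 1` or `n ≥ 2`) and 3.4; `nonsolv`: the nonsolvable case of
(B-b) is impossible.
-/

set_option autoImplicit false
set_option linter.unusedSectionVars false
set_option linter.style.haveILetI false

namespace Cfsg.Agent.OddCyclic.EN.Final

open Subgroup Cfsg Cfsg.Agent.ZN Cfsg.Agent.MinSimple.Geo Cfsg.Agent.OddCyclic.GeoC Cfsg.Agent.OddCyclic.BTwoA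
  Cfsg.Agent.OddCyclic.EN.Line Cfsg.Agent.OddCyclic.EN.Base Cfsg.Agent.OddCyclic.EN.BbDefs
  Cfsg.Agent.OddCyclic.EN.Shape

universe u

/-- the end theorems -/
structure Ends : Prop where
  fit : FitFive.{u}
  aOne : ∀ {G : Type u} [Group G] [Finite G] {T V L : Subgroup G} {z : G} {M X : Type u} [AddCommGroup M] [Group X]
    [DistribMulAction X M] {R : RepM.Rep V z M X} {J : Subgroup X}, Cfg T V z L R J → TypeA T V z R J →
    ∀ {x : G}, x ∈ V → x ≠ 1 → x ≠ z → (∃ a ∈ ws V z, ∃ b ∈ ws V x, a * b ≠ b * a) → False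
  bOne : ∀ {G : Type u} [Group G] [Finite G] {T V L : Subgroup G} {z : G} {M X : Type u} [AddCommGroup M] [Group X]
    [DistribMulAction X M] {R : RepM.Rep V z M X} {J : Subgroup X}, Cfg T V z L R J → TypeB J →
    ∀ {x : G}, x ∈ V → x ≠ 1 → x ≠ z → (∃ a ∈ ws V z, ∃ b ∈ ws V x, a * b ≠ b * a) → False
  aTwo : ∀ {G : Type u} [Group G] [Finite G] {T V L : Subgroup G} {z : G} {M X : Type u} [AddCommGroup M] [Group X]
    [DistribMulAction X M] {R : RepM.Rep V z M X} {J : Subgroup X}, Cfg T V z L R J → TypeA T V z R J →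
    ∀ {n : ℕ}, 2 ≤ n → AbN T V z n → False
  bTwo : ∀ {G : Type u} [Group G] [Finite G] {T V L : Subgroup G} {z : G} {M X : Type u} [AddCommGroup M] [Group X]
    [DistribMulAction X M] {R : RepM.Rep V z M X} {J : Subgroup X}, Cfg T V z L R J → TypeB J →
    ∀ {n : ℕ}, 2 ≤ n → AbN T V z n → False

variable {G : Type u} [Group G] [Finite G] {T V : Subgroup G} {z : G}

/-- `n = 1`: a critical pair in `V` -/
theorem exists_of_one (h : AbN T V z 1) : ∃ x ∈ V, x ≠ 1 ∧ x ≠ z ∧ ∃ a ∈ ws V z, ∃ b ∈ ws V x, a * b ≠ b * a := by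
  obtain ⟨x, y, hx, hw, a, ha, b, hb, hab⟩ := h.crit
  rcases walk_one.mp hw with rfl | hc
  · exact absurd (ws_comm h.toAb hx ha hb) hab
  obtain ⟨g, rfl, hy, -⟩ := exists_odd_col h.toAb hc
  rw [mem_cj] at hy
  refine ⟨g⁻¹ * y * g, hy, ?_, ?_, g⁻¹ * a * g, ?_, g⁻¹ * b * g, ?_, ?_⟩
  · intro e
    apply hc.2.1
    have : y = g * (g⁻¹ * y * g) * g⁻¹ := by group
    rw [this, e]; group
  · intro e
    apply hc.2.2.1
    have : y = g * (g⁻¹ * y * g) * g⁻¹ := by group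
    rw [this, e]
  · rw [← cj_ws, mem_cj] at ha
    exact ha
  · have e : ws V y = cj g (ws V (g⁻¹ * y * g)) := by
      rw [cj_ws]; congr 1; group
    rw [e, mem_cj] at hb
    exact hb
  · intro e
    apply hab
    calc a * b = g * ((g⁻¹ * a * g) * (g⁻¹ * b * g)) * g⁻¹ := by group
      _ = g * ((g⁻¹ * b * g) * (g⁻¹ * a * g)) * g⁻¹ := by rw [e]
      _ = b * a := by group

/-- **(B-b), nonsolvable case** -/
theorem nonsolv (E : Ends.{u}) (h : Bb T V z)
    (hn : ¬ EO.Line.SolvMod (centralizer ({z} : Set G)) (kq V z)) : False := by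
  obtain ⟨M, X, i1, i2, i3, ⟨R⟩⟩ := Shape.exists_rep h
  have hX : ¬ Group.IsSolvable X := fun hs => hn (Shape.solvMod R hs)
  obtain ⟨L, J, hC, hT⟩ := Shape.main E.fit h R hX
  have hab : Line.Ab T V z := BbMain.toAb hC.star
  obtain ⟨n, hN⟩ := exists_n hab
  have hpos := hN.pos
  rcases Nat.lt_or_ge n 2 with h2 | h2
  · obtain rfl : n = 1 := by omega
    obtain ⟨x, hx, hx1, hxz, hnc⟩ := exists_of_one hN
    rcases hT with hT | hT
    · exact E.aOne hC hT hx hx1 hxz hnc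
    · exact E.bOne hC hT hx hx1 hxz hnc
  · rcases hT with hT | hT
    · exact E.aTwo hC hT h2 hN
    · exact E.bTwo hC hT h2 hN

end Cfsg.Agent.OddCyclic.EN.Final
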