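import Mathlib
import Cfsg.Agent.MinSimple.SecRep
import Cfsg.Agent.MinSimple.Geo
import Cfsg.Agent.OddCyclic.EO.Fit

/-!
# (E1)(b): counting for the module of a section (helper217's section 2)

* `kk C W Z`: the kernel of `C` on `W/Z`;
* `card_img`, `push`, `card_push` for an arbitrary `Sec C W Z M X`;
* `card_pair`: `[D, B] ≤ ⟨e⟩` of order 2, `[D, B₀] = 1` ⇒ `|D : C_D(B)| ≤ |B : B₀|`.
-/

set_option autoImplicit false
set_option linter.unusedSectionVars false

namespace Cfsg.Agent.OddCyclic.EN.PiSec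

open Subgroup Cfsg Cfsg.Agent.ZN Cfsg.Agent.MinSimple.Geo Cfsg.Agent.MinSimple.SecRep
open Cfsg.Agent.OddCyclic.EO.Fit (fx mem_fx)
open Cfsg.Agent.ZN.Block (conj_mem_of_normalizer conj_mem_of_normalizer' le_normalizer_of_forall
  mem_normalizer_of)

universe u

variable {G : Type u} [Group G]

/-- the kernel of `C` on `W/Z` -/
def kk (C W Z : Subgroup G) : Subgroup G where
  carrier := {c | c ∈ C ∧ c ∈ normalizer (W : Set G) ∧ c ∈ normalizer (Z : Set G) ∧
    ∀ w ∈ W, c * w * c⁻¹ * w⁻¹ ∈ Z}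
  mul_mem' := by
    rintro a b ⟨ha, ha1, ha2, ha3⟩ ⟨hb, hb1, hb2, hb3⟩
    refine ⟨mul_mem ha hb, mul_mem ha1 hb1, mul_mem ha2 hb2, fun w hw => ?_⟩
    have e : a * b * w * (a * b)⁻¹ * w⁻¹ = (a * (b * w * b⁻¹ * w⁻¹) * a⁻¹) * (a * w * a⁻¹ * w⁻¹) := by group
    rw [e]
    exact mul_mem ((mem_normalizer_iff.mp ha2 _).mp (hb3 w hw)) (ha3 w hw)
  one_mem' := ⟨one_mem _, one_mem _, one_mem _, fun w _ => by simp⟩
  inv_mem' := by
    rintro a ⟨ha, ha1, ha2, ha3⟩
    refine ⟨inv_mem ha, inv_mem ha1, inv_mem ha2, fun w hw => ?_⟩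
    have hw' : a⁻¹ * w * a ∈ W := by
      have := (mem_normalizer_iff.mp (inv_mem ha1) w).mp hw
      rwa [inv_inv] at this
    have h1 := inv_mem (ha3 _ hw')
    have e : a⁻¹ * w * a⁻¹⁻¹ * w⁻¹ = (a * (a⁻¹ * w * a) * a⁻¹ * (a⁻¹ * w * a)⁻¹)⁻¹ := by group
    rw [e]; exact h1

theorem mem_kk {C W Z : Subgroup G} {c : G} : c ∈ kk C W Z ↔ c ∈ C ∧ c ∈ normalizer (W : Set G) ∧
    c ∈ normalizer (Z : Set G) ∧ ∀ w ∈ W, c * w * c⁻¹ * w⁻¹ ∈ Z := Iff.rfl

theorem kk_le (C W Z : Subgroup G) : kk C W Z ≤ C := fun _ h => h.1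

theorem conj_mem_normalizer_cj {g c : G} {W : Subgroup G} (h : c ∈ normalizer (W : Set G)) :
    g * c * g⁻¹ ∈ normalizer ((cj g W : Subgroup G) : Set G) := by
  rw [← cj_normalizer]; exact conj_mem_cj h

theorem cj_kk (C W Z : Subgroup G) (g : G) : cj g (kk C W Z) = kk (cj g C) (cj g W) (cj g Z) := by
  have key : ∀ (g : G) (C W Z : Subgroup G), cj g (kk C W Z) ≤ kk (cj g C) (cj g W) (cj g Z) := by
    intro g C W Z c hc
    obtain ⟨c, ⟨h1, h2, h3, h4⟩, rfl⟩ := hc
    refine ⟨conj_mem_cj h1, conj_mem_normalizer_cj h2, conj_mem_normalizer_cj h3, fun w hw => ?_⟩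
    obtain ⟨w, hw, rfl⟩ := hw
    have := conj_mem_cj (g := g) (h4 w hw)
    have e : (MulAut.conj g).toMonoidHom c * (MulAut.conj g).toMonoidHom w * ((MulAut.conj g).toMonoidHom c)⁻¹ *
        ((MulAut.conj g).toMonoidHom w)⁻¹ = g * (c * w * c⁻¹ * w⁻¹) * g⁻¹ := by
      change g * c * g⁻¹ * (g * w * g⁻¹) * (g * c * g⁻¹)⁻¹ * (g * w * g⁻¹)⁻¹ = _
      group
    rw [e]; exact this
  refine le_antisymm (key g C W Z) ?_
  have h := key g⁻¹ (cj g C) (cj g W) (cj g Z)
  rw [cj_inv_cj, cj_inv_cj, cj_inv_cj, cj_le_iff, inv_inv] at h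
  exact h

section Sec

variable {C W Z : Subgroup G} {M X : Type u} [AddCommGroup M] [Group X] [DistribMulAction X M]

theorem rho_eq_one (S : Sec C W Z M X) (hZ : C ≤ normalizer (Z : Set G)) {c : G} (hc : c ∈ C) :
    S.rho c = 1 ↔ c ∈ kk C W Z := by
  rw [S.rho_eq_one_iff hc]
  exact ⟨fun h => ⟨hc, S.W_norm hc, hZ hc, h⟩, fun h => h.2.2.2⟩

theorem card_of_surj {A B : Type*} [Group A] [Group B] (f : A →* B) (hf : Function.Surjective f) :
    Nat.card A = Nat.card B * Nat.card f.ker := by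
  rw [Subgroup.card_eq_card_quotient_mul_card_subgroup f.ker,
    Nat.card_congr (QuotientGroup.quotientKerEquivOfSurjective f hf).toEquiv]

/-- `|H| = |H̄| |H ∩ K|` -/
theorem card_img (S : Sec C W Z M X) (hZ : C ≤ normalizer (Z : Set G)) {H : Subgroup G} (hH : H ≤ C) :
    Nat.card H = Nat.card (S.img H) * Nat.card ↥(H ⊓ kk C W Z) := by
  let f : H →* S.img H :=
    { toFun := fun a => ⟨S.rho a, S.rho_mem_img hH a.2⟩
      map_one' := Subtype.ext S.rho_one
      map_mul' := fun a b => Subtype.ext (S.rho_mul a (hH a.2) b (hH b.2)) }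
  have hf : Function.Surjective f := by
    rintro ⟨y, hy⟩
    obtain ⟨a, ha, rfl⟩ := (S.mem_img hH).mp hy
    exact ⟨⟨a, ha⟩, rfl⟩
  rw [card_of_surj f hf]
  congr 1
  refine Nat.card_congr
    { toFun := fun a => ⟨((a : H) : G), (a : H).2, (rho_eq_one S hZ (hH (a : H).2)).mp (congrArg Subtype.val a.2)⟩
      invFun := fun a => ⟨⟨a, a.2.1⟩, Subtype.ext ((rho_eq_one S hZ (hH a.2.1)).mpr a.2.2)⟩
      left_inv := fun _ => rfl
      right_inv := fun _ => rfl }

/-- the image of `U` in `M` -/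
def push (S : Sec C W Z M X) (U : Subgroup G) (hU : U ≤ W) : AddSubgroup M where
  carrier := {m | ∃ u ∈ U, S.pi u = m}
  add_mem' := by
    rintro _ _ ⟨a, ha, rfl⟩ ⟨b, hb, rfl⟩
    exact ⟨a * b, mul_mem ha hb, S.pi_mul a (hU ha) b (hU hb)⟩
  zero_mem' := ⟨1, one_mem _, S.pi_one⟩
  neg_mem' := by
    rintro _ ⟨a, ha, rfl⟩
    exact ⟨a⁻¹, inv_mem ha, S.pi_inv (hU ha)⟩

theorem mem_push {S : Sec C W Z M X} {U : Subgroup G} {hU : U ≤ W} {m : M} :
    m ∈ push S U hU ↔ ∃ u ∈ U, S.pi u = m := Iff.rfl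

/-- the preimage of `N` in `W` -/
def pull (S : Sec C W Z M X) (N : AddSubgroup M) : Subgroup G where
  carrier := {w | w ∈ W ∧ S.pi w ∈ N}
  mul_mem' := by
    rintro a b ⟨ha, ha1⟩ ⟨hb, hb1⟩
    refine ⟨mul_mem ha hb, ?_⟩
    rw [S.pi_mul a ha b hb]; exact add_mem ha1 hb1
  one_mem' := ⟨one_mem _, by rw [S.pi_one]; exact zero_mem _⟩
  inv_mem' := by
    rintro a ⟨ha, ha1⟩
    refine ⟨inv_mem ha, ?_⟩
    rw [S.pi_inv ha]; exact neg_mem ha1

theorem mem_pull {S : Sec C W Z M X} {N : AddSubgroup M} {w : G} : w ∈ pull S N ↔ w ∈ W ∧ S.pi w ∈ N := Iff.rfl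

theorem card_push (S : Sec C W Z M X) {U : Subgroup G} (hU : U ≤ W) (hZU : Z ≤ U) :
    Nat.card U = Nat.card Z * Nat.card (push S U hU) := by
  let f : U →* Multiplicative (push S U hU) :=
    { toFun := fun a => Multiplicative.ofAdd ⟨S.pi a, a, a.2, rfl⟩
      map_one' := by
        have : (⟨S.pi 1, 1, U.one_mem, rfl⟩ : push S U hU) = 0 := Subtype.ext S.pi_one
        change Multiplicative.ofAdd (⟨S.pi 1, 1, U.one_mem, rfl⟩ : push S U hU) = 1
        rw [this]; rfl
      map_mul' := fun a b => by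
        rw [← ofAdd_add]
        congr 1
        exact Subtype.ext (S.pi_mul a (hU a.2) b (hU b.2)) }
  have hf : Function.Surjective f := by
    intro y
    obtain ⟨a, ha, hay⟩ := (Multiplicative.toAdd y).2
    refine ⟨⟨a, ha⟩, ?_⟩
    apply Multiplicative.toAdd.injective
    exact Subtype.ext hay
  rw [card_of_surj f hf, mul_comm]
  congr 1
  refine Nat.card_congr
    { toFun := fun a => ⟨((a : U) : G), ?_⟩
      invFun := fun a => ⟨⟨a, hZU a.2⟩, ?_⟩
      left_inv := fun _ => rfl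
      right_inv := fun _ => rfl }
  · have h1 : f (a : U) = 1 := a.2
    have h2 : S.pi ((a : U) : G) = 0 := congrArg (fun y : Multiplicative (push S U hU) =>
      ((Multiplicative.toAdd y : push S U hU) : M)) h1
    exact (S.pi_eq_zero _ (hU (a : U).2)).mp h2
  · rw [MonoidHom.mem_ker]
    apply Multiplicative.toAdd.injective
    exact Subtype.ext ((S.pi_eq_zero _ (hU (hZU a.2))).mpr a.2)

theorem push_top (S : Sec C W Z M X) : push S W le_rfl = ⊤ := by
  rw [eq_top_iff]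
  rintro m -
  obtain ⟨w, hw, rfl⟩ := S.pi_surj m
  exact ⟨w, hw, rfl⟩

theorem card_M (S : Sec C W Z M X) (hZ : Z ≤ W) : Nat.card W = Nat.card Z * Nat.card M := by
  rw [card_push S le_rfl hZ, push_top]
  congr 1
  exact Nat.card_congr (Equiv.Set.univ M)

/-- `|M : C_M(A)| ≤ |W : C_W(H)|` for the image `A` of `H` -/
theorem card_le_fx [Finite G] (S : Sec C W Z M X) (hZ : Z ≤ W) {H : Subgroup G} (hH : H ≤ C)
    (hHZ : ∀ a ∈ H, ∀ x ∈ Z, a * x = x * a) {m : ℕ}
    (hm : Nat.card W ≤ m * Nat.card ↥(W ⊓ centralizer (H : Set G))) :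
    Nat.card M ≤ m * Nat.card (fx (S.img H) (⊤ : AddSubgroup M)) := by
  haveI : Finite M := S.finite_left
  set U := W ⊓ centralizer (H : Set G) with hU
  have hUW : U ≤ W := inf_le_left
  have hZU : Z ≤ U := le_inf hZ fun x hx => mem_centralizer_iff.mpr fun a ha => hHZ a ha x hx
  have h1 := card_push S hUW hZU
  have h2 := card_M S hZ
  have h3 : Nat.card (push S U hUW) ≤ Nat.card (fx (S.img H) (⊤ : AddSubgroup M)) := by
    refine AddSubgroup.card_le_of_le ?_
    rintro _ ⟨u, hu, rfl⟩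
    refine ⟨trivial, fun a ha => ?_⟩
    obtain ⟨b, hb, rfl⟩ := (S.mem_img hH).mp ha
    rw [S.smul_pi b (hH hb) u hu.1]
    congr 1
    rw [mem_centralizer_iff.mp hu.2 b hb, mul_inv_cancel_right]
  have hpos : 0 < Nat.card Z := Nat.card_pos
  rw [h1, h2] at hm
  have h4 : Nat.card Z * Nat.card M ≤ Nat.card Z * (m * Nat.card (push S U hUW)) := by
    calc Nat.card Z * Nat.card M ≤ m * (Nat.card Z * Nat.card (push S U hUW)) := hm
      _ = _ := by ring
  exact (Nat.le_of_mul_le_mul_left h4 hpos).trans (Nat.mul_le_mul_left _ h3)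

end Sec

/-! ### the pairing bound -/

theorem two_mul_card_le' [Finite G] {X Y : Subgroup G} (h : X ≤ Y) {y : G} (hy : y ∈ Y) (hyX : y ∉ X) :
    2 * Nat.card X ≤ Nat.card Y := by
  obtain ⟨k, hk⟩ := card_dvd_of_le h
  have h1 : 0 < Nat.card Y := Nat.card_pos
  have hk0 : k ≠ 0 := by rintro rfl; omega
  have hk1 : k ≠ 1 := by
    rintro rfl
    apply hyX
    have : X = Y := eq_of_le_of_card_ge h (by rw [hk, mul_one])
    rw [this]; exact hy
  have : 2 ≤ k := by omega
  calc 2 * Nat.card X = Nat.card X * 2 := mul_comm _ _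
    _ ≤ Nat.card X * k := Nat.mul_le_mul_left _ this
    _ = Nat.card Y := hk.symm

theorem card_le_two_mul [Finite G] {X Y : Subgroup G} (h : X ≤ Y)
    (hxy : ∀ a ∈ Y, ∀ b ∈ Y, a ∉ X → b ∉ X → a * b ∈ X) : Nat.card Y ≤ 2 * Nat.card X := by
  by_cases hXY : Y ≤ X
  · have : X = Y := le_antisymm h hXY
    rw [this]
    have : 0 < Nat.card Y := Nat.card_pos
    omega
  · obtain ⟨y, hy, hyX⟩ := Set.not_subset.mp hXY
    have hyX' : y ∉ X := hyX
    have h1 : (X.subgroupOf Y).index = 2 := by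
      rw [index_eq_two_iff]
      refine ⟨⟨y, hy⟩, fun b => ?_⟩
      rw [mem_subgroupOf, mem_subgroupOf]
      by_cases hb : (b : G) ∈ X
      · right
        refine ⟨hb, fun hc => hyX' ?_⟩
        have := mul_mem (inv_mem hb) (show (b : G) * y ∈ X from hc)
        rwa [inv_mul_cancel_left] at this
      · left
        exact ⟨hxy b b.2 y hy hb hyX', hb⟩
    have h3 := Subgroup.card_mul_index (X.subgroupOf Y)
    rw [Nat.card_congr (Subgroup.subgroupOfEquivOfLe h).toEquiv, h1] at h3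
    omega

/-- the pairing bound -/
theorem card_pair [Finite G] {B : Subgroup G} {e : G} (he : e * e = 1) :
    ∀ {D B₀ : Subgroup G}, B₀ ≤ B → (∀ d ∈ D, ∀ b ∈ B, d * b * d⁻¹ * b⁻¹ = 1 ∨ d * b * d⁻¹ * b⁻¹ = e) →
      (∀ d ∈ D, d * e = e * d) → (∀ d ∈ D, ∀ b ∈ B₀, d * b = b * d) →
      Nat.card D * Nat.card B₀ ≤ Nat.card ↥(D ⊓ centralizer (B : Set G)) * Nat.card B := by
  have key : ∀ n : ℕ, ∀ D B₀ : Subgroup G, Nat.card B - Nat.card B₀ ≤ n → B₀ ≤ B →
      (∀ d ∈ D, ∀ b ∈ B, d * b * d⁻¹ * b⁻¹ = 1 ∨ d * b * d⁻¹ * b⁻¹ = e) →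
      (∀ d ∈ D, d * e = e * d) → (∀ d ∈ D, ∀ b ∈ B₀, d * b = b * d) →
      Nat.card D * Nat.card B₀ ≤ Nat.card ↥(D ⊓ centralizer (B : Set G)) * Nat.card B := by
    intro n
    induction n with
    | zero =>
      intro D B₀ hn hB _ _ hc
      have h1 : B₀ = B := eq_of_le_of_card_ge hB (by omega)
      have h2 : D ⊓ centralizer (B : Set G) = D := inf_eq_left.mpr fun d hd =>
        mem_centralizer_iff.mpr fun b hb => (hc d hd b (h1 ▸ hb)).symm
      rw [h2, h1]
    | succ n ih =>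
      intro D B₀ hn hB hde hcom hc
      by_cases hBB : B ≤ B₀
      · have h1 : B₀ = B := le_antisymm hB hBB
        have h2 : D ⊓ centralizer (B : Set G) = D := inf_eq_left.mpr fun d hd =>
          mem_centralizer_iff.mpr fun b hb => (hc d hd b (h1 ▸ hb)).symm
        rw [h2, h1]
      · obtain ⟨b, hb, hb0⟩ := Set.not_subset.mp hBB
        have hb0' : b ∉ B₀ := hb0
        set D1 := D ⊓ centralizer ({b} : Set G) with hD1
        set B1 := B₀ ⊔ zpowers b with hB1
        have h1 : Nat.card D ≤ 2 * Nat.card D1 := by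
          refine card_le_two_mul inf_le_left fun x hx y hy hxn hyn => ⟨mul_mem hx hy, ?_⟩
          have hx' : x * b * x⁻¹ * b⁻¹ = e := by
            rcases hde x hx b hb with h | h
            · exact absurd ⟨hx, mem_centralizer_singleton_iff.mpr (mul_inv_eq_iff_eq_mul.mp (mul_inv_eq_one.mp h))⟩ hxn
            · exact h
          have hy' : y * b * y⁻¹ * b⁻¹ = e := by
            rcases hde y hy b hb with h | h
            · exact absurd ⟨hy, mem_centralizer_singleton_iff.mpr (mul_inv_eq_iff_eq_mul.mp (mul_inv_eq_one.mp h))⟩ hyn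
            · exact h
          change x * y ∈ centralizer ({b} : Set G)
          rw [mem_centralizer_singleton_iff]
          have e1 : x * y * b * (x * y)⁻¹ * b⁻¹ = 1 := by
            calc x * y * b * (x * y)⁻¹ * b⁻¹ = x * (y * b * y⁻¹ * b⁻¹) * x⁻¹ * (x * b * x⁻¹ * b⁻¹) := by group
              _ = (x * e) * x⁻¹ * e := by rw [hx', hy']
              _ = e * e := by rw [hcom x hx]; group
              _ = 1 := he
          exact mul_inv_eq_iff_eq_mul.mp (mul_inv_eq_one.mp e1)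
        have h2 : 2 * Nat.card B₀ ≤ Nat.card B1 :=
          two_mul_card_le' le_sup_left (mem_sup_right (mem_zpowers b)) hb0'
        have hB1B : B1 ≤ B := sup_le hB (zpowers_le.mpr hb)
        have h3 := ih D1 B1 (by
          have : 0 < Nat.card B₀ := Nat.card_pos
          omega) hB1B (fun d hd => hde d hd.1) (fun d hd => hcom d hd.1) (by
            intro d hd x hx
            have : B1 ≤ centralizer ({d} : Set G) := sup_le
              (fun y hy => mem_centralizer_singleton_iff.mpr (hc d hd.1 y hy).symm)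
              (zpowers_le.mpr (mem_centralizer_singleton_iff.mpr (mem_centralizer_singleton_iff.mp hd.2).symm))
            exact (mem_centralizer_singleton_iff.mp (this hx)).symm)
        have h4 : D1 ⊓ centralizer (B : Set G) = D ⊓ centralizer (B : Set G) := by
          refine le_antisymm (inf_le_inf_right _ inf_le_left) fun x hx => ⟨⟨hx.1, ?_⟩, hx.2⟩
          exact mem_centralizer_singleton_iff.mpr (mem_centralizer_iff.mp hx.2 b hb).symm
        rw [h4] at h3
        calc Nat.card D * Nat.card B₀ ≤ 2 * Nat.card D1 * Nat.card B₀ := Nat.mul_le_mul_right _ h1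
          _ = Nat.card D1 * (2 * Nat.card B₀) := by ring
          _ ≤ Nat.card D1 * Nat.card B1 := Nat.mul_le_mul_left _ h2
          _ ≤ _ := h3
  intro D B₀ h1 h2 h3 h4
  exact key _ D B₀ le_rfl h1 h2 h3 h4

end Cfsg.Agent.OddCyclic.EN.PiSec
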