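import Mathlib
import Cfsg.Agent.OddCyclic.EN.PiSec
import Cfsg.Agent.OddCyclic.EN.Line

/-!
# (E1)(b), nonsolvable case: the pi-frame (section 2 of helper217's blueprint S0342-Bb)

* `Fr T V P z`: `T ≤ P ≤ C(z)`, `C(z) ∩ N(V) ≤ P`, `ws V z` abelian, no 2-subgroup `≠ 1` is normalized by `P` and
  `N(V)`; `wp V P = ⟨V^P⟩`;
* `Ball V P n g`: the vertices `P` and `gP` have distance at most `n`;
* `Pair V P g`: `W = wp V P` and `W' = cj g W` do not commute, `W' ≤ C(V)`, `cj g⁻¹ W ≤ C(V)`;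
* `Fr.exists_pair`; `Pair.symm`, `Pair.le_P`, `Pair.comm_mem`, `Pair.ne`;
* `Pair.index`: `|W : C_W(W')| ≤ |A| |A'|`.
-/

set_option autoImplicit false
set_option linter.unusedSectionVars false
set_option linter.style.haveILetI false

namespace Cfsg.Agent.OddCyclic.EN.Pi

open Subgroup Cfsg Cfsg.Agent.ZN Cfsg.Agent.MinSimple.Geo Cfsg.Agent.OddCyclic.GeoC Cfsg.Agent.MinSimple.SecRep
  Cfsg.Agent.OddCyclic.EN.PiSec
open Cfsg.Agent.OddCyclic.EO.Fit (fx mem_fx)
open Cfsg.Agent.ZN.Block (conj_mem_of_normalizer conj_mem_of_normalizer' le_normalizer_of_forall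
  mem_normalizer_of)

universe u

variable {G : Type u} [Group G]

/-- the pi-frame -/
structure Fr (T V P : Subgroup G) (z : G) : Prop where
  geo : GeoC T V z
  ab : ∀ a ∈ ws V z, ∀ b ∈ ws V z, a * b = b * a
  T_le : T ≤ P
  P_le : P ≤ centralizer ({z} : Set G)
  inf_le : centralizer ({z} : Set G) ⊓ normalizer (V : Set G) ≤ P
  core : ∀ U : Subgroup G, IsPGroup 2 U → normalizer (V : Set G) ≤ normalizer (U : Set G) →
    P ≤ normalizer (U : Set G) → U = ⊥

/-- `⟨V^P⟩` -/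
def wp (V P : Subgroup G) : Subgroup G := sSup {L | ∃ c ∈ P, L = cj c V}

theorem cj_le_wp {V P : Subgroup G} {c : G} (hc : c ∈ P) : cj c V ≤ wp V P := le_sSup ⟨c, hc, rfl⟩

theorem wp_le {V P U : Subgroup G} (h : ∀ c ∈ P, cj c V ≤ U) : wp V P ≤ U :=
  sSup_le (by rintro _ ⟨c, hc, rfl⟩; exact h c hc)

theorem V_le_wp (V P : Subgroup G) : V ≤ wp V P := by
  have := cj_le_wp (V := V) (one_mem P)
  rwa [cj_one] at this

theorem le_normalizer_wp (V P : Subgroup G) : P ≤ normalizer ((wp V P : Subgroup G) : Set G) := by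
  have key : ∀ c ∈ P, cj c (wp V P) ≤ wp V P := by
    intro c hc
    rw [cj_le_iff]
    refine wp_le fun d hd => ?_
    rw [← cj_le_iff, cj_cj]
    exact cj_le_wp (mul_mem hc hd)
  intro c hc
  rw [mem_normalizer_iff_cj]
  refine le_antisymm (key c hc) ?_
  have := key c⁻¹ (inv_mem hc)
  rwa [cj_le_iff, inv_inv] at this

/-! ### distance -/

/-- the vertices `P` and `gP` have distance at most `n` -/
def Ball (V P : Subgroup G) : ℕ → G → Prop
  | 0, g => g ∈ P
  | n + 1, g => ∃ h x c, Ball V P n h ∧ x ∈ normalizer (V : Set G) ∧ c ∈ P ∧ g = h * x * c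

section Ball

variable {V P : Subgroup G} {n m : ℕ} {g h c x : G}

theorem Ball.mul_right (hg : Ball V P n g) (hc : c ∈ P) : Ball V P n (g * c) := by
  cases n with
  | zero => exact mul_mem hg hc
  | succ n =>
    obtain ⟨h, x, d, h1, h2, h3, rfl⟩ := hg
    exact ⟨h, x, d * c, h1, h2, mul_mem h3 hc, by group⟩

theorem Ball.mul_left (hg : Ball V P n g) (hc : c ∈ P) : Ball V P n (c * g) := by
  induction n generalizing g with
  | zero => exact mul_mem hc hg
  | succ n ih =>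
    obtain ⟨h, x, d, h1, h2, h3, rfl⟩ := hg
    exact ⟨c * h, x, d, ih h1, h2, h3, by group⟩

theorem Ball.succ (hg : Ball V P n g) : Ball V P (n + 1) g :=
  ⟨g, 1, 1, hg, one_mem _, one_mem _, by group⟩

theorem Ball.mul (hg : Ball V P m g) (hh : Ball V P n h) : Ball V P (m + n) (g * h) := by
  induction n generalizing h with
  | zero => exact hg.mul_right hh
  | succ n ih =>
    obtain ⟨k, x, d, h1, h2, h3, rfl⟩ := hh
    exact ⟨g * k, x, d, ih h1, h2, h3, by group⟩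

theorem ball_of_norm (hx : x ∈ normalizer (V : Set G)) : Ball V P 1 x :=
  ⟨1, x, 1, one_mem P, hx, one_mem _, by group⟩

theorem ball_of_mem (hx : x ∈ P) : Ball V P 0 x := hx

theorem Ball.inv (hg : Ball V P n g) : Ball V P n g⁻¹ := by
  induction n generalizing g with
  | zero => exact (inv_mem (show g ∈ P from hg) : g⁻¹ ∈ P)
  | succ n ih =>
    obtain ⟨k, x, d, h1, h2, h3, rfl⟩ := hg
    have h4 : Ball V P 1 (d⁻¹ * x⁻¹) := (ball_of_norm (inv_mem h2)).mul_left (inv_mem h3)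
    have h5 := h4.mul (ih h1)
    rw [Nat.add_comm 1 n] at h5
    have e : (k * x * d)⁻¹ = d⁻¹ * x⁻¹ * k⁻¹ := by group
    rw [e]; exact h5

theorem Ball.head (hg : Ball V P (n + 1) g) :
    ∃ c ∈ P, ∃ x ∈ normalizer (V : Set G), ∃ h, Ball V P n h ∧ g = c * x * h := by
  obtain ⟨k, x, d, h1, h2, h3, h4⟩ := hg.inv
  refine ⟨d⁻¹, inv_mem h3, x⁻¹, inv_mem h2, k⁻¹, h1.inv, ?_⟩
  calc g = (g⁻¹)⁻¹ := by group
    _ = d⁻¹ * x⁻¹ * k⁻¹ := by rw [h4]; group

end Ball

/-- the two vertex groups commute elementwise -/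
def Com (A B : Subgroup G) : Prop := ∀ a ∈ A, ∀ b ∈ B, a * b = b * a

theorem Com.symm {A B : Subgroup G} (h : Com A B) : Com B A := fun b hb a ha => (h a ha b hb).symm

theorem Com.cj {A B : Subgroup G} (h : Com A B) (g : G) : Com (cj g A) (cj g B) := by
  rintro _ ⟨a, ha, rfl⟩ _ ⟨b, hb, rfl⟩
  rw [← map_mul, ← map_mul, h a ha b hb]

theorem Com.of_cj {A B : Subgroup G} {g : G} (h : Com (MinSimple.Geo.cj g A) (MinSimple.Geo.cj g B)) : Com A B := by
  have := h.cj g⁻¹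
  rwa [cj_inv_cj, cj_inv_cj] at this

theorem Com.le_centralizer {A B : Subgroup G} (h : Com A B) : A ≤ centralizer (B : Set G) := fun a ha =>
  mem_centralizer_iff.mpr fun b hb => (h a ha b hb).symm

theorem Com.mono {A B A' B' : Subgroup G} (h : Com A B) (h1 : A' ≤ A) (h2 : B' ≤ B) : Com A' B' :=
  fun a ha b hb => h a (h1 ha) b (h2 hb)

/-- a critical pair: the vertex groups `wp V P` and `cj g (wp V P)` -/
structure Pair (V P : Subgroup G) (g : G) : Prop where
  nc : ¬ Com (wp V P) (cj g (wp V P))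
  le : cj g (wp V P) ≤ centralizer (V : Set G)
  le' : cj g⁻¹ (wp V P) ≤ centralizer (V : Set G)

theorem Pair.symm {V P : Subgroup G} {g : G} (h : Pair V P g) : Pair V P g⁻¹ where
  nc := fun h1 => h.nc (by
    have := (h1.cj g).symm
    rwa [cj_cj_inv] at this)
  le := h.le'
  le' := by rw [inv_inv]; exact h.le

namespace Fr

variable {T V P : Subgroup G} {z : G}

theorem wp_le_ws (h : Fr T V P z) : wp V P ≤ ws V z := wp_le fun _ hc => le_ws (h.geo.cj_mem_lines (h.P_le hc))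

theorem z_mem (h : Fr T V P z) : z ∈ wp V P := V_le_wp V P h.geo.z_mem

theorem wp_ab (h : Fr T V P z) : Com (wp V P) (wp V P) := fun a ha b hb =>
  h.ab a (h.wp_le_ws ha) b (h.wp_le_ws hb)

theorem card_zp (h : Fr T V P z) : Nat.card (zpowers z) = 2 := by
  rw [Nat.card_zpowers]
  exact orderOf_eq_prime (by rw [pow_two]; exact h.geo.zz) h.geo.z_ne

theorem zp_le (h : Fr T V P z) : zpowers z ≤ wp V P := zpowers_le.mpr h.z_mem

theorem mem_zp (h : Fr T V P z) {y : G} : y ∈ zpowers z ↔ y = 1 ∨ y = z := mem_zpowers_iff_of_mul_self h.geo.zz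

variable [Finite G]

theorem P_norm (h : Fr T V P z) : P ≤ normalizer ((zpowers z : Subgroup G) : Set G) := by
  refine le_normalizer_of_forall fun c hc y hy => ?_
  rw [BTwoB.zpowers_conj (h.P_le hc) hy]; exact hy

theorem ws_sq (h : Fr T V P z) {w : G} (hw : w ∈ ws V z) : w * w = 1 := by
  let A : Subgroup G :=
    { carrier := {w | w ∈ ws V z ∧ w * w = 1}
      mul_mem' := by
        rintro a b ⟨ha, ha1⟩ ⟨hb, hb1⟩
        refine ⟨mul_mem ha hb, ?_⟩
        calc a * b * (a * b) = a * (b * a) * b := by group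
          _ = (a * a) * (b * b) := by rw [h.ab b hb a ha]; group
          _ = 1 := by rw [ha1, hb1, one_mul]
      one_mem' := ⟨one_mem _, one_mul 1⟩
      inv_mem' := by
        rintro a ⟨ha, ha1⟩
        refine ⟨inv_mem ha, ?_⟩
        have : a⁻¹ * a⁻¹ = (a * a)⁻¹ := by group
        rw [this, ha1, inv_one] }
  refine (ws_le (U := A) (fun L hL x hx => ⟨le_ws hL hx, ?_⟩) hw).2
  obtain ⟨c, hc, rfl⟩ := h.geo.exists_of_mem_lines hL
  rw [mem_cj] at hx
  have := h.geo.sq _ hx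
  have e : x * x = c * (c⁻¹ * x * c * (c⁻¹ * x * c)) * c⁻¹ := by group
  rw [e, this]; group

theorem sq (h : Fr T V P z) {w : G} (hw : w ∈ wp V P) : w * w = 1 := h.ws_sq (h.wp_le_ws hw)

theorem inv (h : Fr T V P z) {w : G} (hw : w ∈ wp V P) : w⁻¹ = w := inv_eq_self (h.sq hw)

theorem wp_le_T (h : Fr T V P z) : wp V P ≤ T := h.wp_le_ws.trans h.geo.ws_le_T

theorem wp_le_P (h : Fr T V P z) : wp V P ≤ P := h.wp_le_T.trans h.T_le

theorem wp_le_centralizer_V (h : Fr T V P z) : wp V P ≤ centralizer (V : Set G) :=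
  fun w hw => mem_centralizer_iff.mpr fun v hv => (h.wp_ab w hw v (V_le_wp V P hv)).symm

theorem sq_cj (h : Fr T V P z) {g w : G} (hw : w ∈ cj g (wp V P)) : w * w = 1 := by
  obtain ⟨w, hw, rfl⟩ := hw
  rw [← map_mul, h.sq hw, map_one]

theorem centralizer_V_le (h : Fr T V P z) : centralizer (V : Set G) ≤ P := by
  refine le_trans (le_inf ?_ (centralizer_le_normalizer _)) h.inf_le
  refine centralizer_le ?_
  rintro _ rfl
  exact h.geo.z_mem

/-- some vertex group at a finite distance does not commute with `wp V P` -/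
theorem exists_nc (h : Fr T V P z) : ∃ n g, Ball V P n g ∧ ¬ Com (wp V P) (cj g (wp V P)) := by
  by_contra hcon
  push Not at hcon
  let U : Subgroup G := sSup {L | ∃ n g, Ball V P n g ∧ L = cj g (wp V P)}
  have hle : ∀ {n g}, Ball V P n g → cj g (wp V P) ≤ U := fun {n g} hg => le_sSup ⟨n, g, hg, rfl⟩
  have hUle : ∀ {K : Subgroup G}, (∀ n g, Ball V P n g → cj g (wp V P) ≤ K) → U ≤ K := fun {K} hK =>
    sSup_le (by rintro _ ⟨n, g, hg, rfl⟩; exact hK n g hg)
  have hcomm0 : ∀ {n g m k}, Ball V P n g → Ball V P m k → Com (cj g (wp V P)) (cj k (wp V P)) := by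
    intro n g m k hg hk
    have h1 := (hcon _ _ (hg.inv.mul hk)).cj g
    rwa [cj_cj, mul_inv_cancel_left] at h1
  have hcomm1 : ∀ {n g}, Ball V P n g → U ≤ centralizer ((cj g (wp V P) : Subgroup G) : Set G) := by
    intro n g hg
    exact hUle fun m k hk => (hcomm0 hk hg).le_centralizer
  have hcomm : U ≤ centralizer (U : Set G) := by
    rw [Subgroup.le_centralizer_iff]
    exact hUle fun n g hg => by
      rw [Subgroup.le_centralizer_iff]
      exact hcomm1 hg
  have hUU : ∀ a ∈ U, ∀ b ∈ U, a * b = b * a := fun a ha b hb =>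
    (mem_centralizer_iff.mp (hcomm hb)) a ha
  let A : Subgroup G :=
    { carrier := {w | w ∈ U ∧ w * w = 1}
      mul_mem' := by
        rintro a b ⟨ha, ha1⟩ ⟨hb, hb1⟩
        refine ⟨mul_mem ha hb, ?_⟩
        calc a * b * (a * b) = a * (b * a) * b := by group
          _ = (a * a) * (b * b) := by rw [hUU b hb a ha]; group
          _ = 1 := by rw [ha1, hb1, one_mul]
      one_mem' := ⟨one_mem _, one_mul 1⟩
      inv_mem' := by
        rintro a ⟨ha, ha1⟩
        refine ⟨inv_mem ha, ?_⟩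
        have : a⁻¹ * a⁻¹ = (a * a)⁻¹ := by group
        rw [this, ha1, inv_one] }
  have hUA : U ≤ A := hUle fun n g hg => fun a ha => ⟨hle hg ha, h.sq_cj ha⟩
  have h2 : IsPGroup 2 U := by
    rintro ⟨a, ha⟩
    refine ⟨1, ?_⟩
    ext
    change a ^ 2 ^ 1 = 1
    rw [pow_one, pow_two]
    exact (hUA ha).2
  have hnorm : ∀ {m g}, Ball V P m g → ∀ u ∈ U, g * u * g⁻¹ ∈ U := by
    intro m g hg u hu
    have : U ≤ cj g⁻¹ U := hUle fun n k hk => by
      rw [← cj_le_iff, cj_cj]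
      exact hle (hg.mul hk)
    have h3 := this hu
    rw [mem_cj, inv_inv] at h3
    exact h3
  have hbot := h.core U h2 (le_normalizer_of_forall fun g hg u hu => hnorm (ball_of_norm (P := P) hg) u hu)
    (le_normalizer_of_forall fun g hg u hu => hnorm (ball_of_mem (V := V) hg) u hu)
  have hzU : z ∈ U := by
    have h1 := hle (ball_of_mem (V := V) (one_mem P))
    rw [cj_one] at h1
    exact h1 h.z_mem
  rw [hbot, mem_bot] at hzU
  exact h.geo.z_ne hzU

/-- **existence of a critical pair** (`m + 1` is the critical distance) -/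
theorem exists_pair' (h : Fr T V P z) : ∃ m g, (∀ k, Ball V P m k → Com (wp V P) (cj k (wp V P))) ∧
    Ball V P (m + 1) g ∧ Pair V P g := by
  classical
  have hex : ∃ n, ∃ g, Ball V P n g ∧ ¬ Com (wp V P) (cj g (wp V P)) := h.exists_nc
  have hP : ∀ {c}, c ∈ P → cj c (wp V P) = wp V P := fun {c} hc =>
    mem_normalizer_iff_cj.mp (le_normalizer_wp V P hc)
  have hN : ∀ {x}, x ∈ normalizer (V : Set G) → cj x V = V := fun {x} hx => mem_normalizer_iff_cj.mp hx
  obtain ⟨m, hm⟩ : ∃ m, Nat.find hex = m + 1 := by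
    refine Nat.exists_eq_succ_of_ne_zero fun e => ?_
    obtain ⟨g, hg, hnc⟩ := Nat.find_spec hex
    rw [e] at hg
    exact hnc (by rw [hP hg]; exact h.wp_ab)
  have hlt : ∀ k, Ball V P m k → Com (wp V P) (cj k (wp V P)) := by
    intro k hk
    by_contra hcon
    exact Nat.find_min hex (m := m) (by omega) ⟨k, hk, hcon⟩
  obtain ⟨g, hg, hnc⟩ := Nat.find_spec hex
  rw [hm] at hg
  obtain ⟨c, hc, x, hx, k, hk, rfl⟩ := hg.head
  have hg1 : Ball V P (m + 1) (x * k) := by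
    have := (ball_of_norm (P := P) hx).mul hk
    rwa [Nat.add_comm] at this
  have hnc1 : ¬ Com (wp V P) (cj (x * k) (wp V P)) := fun h1 => hnc (by
    have := h1.cj c
    rwa [hP hc, cj_cj, ← mul_assoc] at this)
  have hle1 : cj (x * k) (wp V P) ≤ centralizer (V : Set G) := by
    have h1 := (hlt k hk).symm.cj x
    rw [cj_cj] at h1
    refine h1.le_centralizer.trans (centralizer_le ?_)
    have h2 : cj x V ≤ cj x (wp V P) := cj_mono (V_le_wp V P)
    rw [hN hx] at h2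
    exact h2
  obtain ⟨k', x', c', hk', hx', hc', e⟩ := hg1
  have hcj : cj (k' * x') (wp V P) = cj (x * k) (wp V P) := by
    rw [e, ← cj_cj (k' * x') c', hP hc']
  refine ⟨m, k' * x', hlt, ⟨k', x', 1, hk', hx', one_mem _, by group⟩, ?_, ?_, ?_⟩
  · rw [hcj]; exact hnc1
  · rw [hcj]; exact hle1
  · have h1 := (hlt k'⁻¹ hk'.inv).symm.cj x'⁻¹
    rw [cj_cj] at h1
    have e2 : (k' * x')⁻¹ = x'⁻¹ * k'⁻¹ := by group
    rw [e2]
    refine h1.le_centralizer.trans (centralizer_le ?_)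
    have h2 : cj x'⁻¹ V ≤ cj x'⁻¹ (wp V P) := cj_mono (V_le_wp V P)
    rw [hN (inv_mem hx')] at h2
    exact h2

theorem exists_pair (h : Fr T V P z) : ∃ g, Pair V P g := by
  obtain ⟨_, g, _, _, hp⟩ := h.exists_pair'
  exact ⟨g, hp⟩

end Fr

/-! ### properties of a critical pair -/

namespace Pair

variable {T V P : Subgroup G} {z g : G} [Finite G]

theorem le_P (h : Fr T V P z) (hp : Pair V P g) : cj g (wp V P) ≤ P := hp.le.trans h.centralizer_V_le

theorem le_cj_P (h : Fr T V P z) (hp : Pair V P g) : wp V P ≤ cj g P := by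
  have h1 := hp.symm.le_P h
  rw [cj_le_iff, inv_inv] at h1
  exact h1

theorem z_comm (h : Fr T V P z) (hp : Pair V P g) {b : G} (hb : b ∈ cj g (wp V P)) : b * z = z * b :=
  mem_centralizer_singleton_iff.mp (h.P_le (hp.le_P h hb))

theorem z_comm' (h : Fr T V P z) (hp : Pair V P g) {a : G} (ha : a ∈ wp V P) :
    a * (g * z * g⁻¹) = (g * z * g⁻¹) * a := by
  have h1 := hp.le_cj_P h ha
  rw [mem_cj] at h1
  have h2 := mem_centralizer_singleton_iff.mp (h.P_le h1)
  calc a * (g * z * g⁻¹) = g * (g⁻¹ * a * g * z) * g⁻¹ := by group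
    _ = g * (z * (g⁻¹ * a * g)) * g⁻¹ := by rw [h2]
    _ = (g * z * g⁻¹) * a := by group

theorem comm_mem (h : Fr T V P z) (hp : Pair V P g) {a b : G} (ha : a ∈ wp V P) (hb : b ∈ cj g (wp V P)) :
    a * b * a⁻¹ * b⁻¹ ∈ wp V P ⊓ cj g (wp V P) := by
  refine ⟨?_, ?_⟩
  · have h1 := conj_mem_of_normalizer (le_normalizer_wp V P) (hp.le_P h hb) (inv_mem ha)
    have e : a * b * a⁻¹ * b⁻¹ = a * (b * a⁻¹ * b⁻¹) := by group
    rw [e]; exact mul_mem ha h1
  · have h1 : g⁻¹ * a * g ∈ P := by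
      have := hp.le_cj_P h ha
      rwa [mem_cj] at this
    rw [mem_cj] at hb
    have h2 := conj_mem_of_normalizer (le_normalizer_wp V P) h1 hb
    have e : a * b * a⁻¹ * b⁻¹ = g * ((g⁻¹ * a * g) * (g⁻¹ * b * g) * (g⁻¹ * a * g)⁻¹ * (g⁻¹ * b * g)⁻¹) * g⁻¹ := by
      group
    rw [e]
    exact conj_mem_cj (mul_mem h2 (inv_mem hb))

/-- the points are different -/
theorem ne (h : Fr T V P z) (hp : Pair V P g) : g * z * g⁻¹ ≠ z := by
  intro e
  apply hp.nc
  intro a ha b hb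
  have h1 : cj g (wp V P) ≤ ws V z := by
    have := cj_mono (g := g) h.wp_le_ws
    rwa [cj_ws, e] at this
  exact h.ab a (h.wp_le_ws ha) b (h1 hb)

theorem zz' (h : Fr T V P z) : g * z * g⁻¹ * (g * z * g⁻¹) = 1 := by
  calc g * z * g⁻¹ * (g * z * g⁻¹) = g * (z * z) * g⁻¹ := by group
    _ = 1 := by rw [h.geo.zz]; group

/-- the kernel of `P` on `wp V P / ⟨z⟩` -/
abbrev kp (V P : Subgroup G) (z : G) : Subgroup G := kk P (wp V P) (zpowers z)

theorem mem_kp_comm (h : Fr T V P z) {c w : G} (hc : c ∈ kp V P z) (hw : w ∈ wp V P) :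
    c * w * c⁻¹ * w⁻¹ = 1 ∨ c * w * c⁻¹ * w⁻¹ = z := h.mem_zp.mp (hc.2.2.2 w hw)

theorem mem_cj_kp_comm (h : Fr T V P z) {c w : G} (hc : c ∈ cj g (kp V P z)) (hw : w ∈ cj g (wp V P)) :
    c * w * c⁻¹ * w⁻¹ = 1 ∨ c * w * c⁻¹ * w⁻¹ = g * z * g⁻¹ := by
  obtain ⟨c, hc, rfl⟩ := hc
  obtain ⟨w, hw, rfl⟩ := hw
  have e : (MulAut.conj g).toMonoidHom c * (MulAut.conj g).toMonoidHom w * ((MulAut.conj g).toMonoidHom c)⁻¹ *
      ((MulAut.conj g).toMonoidHom w)⁻¹ = g * (c * w * c⁻¹ * w⁻¹) * g⁻¹ := by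
    change g * c * g⁻¹ * (g * w * g⁻¹) * (g * c * g⁻¹)⁻¹ * (g * w * g⁻¹)⁻¹ = _
    group
  rw [e]
  rcases mem_kp_comm h hc hw with e1 | e1 <;> rw [e1]
  · left; group
  · right; rfl

/-- `W ∩ K'` and `W' ∩ K` commute -/
theorem kp_comm (h : Fr T V P z) (hp : Pair V P g) {a b : G} (ha : a ∈ wp V P) (ha' : a ∈ cj g (kp V P z))
    (hb : b ∈ cj g (wp V P)) (hb' : b ∈ kp V P z) : a * b = b * a := by
  have h1 := mem_cj_kp_comm h ha' hb
  have h2 := mem_kp_comm h hb' ha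
  have e : a * b * a⁻¹ * b⁻¹ = (b * a * b⁻¹ * a⁻¹)⁻¹ := by group
  have h3 : a * b * a⁻¹ * b⁻¹ = 1 := by
    rcases h1 with e1 | e1
    · exact e1
    · rcases h2 with e2 | e2
      · rw [e, e2, inv_one]
      · exfalso
        apply hp.ne h
        rw [← e1, e, e2, inv_eq_self h.geo.zz]
  exact mul_inv_eq_iff_eq_mul.mp (mul_inv_eq_one.mp h3)

variable {M X : Type u} [AddCommGroup M] [Group X] [DistribMulAction X M]

/-- the module at the vertex `P` -/
abbrev Rep (V P : Subgroup G) (z : G) (M X : Type u) [AddCommGroup M] [Group X] [DistribMulAction X M] :=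
  Sec P (wp V P) (zpowers z) M X

/-- `|W| = |A'| |W ∩ K'|`, `A'` the image of `cj g⁻¹ W` -/
theorem card_A' (h : Fr T V P z) (hp : Pair V P g) (R : Rep V P z M X) :
    Nat.card (wp V P) = Nat.card (R.img (cj g⁻¹ (wp V P))) * Nat.card ↥(wp V P ⊓ cj g (kp V P z)) := by
  have h1 := card_img R h.P_norm (hp.symm.le_P h)
  rw [card_cj] at h1
  rw [h1]
  congr 1
  rw [← card_cj g, cj_inf, cj_cj_inv]

/-- **(ii)** `|W : C_W(W')| ≤ |A| |A'|` -/
theorem index (h : Fr T V P z) (hp : Pair V P g) (R : Rep V P z M X) :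
    Nat.card (wp V P) ≤ (Nat.card (R.img (cj g (wp V P))) * Nat.card (R.img (cj g⁻¹ (wp V P)))) *
      Nat.card ↥(wp V P ⊓ centralizer ((cj g (wp V P) : Subgroup G) : Set G)) := by
  have h1 := hp.card_A' h R
  have h2 := card_img R h.P_norm (hp.le_P h)
  have h3 := card_pair (B := cj g (wp V P)) (e := g * z * g⁻¹) (zz' h) (D := wp V P ⊓ cj g (kp V P z))
    (B₀ := cj g (wp V P) ⊓ kk P (wp V P) (zpowers z)) inf_le_left
    (fun d hd b hb => mem_cj_kp_comm h hd.2 hb) (fun d hd => hp.z_comm' h hd.1)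
    (fun d hd b hb => hp.kp_comm h hd.1 hd.2 hb.1 hb.2)
  have h4 : Nat.card ↥(wp V P ⊓ cj g (kp V P z) ⊓ centralizer ((cj g (wp V P) : Subgroup G) : Set G)) ≤
      Nat.card ↥(wp V P ⊓ centralizer ((cj g (wp V P) : Subgroup G) : Set G)) :=
    Subgroup.card_le_of_le (inf_le_inf_right _ inf_le_left)
  set a := Nat.card (R.img (cj g (wp V P)))
  set a' := Nat.card (R.img (cj g⁻¹ (wp V P)))
  set k := Nat.card ↥(cj g (wp V P) ⊓ kk P (wp V P) (zpowers z))
  have hk : 0 < k := Nat.card_pos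
  set d := Nat.card ↥(wp V P ⊓ cj g (kp V P z))
  set c := Nat.card ↥(wp V P ⊓ centralizer ((cj g (wp V P) : Subgroup G) : Set G))
  rw [h2] at h3
  have h5 : d * k ≤ (a * c) * k := by
    calc d * k ≤ _ := h3
      _ ≤ c * (a * k) := Nat.mul_le_mul_right _ h4
      _ = (a * c) * k := by ring
  have h6 : d ≤ a * c := Nat.le_of_mul_le_mul_right h5 hk
  rw [h1]
  calc a' * d ≤ a' * (a * c) := Nat.mul_le_mul_left _ h6
    _ = a * a' * c := by ring

/-- if `z' ∉ [W, W']` then `|W : C_W(W')| = |A'|` -/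
theorem index_eq (h : Fr T V P z) (hp : Pair V P g) (R : Rep V P z M X)
    (hz : ∀ a ∈ wp V P, ∀ b ∈ cj g (wp V P), a * b * a⁻¹ * b⁻¹ ≠ g * z * g⁻¹) :
    Nat.card (wp V P) = Nat.card (R.img (cj g⁻¹ (wp V P))) *
      Nat.card ↥(wp V P ⊓ centralizer ((cj g (wp V P) : Subgroup G) : Set G)) := by
  suffices key : wp V P ⊓ cj g (kp V P z) = wp V P ⊓ centralizer ((cj g (wp V P) : Subgroup G) : Set G) by
    rw [← key]; exact hp.card_A' h R
  refine le_antisymm ?_ ?_
  · refine fun a ha => ⟨ha.1, mem_centralizer_iff.mpr fun b hb => ?_⟩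
    rcases mem_cj_kp_comm h ha.2 hb with e | e
    · exact (mul_inv_eq_iff_eq_mul.mp (mul_inv_eq_one.mp e)).symm
    · exact absurd e (hz a ha.1 b hb)
  · refine fun a ha => ⟨ha.1, ?_⟩
    have h1 : cj g (kp V P z) = kk (cj g P) (cj g (wp V P)) (cj g (zpowers z)) := cj_kk _ _ _ _
    rw [h1]
    refine ⟨hp.le_cj_P h ha.1, ?_, ?_, fun w hw => ?_⟩
    · have := hp.le_cj_P h ha.1
      obtain ⟨c, hc, rfl⟩ := this
      exact conj_mem_normalizer_cj (le_normalizer_wp V P hc)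
    · have := hp.le_cj_P h ha.1
      obtain ⟨c, hc, rfl⟩ := this
      exact conj_mem_normalizer_cj (h.P_norm hc)
    · have e : a * w * a⁻¹ * w⁻¹ = 1 := by
        rw [← mem_centralizer_iff.mp ha.2 w hw]; group
      rw [e]; exact one_mem _

/-- **(ii)** in the module: `|M : C_M(A)| ≤ |A| |A'|` -/
theorem card_M_le (h : Fr T V P z) (hp : Pair V P g) (R : Rep V P z M X) :
    Nat.card M ≤ (Nat.card (R.img (cj g (wp V P))) * Nat.card (R.img (cj g⁻¹ (wp V P)))) *
      Nat.card (fx (R.img (cj g (wp V P))) (⊤ : AddSubgroup M)) := by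
  refine card_le_fx R h.zp_le (hp.le_P h) (fun a ha x hx => ?_) (hp.index h R)
  obtain ⟨n, rfl⟩ := hx
  have : Commute a z := hp.z_comm h ha
  exact (this.zpow_right n).eq

/-- case 1: if `z' ∉ [W, W']` then `|M : C_M(A)| ≤ |A'|` -/
theorem card_M_le' (h : Fr T V P z) (hp : Pair V P g) (R : Rep V P z M X)
    (hz : ∀ a ∈ wp V P, ∀ b ∈ cj g (wp V P), a * b * a⁻¹ * b⁻¹ ≠ g * z * g⁻¹) :
    Nat.card M ≤ Nat.card (R.img (cj g⁻¹ (wp V P))) *
      Nat.card (fx (R.img (cj g (wp V P))) (⊤ : AddSubgroup M)) := by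
  refine card_le_fx R h.zp_le (hp.le_P h) (fun a ha x hx => ?_) (hp.index_eq h R hz).le
  obtain ⟨n, rfl⟩ := hx
  have : Commute a z := hp.z_comm h ha
  exact (this.zpow_right n).eq

end Pair

end Cfsg.Agent.OddCyclic.EN.Pi
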