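import Mathlib
import Cfsg.Agent.OddCyclic.EN.Pi
import Cfsg.Agent.OddCyclic.EN.Base
import Cfsg.Agent.OddCyclic.T1Structure

/-!
# (E1)(b), nonsolvable case: the module at a vertex of the pi-frame

* `exists_cj_le`: Sylow;
* `Fr.exists_pair_T`: a critical pair with `cj g W ≤ T`, `cj g⁻¹ W ≤ T`;
* `exists_rep`, `Rep.two`, `Rep.pi_line_eq`, `Rep.smul_line_iff`, `Rep.span_line`;
* `Rep.img_T_syl`, `Rep.norm_img_T`: the normalizer of the image of `T` fixes the line vector; `Rep.o2_eq_bot`;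
* `Pair.img_fix`, `Pair.img_ab`, `Pair.img_sq`, `Pair.img_quad`, `Pair.img_ne`;
* `Out M X lam Tb A A'` and **`Fr.exists_out`**.
-/

set_option autoImplicit false
set_option linter.unusedSectionVars false
set_option linter.style.haveILetI false

namespace Cfsg.Agent.OddCyclic.EN.Pi

open Subgroup Cfsg Cfsg.Agent.ZN Cfsg.Agent.MinSimple.Geo Cfsg.Agent.OddCyclic.GeoC Cfsg.Agent.MinSimple.SecRep
  Cfsg.Agent.OddCyclic.EN.PiSec
open Cfsg.Agent.OddCyclic.EO.Fit (fx mem_fx)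
open Cfsg.Agent.OddCyclic.T1Defs (OddCyc)
open Cfsg.Agent.ZN.Block (conj_mem_of_normalizer conj_mem_of_normalizer' le_normalizer_of_forall
  mem_normalizer_of)

universe u

variable {G : Type u} [Group G]

theorem exists_cj_le [Finite G] {T C U : Subgroup G} (_ : T ≤ C) (hT : IsPGroup 2 T)
    (hs : ¬ 2 ∣ T.relIndex C) (hU : U ≤ C) (hU2 : IsPGroup 2 U) : ∃ c ∈ C, cj c U ≤ T := by
  haveI : Fact (Nat.Prime 2) := ⟨Nat.prime_two⟩
  have hT' : IsPGroup 2 (T.subgroupOf C) := hT.comap_of_injective _ C.subtype_injective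
  have hU' : IsPGroup 2 (U.subgroupOf C) := hU2.comap_of_injective _ C.subtype_injective
  obtain ⟨Q, hQ⟩ := hU'.exists_le_sylow
  obtain ⟨c, hc⟩ := MulAction.exists_smul_eq C Q (hT'.toSylow hs)
  refine ⟨c, c.2, ?_⟩
  rintro _ ⟨u, hu, rfl⟩
  have h1 : (⟨u, hU hu⟩ : C) ∈ (Q : Subgroup C) := hQ hu
  have h2 : c * ⟨u, hU hu⟩ * c⁻¹ ∈ ((c • Q : Sylow 2 C) : Subgroup C) := by
    rw [Sylow.coe_subgroup_smul]
    exact Subgroup.smul_mem_pointwise_smul _ (MulAut.conj c) _ h1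
  rw [hc] at h2
  exact h2

theorem relIndex_of_le [Finite G] {T C D : Subgroup G} (hTC : T ≤ C) (hCD : C ≤ D) (hs : ¬ 2 ∣ T.relIndex D) :
    ¬ 2 ∣ T.relIndex C := fun h => hs (h.trans (by
      rw [← Subgroup.relIndex_mul_relIndex T C D hTC hCD]; exact Dvd.intro _ rfl))

namespace Fr

variable {T V P : Subgroup G} {z : G} [Finite G]

theorem T_syl_P (h : Fr T V P z) : ¬ 2 ∣ T.relIndex P := relIndex_of_le h.T_le h.P_le h.geo.T_syl

/-- the stabilizer of the line -/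
theorem T_syl_N (h : Fr T V P z) : ¬ 2 ∣ T.relIndex (P ⊓ normalizer (V : Set G)) :=
  relIndex_of_le (le_inf h.T_le h.geo.T_norm) (inf_le_left.trans h.P_le) h.geo.T_syl

theorem wp_isPGroup (h : Fr T V P z) : IsPGroup 2 (wp V P) := h.geo.two.to_le h.wp_le_T

theorem cj_isPGroup {H : Subgroup G} (hH : IsPGroup 2 H) (g : G) : IsPGroup 2 (cj g H) := hH.map _

/-- conjugation of a pair by an element of the stabilizer of the line -/
theorem pair_mul_left {g c : G} (hp : Pair V P g) (hc : c ∈ P) (hcV : c ∈ normalizer (V : Set G)) :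
    Pair V P (c * g) where
  nc := fun h1 => hp.nc (by
    rw [← cj_cj] at h1
    have h2 := mem_normalizer_iff_cj.mp (le_normalizer_wp V P hc)
    rw [← h2] at h1
    have h3 := h1.of_cj
    rwa [h2] at h3)
  le := by
    rw [← cj_cj]
    have h1 := cj_mono (g := c) hp.le
    have h2 : cj c (centralizer (V : Set G)) ≤ centralizer (V : Set G) := by
      rintro _ ⟨x, hx, rfl⟩
      refine mem_centralizer_iff.mpr fun v hv => ?_
      have hv' := conj_mem_of_normalizer' le_rfl hcV hv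
      have h3 := mem_centralizer_iff.mp hx _ hv'
      change v * (c * x * c⁻¹) = c * x * c⁻¹ * v
      calc v * (c * x * c⁻¹) = c * (c⁻¹ * v * c * x) * c⁻¹ := by group
        _ = c * (x * (c⁻¹ * v * c)) * c⁻¹ := by rw [h3]
        _ = c * x * c⁻¹ * v := by group
    exact h1.trans h2
  le' := by
    rw [mul_inv_rev, ← cj_cj, mem_normalizer_iff_cj.mp (le_normalizer_wp V P (inv_mem hc))]
    exact hp.le'

theorem exists_pair_T (h : Fr T V P z) : ∃ g, Pair V P g ∧ cj g (wp V P) ≤ T ∧ cj g⁻¹ (wp V P) ≤ T := by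
  have hTN : T ≤ P ⊓ normalizer (V : Set G) := le_inf h.T_le h.geo.T_norm
  obtain ⟨g, hp⟩ := h.exists_pair
  obtain ⟨c, hc, hcT⟩ := exists_cj_le hTN h.geo.two h.T_syl_N (U := cj g (wp V P))
    (le_inf (hp.le_P h) (hp.le.trans (centralizer_le_normalizer _))) (cj_isPGroup h.wp_isPGroup g)
  have hp1 := pair_mul_left hp hc.1 hc.2
  rw [cj_cj] at hcT
  obtain ⟨d, hd, hdT⟩ := exists_cj_le hTN h.geo.two h.T_syl_N (U := cj (c * g)⁻¹ (wp V P))
    (le_inf (hp1.symm.le_P h) (hp1.le'.trans (centralizer_le_normalizer _))) (cj_isPGroup h.wp_isPGroup _)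
  rw [cj_cj] at hdT
  have hp2 := (pair_mul_left hp1.symm hd.1 hd.2).symm
  refine ⟨(d * (c * g)⁻¹)⁻¹, hp2, ?_, ?_⟩
  · have e : (d * (c * g)⁻¹)⁻¹ = c * g * d⁻¹ := by group
    rw [e, ← cj_cj, mem_normalizer_iff_cj.mp (le_normalizer_wp V P (inv_mem hd.1))]
    exact hcT
  · rw [inv_inv]; exact hdT

end Fr

open Pair (Rep kp)

section Rep

variable {T V P : Subgroup G} {z : G} [Finite G] {M X : Type u} [AddCommGroup M] [Group X] [DistribMulAction X M]

theorem exists_rep (h : Fr T V P z) :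
    ∃ (M X : Type u) (_ : AddCommGroup M) (_ : Group X) (_ : DistribMulAction X M), Nonempty (Rep V P z M X) := by
  refine exists_sec h.wp_le_P (le_normalizer_wp V P) h.zp_le h.P_norm ?_
  intro a ha b hb
  have e : a * b * a⁻¹ * b⁻¹ = 1 := by rw [h.wp_ab a ha b hb]; group
  rw [e]; exact one_mem _

namespace Rep

theorem two (h : Fr T V P z) (R : Rep V P z M X) (m : M) : m + m = 0 := by
  obtain ⟨w, hw, rfl⟩ := R.pi_surj m
  rw [← R.pi_mul w hw w hw, h.sq hw, R.pi_one]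

theorem rho_eq_one' (h : Fr T V P z) (R : Rep V P z M X) {c : G} (hc : c ∈ P) :
    R.rho c = 1 ↔ c ∈ kp V P z := rho_eq_one R h.P_norm hc

theorem pi_eq_zero' (h : Fr T V P z) (R : Rep V P z M X) {a : G} (ha : a ∈ wp V P) :
    R.pi a = 0 ↔ a = 1 ∨ a = z := by
  rw [R.pi_eq_zero a ha]
  exact h.mem_zp

theorem pi_z (h : Fr T V P z) (R : Rep V P z M X) : R.pi z = 0 := (pi_eq_zero' h R h.z_mem).mpr (Or.inr rfl)

theorem pi_z_mul (h : Fr T V P z) (R : Rep V P z M X) {w : G} (hw : w ∈ wp V P) : R.pi (z * w) = R.pi w := by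
  rw [R.pi_mul z h.z_mem w hw, pi_z h R, zero_add]

theorem pi_eq_pi (h : Fr T V P z) (R : Rep V P z M X) {a b : G} (ha : a ∈ wp V P) (hb : b ∈ wp V P) :
    R.pi a = R.pi b ↔ a = b ∨ a = z * b := by
  rw [R.pi_eq_iff ha hb, h.mem_zp, mul_inv_eq_one]
  constructor
  · rintro (e | e)
    · exact Or.inl e
    · exact Or.inr (by rw [← e]; group)
  · rintro (e | e)
    · exact Or.inl e
    · exact Or.inr (by rw [e]; group)

theorem pi_line_ne (h : Fr T V P z) (R : Rep V P z M X) {y : G} (hy : y ∈ V) (hy1 : y ≠ 1) (hyz : y ≠ z) :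
    R.pi y ≠ 0 := by
  rw [Ne, pi_eq_zero' h R (V_le_wp V P hy)]
  exact fun e => e.elim hy1 hyz

theorem pi_line_eq (h : Fr T V P z) (R : Rep V P z M X) {y v : G} (hy : y ∈ V) (hy1 : y ≠ 1) (hyz : y ≠ z)
    (hv : v ∈ V) : R.pi v = 0 ∨ R.pi v = R.pi y := by
  rcases h.geo.four h.geo.z_mem hy h.geo.z_ne hy1 (Ne.symm hyz) hv with rfl | rfl | rfl | rfl
  · exact Or.inl R.pi_one
  · exact Or.inl (pi_z h R)
  · exact Or.inr rfl
  · exact Or.inr (pi_z_mul h R (V_le_wp V P hy))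

theorem smul_line_iff (h : Fr T V P z) (R : Rep V P z M X) {c y : G} (hc : c ∈ P) (hy : y ∈ V) (hy1 : y ≠ 1)
    (hyz : y ≠ z) : R.rho c • R.pi y = R.pi y ↔ c ∈ normalizer (V : Set G) := by
  have hyw := V_le_wp V P hy
  have hcz : c * z * c⁻¹ = z := by
    rw [mem_centralizer_singleton_iff.mp (h.P_le hc)]; group
  rw [R.smul_pi c hc y hyw]
  constructor
  · intro e
    rw [pi_eq_pi h R (R.conj_mem hc hyw) hyw] at e
    have h1 : cj c V ≤ V := by
      rintro _ ⟨v, hv, rfl⟩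
      change c * v * c⁻¹ ∈ V
      have hcy : c * y * c⁻¹ ∈ V := by
        rcases e with e | e
        · rw [e]; exact hy
        · rw [e]; exact mul_mem h.geo.z_mem hy
      rcases h.geo.four h.geo.z_mem hy h.geo.z_ne hy1 (Ne.symm hyz) hv with rfl | rfl | rfl | rfl
      · simp
      · rw [hcz]; exact h.geo.z_mem
      · exact hcy
      · have e2 : c * (z * y) * c⁻¹ = (c * z * c⁻¹) * (c * y * c⁻¹) := by group
        rw [e2, hcz]; exact mul_mem h.geo.z_mem hcy
    rw [mem_normalizer_iff_cj]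
    exact eq_of_le_of_card_ge h1 (by rw [card_cj])
  · intro hn
    have h1 := conj_mem_of_normalizer le_rfl hn hy
    rcases pi_line_eq h R hy hy1 hyz h1 with e | e
    · exfalso
      rw [pi_eq_zero' h R (V_le_wp V P h1)] at e
      rcases e with e | e
      · exact EN.Base.conj_ne_one hy1 e
      · exact hyz (EN.Base.conj_inj (e.trans hcz.symm))
    · exact e

/-- `M` is generated by the images of the line vector -/
theorem span_line (h : Fr T V P z) (R : Rep V P z M X) {y : G} (hy : y ∈ V) (hy1 : y ≠ 1) (hyz : y ≠ z)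
    (N : AddSubgroup M) (hN : ∀ g : X, g • R.pi y ∈ N) : N = ⊤ := by
  rw [eq_top_iff]
  rintro m -
  obtain ⟨w, hw, rfl⟩ := R.pi_surj m
  have hle : wp V P ≤ pull R N := wp_le fun c hc => by
    rintro _ ⟨v, hv, rfl⟩
    have hvw := V_le_wp V P hv
    refine ⟨R.conj_mem hc hvw, ?_⟩
    change R.pi (c * v * c⁻¹) ∈ N
    rw [← R.smul_pi c hc v hvw]
    rcases pi_line_eq h R hy hy1 hyz hv with e | e
    · rw [e, smul_zero]; exact zero_mem _
    · rw [e]; exact hN _
  exact (hle hw).2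

theorem img_T_isPGroup (h : Fr T V P z) (R : Rep V P z M X) : IsPGroup 2 (R.img T) := by
  rintro ⟨a, ha⟩
  obtain ⟨t, ht, rfl⟩ := (R.mem_img h.T_le).mp ha
  obtain ⟨k, hk⟩ := h.geo.two ⟨t, ht⟩
  refine ⟨k, Subtype.ext ?_⟩
  change R.rho t ^ 2 ^ k = 1
  rw [← R.rho_pow (h.T_le ht), show t ^ 2 ^ k = 1 from congrArg Subtype.val hk, R.rho_one]

theorem img_T_fix (h : Fr T V P z) (R : Rep V P z M X) {y : G} (hy : y ∈ V) (hy1 : y ≠ 1) (hyz : y ≠ z) :
    ∀ a ∈ R.img T, a • R.pi y = R.pi y := by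
  intro a ha
  obtain ⟨t, ht, rfl⟩ := (R.mem_img h.T_le).mp ha
  exact (smul_line_iff h R (h.T_le ht) hy hy1 hyz).mpr (h.geo.T_norm ht)

/-- every 2-subgroup of `X` is conjugate into the image of `T` -/
theorem exists_conj_img_T (h : Fr T V P z) (R : Rep V P z M X) {B : Subgroup X} (hB : IsPGroup 2 B) :
    ∃ g : X, ∀ b ∈ B, g * b * g⁻¹ ∈ R.img T := by
  haveI : Finite X := R.finite_right
  haveI : Fact (Nat.Prime 2) := ⟨Nat.prime_two⟩
  -- a Sylow subgroup of the preimage of `B`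
  have hpB : R.pre B ≤ P := R.pre_le B
  obtain ⟨Q⟩ : Nonempty (Sylow 2 (R.pre B)) := inferInstance
  set Q' : Subgroup G := (Q : Subgroup (R.pre B)).map (R.pre B).subtype with hQ'
  have hQP : Q' ≤ P := by
    rintro _ ⟨q, hq, rfl⟩
    exact hpB q.2
  obtain ⟨c, hc, hcT⟩ := exists_cj_le h.T_le h.geo.two h.T_syl_P (U := Q') hQP (Q.isPGroup'.map _)
  refine ⟨R.rho c, fun b hb => ?_⟩
  obtain ⟨k, hk⟩ := hB ⟨b, hb⟩
  have hk' : b ^ 2 ^ k = 1 := congrArg Subtype.val hk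
  -- every element of `B` is the image of an element of `Q'`
  have hBQ : ∃ q ∈ Q', R.rho q = b := by
    let f : R.pre B →* B :=
      { toFun := fun a => ⟨R.rho a, (R.mem_pre.mp a.2).2⟩
        map_one' := Subtype.ext R.rho_one
        map_mul' := fun a b => Subtype.ext (R.rho_mul a (hpB a.2) b (hpB b.2)) }
    have hf : Function.Surjective f := by
      rintro ⟨x, hx⟩
      obtain ⟨a, ha, rfl⟩ := R.rho_surj x
      exact ⟨⟨a, R.mem_pre.mpr ⟨ha, hx⟩⟩, rfl⟩
    have h1 : ((Q.mapSurjective hf : Sylow 2 B) : Subgroup B) = ⊤ := by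
      have : IsPGroup 2 (⊤ : Subgroup B) := hB.of_equiv Subgroup.topEquiv.symm
      exact ((Q.mapSurjective hf).3 this le_top).symm
    have h2 : (⟨b, hb⟩ : B) ∈ ((Q.mapSurjective hf : Sylow 2 B) : Subgroup B) := by rw [h1]; trivial
    rw [Sylow.coe_mapSurjective] at h2
    obtain ⟨q, hq, hqb⟩ := h2
    exact ⟨q, ⟨q, hq, rfl⟩, congrArg Subtype.val hqb⟩
  obtain ⟨q, hq, rfl⟩ := hBQ
  rw [← R.rho_conj hc (hQP hq)]
  exact R.rho_mem_img h.T_le (hcT (conj_mem_cj hq))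

/-- the image of `T` is a Sylow 2-subgroup of `X` -/
theorem img_T_max (h : Fr T V P z) (R : Rep V P z M X) {B : Subgroup X} (hB : IsPGroup 2 B)
    (hTB : R.img T ≤ B) : B = R.img T := by
  haveI : Finite X := R.finite_right
  obtain ⟨g, hg⟩ := exists_conj_img_T h R hB
  have h1 : cj g B ≤ R.img T := by
    rintro _ ⟨b, hb, rfl⟩; exact hg b hb
  have h2 := Subgroup.card_le_of_le h1
  rw [card_cj] at h2
  exact (eq_of_le_of_card_ge hTB h2).symm

/-- the image of `T` as a Sylow subgroup -/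
def syl (h : Fr T V P z) (R : Rep V P z M X) : Sylow 2 X :=
  { R.img T with
    isPGroup' := img_T_isPGroup h R
    is_maximal' := fun hQ hle => img_T_max h R hQ hle }

theorem coe_syl (h : Fr T V P z) (R : Rep V P z M X) : ((syl h R : Sylow 2 X) : Subgroup X) = R.img T := rfl

/-- **the normalizer of the image of `T` fixes the line vector** -/
theorem norm_img_T (h : Fr T V P z) (R : Rep V P z M X) {y : G} (hy : y ∈ V) (hy1 : y ≠ 1) (hyz : y ≠ z)
    {g : X} (hg : g ∈ normalizer ((R.img T : Subgroup X) : Set X)) : g • R.pi y = R.pi y := by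
  obtain ⟨c, hc, rfl⟩ := R.rho_surj g
  -- `N = T K` is normalized by `T, c`
  set C1 := R.pre (normalizer ((R.img T : Subgroup X) : Set X)) with hC1
  set N := R.pre (R.img T) with hN
  have hcC : c ∈ C1 := R.mem_pre.mpr ⟨hc, hg⟩
  have hTC : T ≤ C1 := fun t ht => R.mem_pre.mpr ⟨h.T_le ht, le_normalizer (R.rho_mem_img h.T_le ht)⟩
  have hNC : N ≤ C1 := fun n hn => by
    rw [hN, R.mem_pre] at hn
    exact R.mem_pre.mpr ⟨hn.1, le_normalizer hn.2⟩
  have hnn : C1 ≤ normalizer (N : Set G) := by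
    refine le_normalizer_of_forall fun x hx n hn => ?_
    rw [hC1, R.mem_pre] at hx
    rw [hN, R.mem_pre] at hn ⊢
    refine ⟨mul_mem (mul_mem hx.1 hn.1) (inv_mem hx.1), ?_⟩
    rw [R.rho_conj hx.1 hn.1]
    exact conj_mem_of_normalizer le_rfl hx.2 hn.2
  have hs : ¬ 2 ∣ T.relIndex C1 := relIndex_of_le hTC (R.pre_le _) h.T_syl_P
  obtain ⟨n, hn, m, hm, hm2, rfl⟩ := BTwoB.exists_mul_of_frattini hTC h.geo.two hs hNC hnn hcC
  have hTN : T ⊓ N = T := inf_eq_left.mpr fun t ht => R.mem_pre.mpr ⟨h.T_le ht, R.rho_mem_img h.T_le ht⟩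
  rw [hTN] at hm2
  have hmP : m ∈ P := (R.mem_pre.mp hm).1
  have hnP : n ∈ P := (R.mem_pre.mp hn).1
  have hmV : m ∈ normalizer (V : Set G) :=
    h.geo.uniq m hm2 (mem_centralizer_singleton_iff.mp (h.P_le hmP))
  rw [R.rho_mul n hnP m hmP, mul_smul, (smul_line_iff h R hmP hy hy1 hyz).mpr hmV]
  exact img_T_fix h R hy hy1 hyz _ (R.mem_pre.mp hn).2

/-- **`O₂(X) = 1`** -/
theorem o2_eq_bot (h : Fr T V P z) (R : Rep V P z M X) {N : Subgroup X} (hN : N.Normal)
    (h2 : IsPGroup 2 N) : N = ⊥ := by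
  obtain ⟨y, hy, hy1, hyz⟩ := h.geo.exists_y
  obtain ⟨g, hg⟩ := exists_conj_img_T h R h2
  have hNT : ∀ n ∈ N, n ∈ R.img T := by
    intro n hn
    have h1 := hg _ (hN.conj_mem n hn g⁻¹)
    have e : g * (g⁻¹ * n * g⁻¹⁻¹) * g⁻¹ = n := by group
    rwa [e] at h1
  rw [eq_bot_iff]
  intro n hn
  rw [mem_bot]
  apply R.faithful
  intro m
  let F : AddSubgroup M := fx N ⊤
  have hF : F = ⊤ := span_line h R hy hy1 hyz F fun x => ⟨trivial, fun a ha => by
    have h1 : x⁻¹ * a * x ∈ N := by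
      have := hN.conj_mem a ha x⁻¹
      rwa [inv_inv] at this
    have h3 := img_T_fix h R hy hy1 hyz _ (hNT _ h1)
    calc a • x • R.pi y = x • (x⁻¹ * a * x) • R.pi y := by
          rw [smul_smul, smul_smul]; congr 1; group
      _ = x • R.pi y := by rw [h3]⟩
  have hm : m ∈ F := by rw [hF]; trivial
  exact hm.2 n hn

end Rep

/-! ### the images of the vertex groups of a critical pair -/

variable {g : G}

namespace Pair

theorem mem_img' (h : Fr T V P z) (hp : Pair V P g) (R : Rep V P z M X) {a : X} :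
    a ∈ R.img (cj g (wp V P)) ↔ ∃ b ∈ cj g (wp V P), R.rho b = a := R.mem_img (hp.le_P h)

theorem img_sq (h : Fr T V P z) (hp : Pair V P g) (R : Rep V P z M X) : ∀ a ∈ R.img (cj g (wp V P)), a * a = 1 := by
  intro a ha
  obtain ⟨b, hb, rfl⟩ := (mem_img' h hp R).mp ha
  rw [← R.rho_mul b (hp.le_P h hb) b (hp.le_P h hb), h.sq_cj hb, R.rho_one]

theorem img_ab (h : Fr T V P z) (hp : Pair V P g) (R : Rep V P z M X) :
    ∀ a ∈ R.img (cj g (wp V P)), ∀ b ∈ R.img (cj g (wp V P)), a * b = b * a := by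
  intro a ha b hb
  obtain ⟨a, ha', rfl⟩ := (mem_img' h hp R).mp ha
  obtain ⟨b, hb', rfl⟩ := (mem_img' h hp R).mp hb
  rw [← R.rho_mul a (hp.le_P h ha') b (hp.le_P h hb'), ← R.rho_mul b (hp.le_P h hb') a (hp.le_P h ha'),
    (h.wp_ab.cj g) a ha' b hb']

theorem img_fix (h : Fr T V P z) (hp : Pair V P g) (R : Rep V P z M X) {y : G} (hy : y ∈ V) (hy1 : y ≠ 1)
    (hyz : y ≠ z) : ∀ a ∈ R.img (cj g (wp V P)), a • R.pi y = R.pi y := by
  intro a ha
  obtain ⟨b, hb, rfl⟩ := (mem_img' h hp R).mp ha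
  exact (Rep.smul_line_iff h R (hp.le_P h hb) hy hy1 hyz).mpr (centralizer_le_normalizer _ (hp.le hb))

/-- `A` is quadratic -/
theorem img_quad (h : Fr T V P z) (hp : Pair V P g) (R : Rep V P z M X) :
    ∀ a ∈ R.img (cj g (wp V P)), ∀ b ∈ R.img (cj g (wp V P)), ∀ m : M, a • (b • m - m) = b • m - m := by
  intro a ha0 b hb0 m
  obtain ⟨a, ha, rfl⟩ := (mem_img' h hp R).mp ha0
  obtain ⟨b, hb, rfl⟩ := (mem_img' h hp R).mp hb0
  obtain ⟨w, hw, rfl⟩ := R.pi_surj m
  have haP := hp.le_P h ha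
  have hbP := hp.le_P h hb
  have h1 : b * w * b⁻¹ * w⁻¹ ∈ wp V P ⊓ cj g (wp V P) := by
    have h2 := inv_mem (hp.comm_mem h hw hb)
    have e : (w * b * w⁻¹ * b⁻¹)⁻¹ = b * w * b⁻¹ * w⁻¹ := by group
    rwa [e] at h2
  have h3 : R.rho b • R.pi w - R.pi w = R.pi (b * w * b⁻¹ * w⁻¹) := by
    rw [R.smul_pi b hbP w hw, R.pi_mul _ (R.conj_mem hbP hw) _ (inv_mem hw), R.pi_inv hw, sub_eq_add_neg]
  rw [h3, R.smul_pi a haP _ h1.1, (h.wp_ab.cj g) a ha _ h1.2, mul_inv_cancel_right]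

/-- the images are not both trivial -/
theorem img_ne (h : Fr T V P z) (hp : Pair V P g) (R : Rep V P z M X) :
    R.img (cj g (wp V P)) ≠ ⊥ ∨ R.img (cj g⁻¹ (wp V P)) ≠ ⊥ := by
  by_contra hcon
  push Not at hcon
  obtain ⟨h1, h2⟩ := hcon
  apply hp.nc
  have key : ∀ {g : G} (hp : Pair V P g), R.img (cj g (wp V P)) = ⊥ → cj g (wp V P) ≤ kp V P z := by
    intro g hp h1 b hb
    rw [← Rep.rho_eq_one' h R (hp.le_P h hb), ← mem_bot, ← h1]
    exact R.rho_mem_img (hp.le_P h) hb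
  have h3 := key hp h1
  have h4 := key hp.symm h2
  rw [cj_le_iff, inv_inv] at h4
  intro a ha b hb
  exact hp.kp_comm h ha (h4 ha) hb (h3 hb)

end Pair

/-- The output of the pi-lemma, as a statement on `(M, X)`. -/
structure Out (M X : Type u) [AddCommGroup M] [Group X] [DistribMulAction X M] (lam : M) (Tb A A' : Subgroup X) :
    Prop where
  fin : Finite X
  finM : Finite M
  cyc : OddCyc X
  two : ∀ m : M, m + m = 0
  faithful : ∀ g : X, (∀ m : M, g • m = m) → g = 1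
  o2 : ∀ N : Subgroup X, N.Normal → IsPGroup 2 N → N = ⊥
  span : ∀ N : AddSubgroup M, (∀ g : X, g • lam ∈ N) → N = ⊤
  ne : lam ≠ 0
  syl : ∃ Q : Sylow 2 X, (Q : Subgroup X) = Tb
  norm : ∀ g ∈ normalizer (Tb : Set X), g • lam = lam
  le : A ≤ Tb
  le' : A' ≤ Tb
  sq : ∀ a ∈ A, a * a = 1
  sq' : ∀ a ∈ A', a * a = 1
  ab : ∀ a ∈ A, ∀ b ∈ A, a * b = b * a
  ab' : ∀ a ∈ A', ∀ b ∈ A', a * b = b * a
  quad : ∀ a ∈ A, ∀ b ∈ A, ∀ m : M, a • (b • m - m) = b • m - m
  quad' : ∀ a ∈ A', ∀ b ∈ A', ∀ m : M, a • (b • m - m) = b • m - m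
  card : Nat.card M ≤ Nat.card A * Nat.card A' * Nat.card (fx A (⊤ : AddSubgroup M))
  card' : Nat.card M ≤ Nat.card A * Nat.card A' * Nat.card (fx A' (⊤ : AddSubgroup M))
  hle : Nat.card A' ≤ Nat.card A
  hne : A ≠ ⊥

namespace Out

variable {lam : M} {Tb A A' : Subgroup X}

/-- **(iii)** `|M : C_M(A)| ≤ |A|²` -/
theorem card_sq (h : Out M X lam Tb A A') : Nat.card M ≤ Nat.card A ^ 2 * Nat.card (fx A (⊤ : AddSubgroup M)) := by
  refine h.card.trans (Nat.mul_le_mul_right _ ?_)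
  rw [pow_two]
  exact Nat.mul_le_mul_left _ h.hle

end Out

theorem Rep.oddCyc (h : Fr T V P z) (R : Rep V P z M X) : OddCyc X :=
  T1Structure.oddCyc_of_surjective (T1Structure.oddCyc_of_injective h.geo.cyc P.subtype P.subtype_injective)
    R.hom R.hom_surj

/-- **the output of the pi-lemma** -/
theorem Fr.exists_out (h : Fr T V P z) (R : Rep V P z M X) {y : G} (hy : y ∈ V) (hy1 : y ≠ 1) (hyz : y ≠ z) :
    ∃ g, Pair V P g ∧ cj g (wp V P) ≤ T ∧ cj g⁻¹ (wp V P) ≤ T ∧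
      Out M X (R.pi y) (R.img T) (R.img (cj g (wp V P))) (R.img (cj g⁻¹ (wp V P))) := by
  haveI : Finite X := R.finite_right
  haveI : Finite M := R.finite_left
  have himg : ∀ {U : Subgroup G}, U ≤ T → R.img U ≤ R.img T := by
    intro U hU a ha
    obtain ⟨u, hu, rfl⟩ := (R.mem_img (hU.trans h.T_le)).mp ha
    exact R.rho_mem_img h.T_le (hU hu)
  have key : ∀ g, Pair V P g → cj g (wp V P) ≤ T → cj g⁻¹ (wp V P) ≤ T →
      Nat.card (R.img (cj g⁻¹ (wp V P))) ≤ Nat.card (R.img (cj g (wp V P))) →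
      Out M X (R.pi y) (R.img T) (R.img (cj g (wp V P))) (R.img (cj g⁻¹ (wp V P))) := by
    intro g hp h1 h2 h3
    have hp' := hp.symm
    refine
      { fin := inferInstance
        finM := inferInstance
        cyc := Rep.oddCyc h R
        two := Rep.two h R
        faithful := R.faithful
        o2 := fun N hN hN2 => Rep.o2_eq_bot h R hN hN2
        span := Rep.span_line h R hy hy1 hyz
        ne := Rep.pi_line_ne h R hy hy1 hyz
        syl := ⟨Rep.syl h R, Rep.coe_syl h R⟩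
        norm := fun g hg => Rep.norm_img_T h R hy hy1 hyz hg
        le := himg h1
        le' := himg h2
        sq := Pair.img_sq h hp R
        sq' := Pair.img_sq h hp' R
        ab := Pair.img_ab h hp R
        ab' := Pair.img_ab h hp' R
        quad := Pair.img_quad h hp R
        quad' := Pair.img_quad h hp' R
        card := hp.card_M_le h R
        card' := ?_
        hle := h3
        hne := ?_ }
    · have h4 := hp'.card_M_le h R
      rw [inv_inv] at h4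
      rw [Nat.mul_comm (Nat.card (R.img (cj g (wp V P)))) _]
      exact h4
    · rcases Pair.img_ne h hp R with h4 | h4
      · exact h4
      · intro h5
        apply h4
        rw [h5, card_bot] at h3
        have h6 : 0 < Nat.card (R.img (cj g⁻¹ (wp V P))) := Nat.card_pos
        exact card_eq_one.mp (by omega)
  obtain ⟨g, hp, h1, h2⟩ := h.exists_pair_T
  rcases le_total (Nat.card (R.img (cj g⁻¹ (wp V P)))) (Nat.card (R.img (cj g (wp V P)))) with h3 | h3
  · exact ⟨g, hp, h1, h2, key g hp h1 h2 h3⟩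
  · refine ⟨g⁻¹, hp.symm, h2, by rw [inv_inv]; exact h1, key g⁻¹ hp.symm h2 (by rw [inv_inv]; exact h1) ?_⟩
    rw [inv_inv]; exact h3

end Rep

end Cfsg.Agent.OddCyclic.EN.Pi
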