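import Mathlib
import Cfsg.Agent.OddCyclic.EN.PiRep
import Cfsg.Agent.OddCyclic.CompBasic

/-!
# 2.4 (COMPONENT) of helper217's blueprint S0342-Bb

`Out.centralizer_eq_bot`: `L` normal in `X` with `L ∩ C(L) = 1` and `λ^X = λ^L`: `C_X(L) = 1`.
-/

set_option autoImplicit false
set_option linter.unusedSectionVars false
set_option linter.style.haveILetI false

namespace Cfsg.Agent.OddCyclic.EN.Pi

open Subgroup Cfsg Cfsg.Agent.ZN Cfsg.Agent.OddCyclic.T1Defs
open Cfsg.Agent.OddCyclic.EO.Fit (fx mem_fx)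
open Cfsg.Agent.OddCyclic.CompBasic (zpowers_eq_of_commute)

universe u

variable {M X : Type u} [AddCommGroup M] [Group X] [DistribMulAction X M] {lam : M} {Tb A A' : Subgroup X}

namespace Out

/-- an element commuting with `L` and fixing `λ` is trivial -/
theorem eq_one_of_comm (h : Out M X lam Tb A A') {L : Subgroup X} (hcov : ∀ x : X, ∃ l ∈ L, x • lam = l • lam)
    {c : X} (hc : ∀ l ∈ L, l * c = c * l) (hcl : c • lam = lam) : c = 1 := by
  apply h.faithful
  intro m
  let F : AddSubgroup M :=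
    { carrier := {m | c • m = m}
      add_mem' := by
        intro a b (ha : c • a = a) (hb : c • b = b)
        change c • (a + b) = a + b
        rw [smul_add, ha, hb]
      zero_mem' := smul_zero c
      neg_mem' := by
        intro a (ha : c • a = a)
        change c • (-a) = -a
        rw [smul_neg, ha] }
  have hF : F = ⊤ := h.span F fun x => by
    obtain ⟨l, hl, e⟩ := hcov x
    change c • x • lam = x • lam
    rw [e, smul_smul, ← hc l hl, mul_smul, hcl]
  have : m ∈ F := by rw [hF]; trivial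
  exact this

theorem Tb_fix (h : Out M X lam Tb A A') {t : X} (ht : t ∈ Tb) : t • lam = lam := h.norm t (le_normalizer ht)

/-- conjugating a 2-element into `Tb` -/
theorem exists_conj_mem (h : Out M X lam Tb A A') {B : Subgroup X} (hB : IsPGroup 2 B) :
    ∃ g : X, ∀ b ∈ B, g * b * g⁻¹ ∈ Tb := by
  haveI := h.fin
  haveI : Fact (Nat.Prime 2) := ⟨Nat.prime_two⟩
  obtain ⟨Q, hQ⟩ := h.syl
  obtain ⟨Q', hQ'⟩ := hB.exists_le_sylow
  obtain ⟨g, hg⟩ := MulAction.exists_smul_eq X Q' Q
  refine ⟨g, fun b hb => ?_⟩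
  rw [← hQ, ← hg, Sylow.coe_subgroup_smul]
  exact Subgroup.smul_mem_pointwise_smul _ (MulAut.conj g) _ (hQ' hb)

/-- **2.4** -/
theorem centralizer_eq_bot (h : Out M X lam Tb A A') {L : Subgroup X} (hL : L.Normal)
    (hZ : L ⊓ centralizer (L : Set X) = ⊥) (hcov : ∀ x : X, ∃ l ∈ L, x • lam = l • lam) :
    centralizer (L : Set X) = ⊥ := by
  haveI := h.fin
  set C := centralizer (L : Set X) with hC
  have hCn : C.Normal := by
    haveI := hL
    rw [hC]; infer_instance
  have hcomm : ∀ c ∈ C, ∀ l ∈ L, l * c = c * l := fun c hc l hl => mem_centralizer_iff.mp hc l hl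
  have hone : ∀ c ∈ C, c • lam = lam → c = 1 := fun c hc hcl => h.eq_one_of_comm hcov (hcomm c hc) hcl
  by_contra hne
  obtain ⟨r, hr, hrd⟩ := Nat.exists_prime_and_dvd (n := Nat.card C) (fun e => hne (card_eq_one.mp e))
  haveI : Fact r.Prime := ⟨hr⟩
  obtain ⟨c', hc'⟩ := exists_prime_orderOf_dvd_card' r hrd
  obtain ⟨c, hc0⟩ : ∃ c : X, c = (c' : X) := ⟨_, rfl⟩
  have hc : c ∈ C := hc0 ▸ c'.2
  have hco : orderOf c = r := by rw [hc0, Subgroup.orderOf_coe, hc']
  have hc1 : c ≠ 1 := by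
    intro e
    rw [e, orderOf_one] at hco
    exact hr.one_lt.ne hco
  have hr2 : r ≠ 2 := by
    rintro rfl
    have hp : IsPGroup 2 (zpowers c) := IsPGroup.of_card (n := 1) (by rw [Nat.card_zpowers, hco, pow_one])
    obtain ⟨g, hg⟩ := h.exists_conj_mem hp
    have h1 := hone _ (hCn.conj_mem c hc g) (h.Tb_fix (hg c (mem_zpowers c)))
    exact hc1 (by
      have : c = g⁻¹ * (g * c * g⁻¹) * g := by group
      rw [this, h1]; group)
  obtain ⟨l, hl, hcl⟩ := hcov c
  have hpow : ∀ k : ℕ, c ^ k • lam = l ^ k • lam := by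
    intro k
    induction k with
    | zero => rw [pow_zero, pow_zero]
    | succ k ih =>
      rw [pow_succ', mul_smul, ih, smul_smul, ← hcomm c hc _ (pow_mem hl k), mul_smul, hcl, smul_smul, ← pow_succ]
  have hlr : l ^ r • lam = lam := by
    rw [← hpow r, ← hco, pow_orderOf_eq_one, one_smul]
  have hln : l • lam ≠ lam := fun e => hc1 (hone c hc (by rw [hcl, e]))
  have hrl : r ∣ orderOf l := by
    by_contra hnd
    have hcop : Nat.Coprime r (orderOf l) := (Nat.Prime.coprime_iff_not_dvd hr).mpr hnd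
    obtain ⟨u, hu1, hu2⟩ := Nat.chineseRemainder hcop 0 1
    apply hln
    have h1 : l ^ u = l := by
      conv_rhs => rw [← pow_one l]
      exact (pow_eq_pow_iff_modEq).mpr hu2
    obtain ⟨k, hk⟩ := (Nat.modEq_zero_iff_dvd.mp hu1)
    have hfix : ∀ k : ℕ, (l ^ r) ^ k • lam = lam := by
      intro k
      induction k with
      | zero => rw [pow_zero, one_smul]
      | succ k ih => rw [pow_succ', mul_smul, ih, hlr]
    calc l • lam = (l ^ r) ^ k • lam := by rw [← pow_mul, ← hk, h1]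
      _ = lam := hfix k
  obtain ⟨k, hk⟩ := hrl
  have hk0 : k ≠ 0 := by
    rintro rfl
    rw [mul_zero] at hk
    exact (orderOf_pos l).ne' hk
  set y := l ^ k with hy
  have hyo : orderOf y = r := by
    rw [hy, orderOf_pow' l hk0, hk, Nat.gcd_eq_right (Dvd.intro_left r rfl)]
    exact Nat.mul_div_cancel _ (Nat.pos_of_ne_zero hk0)
  have hyL : y ∈ L := pow_mem hl k
  have hcy : Commute c y := (hcomm c hc y hyL).symm
  have h1 := zpowers_eq_of_commute h.cyc hr hr2 hco hyo hcy
  have h2 : c ∈ L := (zpowers_le.mpr hyL) (h1 ▸ mem_zpowers c)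
  have h3 : c ∈ L ⊓ C := ⟨h2, hc⟩
  rw [hZ, mem_bot] at h3
  exact hc1 h3

end Out

end Cfsg.Agent.OddCyclic.EN.Pi
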