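import Mathlib
import Cfsg.Agent.OddCyclic.EN.Bb
import Cfsg.Agent.OddCyclic.EN.PiComp

/-!
# The pi-frame from (tri*) (2.1(b) of helper217's blueprint S0342-Bb)

`h : Bb T V z`, `R` normal in `C(z)`, `P = R (C(z) ∩ N(V))`.

* `of_core`: `Fr T V P z` if no `D ≤ C(V)` normalised by `R` contains `r ^ (2 ^ i * 3 ^ j)` for all `r ∈ R`;
* `eq_bot_of_pre_le`: `J` normal in `C(z) / kq V z`, its preimage normalises `V`: `J = 1`;
* `of_pre`: `R` the preimage of `J`, a criterion in `J`;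
* `of_simple`: `R` the preimage of a simple normal subgroup `J`, `r ∣ |J|`, `5 ≤ r`;
* `of_pGroup`: `R` the preimage of a normal `r`-subgroup `J ≠ 1`, `5 ≤ r`;
* `img_normal`, `cover`: the image `L` of `R` in `X'` is normal, `λ^X' = λ^L`;
* `exists_equiv`: `J` simple: `L ≃* J`; `orderOf_ne_three`: (f3) in `X'`;
* `exists_simple`, `exists_pGroup`: the pi-lemma for `R`: `Out`, `L` normal, `C_X'(L) = 1`, `λ^X' = λ^L`, `L` moves `λ`.
-/

set_option autoImplicit false
set_option linter.unusedSectionVars false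
set_option linter.style.haveILetI false

namespace Cfsg.Agent.OddCyclic.EN.PiTri

open Subgroup Cfsg Cfsg.Agent.ZN Cfsg.Agent.MinSimple.Geo Cfsg.Agent.OddCyclic.GeoC Cfsg.Agent.MinSimple.SecRep
  Cfsg.Agent.OddCyclic.EN.PiSec Cfsg.Agent.OddCyclic.EN.Pi Cfsg.Agent.OddCyclic.EN.BbDefs
open Cfsg.Agent.ZN.Block (conj_mem_of_normalizer conj_mem_of_normalizer' le_normalizer_of_forall
  mem_normalizer_of)
open Cfsg.Agent.OddCyclic.EO.Fit (fx mem_fx)

universe u

variable {G : Type u} [Group G] [Finite G] {T V R : Subgroup G} {z : G}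

/-- `P = R (C(z) ∩ N(V))` -/
abbrev pr (R V : Subgroup G) (z : G) : Subgroup G := R ⊔ centralizer ({z} : Set G) ⊓ normalizer (V : Set G)

theorem le_normalizer_vx (X : Subgroup G) (z : G) : X ≤ normalizer ((vx X z : Subgroup G) : Set G) := by
  refine le_normalizer_of_forall fun x hx y hy => ?_
  unfold vx at hy ⊢
  induction hy using closure_induction with
  | mem y hy =>
    obtain ⟨w, hw, rfl⟩ := hy
    exact subset_closure ⟨x * w, mul_mem hx hw, by group⟩
  | one => simp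
  | mul a b _ _ ha hb =>
    have e : x * (a * b) * x⁻¹ = (x * a * x⁻¹) * (x * b * x⁻¹) := by group
    rw [e]; exact mul_mem ha hb
  | inv a _ ha =>
    have e : x * a⁻¹ * x⁻¹ = (x * a * x⁻¹)⁻¹ := by group
    rw [e]; exact inv_mem ha

/-- **the pi-frame from (tri*)** -/
theorem of_core (h : Bb T V z) (hR : R ≤ centralizer ({z} : Set G))
    (hq : ∀ D : Subgroup G, D ≤ centralizer (V : Set G) → R ≤ normalizer (D : Set G) →
      (∀ r ∈ R, ∃ i j : ℕ, r ^ (2 ^ i * 3 ^ j) ∈ D) → False) : Fr T V (pr R V z) z where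
  geo := h.toGeoC
  ab := h.ab
  T_le := (le_inf h.T_le h.T_norm).trans le_sup_right
  P_le := sup_le hR inf_le_left
  inf_le := le_sup_right
  core := by
    intro U hU h1 h2
    by_contra hne
    have hTP : T ≤ normalizer (U : Set G) := ((le_inf h.T_le h.T_norm).trans le_sup_right).trans h2
    rcases h.tri U hU hne hTP with h3 | ⟨h3, h4⟩
    · obtain ⟨v, hv, hv1, hvz⟩ := h.toGeoC.exists_y
      obtain ⟨g, hg, hgv⟩ := h.trans v hv hv1
      have h5 := mem_centralizer_singleton_iff.mp (h3 (h1 hg))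
      apply hvz
      rw [← hgv, h5]; group
    · refine hq (centralizer ((vx (normalizer (U : Set G)) z : Subgroup G) : Set G))
        (centralizer_le h3) ?_ ?_
      · refine (le_sup_left.trans h2).trans ?_
        have h5 := le_normalizer_vx (normalizer (U : Set G)) z
        refine le_normalizer_of_forall fun x hx y hy => ?_
        rw [mem_centralizer_iff] at hy ⊢
        intro w hw
        have h6 := conj_mem_of_normalizer' le_rfl (h5 hx) hw
        have h7 := hy _ h6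
        calc w * (x * y * x⁻¹) = x * (x⁻¹ * w * x * y) * x⁻¹ := by group
          _ = x * (y * (x⁻¹ * w * x)) * x⁻¹ := by rw [h7]
          _ = x * y * x⁻¹ * w := by group
      · intro r hr
        exact h4 r (h2 (le_sup_left (a := R) hr)) (hR hr)

variable {M X : Type u} [AddCommGroup M] [Group X] [DistribMulAction X M]

/-- a normal subgroup of `C(z) / kq V z` whose preimage normalises `V` is trivial -/
theorem eq_bot_of_pre_le (h : GeoC T V z) (Rp : RepM.Rep V z M X) {J : Subgroup X} (hJ : J.Normal)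
    (hV : ∀ j ∈ J, ∀ v ∈ V, j • Rp.pi v = Rp.pi v) : J = ⊥ := by
  rw [eq_bot_iff]
  intro j hj
  rw [mem_bot]
  apply Rp.faithful
  intro m
  obtain ⟨w, hw, rfl⟩ := Rp.pi_surj m
  let F : AddSubgroup M :=
    { carrier := {m | ∀ j ∈ J, j • m = m}
      add_mem' := by
        intro a b ha hb j hj
        rw [smul_add, ha j hj, hb j hj]
      zero_mem' := fun j _ => smul_zero j
      neg_mem' := by
        intro a ha j hj
        rw [smul_neg, ha j hj] }
  have hle : ws V z ≤ pull Rp F := by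
    refine ws_le fun L hL => ?_
    obtain ⟨c, hc, rfl⟩ := h.exists_of_mem_lines hL
    rintro _ ⟨v, hv, rfl⟩
    have hvw : v ∈ ws V z := h.V_le_ws hv
    refine ⟨Rp.conj_mem hc hvw, fun j hj => ?_⟩
    change j • Rp.pi (c * v * c⁻¹) = Rp.pi (c * v * c⁻¹)
    rw [← Rp.smul_pi c hc v hvw, smul_smul]
    have h1 : (Rp.rho c)⁻¹ * j * Rp.rho c ∈ J := by
      have := hJ.conj_mem j hj (Rp.rho c)⁻¹
      rwa [inv_inv] at this
    have h2 := hV _ h1 v hv
    calc (j * Rp.rho c) • Rp.pi v = Rp.rho c • ((Rp.rho c)⁻¹ * j * Rp.rho c) • Rp.pi v := by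
          rw [smul_smul]; congr 1; group
      _ = Rp.rho c • Rp.pi v := by rw [h2]
  exact (hle hw).2 j hj

theorem pi_conj_of_normalizer (h : GeoC T V z) (Rp : RepM.Rep V z M X) {c v : G}
    (hc : c ∈ centralizer ({z} : Set G)) (hcV : c ∈ normalizer (V : Set G)) (hv : v ∈ V) :
    Rp.rho c • Rp.pi v = Rp.pi v := by
  have hvw : v ∈ ws V z := h.V_le_ws hv
  rw [Rp.smul_pi c hc v hvw]
  have hzw : z ∈ ws V z := h.V_le_ws h.z_mem
  have h1 : c * v * c⁻¹ ∈ V := conj_mem_of_normalizer le_rfl hcV hv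
  rw [Rp.pi_eq_iff (Rp.conj_mem hc hvw) hvw, mem_zpowers_iff_of_mul_self h.zz]
  by_cases hv1 : v = 1
  · left; rw [hv1]; group
  by_cases hvz : v = z
  · left
    rw [hvz, mem_centralizer_singleton_iff.mp hc]; group
  rcases h.four h.z_mem hv h.z_ne hv1 (Ne.symm hvz) h1 with e | e | e | e
  · exact absurd e (EN.Base.conj_ne_one hv1)
  · exfalso
    apply hvz
    refine EN.Base.conj_inj (g := c) (e.trans ?_)
    rw [mem_centralizer_singleton_iff.mp hc]; group
  · left; rw [e]; group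
  · right; rw [e]; group

/-- the criterion for the preimage of `J` -/
theorem of_pre (h : Bb T V z) (Rp : RepM.Rep V z M X) {J : Subgroup X} (hJ : J.Normal) (hne : J ≠ ⊥)
    (hq : ∀ D : Subgroup X, D ≤ J → J ≤ normalizer (D : Set X) → (∀ j ∈ J, ∃ a b : ℕ, j ^ (2 ^ a * 3 ^ b) ∈ D) →
      D = J) : Fr T V (pr (Rp.pre J) V z) z := by
  refine of_core h (Rp.pre_le J) fun D hD hn hc => ?_
  apply hne
  set D' : Subgroup X := Rp.img (D ⊓ Rp.pre J) with hD'
  have hle : D ⊓ Rp.pre J ≤ centralizer ({z} : Set G) := inf_le_right.trans (Rp.pre_le J)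
  have h1 : D' = J := by
    apply hq
    · intro a ha
      obtain ⟨d, hd, rfl⟩ := (Rp.mem_img hle).mp ha
      exact (Rp.mem_pre.mp hd.2).2
    · intro j hj
      obtain ⟨c, hc1, rfl⟩ := Rp.rho_surj j
      have hcp : c ∈ Rp.pre J := Rp.mem_pre.mpr ⟨hc1, hj⟩
      have key : ∀ c ∈ Rp.pre J, ∀ a ∈ D', Rp.rho c * a * (Rp.rho c)⁻¹ ∈ D' := by
        intro c hcp a ha
        obtain ⟨d, hd, rfl⟩ := (Rp.mem_img hle).mp ha
        have hcc := Rp.pre_le J hcp
        rw [← Rp.rho_conj hcc (hle hd)]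
        refine Rp.rho_mem_img hle ?_
        exact ⟨conj_mem_of_normalizer hn hcp hd.1,
          (Rp.pre J).mul_mem ((Rp.pre J).mul_mem hcp hd.2) ((Rp.pre J).inv_mem hcp)⟩
      refine mem_normalizer_of (fun a ha => key c hcp a ha) fun a ha => ?_
      have h3 := key c⁻¹ (inv_mem hcp) a ha
      rwa [Rp.rho_inv hc1, inv_inv] at h3
    · intro j hj
      obtain ⟨c, hc1, rfl⟩ := Rp.rho_surj j
      have hcp : c ∈ Rp.pre J := Rp.mem_pre.mpr ⟨hc1, hj⟩
      obtain ⟨a, b, h3⟩ := hc c hcp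
      refine ⟨a, b, ?_⟩
      rw [← Rp.rho_pow hc1]
      exact Rp.rho_mem_img hle ⟨h3, pow_mem hcp _⟩
  refine eq_bot_of_pre_le h.toGeoC Rp hJ fun j hj v hv => ?_
  rw [← h1] at hj
  obtain ⟨d, hd, rfl⟩ := (Rp.mem_img hle).mp hj
  exact pi_conj_of_normalizer h.toGeoC Rp (hle hd) (centralizer_le_normalizer _ (hD hd.1)) hv

omit [Finite G] [AddCommGroup M] [DistribMulAction X M] in
theorem eq_one_of_pow {r a b : ℕ} (hr : r.Prime) (h5 : 5 ≤ r) : ¬ r ∣ 2 ^ a * 3 ^ b := by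
  intro hd
  rcases hr.dvd_mul.mp hd with h1 | h1
  · have h2 := hr.dvd_of_dvd_pow h1
    have := Nat.le_of_dvd (by norm_num) h2
    omega
  · have h2 := hr.dvd_of_dvd_pow h1
    have := Nat.le_of_dvd (by norm_num) h2
    omega

/-- the preimage of a simple normal subgroup of order divisible by a prime `r ≥ 5` -/
theorem of_simple (h : Bb T V z) (Rp : RepM.Rep V z M X) {J : Subgroup X} (hJ : J.Normal) (hs : IsSimpleGroup J)
    {r : ℕ} (hr : r.Prime) (h5 : 5 ≤ r) (hd : r ∣ Nat.card J) : Fr T V (pr (Rp.pre J) V z) z := by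
  haveI : Finite X := Rp.finite_right
  haveI : Fact r.Prime := ⟨hr⟩
  obtain ⟨⟨x, hxJ⟩, hx⟩ := exists_prime_orderOf_dvd_card' (G := J) r hd
  rw [Subgroup.orderOf_mk] at hx
  refine of_pre h Rp hJ ?_ fun D hD hn hc => ?_
  · rintro rfl
    rw [mem_bot] at hxJ
    rw [hxJ, orderOf_one] at hx
    omega
  · have hDn : (D.subgroupOf J).Normal := normal_subgroupOf_of_le_normalizer hn
    rcases hDn.eq_bot_or_eq_top with h1 | h1
    · exfalso
      obtain ⟨a, b, h2⟩ := hc x hxJ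
      rw [subgroupOf_eq_bot, disjoint_iff] at h1
      have h3 : x ^ (2 ^ a * 3 ^ b) ∈ D ⊓ J := ⟨h2, pow_mem hxJ _⟩
      rw [h1, mem_bot, ← orderOf_dvd_iff_pow_eq_one, hx] at h3
      exact eq_one_of_pow hr h5 h3
    · rw [subgroupOf_eq_top] at h1
      exact le_antisymm hD h1

/-- the preimage of a normal `r`-subgroup, `r ≥ 5` -/
theorem of_pGroup (h : Bb T V z) (Rp : RepM.Rep V z M X) {J : Subgroup X} (hJ : J.Normal) (hne : J ≠ ⊥)
    {r : ℕ} (hr : r.Prime) (h5 : 5 ≤ r) (hd : IsPGroup r J) : Fr T V (pr (Rp.pre J) V z) z := by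
  refine of_pre h Rp hJ hne fun D hD _ hc => le_antisymm hD fun j hj => ?_
  obtain ⟨a, b, h2⟩ := hc j hj
  obtain ⟨k, hk⟩ := hd ⟨j, hj⟩
  have hk' : j ^ r ^ k = 1 := congrArg Subtype.val hk
  have hcop : Nat.Coprime (2 ^ a * 3 ^ b) (r ^ k) :=
    (Nat.Coprime.pow_left k ((Nat.Prime.coprime_iff_not_dvd hr).mpr (eq_one_of_pow hr h5))).symm
  obtain ⟨u, hu1, hu2⟩ := Nat.chineseRemainder hcop 0 1
  have h3 : j ^ u = j := by
    conv_rhs => rw [← pow_one j]
    exact (pow_eq_pow_iff_modEq).mpr (hu2.of_dvd (orderOf_dvd_of_pow_eq_one hk'))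
  obtain ⟨w, hw⟩ := Nat.modEq_zero_iff_dvd.mp hu1
  rw [← h3, hw, pow_mul]
  exact pow_mem h2 _

section img

variable {M' X' : Type u} [AddCommGroup M'] [Group X'] [DistribMulAction X' M']

theorem mem_pr (hN : centralizer ({z} : Set G) ≤ normalizer (R : Set G)) {c : G} (hc : c ∈ pr R V z) :
    ∃ r ∈ R, ∃ n ∈ centralizer ({z} : Set G) ⊓ normalizer (V : Set G), c = r * n := by
  have h1 : (centralizer ({z} : Set G) ⊓ normalizer (V : Set G) : Subgroup G) ≤ normalizer (R : Set G) :=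
    inf_le_left.trans hN
  let Q : Subgroup G :=
    { carrier := {c | ∃ r ∈ R, ∃ n ∈ centralizer ({z} : Set G) ⊓ normalizer (V : Set G), c = r * n}
      mul_mem' := by
        rintro _ _ ⟨r, hr, n, hn, rfl⟩ ⟨s, hs, m, hm, rfl⟩
        exact ⟨r * (n * s * n⁻¹), mul_mem hr (conj_mem_of_normalizer h1 hn hs), n * m, mul_mem hn hm, by group⟩
      one_mem' := ⟨1, one_mem _, 1, one_mem _, by group⟩
      inv_mem' := by
        rintro _ ⟨r, hr, n, hn, rfl⟩
        exact ⟨n⁻¹ * r⁻¹ * n, conj_mem_of_normalizer' h1 hn (inv_mem hr), n⁻¹, inv_mem hn, by group⟩ }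
  have h2 : pr R V z ≤ Q := sup_le (fun r hr => ⟨r, hr, 1, one_mem _, by group⟩)
    fun n hn => ⟨1, one_mem _, n, hn, by group⟩
  exact h2 hc

theorem img_normal (h : Fr T V (pr R V z) z) (hN : centralizer ({z} : Set G) ≤ normalizer (R : Set G))
    (R' : Pair.Rep V (pr R V z) z M' X') : (R'.img R).Normal := by
  constructor
  intro a ha g
  obtain ⟨r, hr, rfl⟩ := (R'.mem_img le_sup_left).mp ha
  obtain ⟨c, hc, rfl⟩ := R'.rho_surj g
  rw [← R'.rho_conj hc (le_sup_left (a := R) hr)]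
  exact R'.rho_mem_img le_sup_left (conj_mem_of_normalizer hN (h.P_le hc) hr)

/-- `λ^X' = λ^L` -/
theorem cover (h : Fr T V (pr R V z) z) (hN : centralizer ({z} : Set G) ≤ normalizer (R : Set G))
    (R' : Pair.Rep V (pr R V z) z M' X') {y : G} (hy : y ∈ V) (hy1 : y ≠ 1) (hyz : y ≠ z) :
    ∀ x : X', ∃ l ∈ R'.img R, x • R'.pi y = l • R'.pi y := by
  intro x
  obtain ⟨c, hc, rfl⟩ := R'.rho_surj x
  obtain ⟨r, hr, n, hn, rfl⟩ := mem_pr hN hc
  refine ⟨R'.rho r, R'.rho_mem_img le_sup_left hr, ?_⟩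
  have hnP : n ∈ pr R V z := le_sup_right (b := centralizer ({z} : Set G) ⊓ normalizer (V : Set G)) hn
  rw [R'.rho_mul r (le_sup_left (a := R) hr) n hnP, mul_smul, (Rep.smul_line_iff h R' hnP hy hy1 hyz).mpr hn.2]

theorem rho_eq_one_of (h : Fr T V (pr R V z) z) (Rp : RepM.Rep V z M X)
    (R' : Pair.Rep V (pr R V z) z M' X') {c : G} (hc : c ∈ pr R V z) (h1 : Rp.rho c = 1) : R'.rho c = 1 := by
  rw [R'.rho_eq_one_iff hc]
  intro w hw
  exact (Rp.rho_eq_one_iff (h.P_le hc)).mp h1 w (h.wp_le_ws hw)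

/-- some element of the image of `R` moves `λ` -/
theorem exists_move (h : Fr T V (pr R V z) z) (R' : Pair.Rep V (pr R V z) z M' X')
    {y : G} (hy : y ∈ V) (hy1 : y ≠ 1) (hyz : y ≠ z) (hR : ¬ R ≤ normalizer (V : Set G)) :
    ∃ l ∈ R'.img R, l • R'.pi y ≠ R'.pi y := by
  by_contra hcon
  push Not at hcon
  apply hR
  intro r hr
  have hrP : r ∈ pr R V z := le_sup_left (a := R) hr
  exact (Rep.smul_line_iff h R' hrP hy hy1 hyz).mp (hcon _ (R'.rho_mem_img le_sup_left hr))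

/-- the preimage of `J ≠ 1` does not normalise `V` -/
theorem not_pre_le (h : GeoC T V z) (Rp : RepM.Rep V z M X) {J : Subgroup X} (hJ : J.Normal) (hne : J ≠ ⊥) :
    ¬ Rp.pre J ≤ normalizer (V : Set G) := by
  intro hle
  refine hne (eq_bot_of_pre_le h Rp hJ fun j hj v hv => ?_)
  obtain ⟨c, hc, rfl⟩ := Rp.rho_surj j
  exact pi_conj_of_normalizer h Rp hc (hle (Rp.mem_pre.mpr ⟨hc, hj⟩)) hv

/-- the image of the preimage of a simple `J` is isomorphic to `J` -/
theorem exists_equiv (Rp : RepM.Rep V z M X) {J : Subgroup X} (hJ : J.Normal) (hs : IsSimpleGroup J)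
    (h : Fr T V (pr (Rp.pre J) V z) z) (R' : Pair.Rep V (pr (Rp.pre J) V z) z M' X') :
    Nonempty (R'.img (Rp.pre J) ≃* J) := by
  have hBC : (Rp.pre J) ≤ centralizer ({z} : Set G) := Rp.pre_le J
  have hBP : (Rp.pre J) ≤ pr (Rp.pre J) V z := le_sup_left
  let f : (Rp.pre J) →* X := Rp.hom.comp (Subgroup.inclusion hBC)
  let g : (Rp.pre J) →* X' := R'.hom.comp (Subgroup.inclusion hBP)
  have hf : ∀ b : (Rp.pre J), f b = Rp.rho b := fun b => rfl
  have hg : ∀ b : (Rp.pre J), g b = R'.rho b := fun b => rfl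
  have hfr : f.range = J := by
    ext j
    constructor
    · rintro ⟨b, rfl⟩
      exact (Rp.mem_pre.mp b.2).2
    · intro hj
      obtain ⟨c, hc, rfl⟩ := Rp.rho_surj j
      exact ⟨⟨c, Rp.mem_pre.mpr ⟨hc, hj⟩⟩, rfl⟩
  have hfJ : ∀ b, f b ∈ J := fun b => hfr.le ⟨b, rfl⟩
  have hJf : ∀ j ∈ J, ∃ b, f b = j := fun j hj => hfr.ge hj
  have hgr : g.range = R'.img (Rp.pre J) := by
    ext j
    rw [R'.mem_img hBP]
    constructor
    · rintro ⟨b, rfl⟩
      exact ⟨b, b.2, rfl⟩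
    · rintro ⟨b, hb, rfl⟩
      exact ⟨⟨b, hb⟩, rfl⟩
  have hJne : J ≠ ⊥ := by
    rintro rfl
    exact not_nontrivial (⊥ : Subgroup X) hs.toNontrivial
  have hker : f.ker = g.ker := by
    have hfg : f.ker ≤ g.ker := by
      intro b hb
      rw [MonoidHom.mem_ker, hg]
      rw [MonoidHom.mem_ker, hf] at hb
      exact rho_eq_one_of h Rp R' (hBP b.2) hb
    -- the image of `g.ker` in `J`
    have h1 : (g.ker.map f) ≤ J := by
      rintro _ ⟨b, -, rfl⟩
      exact hfJ b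
    have h2 : ((g.ker.map f).subgroupOf J).Normal := by
      constructor
      rintro ⟨a, ha⟩ ha' ⟨j, hj⟩
      rw [mem_subgroupOf] at ha' ⊢
      obtain ⟨b, hb, hb'⟩ := ha'
      obtain ⟨c, rfl⟩ := hJf j hj
      refine ⟨c * b * c⁻¹, ?_, ?_⟩
      · exact (MonoidHom.normal_ker g).conj_mem b hb c
      · change f (c * b * c⁻¹) = f c * a * (f c)⁻¹
        rw [map_mul, map_mul, map_inv]
        change f b = a at hb'
        rw [hb']
    refine le_antisymm hfg ?_
    rcases h2.eq_bot_or_eq_top with h3 | h3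
    · intro b hb
      rw [subgroupOf_eq_bot, disjoint_iff] at h3
      have h4 : f b ∈ g.ker.map f ⊓ J := ⟨⟨b, hb, rfl⟩, h1 ⟨b, hb, rfl⟩⟩
      rw [h3, mem_bot] at h4
      exact h4
    · exfalso
      rw [subgroupOf_eq_top] at h3
      have hgt : ∀ b : (Rp.pre J), g b = 1 := by
        intro b
        have h4 : f b ∈ J := hfJ b
        obtain ⟨c, hc, hcb⟩ := h3 h4
        have h5 : c⁻¹ * b ∈ f.ker := by
          rw [MonoidHom.mem_ker, map_mul, map_inv, hcb, inv_mul_cancel]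
        have h6 := hfg h5
        rw [MonoidHom.mem_ker, map_mul, map_inv, MonoidHom.mem_ker.mp hc, inv_one, one_mul] at h6
        exact h6
      obtain ⟨y, hy, hy1, hyz⟩ := h.geo.exists_y
      obtain ⟨l, hl, hne⟩ := exists_move h R' hy hy1 hyz (not_pre_le h.geo Rp hJ hJne)
      rw [← hgr] at hl
      obtain ⟨b, rfl⟩ := hl
      exact hne (by rw [hgt, one_smul])
  exact ⟨((MulEquiv.subgroupCongr hgr).symm.trans ((QuotientGroup.quotientKerEquivRange g).symm.trans
    (QuotientGroup.quotientMulEquivOfEq hker.symm))).trans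
      ((QuotientGroup.quotientKerEquivRange f).trans (MulEquiv.subgroupCongr hfr))⟩

/-- (f3) in `X'` -/
theorem orderOf_ne_three {P : Subgroup G} (h : Fr T V P z) (R' : Pair.Rep V P z M' X')
    {y : G} (hy : y ∈ V) (hy1 : y ≠ 1) (hyz : y ≠ z) (f3 : ∀ g ∈ centralizer (V : Set G), orderOf g ≠ 3)
    {x : X'} (hx : orderOf x = 3) : x • R'.pi y ≠ R'.pi y := by
  intro hfix
  obtain ⟨c, hc, rfl, j, hj⟩ := R'.exists_lift (k := 1) Nat.prime_three (g := x)
    (by rw [pow_one, ← hx, pow_orderOf_eq_one])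
  have hcV := (Rep.smul_line_iff h R' hc hy hy1 hyz).mp hfix
  have hcz : c * z = z * c := mem_centralizer_singleton_iff.mp (h.P_le hc)
  have h3 : orderOf c = 3 ^ j ∨ ∃ i, i ≤ j ∧ orderOf c = 3 ^ i := by
    right
    exact (Nat.dvd_prime_pow Nat.prime_three).mp (orderOf_dvd_of_pow_eq_one hj)
  obtain ⟨i, hi, hi'⟩ : ∃ i, i ≤ j ∧ orderOf c = 3 ^ i := by
    rcases h3 with h3 | h3
    · exact ⟨j, le_rfl, h3⟩
    · exact h3
  have hi0 : i ≠ 0 := by
    rintro rfl
    rw [pow_zero, orderOf_eq_one_iff] at hi'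
    rw [hi', R'.rho_one, orderOf_one] at hx
    omega
  -- `c` centralises `V`
  have hcc : c ∈ centralizer (V : Set G) := by
    have h2 : c ^ 2 ∈ centralizer (V : Set G) := by
      rw [mem_centralizer_iff]
      intro v hv
      have h5 : ∀ v ∈ V, v ≠ 1 → v ≠ z → c * v * c⁻¹ = v ∨ c * v * c⁻¹ = z * v := by
        intro v hv hv1 hvz
        have h6 := conj_mem_of_normalizer le_rfl hcV hv
        rcases h.geo.four h.geo.z_mem hv h.geo.z_ne hv1 (Ne.symm hvz) h6 with e | e | e | e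
        · exact absurd e (EN.Base.conj_ne_one hv1)
        · exfalso
          apply hvz
          refine EN.Base.conj_inj (g := c) (e.trans ?_)
          rw [hcz]; group
        · left; exact e
        · right; exact e
      have h7 : c * (c * v * c⁻¹) * c⁻¹ = v := by
        by_cases hv1 : v = 1
        · rw [hv1]; group
        by_cases hvz : v = z
        · rw [hvz, hcz]
          have : c * (z * c * c⁻¹) * c⁻¹ = z := by
            calc c * (z * c * c⁻¹) * c⁻¹ = c * z * c⁻¹ := by group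
              _ = z := by rw [hcz]; group
          exact this
        rcases h5 v hv hv1 hvz with e | e
        · rw [e, e]
        · rw [e]
          calc c * (z * v) * c⁻¹ = (c * z * c⁻¹) * (c * v * c⁻¹) := by group
            _ = z * (z * v) := by rw [e, hcz]; group
            _ = v := by rw [← mul_assoc, h.geo.zz, one_mul]
      have h8 : c ^ 2 * v * (c ^ 2)⁻¹ = v := by
        rw [pow_two]
        calc c * c * v * (c * c)⁻¹ = c * (c * v * c⁻¹) * c⁻¹ := by group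
          _ = v := h7
      exact (mul_inv_eq_iff_eq_mul.mp h8).symm
    have hcop : Nat.Coprime 2 (3 ^ i) := Nat.Coprime.pow_right i (by norm_num)
    obtain ⟨u, hu1, hu2⟩ := Nat.chineseRemainder hcop 0 1
    have h9 : c ^ u = c := by
      conv_rhs => rw [← pow_one c]
      exact (pow_eq_pow_iff_modEq).mpr (by rw [hi']; exact hu2)
    obtain ⟨w, hw⟩ := Nat.modEq_zero_iff_dvd.mp hu1
    rw [← h9, hw, pow_mul]
    exact pow_mem h2 _
  have hd : 3 ∣ orderOf c := by rw [hi']; exact dvd_pow_self 3 hi0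
  have hpos : orderOf c ≠ 0 := (orderOf_pos c).ne'
  exact f3 _ (pow_mem hcc (orderOf c / 3)) (orderOf_pow_orderOf_div hpos hd)

/-- **the pi-lemma for a component**: the input of section 3 -/
theorem exists_simple (h : Bb T V z) (Rp : RepM.Rep V z M X) {J : Subgroup X} (hJ : J.Normal)
    (hs : IsSimpleGroup J) (hna : ∃ a ∈ J, ∃ b ∈ J, a * b ≠ b * a) {r : ℕ} (hr : r.Prime) (h5 : 5 ≤ r)
    (hd : r ∣ Nat.card J) {y : G} (hy : y ∈ V) (hy1 : y ≠ 1) (hyz : y ≠ z) :
    ∃ (M' X' : Type u) (_ : AddCommGroup M') (_ : Group X') (_ : DistribMulAction X' M')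
      (R' : Pair.Rep V (pr (Rp.pre J) V z) z M' X') (g : G), Fr T V (pr (Rp.pre J) V z) z ∧
      Pair V (pr (Rp.pre J) V z) g ∧
      Out M' X' (R'.pi y) (R'.img T) (R'.img (cj g (wp V (pr (Rp.pre J) V z))))
        (R'.img (cj g⁻¹ (wp V (pr (Rp.pre J) V z)))) ∧
      (R'.img (Rp.pre J)).Normal ∧ Nonempty (R'.img (Rp.pre J) ≃* J) ∧
      centralizer ((R'.img (Rp.pre J) : Subgroup X') : Set X') = ⊥ ∧
      (∀ x : X', ∃ l ∈ R'.img (Rp.pre J), x • R'.pi y = l • R'.pi y) ∧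
      (∃ l ∈ R'.img (Rp.pre J), l • R'.pi y ≠ R'.pi y) ∧
      ((∀ g ∈ centralizer (V : Set G), orderOf g ≠ 3) → ∀ x : X', orderOf x = 3 → x • R'.pi y ≠ R'.pi y) := by
  have hF := of_simple h Rp hJ hs hr h5 hd
  obtain ⟨M', X', i1, i2, i3, ⟨R'⟩⟩ := Pi.exists_rep hF
  obtain ⟨g, hg, -, -, ho⟩ := hF.exists_out R' hy hy1 hyz
  have hN : centralizer ({z} : Set G) ≤ normalizer (Rp.pre J : Set G) := Rp.le_normalizer_pre hJ
  have hJne : J ≠ ⊥ := by
    rintro rfl
    exact not_nontrivial (⊥ : Subgroup X) hs.toNontrivial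
  obtain ⟨e⟩ := exists_equiv Rp hJ hs hF R'
  have hn := img_normal hF hN R'
  have hc := cover hF hN R' hy hy1 hyz
  refine ⟨M', X', i1, i2, i3, R', g, hF, hg, ho, hn, ⟨e⟩, ?_, hc,
    exists_move hF R' hy hy1 hyz (not_pre_le h.toGeoC Rp hJ hJne),
    fun f3 x hx => orderOf_ne_three hF R' hy hy1 hyz f3 hx⟩
  refine ho.centralizer_eq_bot hn ?_ hc
  -- `L ∩ C(L) = 1`
  haveI := hs
  set L := R'.img (Rp.pre J) with hL
  have hsL : IsSimpleGroup L := e.isSimpleGroup
  have h1 : ((centralizer (L : Set X')).subgroupOf L).Normal := by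
    haveI := hn
    haveI : (centralizer (L : Set X')).Normal := inferInstance
    infer_instance
  rcases h1.eq_bot_or_eq_top with h2 | h2
  · rw [subgroupOf_eq_bot, disjoint_iff, inf_comm] at h2
    exact h2
  · exfalso
    rw [subgroupOf_eq_top] at h2
    obtain ⟨a, ha, b, hb, hab⟩ := hna
    have h3 : ∀ u v : L, u * v = v * u := fun u v =>
      Subtype.ext (mem_centralizer_iff.mp (h2 v.2) u u.2)
    have h4 := h3 (e.symm ⟨a, ha⟩) (e.symm ⟨b, hb⟩)
    rw [← map_mul, ← map_mul] at h4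
    exact hab (congrArg Subtype.val (e.symm.injective h4))

/-- **the pi-lemma for a normal `r`-subgroup**, `r ≥ 5` -/
theorem exists_pGroup (h : Bb T V z) (Rp : RepM.Rep V z M X) {J : Subgroup X} (hJ : J.Normal) (hne : J ≠ ⊥)
    {r : ℕ} (hr : r.Prime) (h5 : 5 ≤ r) (hd : IsPGroup r J) {y : G} (hy : y ∈ V) (hy1 : y ≠ 1) (hyz : y ≠ z) :
    ∃ (M' X' : Type u) (_ : AddCommGroup M') (_ : Group X') (_ : DistribMulAction X' M')
      (R' : Pair.Rep V (pr (Rp.pre J) V z) z M' X') (g : G), Fr T V (pr (Rp.pre J) V z) z ∧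
      Pair V (pr (Rp.pre J) V z) g ∧
      Out M' X' (R'.pi y) (R'.img T) (R'.img (cj g (wp V (pr (Rp.pre J) V z))))
        (R'.img (cj g⁻¹ (wp V (pr (Rp.pre J) V z)))) ∧
      (R'.img (Rp.pre J)).Normal ∧ IsPGroup r (R'.img (Rp.pre J)) ∧
      (∀ x : X', ∃ l ∈ R'.img (Rp.pre J), x • R'.pi y = l • R'.pi y) ∧
      (∃ l ∈ R'.img (Rp.pre J), l • R'.pi y ≠ R'.pi y) ∧
      ((∀ g ∈ centralizer (V : Set G), orderOf g ≠ 3) → ∀ x : X', orderOf x = 3 → x • R'.pi y ≠ R'.pi y) := by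
  have hF := of_pGroup h Rp hJ hne hr h5 hd
  obtain ⟨M', X', i1, i2, i3, ⟨R'⟩⟩ := Pi.exists_rep hF
  obtain ⟨g, hg, -, -, ho⟩ := hF.exists_out R' hy hy1 hyz
  have hN : centralizer ({z} : Set G) ≤ normalizer (Rp.pre J : Set G) := Rp.le_normalizer_pre hJ
  refine ⟨M', X', i1, i2, i3, R', g, hF, hg, ho, img_normal hF hN R', ?_, cover hF hN R' hy hy1 hyz,
    exists_move hF R' hy hy1 hyz (not_pre_le h.toGeoC Rp hJ hne),
    fun f3 x hx => orderOf_ne_three hF R' hy hy1 hyz f3 hx⟩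
  rintro ⟨a, ha⟩
  obtain ⟨c, hc, rfl⟩ := (R'.mem_img le_sup_left).mp ha
  have hcm := Rp.mem_pre.mp hc
  obtain ⟨k, hk⟩ := hd ⟨Rp.rho c, hcm.2⟩
  refine ⟨k, Subtype.ext ?_⟩
  change R'.rho c ^ r ^ k = 1
  have hcP : c ∈ pr (Rp.pre J) V z := le_sup_left (a := Rp.pre J) hc
  rw [← R'.rho_pow hcP]
  refine rho_eq_one_of hF Rp R' (pow_mem hcP _) ?_
  rw [Rp.rho_pow hcm.1]
  exact congrArg Subtype.val hk

end img

end Cfsg.Agent.OddCyclic.EN.PiTri
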