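import Cfsg.Agent.OddCyclic.EN.ListC
import Cfsg.Agent.OddCyclic.EN.SevMod
import Cfsg.Agent.OddCyclic.EN.PiTri
import Cfsg.Agent.OddCyclic.Emp3.Seven

/-!
# S0342, (B-b), section 3 of helper217's blueprint: 3.4 (a)

`X` acts faithfully on the elementary abelian 2-group `V`, `L` is a normal simple subgroup of order 168, `O` a normal
subgroup of order 5, elements centralising `O L` lie in `O`. `T` is a Sylow 2-subgroup of `X` fixing `lam`, no element of
order 3 fixes `lam`, `1 ≠ A ≤ T` elementary abelian with `|V : C_V(A)| ≤ |A|²`. Then `L` fixes all `[o, lam]`, `o ∈ O`.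
-/

set_option autoImplicit false
set_option linter.unusedSectionVars false

namespace Cfsg.Agent.OddCyclic.EN.FitA

open scoped Pointwise
open Subgroup Cfsg.Agent.OddCyclic.T1Module Cfsg.Agent.OddCyclic.FFBasic
  Cfsg.Agent.OddCyclic.FFRed Cfsg.Agent.OddCyclic.FFSl2 Cfsg.Agent.OddCyclic.T1Defs
  Cfsg.Agent.OddCyclic.FFThree Cfsg.Agent.GH.L2Aut Cfsg.Agent.OddCyclic.EN.SevGrp

/-! ### numbers -/

theorem four_dvd {c : ℕ} (h : 5 ∣ 2 ^ c - 1) : ∃ k, 2 ^ c = 16 ^ k := by
  have h1 : 1 ≤ 2 ^ c := Nat.one_le_two_pow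
  have h2 : 2 ^ c % 5 = 1 := by omega
  have h3 : 2 ^ c = 16 ^ (c / 4) * 2 ^ (c % 4) := by
    rw [show (16 : ℕ) = 2 ^ 4 by norm_num, ← pow_mul, ← pow_add, Nat.div_add_mod]
  have h4 : 16 ^ (c / 4) % 5 = 1 := by
    rw [Nat.pow_mod]; norm_num
  have h5 : (2 ^ (c % 4)) % 5 = 1 := by
    rw [h3, Nat.mul_mod, h4, one_mul, Nat.mod_mod] at h2
    exact h2
  have h6 : c % 4 < 4 := Nat.mod_lt _ (by norm_num)
  have h7 : c % 4 = 0 := by
    interval_cases h8 : c % 4
    · rfl
    · exact absurd h5 (by norm_num)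
    · exact absurd h5 (by norm_num)
    · exact absurd h5 (by norm_num)
  refine ⟨c / 4, ?_⟩
  rw [h3, h7, pow_zero, mul_one]

theorem pow_le {k : ℕ} (h : 16 ^ k ≤ 16) : 16 ^ k = 1 ∨ 16 ^ k = 16 := by
  have h1 : k ≤ 1 := by
    have : (16 : ℕ) ^ k ≤ 16 ^ 1 := h
    exact (Nat.pow_le_pow_iff_right (by norm_num)).1 this
  interval_cases k
  · left; norm_num
  · right; norm_num

theorem lt_pow {k : ℕ} (h : 16 < 16 ^ k) : 256 ≤ 16 ^ k := by
  have h1 : 2 ≤ k := by
    by_contra hcon
    push Not at hcon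
    have : (16 : ℕ) ^ k ≤ 16 ^ 1 := Nat.pow_le_pow_right (by norm_num) (by omega)
    omega
  calc 256 = 16 ^ 2 := by norm_num
    _ ≤ 16 ^ k := Nat.pow_le_pow_right (by norm_num) h1

/-! ### `L₃(2)` on a module on which all indices are powers of 16 -/

section core

variable {K : Type*} [Group K] [Finite K] {W : Type*} [CommGroup W] [Finite W] {τ : K →* MulAut W}

theorem CS_zpowers (a : K) : CS τ (zpowers a) = fx τ a := by
  apply le_antisymm
  · exact CS_le_fx (mem_zpowers a)
  · intro v hv b hb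
    have h1 : zpowers a ≤ FFSl2.stb τ v := (zpowers_le).2 hv
    exact h1 hb

/-- Case 1 -/
theorem core_one (hK : L32 K) (h16 : ∀ C : Subgroup K, ∃ k, (CS τ C).index = 16 ^ k) {a₀ : K} (ha1 : a₀ ≠ 1)
    (haa : a₀ * a₀ = 1) (hi : (fx τ a₀).index ≤ 16) (T : Sylow 2 K) {v : W} (hv : v ∈ CS τ (T : Subgroup K)) :
    ∃ x : K, orderOf x = 3 ∧ τ x v = v := by
  have hf3 : Fact (Nat.Prime 3) := ⟨Nat.prime_three⟩
  have hinv : ∀ a : K, a ≠ 1 → a * a = 1 → (fx τ a).index = (fx τ a₀).index := by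
    intro a h1 h2
    obtain ⟨g, rfl⟩ := hK.conj a₀ a ha1 haa h1 h2
    rw [index_fx_conj]
  -- a four-group in `T`
  obtain ⟨A, hA, hAT⟩ : ∃ A : Subgroup K, IsFour A ∧ A ≤ T := by
    obtain ⟨p, q, hpq⟩ := hK.four
    obtain ⟨Q, hQ⟩ := hpq.sub_two.exists_le_sylow
    obtain ⟨g, hg⟩ := MulAction.exists_smul_eq K Q T
    have hpT := conj_mem_syl hg (hQ (Or.inr (Or.inl rfl)))
    have hqT := conj_mem_syl hg (hQ (Or.inr (Or.inr (Or.inl rfl))))
    have hf := hpq.map (MulAut.conj g)
    refine ⟨hf.sub, isFour_sub hf, ?_⟩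
    rintro x (rfl | rfl | rfl | rfl)
    · exact one_mem _
    · exact hpT
    · exact hqT
    · exact mul_mem hpT hqT
  by_cases hfix : ∀ a ∈ A, a ≠ 1 → fx τ a = CS τ A
  · obtain ⟨B, hB⟩ := FFThree.par hK T hA hAT hfix
    obtain ⟨z, hz, a, ha, hza, hmem⟩ := hB.four.exists_four
    obtain ⟨y, hyN, hy3, hy1, -⟩ := fuse_mem hK hza hmem
    have hy1' : y ≠ 1 := by
      rintro rfl
      rw [one_mul, inv_one, mul_one] at hy1
      exact hza.ne hy1
    exact ⟨y, orderOf_eq_prime (by rw [pow_succ, pow_two]; exact hy3) hy1', hB.cent y hyN v hv⟩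
  · push Not at hfix
    obtain ⟨c, hcA, hc1, hcne⟩ := hfix
    obtain ⟨z, a, b, hza, hzb, hAe, hBT, hab, -, hsup, -, -⟩ := exists_other hK T hA hAT
    have hc16 : (fx τ c).index ≤ 16 := by rw [hinv c hc1 (hA.sq c hcA)]; exact hi
    have hgt : 16 < (CS τ A).index := by
      have h1 : CS τ A ≤ fx τ c := CS_le_fx hcA
      have h2 : (fx τ c).index < (CS τ A).index := by
        by_contra hcon
        push Not at hcon
        exact hcne (eq_of_index_le h1 hcon).symm
      obtain ⟨k, hk⟩ := h16 (zpowers c)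
      rw [CS_zpowers] at hk
      rcases pow_le (k := k) (by rw [← hk]; exact hc16) with h3 | h3
      · exfalso
        have h4 : ∀ x : K, x ≠ 1 → x * x = 1 → fx τ x = ⊤ := by
          intro x hx hxx
          rw [← Subgroup.index_eq_one, hinv x hx hxx, ← hinv c hc1 (hA.sq c hcA), hk, h3]
        have h5 : CS τ A = ⊤ := by
          rw [eq_top_iff]
          intro w _ x hx
          by_cases hx1 : x = 1
          · rw [hx1, map_one]; rfl
          · have : w ∈ fx τ x := by rw [h4 x hx1 (hA.sq x hx)]; trivial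
            exact this
        rw [h5, Subgroup.index_top] at h2
        have := Subgroup.index_ne_zero_of_finite (H := fx τ c)
        omega
      · rw [hk, h3] at h2
        exact h2
    obtain ⟨k, hk⟩ := h16 A
    have h256 : 256 ≤ (CS τ A).index := by
      rw [hk] at hgt ⊢
      exact lt_pow hgt
    -- `C(T) = C(A)`
    have hTle : fx τ a ⊓ fx τ b ≤ CS τ (T : Subgroup K) := by
      intro w hw
      have hwz : w ∈ fx τ z := by
        have h1 : z = a * b * a⁻¹ * b⁻¹ := by rw [hab]; group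
        rw [h1]
        have h2 : a⁻¹ = a := inv_eq_of_mul_eq_one_left hza.bb
        have h3 : b⁻¹ = b := inv_eq_of_mul_eq_one_left hzb.bb
        rw [h2, h3]
        exact fx_mul τ (fx_mul τ (fx_mul τ hw.1 hw.2) hw.1) hw.2
      rw [← hsup, CS_sup, hAe, CS_sub, CS_sub]
      exact ⟨⟨hwz, hw.1⟩, ⟨hwz, hw.2⟩⟩
    have hTi : (CS τ (T : Subgroup K)).index ≤ 256 := by
      refine (index_le_of_le hTle).trans ?_
      have h1 := Subgroup.index_inf_le (H := fx τ a) (K := fx τ b)
      have h2 : (fx τ a).index ≤ 16 := by rw [hinv a hza.b1 hza.bb]; exact hi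
      have h3 : (fx τ b).index ≤ 16 := by rw [hinv b hzb.b1 hzb.bb]; exact hi
      calc (fx τ a ⊓ fx τ b).index ≤ (fx τ a).index * (fx τ b).index := h1
        _ ≤ 16 * 16 := Nat.mul_le_mul h2 h3
        _ = 256 := by norm_num
    have hTA : CS τ (T : Subgroup K) = CS τ A :=
      eq_of_index_le (fun w hw x hx => hw x (hAT hx)) (hTi.trans h256)
    have hAz : CS τ A = fx τ z ⊓ fx τ a := by rw [hAe, CS_sub]
    have hbT : b ∈ T := hBT (Or.inr (Or.inr (Or.inl rfl)))
    obtain ⟨x, hx3, hxz, hxa⟩ := hK.fuse z a hza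
    -- conjugations
    have hzi : z⁻¹ = z := inv_eq_of_mul_eq_one_left hza.aa
    have hbz : b * z * b⁻¹ = z := by rw [← hzb.comm, mul_inv_cancel_right]
    have hba : b * a * b⁻¹ = z * a := by
      have h1 : a * b = z * b * a := by rw [← hab]; group
      have h2 : z * (a * b) = b * a := by rw [h1, ← mul_assoc, ← mul_assoc, hza.aa, one_mul]
      rw [← h2]; group
    have hmulc : ∀ g s t : K, g * (s * t) * g⁻¹ = (g * s * g⁻¹) * (g * t * g⁻¹) := fun g s t => by group
    have hbza : b * (z * a) * b⁻¹ = a := by rw [hmulc, hbz, hba, ← mul_assoc, hza.aa, one_mul]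
    have hxza : x * (z * a) * x⁻¹ = z := by
      rw [hmulc, hxz, hxa, ← mul_assoc, ← hza.comm, mul_assoc, hza.bb, mul_one]
    have hxa' : x⁻¹ * a * x = z := by rw [← hxz]; group
    have hxza' : x⁻¹ * (z * a) * x = a := by rw [← hxa]; group
    have hxz' : x⁻¹ * z * x = z * a := by
      conv_lhs => rw [← hxza]
      group
    set e := b * (x⁻¹ * b * x) with he
    have hconj : ∀ s, e * s * e⁻¹ = b * (x⁻¹ * (b * (x * s * x⁻¹) * b⁻¹) * x) * b⁻¹ := fun s => by rw [he]; group
    have ez : e * z * e⁻¹ = z * a := by rw [hconj, hxz, hba, hxza', hba]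
    have ea : e * a * e⁻¹ = z := by rw [hconj, hxa, hbza, hxa', hbz]
    have eza : e * (z * a) * e⁻¹ = a := by rw [hconj, hxza, hbz, hxz', hbza]
    have hcc : ∀ g s : K, g ^ 3 * s * (g ^ 3)⁻¹ = g * (g * (g * s * g⁻¹) * g⁻¹) * g⁻¹ := fun g s => by
      rw [pow_succ, pow_two]; group
    have e3z : e ^ 3 * z = z * e ^ 3 := by
      have h1 := hcc e z
      rw [ez, eza, ea] at h1
      exact mul_inv_eq_iff_eq_mul.1 h1
    have e3a : e ^ 3 * a = a * e ^ 3 := by
      have h1 := hcc e a
      rw [ea, ez, eza] at h1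
      exact mul_inv_eq_iff_eq_mul.1 h1
    have e6 : (e ^ 2) ^ 3 = 1 := by
      have h1 : e ^ 3 * e ^ 3 = 1 := by
        rcases hK.cent z a (e ^ 3) hza e3z e3a with h | h | h | h
        · rw [h, one_mul]
        · rw [h, hza.aa]
        · rw [h, hza.bb]
        · rw [h, hza.right.bb]
      rw [← pow_mul, show 2 * 3 = 3 + 3 by norm_num, pow_add, h1]
    have e2 : e ^ 2 ≠ 1 := by
      intro h
      have h1 : e ^ 2 * z * (e ^ 2)⁻¹ = a := by
        have : e ^ 2 * z * (e ^ 2)⁻¹ = e * (e * z * e⁻¹) * e⁻¹ := by rw [pow_two]; group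
        rw [this, ez, eza]
      rw [h, one_mul, inv_one, mul_one] at h1
      exact hza.ne h1
    refine ⟨e ^ 2, orderOf_eq_prime e6 e2, ?_⟩
    -- `x` normalises `C(A)`
    have hxC : ∀ w ∈ CS τ A, τ x w ∈ CS τ A := by
      intro w hw
      rw [hAz] at hw ⊢
      have hwza : w ∈ fx τ (z * a) := fx_mul τ hw.1 hw.2
      constructor
      · show τ z (τ x w) = τ x w
        have h1 : z * x = x * (z * a) := by
          calc z * x = x * (x⁻¹ * z * x) := by group
            _ = x * (z * a) := by rw [hxz']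
        rw [← MulAut.mul_apply, ← map_mul, h1, map_mul, MulAut.mul_apply, show τ (z * a) w = w from hwza]
      · show τ a (τ x w) = τ x w
        have h1 : a * x = x * z := by
          calc a * x = x * (x⁻¹ * a * x) := by group
            _ = x * z := by rw [hxa']
        rw [← MulAut.mul_apply, ← map_mul, h1, map_mul, MulAut.mul_apply, show τ z w = w from hw.1]
    have hev : v ∈ fx τ e := by
      have hvA : v ∈ CS τ A := by rw [← hTA]; exact hv
      have h1 : τ b (τ x v) = τ x v := by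
        have h2 : τ x v ∈ CS τ (T : Subgroup K) := by rw [hTA]; exact hxC v hvA
        exact h2 b hbT
      have h3 : v ∈ fx τ (x⁻¹ * b * x) := by
        show τ (x⁻¹ * b * x) v = v
        rw [map_mul, map_mul, MulAut.mul_apply, MulAut.mul_apply, h1, ← MulAut.mul_apply, ← map_mul, inv_mul_cancel,
          map_one]; rfl
      exact fx_mul τ (hv b hbT) h3
    exact fx_pow τ hev 2

/-- Case 2 -/
theorem core_two (hK : L32 K) (hs : IsSimpleGroup K) (hW : ∀ w : W, w * w = 1)
    (h16 : ∀ C : Subgroup K, ∃ k, (CS τ C).index = 16 ^ k) (hmv : ∃ k w, τ k w ≠ w) : 4096 ≤ Nat.card W := by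
  have hker : τ.ker = ⊥ := by
    rcases hs.eq_bot_or_eq_top_of_normal τ.ker (MonoidHom.normal_ker τ) with h | h
    · exact h
    · exfalso
      obtain ⟨k, w, hkw⟩ := hmv
      apply hkw
      have : k ∈ τ.ker := by rw [h]; trivial
      rw [MonoidHom.mem_ker] at this
      rw [this]; rfl
  have : Fact (Nat.Prime 7) := ⟨by norm_num⟩
  obtain ⟨u, hu⟩ := exists_prime_orderOf_dvd_card' (G := K) 7 (by rw [hK.card]; norm_num)
  have hu1 : u ≠ 1 := by rintro rfl; rw [orderOf_one] at hu; norm_num at hu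
  have hune : ∃ v, τ u v ≠ v := by
    by_contra hcon
    push Not at hcon
    apply hu1
    have : u ∈ τ.ker := by
      rw [MonoidHom.mem_ker]
      ext v; exact hcon v
    rw [hker, mem_bot] at this
    exact this
  obtain ⟨d, hd, h1, h2⟩ := prim (ρ := τ) hW (by norm_num : Nat.Prime 7) (by norm_num) hu hune
  obtain ⟨k, hk⟩ := h16 (zpowers u)
  rw [CS_zpowers] at hk
  rw [← h1, hk] at h2
  have hk3 : 3 ≤ k := by
    by_contra hcon
    push Not at hcon
    have h3 : k ≠ 0 := by
      rintro rfl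
      rw [hk] at h1
      have : 2 ≤ 2 ^ d := by
        calc 2 = 2 ^ 1 := by norm_num
          _ ≤ 2 ^ d := Nat.pow_le_pow_right (by norm_num) hd
      omega
    interval_cases k
    · exact h3 rfl
    · norm_num at h2
    · norm_num at h2
  have h4 : (fx τ u).index ≤ Nat.card W := Nat.le_of_dvd Nat.card_pos (fx τ u).index_dvd_card
  calc 4096 = 16 ^ 3 := by norm_num
    _ ≤ 16 ^ k := Nat.pow_le_pow_right (by norm_num) hk3
    _ ≤ Nat.card W := by rw [← hk]; exact h4

end core

/-! ### two outer automorphisms of `L₃(2)` -/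

section outer

variable {L : Type*} [Group L] [Finite L]

theorem sv (hs : IsSimpleGroup L) (hc : Nat.card L = 168) : Sv (MulAut.conj : L →* MulAut L).range := by
  have hcen : ∀ g : L, (∀ x, g * x = x * g) → g = 1 := by
    intro g hg
    have h1 : g ∈ center L := by
      rw [Subgroup.mem_center_iff]
      intro x; exact (hg x).symm
    rcases hs.eq_bot_or_eq_top_of_normal (center L) inferInstance with h | h
    · rw [h, mem_bot] at h1; exact h1
    · exfalso
      obtain ⟨a, b, hab⟩ := (COneSeven.l32 hs hc).four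
      obtain ⟨d, hd, -⟩ := (COneSeven.l32 hs hc).swap a b hab
      have h2 : a ∈ center L := by rw [h]; trivial
      rw [Subgroup.mem_center_iff] at h2
      apply hab.ne
      rw [← hd, h2 d]; group
  have hinj : Function.Injective (MulAut.conj : L →* MulAut L) := by
    rw [← MonoidHom.ker_eq_bot_iff, eq_bot_iff]
    intro g hg
    rw [MonoidHom.mem_ker] at hg
    rw [mem_bot]
    apply hcen
    intro x
    have h1 : MulAut.conj g x = x := by rw [hg]; rfl
    rw [MulAut.conj_apply] at h1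
    exact mul_inv_eq_iff_eq_mul.1 h1
  let e : L ≃* (MulAut.conj : L →* MulAut L).range := MonoidHom.ofInjective hinj
  refine ⟨⟨?_⟩, e.symm.isSimpleGroup, ?_, ?_⟩
  · rintro _ ⟨g, rfl⟩ α
    refine ⟨α g, ?_⟩
    ext x
    rw [MulAut.conj_apply, MulAut.mul_apply, MulAut.mul_apply, MulAut.conj_apply, map_mul, map_mul, map_inv]
    rw [MulAut.apply_inv_self]
  · rw [← Nat.card_congr e.toEquiv, hc]
  · rw [eq_bot_iff]
    intro α hα
    rw [mem_centralizer_iff] at hα
    rw [mem_bot]
    ext g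
    have h1 := hα (MulAut.conj g) ⟨g, rfl⟩
    have h2 : MulAut.conj (α g) = MulAut.conj g := by
      ext x
      have h3 := congrArg (fun β : MulAut L => β (α⁻¹ x)) h1
      simp only [MulAut.mul_apply, MulAut.apply_inv_self, MulAut.conj_apply, map_mul, map_inv] at h3
      rw [MulAut.conj_apply, MulAut.conj_apply, ← h3]
    rw [hinj h2]; rfl

end outer

/-! ### the main theorem -/

section main

variable {X : Type*} [Group X] [Finite X] {V : Type*} [CommGroup V] [Finite V] {ρ : X →* MulAut V}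

theorem comm_apply {a b : X} (h : a * b = b * a) (w : V) : ρ a (ρ b w) = ρ b (ρ a w) := by
  rw [← MulAut.mul_apply, ← map_mul, h, map_mul, MulAut.mul_apply]

/-- the order of a `y`-invariant subgroup of `[V, y]` is a power of 16 -/
theorem pow16 (hV : ∀ v : V, v * v = 1) {y : X} (hy : orderOf y = 5) (C : Subgroup V) (hCR : C ≤ (cm ρ y).range)
    (hinv : ∀ c ∈ C, ρ y c ∈ C) : ∃ k, Nat.card C = 16 ^ k := by
  have : Fact (Nat.Prime 2) := ⟨Nat.prime_two⟩
  have hodd : Odd (orderOf y) := by rw [hy]; decide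
  obtain ⟨n, hn⟩ := (IsPGroup.iff_card (p := 2)).1 ((isPGroup_two hV).to_subgroup C)
  have h := card_dvd_sub_one (K := V) (D := Subgroup.zpowers y) (ρ.comp (Subgroup.zpowers y).subtype) C ?_ ?_
  · rw [Nat.card_zpowers, hy, hn] at h
    obtain ⟨k, hk⟩ := four_dvd h
    exact ⟨k, by rw [hn, hk]⟩
  · rintro ⟨d, hd⟩ c hc
    obtain ⟨n, rfl⟩ := (isOfFinOrder_of_finite y).mem_powers_iff_mem_zpowers.2 hd
    show ρ (y ^ n) c ∈ C
    induction n with
    | zero => rw [pow_zero, map_one]; exact hc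
    | succ n ih =>
      rw [pow_succ', map_mul, MulAut.mul_apply]
      exact hinv _ (ih (pow_mem (mem_zpowers y) n))
  · rintro ⟨e, he⟩ c hc hc1 hfix
    by_contra hne1
    have he1 : e ≠ 1 := fun h => hne1 (Subtype.ext h)
    have hfix' : c ∈ fx ρ e := hfix
    obtain ⟨n, hn⟩ := ((isOfFinOrder_of_finite y).mem_powers_iff_mem_zpowers.2 he)
    have hn' : y ^ n = e := hn
    have hn5 : n % 5 ≠ 0 := by
      intro h0
      apply he1
      rw [← hn', ← pow_mod_orderOf, hy, h0, pow_zero]
    have key : ∀ j < 5, j ≠ 0 → ∃ k < 5, (j * k) % 5 = 1 := by decide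
    obtain ⟨k, -, hk⟩ := key (n % 5) (Nat.mod_lt _ (by norm_num)) hn5
    have h5 : e ^ k = y := by
      rw [← hn', ← pow_mul, ← pow_mod_orderOf, hy]
      have : n * k % 5 = 1 := by rw [← hk, Nat.mod_mul_mod]
      rw [this, pow_one]
    apply hc1
    apply eq_one_of_fix hV hodd (hCR hc)
    have h6 := fx_pow ρ hfix' k
    rwa [h5] at h6

theorem relIndex16 (hV : ∀ v : V, v * v = 1) {y : X} (hy : orderOf y = 5) (C : Subgroup V)
    (hinv : ∀ c ∈ C, ρ y c ∈ C) : ∃ k, C.relIndex (cm ρ y).range = 16 ^ k := by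
  obtain ⟨m, hm⟩ := pow16 (ρ := ρ) hV hy (cm ρ y).range le_rfl (fun c hc => apply_mem_range ρ rfl hc)
  obtain ⟨k, hk⟩ := pow16 (ρ := ρ) hV hy (C ⊓ (cm ρ y).range) inf_le_right
    (fun c hc => ⟨hinv c hc.1, apply_mem_range ρ rfl hc.2⟩)
  have h1 : Nat.card (C ⊓ (cm ρ y).range : Subgroup V) * (C ⊓ (cm ρ y).range).relIndex (cm ρ y).range =
      Nat.card (cm ρ y).range := card_mul_relIndex inf_le_right
  rw [inf_relIndex_right, hk, hm] at h1
  have hkm : k ≤ m := by
    have h2 : (16 : ℕ) ^ k ∣ 16 ^ m := Dvd.intro _ h1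
    exact (Nat.pow_dvd_pow_iff_le_right (by norm_num)).1 h2
  refine ⟨m - k, ?_⟩
  have h3 : (16 : ℕ) ^ k * 16 ^ (m - k) = 16 ^ m := by rw [← pow_add]; congr 1; omega
  rw [← h3] at h1
  exact Nat.eq_of_mul_eq_mul_left (by positivity) h1

variable {L O A : Subgroup X} {T : Sylow 2 X} {lam : V}

/-- a Sylow 2-subgroup of `L` inside `T` -/
theorem exists_syl (T : Sylow 2 X) (L : Subgroup X) [L.Normal] :
    ∃ S : Sylow 2 L, ∀ s ∈ S, (s : X) ∈ (T : Subgroup X) := by
  obtain ⟨S₀⟩ : Nonempty (Sylow 2 L) := inferInstance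
  obtain ⟨Q, hQ⟩ := (S₀.2.map L.subtype).exists_le_sylow
  obtain ⟨g, hg⟩ := MulAction.exists_smul_eq X Q T
  refine ⟨(MulAut.conjNormal g : MulAut L) • S₀, ?_⟩
  intro s hs
  have h1 : ((MulAut.conjNormal g : MulAut L)⁻¹ s : L) ∈ S₀ := by
    have h2 : s ∈ ((MulAut.conjNormal g : MulAut L) • (S₀ : Subgroup L)) := hs
    rw [Subgroup.mem_pointwise_smul_iff_inv_smul_mem] at h2
    exact h2
  have h2 : (((MulAut.conjNormal g : MulAut L)⁻¹ s : L) : X) ∈ (Q : Subgroup X) := hQ ⟨_, h1, rfl⟩
  rw [← map_inv, MulAut.conjNormal_apply, inv_inv] at h2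
  rw [← hg]
  show s.1 ∈ (g • Q : Sylow 2 X)
  rw [FFSz.mem_smul]
  exact h2

/-- **3.4 (a)** -/
theorem main (hV : ∀ v : V, v * v = 1) (hinj : ∀ x : X, (∀ v, ρ x v = v) → x = 1)
    [L.Normal] (hs : IsSimpleGroup L) (hc : Nat.card L = 168) [O.Normal] (hO : Nat.card O = 5)
    (hcent : ∀ x : X, (∀ l ∈ L, x * l = l * x) → (∀ o ∈ O, x * o = o * x) → x ∈ O)
    (hTl : ∀ t ∈ (T : Subgroup X), ρ t lam = lam) (f3 : ∀ x : X, orderOf x = 3 → ρ x lam ≠ lam)
    (hsq : ∀ a ∈ A, a * a = 1) (hA : A ≠ ⊥) (hi : (CS ρ A).index ≤ Nat.card A ^ 2) :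
    ∀ j ∈ L, ∀ o ∈ O, ρ j (ρ o lam * lam⁻¹) = ρ o lam * lam⁻¹ := by
  by_contra hcon
  push Not at hcon
  obtain ⟨j, hj, y, hyO, hmv⟩ := hcon
  have hfact5 : Fact (Nat.Prime 5) := ⟨Nat.prime_five⟩
  have hK : L32 L := COneSeven.l32 hs hc
  have hy1 : y ≠ 1 := by
    rintro rfl
    apply hmv
    rw [map_one, MulAut.one_apply, mul_inv_cancel, map_one]
  have hy5 : orderOf y = 5 := by
    have h1 : orderOf (⟨y, hyO⟩ : O) ∣ Nat.card O := orderOf_dvd_natCard _
    rw [orderOf_mk, hO] at h1
    rcases (Nat.dvd_prime Nat.prime_five).1 h1 with h2 | h2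
    · exact absurd (orderOf_eq_one_iff.1 h2) hy1
    · exact h2
  have hOy : O = zpowers y := by
    symm
    apply Subgroup.eq_of_le_of_card_ge ((zpowers_le).2 hyO)
    rw [hO, Nat.card_zpowers, hy5]
  have hodd : Odd (orderOf y) := by rw [hy5]; decide
  -- `L` and `O` commute
  have hdis : Disjoint L O := by
    rw [disjoint_iff, eq_bot_iff]
    intro x hx
    rw [mem_bot]
    have h1 : orderOf x ∣ 168 := by
      have := orderOf_dvd_natCard (⟨x, hx.1⟩ : L)
      rwa [orderOf_mk, hc] at this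
    have h2 : orderOf x ∣ 5 := by
      have := orderOf_dvd_natCard (⟨x, hx.2⟩ : O)
      rwa [orderOf_mk, hO] at this
    have h3 : orderOf x ∣ Nat.gcd 168 5 := Nat.dvd_gcd h1 h2
    exact orderOf_eq_one_iff.1 (Nat.dvd_one.1 (by simpa using h3))
  have hLO : ∀ l ∈ L, ∀ o ∈ O, l * o = o * l := fun l hl o ho =>
    (Subgroup.commute_of_normal_of_disjoint L O inferInstance inferInstance hdis l o hl ho).eq
  have hLy : ∀ l ∈ L, l * y = y * l := fun l hl => hLO l hl y hyO
  have hyo : ∀ x : X, x * y = y * x → ∀ o ∈ O, x * o = o * x := by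
    intro x hx o ho
    rw [hOy] at ho
    obtain ⟨k, rfl⟩ := mem_zpowers_iff.1 ho
    exact ((show Commute x y from hx).zpow_right k).eq
  -- elements of order two
  have hone : ∀ x : X, x * x = 1 → x * y = y * x → (∀ l ∈ L, x * l = l * x) → x = 1 := by
    intro x hxx hxy hxl
    have h1 := hcent x hxl (hyo x hxy)
    have h2 : orderOf x ∣ 5 := by
      have := orderOf_dvd_natCard (⟨x, h1⟩ : O)
      rwa [orderOf_mk, hO] at this
    have h3 : orderOf x ∣ 2 := orderOf_dvd_of_pow_eq_one (by rw [pow_two]; exact hxx)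
    have h4 : orderOf x ∣ Nat.gcd 5 2 := Nat.dvd_gcd h2 h3
    exact orderOf_eq_one_iff.1 (Nat.dvd_one.1 (by simpa using h4))
  set R := (cm ρ y).range with hR
  have hRx : ∀ x : X, x * y = y * x → ∀ w ∈ R, ρ x w ∈ R := fun x hx w hw => apply_mem_range ρ hx hw
  have hRL : ∀ l ∈ L, ∀ w ∈ R, ρ l w ∈ R := fun l hl => hRx l (hLy l hl)
  set τ := res ρ L R hRL with hτ
  have hv₀ : ρ y lam * lam⁻¹ ∈ R := ⟨lam, rfl⟩
  have hmv' : ∃ k w, τ k w ≠ w := ⟨⟨j, hj⟩, ⟨_, hv₀⟩, fun h => hmv (congrArg Subtype.val h)⟩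
  have hker : τ.ker = ⊥ := by
    rcases hs.eq_bot_or_eq_top_of_normal τ.ker (MonoidHom.normal_ker τ) with h | h
    · exact h
    · exfalso
      obtain ⟨k, w, hkw⟩ := hmv'
      apply hkw
      have : k ∈ τ.ker := by rw [h]; trivial
      rw [MonoidHom.mem_ker] at this
      rw [this]; rfl
  have h16 : ∀ C : Subgroup L, ∃ k, (CS τ C).index = 16 ^ k := by
    intro C
    have h1 : CS τ C = (CS ρ (C.map L.subtype)).subgroupOf R := by
      ext w
      constructor
      · rintro h _ ⟨c, hc, rfl⟩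
        exact congrArg Subtype.val (h c hc)
      · intro h c hc
        exact Subtype.ext (h _ ⟨c, hc, rfl⟩)
    rw [h1]
    apply relIndex16 hV hy5
    rintro c hc _ ⟨l, hl, rfl⟩
    show ρ (l : X) (ρ y c) = ρ y c
    have h2 : ρ (l : X) c = c := hc _ ⟨l, hl, rfl⟩
    rw [← MulAut.mul_apply, ← map_mul, hLy l l.2, map_mul, MulAut.mul_apply, h2]
  -- subgroups of `A` centralising `y`
  have hfour : ∀ B : Subgroup X, B ≤ A → (∀ b ∈ B, b * y = y * b) → Nat.card B ≤ 4 := by
    intro B hB hBy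
    have h1 : Nat.card (B.map (MulAut.conjNormal (H := L))) ≤ 4 := by
      apply Emp3.Seven.card_le_four hs hc
      rintro _ ⟨b, hb, rfl⟩
      rw [← map_mul, hsq b (hB hb), map_one]
    have h2 : Nat.card (B.map (MulAut.conjNormal (H := L))) = Nat.card B := by
      symm
      apply Nat.card_congr
      refine (Equiv.ofBijective (fun b : B => (⟨MulAut.conjNormal (H := L) b.1, b.1, b.2, rfl⟩ :
        B.map (MulAut.conjNormal (H := L)))) ⟨?_, ?_⟩)
      · intro b c hbc
        have h3 : MulAut.conjNormal (H := L) b.1 = MulAut.conjNormal (H := L) c.1 := congrArg Subtype.val hbc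
        have h4 : (b.1 : X)⁻¹ * c.1 = 1 := by
          apply hone
          · exact hsq _ (hB (mul_mem (inv_mem b.2) c.2))
          · exact hBy _ (mul_mem (inv_mem b.2) c.2)
          · intro l hl
            have h5 : MulAut.conjNormal (H := L) ((b.1 : X)⁻¹ * c.1) = 1 := by rw [map_mul, map_inv, h3, inv_mul_cancel]
            have h6 := congrArg (fun α : MulAut L => ((α ⟨l, hl⟩ : L) : X)) h5
            simp only [MulAut.conjNormal_apply, MulAut.one_apply] at h6
            exact mul_inv_eq_iff_eq_mul.1 h6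
        exact Subtype.ext (inv_mul_eq_one.1 h4)
      · rintro ⟨_, b, hb, rfl⟩
        exact ⟨⟨b, hb⟩, rfl⟩
    omega
  have hcA : 1 ≤ Nat.card A := Nat.card_pos
  by_cases hcase : ∀ a ∈ A, a * y = y * a
  · -- Case 1
    have hA4 := hfour A le_rfl hcase
    have hi16 : (CS ρ A).index ≤ 16 := hi.trans (by nlinarith)
    obtain ⟨k, hk⟩ := relIndex16 (ρ := ρ) hV hy5 (CS ρ A) (by
      intro c hc a ha
      rw [← MulAut.mul_apply, ← map_mul, hcase a ha, map_mul, MulAut.mul_apply, hc a ha])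
    have hle : (CS ρ A).relIndex R ≤ (CS ρ A).index := Nat.le_of_dvd (Nat.pos_of_ne_zero index_ne_zero_of_finite)
      (relIndex_dvd_index_of_normal _ _)
    have hcA1 : ∀ a ∈ A, ∀ w ∈ R, ρ a w ∈ R := fun a ha => hRx a (hcase a ha)
    have hk16 : (CS ρ A).relIndex R = 16 := by
      rcases pow_le (k := k) (by rw [← hk]; exact hle.trans hi16) with h | h
      · exfalso
        have h1 : R ≤ CS ρ A := by
          rw [← relIndex_eq_one, hk, h]
        obtain ⟨a, ha, ha1⟩ := ListC.exists_ne hA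
        apply ha1
        apply hone a (hsq a ha) (hcase a ha)
        intro l hl
        have h2 : a * l * a⁻¹ * l⁻¹ ∈ L := mul_mem (Subgroup.Normal.conj_mem inferInstance l hl a) (inv_mem hl)
        have h3 : (⟨_, h2⟩ : L) ∈ τ.ker := by
          rw [MonoidHom.mem_ker]
          ext w
          show ρ (a * l * a⁻¹ * l⁻¹) w = w
          have h4 : ρ a⁻¹ (ρ l⁻¹ w) = ρ l⁻¹ w := h1 (hRL _ (inv_mem hl) _ w.2) _ (inv_mem ha)
          have h5 : ρ a w = w := h1 w.2 a ha
          have h6 : ρ l (ρ l⁻¹ w) = w := by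
            rw [← MulAut.mul_apply, ← map_mul, mul_inv_cancel, map_one]; rfl
          rw [map_mul, map_mul, map_mul, MulAut.mul_apply, MulAut.mul_apply, MulAut.mul_apply, h4, h6, h5]
        rw [hker, mem_bot] at h3
        have h4 : a * l * a⁻¹ * l⁻¹ = 1 := congrArg Subtype.val h3
        calc a * l = (a * l * a⁻¹ * l⁻¹) * (l * a) := by group
          _ = l * a := by rw [h4, one_mul]
      · rw [hk, h]
    have hcard4 : 4 ≤ Nat.card A := by
      by_contra hcon
      push Not at hcon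
      have h1 : (CS ρ A).index ≤ 9 := hi.trans (by nlinarith)
      omega
    -- an involution of `A` in `L`
    obtain ⟨a, haA, ha1, haL⟩ : ∃ a ∈ A, a ≠ 1 ∧ a ∈ L := by
      have hsv := sv hs hc
      have hin : ∀ a ∈ A, MulAut.conjNormal (H := L) a ∈ (MulAut.conj : L →* MulAut L).range → a ∈ L := by
        rintro a ha ⟨g, hg⟩
        have h1 : ∀ l ∈ L, (g : X)⁻¹ * a * l = l * ((g : X)⁻¹ * a) := by
          intro l hl
          have h2 := congrArg (fun α : MulAut L => ((α ⟨l, hl⟩ : L) : X)) hg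
          simp only [MulAut.conj_apply, MulAut.conjNormal_apply, coe_mul, coe_inv] at h2
          have h3 : a * l = (g : X) * l * (g : X)⁻¹ * a := by rw [h2]; group
          calc (g : X)⁻¹ * a * l = (g : X)⁻¹ * (a * l) := by group
            _ = (g : X)⁻¹ * ((g : X) * l * (g : X)⁻¹ * a) := by rw [h3]
            _ = _ := by group
        have h2 : (g : X)⁻¹ * a * y = y * ((g : X)⁻¹ * a) := by
          have h3 : (g : X)⁻¹ * y = y * (g : X)⁻¹ := hLy _ (inv_mem g.2)
          rw [mul_assoc, hcase a ha, ← mul_assoc, h3, mul_assoc]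
        have h3 : (g : X)⁻¹ * a ∈ O := hcent _ h1 (hyo _ h2)
        set o := (g : X)⁻¹ * a with ho
        have h4 : a = (g : X) * o := by rw [ho]; group
        have h5 : (g : X) * o = o * (g : X) := hLO _ g.2 _ h3
        have h6 : (g : X) * g * (o * o) = 1 := by
          have h7 := hsq a ha
          rw [h4] at h7
          calc (g : X) * g * (o * o) = (g : X) * (g * o) * o := by group
            _ = (g : X) * (o * g) * o := by rw [h5]
            _ = (g : X) * o * (g * o) := by group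
            _ = 1 := h7
        have h7 : o * o ∈ L := by
          have h8 : o * o = ((g : X) * g)⁻¹ := (eq_inv_of_mul_eq_one_right h6)
          rw [h8]
          exact inv_mem (mul_mem g.2 g.2)
        have h8 : o * o = 1 := by
          have h9 : o * o ∈ L ⊓ O := ⟨h7, mul_mem h3 h3⟩
          rw [disjoint_iff.1 hdis, mem_bot] at h9
          exact h9
        have h9 : orderOf o ∣ 5 := by
          have := orderOf_dvd_natCard (⟨o, h3⟩ : O)
          rwa [orderOf_mk, hO] at this
        have h10 : orderOf o ∣ 2 := orderOf_dvd_of_pow_eq_one (by rw [pow_two]; exact h8)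
        have h11 : orderOf o ∣ Nat.gcd 5 2 := Nat.dvd_gcd h9 h10
        have h12 : o = 1 := orderOf_eq_one_iff.1 (Nat.dvd_one.1 (by simpa using h11))
        rw [h4, h12, mul_one]
        exact g.2
      obtain ⟨a, ha, ha1⟩ := ListC.exists_ne hA
      obtain ⟨b, hb, hb1, hba⟩ : ∃ b ∈ A, b ≠ 1 ∧ b ≠ a := by
        by_contra hcon
        push Not at hcon
        have := FFPsl.card_le_two_of (B := A) (a := a) (fun x hx => by
          by_cases hx1 : x = 1
          · exact Or.inl hx1
          · exact Or.inr (hcon x hx hx1))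
        omega
      by_cases h1 : MulAut.conjNormal (H := L) a ∈ (MulAut.conj : L →* MulAut L).range
      · exact ⟨a, ha, ha1, hin a ha h1⟩
      by_cases h2 : MulAut.conjNormal (H := L) b ∈ (MulAut.conj : L →* MulAut L).range
      · exact ⟨b, hb, hb1, hin b hb h2⟩
      refine ⟨a * b, mul_mem ha hb, ?_, hin _ (mul_mem ha hb) ?_⟩
      · intro h3
        apply hba
        rw [← inv_eq_of_mul_eq_one_right h3]
        exact (inv_eq_of_mul_eq_one_left (hsq a ha))
      · rw [map_mul]
        exact hsv.mul_mem_L h1 h2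
    -- `L` is trivial on `C_V(y)`
    have htriv : ∀ l ∈ L, ∀ w ∈ fx ρ y, ρ l w = w := by
      have h1 : fx ρ y ≤ CS ρ A := by
        have h2 : R ⊔ CS ρ A = ⊤ := by
          rw [← index_eq_one]
          have h3 := relIndex_mul_index (H := CS ρ A) (K := R ⊔ CS ρ A) le_sup_right
          rw [relIndex_sup_right, hk16] at h3
          have h4 : (R ⊔ CS ρ A).index ≠ 0 := index_ne_zero_of_finite
          omega
        intro w hw b hb
        have h3 : w ∈ R ⊔ CS ρ A := by rw [h2]; trivial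
        obtain ⟨r, hr, c, hc, rfl⟩ := mem_sup.1 h3
        have h4 : ρ b (r * c) * (r * c)⁻¹ = ρ b r * r⁻¹ := by
          rw [map_mul, hc b hb, mul_inv]
          have : ρ b r * c * (r⁻¹ * c⁻¹) = ρ b r * r⁻¹ * (c * c⁻¹) := mul_mul_mul_comm _ _ _ _
          rw [this, mul_inv_cancel, mul_one]
        have h5 : ρ b r * r⁻¹ ∈ R := mul_mem (hcA1 b hb r hr) (inv_mem hr)
        have h6 : ρ y (ρ b (r * c) * (r * c)⁻¹) = ρ b (r * c) * (r * c)⁻¹ := by
          have e1 : ρ y (r * c) = r * c := hw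
          have e2 : ρ y (ρ b (r * c)) = ρ b (r * c) := by rw [comm_apply (hcase b hb).symm, e1]
          rw [map_mul, map_inv, e1, e2]
        rw [h4] at h6
        have h7 := eq_one_of_fix hV hodd h5 h6
        rw [← h4] at h7
        exact mul_inv_eq_one.1 h7
      -- the kernel
      have hRL' : ∀ l ∈ L, ∀ w ∈ fx ρ y, ρ l w ∈ fx ρ y := by
        intro l hl w hw
        show ρ y (ρ l w) = ρ l w
        rw [← MulAut.mul_apply, ← map_mul, ← hLy l hl, map_mul, MulAut.mul_apply, show ρ y w = w from hw]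
      have h2 : (res ρ L (fx ρ y) hRL').ker = ⊤ := by
        rcases hs.eq_bot_or_eq_top_of_normal _ (MonoidHom.normal_ker (res ρ L (fx ρ y) hRL')) with h | h
        · exfalso
          apply ha1
          have h3 : (⟨a, haL⟩ : L) ∈ (res ρ L (fx ρ y) hRL').ker := by
            rw [MonoidHom.mem_ker]
            ext w
            exact h1 w.2 a haA
          rw [h, mem_bot] at h3
          exact congrArg Subtype.val h3
        · exact h
      intro l hl w hw
      have h3 : (⟨l, hl⟩ : L) ∈ (res ρ L (fx ρ y) hRL').ker := by rw [h2]; trivial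
      rw [MonoidHom.mem_ker] at h3
      exact congrArg Subtype.val (congrArg (fun α : MulAut (fx ρ y) => α ⟨w, hw⟩) h3)
    obtain ⟨S, hS⟩ := exists_syl T L
    have hfxa : (fx τ ⟨a, haL⟩).index ≤ 16 := by
      rw [hτ, fx_res]
      show (fx ρ a).relIndex R ≤ 16
      rw [← hk16]
      exact Nat.le_of_dvd (Nat.pos_of_ne_zero (by rw [hk16]; norm_num)) (relIndex_dvd_of_le_left R (CS_le_fx haA))
    obtain ⟨x, hx3, hxv⟩ := core_one hK h16 (a₀ := ⟨a, haL⟩) (fun h => ha1 (congrArg Subtype.val h))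
      (Subtype.ext (hsq a haA)) hfxa S (v := ⟨_, hv₀⟩) (by
        intro s hs'
        apply Subtype.ext
        show ρ (s : X) (ρ y lam * lam⁻¹) = ρ y lam * lam⁻¹
        have h1 : ρ (s : X) lam = lam := hTl _ (hS s hs')
        rw [map_mul, map_inv, h1, ← MulAut.mul_apply, ← map_mul, hLy s s.2, map_mul, MulAut.mul_apply, h1])
    have hx3' : orderOf (x : X) = 3 := by rw [orderOf_coe]; exact hx3
    apply f3 x hx3'
    have hxv' : ρ (x : X) (ρ y lam * lam⁻¹) = ρ y lam * lam⁻¹ := congrArg Subtype.val hxv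
    set u := ρ (x : X) lam * lam⁻¹ with hu
    have h1 : u ∈ fx ρ y := by
      show ρ y u = u
      have h2 : ρ y (ρ (x : X) lam) = ρ (x : X) (ρ y lam) := by
        rw [← MulAut.mul_apply, ← map_mul, ← hLy x x.2, map_mul, MulAut.mul_apply]
      have h3 : ρ y (ρ (x : X) lam) * (ρ (x : X) lam)⁻¹ = ρ y lam * lam⁻¹ := by
        rw [h2, ← map_inv, ← map_mul]; exact hxv'
      rw [hu, map_mul, map_inv]
      rw [← div_eq_mul_inv, ← div_eq_mul_inv, div_eq_div_iff_mul_eq_mul] at h3 ⊢
      rw [h3, mul_comm]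
    have h2 : ρ (x : X) u = u := htriv x x.2 u h1
    have h3 : u = 1 := eq_one_of_fix (y := (x : X)) hV (by rw [hx3']; decide) ⟨lam, rfl⟩ h2
    exact mul_inv_eq_one.1 h3
  · -- Case 2
    push Not at hcase
    obtain ⟨b, hb, hby⟩ := hcase
    have hinv : ∀ c ∈ A, c * y ≠ y * c → c * y * c⁻¹ = y⁻¹ := by
      intro c hc hcy
      refine (eq_or_inv Nat.prime_five hy5 (hsq c hc) ?_).resolve_left hcy
      rw [← hOy]
      exact Subgroup.Normal.conj_mem inferInstance y hyO c
    have hbi := hinv b hb hby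
    set B := A ⊓ centralizer {y} with hB
    have hmemB : ∀ c, c ∈ B ↔ c ∈ A ∧ c * y = y * c := by
      intro c
      rw [hB, mem_inf, mem_centralizer_singleton_iff]
    have hB4 : Nat.card B ≤ 4 := hfour B inf_le_left fun c hc => ((hmemB c).1 hc).2
    have hcov : ∀ c ∈ A, c ∉ B → b⁻¹ * c ∈ B := by
      intro c hc hcB
      have hcy : c * y ≠ y * c := fun h => hcB ((hmemB c).2 ⟨hc, h⟩)
      have h1 := hinv c hc hcy
      refine (hmemB _).2 ⟨mul_mem (inv_mem hb) hc, ?_⟩
      have h2 : c * y = y⁻¹ * c := by rw [← h1]; group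
      have h3 : b⁻¹ * y⁻¹ = y * b⁻¹ := by rw [← hbi]; group
      rw [mul_assoc, h2, ← mul_assoc, h3, mul_assoc]
    have hA8 : Nat.card A ≤ 2 * Nat.card B := by
      classical
      have h1 : Nat.card A ≤ Nat.card (Bool × B) := by
        apply Nat.card_le_card_of_injective
          (fun c : A => if h : (c : X) ∈ B then (true, (⟨c, h⟩ : B)) else (false, ⟨_, hcov c c.2 h⟩))
        intro c d hcd
        by_cases h1 : (c : X) ∈ B <;> by_cases h2 : (d : X) ∈ B <;> simp only [h1, h2, dif_pos, dif_neg,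
          not_false_eq_true, Prod.mk.injEq, reduceCtorEq, false_and, true_and, Subtype.mk.injEq, mul_right_inj] at hcd
        · exact Subtype.ext hcd
        · exact Subtype.ext hcd
      rw [Nat.card_prod, Nat.card_eq_fintype_card (α := Bool), Fintype.card_bool] at h1
      exact h1
    have hRc : 4096 ≤ (fx ρ y).index := by
      have h1 := core_two hK hs (W := R) (τ := τ) (fun w => Subtype.ext (hV w)) h16 hmv'
      rw [hR, card_range_cm] at h1
      exact h1
    have hb1 := half' ρ hodd hbi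
    have hb2 : (fx ρ b).index ≤ (CS ρ A).index := index_le_of_le (CS_le_fx hb)
    have hA64 : (CS ρ A).index ≤ 64 := hi.trans (by
      have : Nat.card A ≤ 8 := by omega
      nlinarith)
    have hb64 : 64 ≤ (fx ρ b).index := by
      by_contra hcon
      push Not at hcon
      have : (fx ρ b).index ^ 2 ≤ 63 ^ 2 := Nat.pow_le_pow_left (by omega) 2
      omega
    have hbe : (fx ρ b).index = 64 := by omega
    have hCSA : CS ρ A = fx ρ b := eq_of_index_le (CS_le_fx hb) (by omega)
    have hA8' : 8 ≤ Nat.card A := by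
      by_contra hcon
      push Not at hcon
      have h1 : Nat.card A ^ 2 ≤ 7 ^ 2 := Nat.pow_le_pow_left (by omega) 2
      omega
    -- `C_A(y)` centralises everything
    have hB1 : B = ⊥ := by
      have htop : fx ρ b ⊔ fx ρ (y * b * y⁻¹) = ⊤ := by
        have h1 : (fx ρ (y * b * y⁻¹)).index = 64 := by rw [index_fx_conj, hbe]
        have h2 : 4096 ≤ (fx ρ b ⊓ fx ρ (y * b * y⁻¹)).index := by
          refine hRc.trans (index_le_of_le ?_)
          intro w hw
          have h3 := fx_mul ρ hw.1 hw.2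
          have h4 : b * (y * b * y⁻¹) = (y * y)⁻¹ := by
            have h5 : b * y = y⁻¹ * b := by rw [← hbi]; group
            calc b * (y * b * y⁻¹) = (b * y) * b * y⁻¹ := by group
              _ = y⁻¹ * (b * b) * y⁻¹ := by rw [h5]; group
              _ = (y * y)⁻¹ := by rw [hsq b hb]; group
          rw [h4] at h3
          apply fx_of_sq ρ hodd
          show ρ (y * y) w = w
          have h5 : ρ (y * y)⁻¹ w = w := h3
          conv_lhs => rw [← h5]
          rw [← MulAut.mul_apply, ← map_mul, mul_inv_cancel, map_one]; rfl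
        have h3 := FFThree.card_sup_mul (fx ρ b) (fx ρ (y * b * y⁻¹))
        have e1 := (fx ρ b).card_mul_index
        have e2 := (fx ρ (y * b * y⁻¹)).card_mul_index
        have e3 := (fx ρ b ⊓ fx ρ (y * b * y⁻¹)).card_mul_index
        rw [hbe] at e1
        rw [h1] at e2
        have p1 : 0 < Nat.card (fx ρ b ⊓ fx ρ (y * b * y⁻¹) : Subgroup V) := Nat.card_pos
        have p2 : 0 < Nat.card V := Nat.card_pos
        apply eq_top_of_card_eq
        apply le_antisymm (card_le_card_group _)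
        set s := Nat.card (fx ρ b ⊔ fx ρ (y * b * y⁻¹) : Subgroup V)
        set i := Nat.card (fx ρ b ⊓ fx ρ (y * b * y⁻¹) : Subgroup V)
        set v := Nat.card V
        set f := Nat.card (fx ρ b)
        set f' := Nat.card (fx ρ (y * b * y⁻¹))
        have e4 : i * 4096 ≤ v := by rw [← e3]; exact Nat.mul_le_mul_left _ h2
        have e5 : v * v = s * i * 4096 := by
          rw [h3]
          calc v * v = (f * 64) * (f' * 64) := by rw [e1, e2]
            _ = f * f' * 4096 := by ring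
        have e6 : v * v ≤ s * v := by
          rw [e5, mul_assoc]
          exact Nat.mul_le_mul_left _ e4
        exact Nat.le_of_mul_le_mul_right e6 p2
      rw [eq_bot_iff]
      intro c hc
      rw [mem_bot]
      apply hinj
      intro v
      obtain ⟨hcA', hcy⟩ := (hmemB c).1 hc
      have h1 : fx ρ b ≤ fx ρ c := by rw [← hCSA]; exact CS_le_fx hcA'
      have h2 : fx ρ (y * b * y⁻¹) ≤ fx ρ c := by
        have h3 : y * c * y⁻¹ = c := by rw [← hcy]; group
        rw [← h3]
        exact fx_conj_mono h1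
      have h3 : (⊤ : Subgroup V) ≤ fx ρ c := by rw [← htop]; exact sup_le h1 h2
      exact h3 trivial
    rw [hB1, card_bot] at hA8
    omega

end main

/-! ### the additive form -/

section add

universe u

variable {M X : Type u} [AddCommGroup M] [Group X] [DistribMulAction X M] {lam : M} {Tb A A' : Subgroup X}

open ListM

/-- **3.4 (a)** on helper424's `Out` -/
theorem _root_.Cfsg.Agent.OddCyclic.EN.Pi.Out.fitA (h : Pi.Out M X lam Tb A A') {L O : Subgroup X} [L.Normal]
    [O.Normal] (hs : IsSimpleGroup L) (hc : Nat.card L = 168) (hO : Nat.card O = 5)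
    (hcent : ∀ x : X, (∀ l ∈ L, x * l = l * x) → (∀ o ∈ O, x * o = o * x) → x ∈ O)
    (f3 : ∀ x : X, orderOf x = 3 → x • lam ≠ lam) :
    ∀ j ∈ L, ∀ o ∈ O, j • (o • lam - lam) = o • lam - lam := by
  have := h.fin
  have := h.finM
  obtain ⟨Q, rfl⟩ := h.syl
  have key := main (ρ := rh M X) (lam := Multiplicative.ofAdd lam) (T := Q) (A := A)
    (fun v => congrArg Multiplicative.ofAdd (h.two v.toAdd))
    (fun x hx => h.faithful x fun m => (rh_eq_iff x m).1 (hx (Multiplicative.ofAdd m))) hs hc hO hcent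
    (fun t ht => (rh_eq_iff _ _).2 (h.norm t (le_normalizer ht)))
    (fun x hx hl => f3 x hx ((rh_eq_iff _ _).1 hl)) h.sq h.hne (index_CS_le h.card_sq)
  intro j hj o ho
  have h1 := congrArg Multiplicative.toAdd (key j hj o ho)
  change j • (o • lam + -lam) = o • lam + -lam at h1
  rw [sub_eq_add_neg]
  exact h1

end add

end Cfsg.Agent.OddCyclic.EN.FitA
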