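import Cfsg.Agent.OddCyclic.EN.BbMain

/-!
# (B-b): conjugates of `Bb`, `Star`

`Bb.conj`, `Star.conj`, `Star.pt` (every point), `Star.point` (the points of `V`).
-/

set_option autoImplicit false
set_option linter.unusedSectionVars false

namespace Cfsg.Agent.OddCyclic.EN.BbConj

open Subgroup Cfsg Cfsg.Agent.ZN Cfsg.Agent.MinSimple.Geo Cfsg.Agent.OddCyclic.GeoC Cfsg.Agent.OddCyclic.BTwoA
  Cfsg.Agent.OddCyclic.EN.Line Cfsg.Agent.OddCyclic.EN.Base Cfsg.Agent.OddCyclic.EN.RepM
  Cfsg.Agent.OddCyclic.EN.BbDefs Cfsg.Agent.OddCyclic.EN.BbMain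
open Cfsg.Agent.Schreier.Basic (map_perfect)
open scoped commutatorElement

universe u

variable {G : Type u} [Group G]

theorem cj_centralizer (g : G) (A : Subgroup G) :
    cj g (centralizer (A : Set G)) = centralizer ((cj g A : Subgroup G) : Set G) := by
  ext x
  rw [mem_cj, mem_centralizer_iff, mem_centralizer_iff]
  constructor
  · intro h a ha
    have ha' : g⁻¹ * a * g ∈ A := mem_cj.mp ha
    have := h _ ha'
    calc a * x = g * (g⁻¹ * a * g * (g⁻¹ * x * g)) * g⁻¹ := by group
      _ = g * (g⁻¹ * x * g * (g⁻¹ * a * g)) * g⁻¹ := by rw [this]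
      _ = x * a := by group
  · intro h a ha
    have := h (g * a * g⁻¹) (conj_mem_cj ha)
    calc a * (g⁻¹ * x * g) = g⁻¹ * (g * a * g⁻¹ * x) * g := by group
      _ = g⁻¹ * (x * (g * a * g⁻¹)) * g := by rw [this]
      _ = g⁻¹ * x * g * a := by group

theorem cj_vx (g : G) (A : Subgroup G) (z : G) : cj g (vx A z) = vx (cj g A) (g * z * g⁻¹) := by
  have key : ∀ (g : G) (A : Subgroup G) (z : G), cj g (vx A z) ≤ vx (cj g A) (g * z * g⁻¹) := by
    intro g A z
    rw [cj_le_iff]
    conv_lhs => unfold vx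
    rw [closure_le]
    rintro _ ⟨x, hx, rfl⟩
    rw [SetLike.mem_coe, mem_cj, inv_inv]
    exact subset_closure ⟨g * x * g⁻¹, conj_mem_cj hx, by group⟩
  refine le_antisymm (key g A z) ?_
  have h := key g⁻¹ (cj g A) (g * z * g⁻¹)
  have e : g⁻¹ * (g * z * g⁻¹) * g⁻¹⁻¹ = z := by group
  rw [e, cj_inv_cj, cj_le_iff, inv_inv] at h
  exact h

theorem conj_pow' (g c : G) (n : ℕ) : g * c ^ n * g⁻¹ = (g * c * g⁻¹) ^ n := by rw [conj_pow]

theorem isStar_conj {L : Subgroup G} (h : IsStar L) (g : G) : IsStar (cj g L) where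
  perf := map_perfect _ h.perf
  max := by
    intro D hD hn
    have h1 : cj g⁻¹ D ≤ L := by rw [cj_le_iff, inv_inv]; exact hD
    have h2 : L ≤ normalizer ((cj g⁻¹ D : Subgroup G) : Set G) := by
      rw [← cj_normalizer, ← cj_le_iff]; exact hn
    rcases h.max _ h1 h2 with e | e
    · left
      rw [← e, cj_cj_inv]
    · right
      have h3 := e.map (MulAut.conj g).toMonoidHom
      have e2 : (cj g⁻¹ D).map (MulAut.conj g).toMonoidHom = D := cj_cj_inv g D
      rwa [e2] at h3
  three := by rw [card_cj]; exact h.three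

variable [Finite G] {T V : Subgroup G} {z : G}

theorem bb_conj (h : Bb T V z) (g : G) : Bb (cj g T) (cj g V) (g * z * g⁻¹) where
  toGeoC := h.toGeoC.conj g
  ab := by
    intro a ha b hb
    rw [ws_cj, ← cj_ws, mem_cj] at ha hb
    have := h.ab _ ha _ hb
    calc a * b = g * (g⁻¹ * a * g * (g⁻¹ * b * g)) * g⁻¹ := by group
      _ = g * (g⁻¹ * b * g * (g⁻¹ * a * g)) * g⁻¹ := by rw [this]
      _ = b * a := by group
  sec := h.sec
  nor := by
    rw [← cj_normalizer, ← cj_normalizer]
    exact cj_mono h.nor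
  four := by
    intro W hW hsq hTW hTc hex
    have h1 : cj g⁻¹ W = V := by
      refine h.four (cj g⁻¹ W) (by rw [card_cj]; exact hW) ?_ ?_ ?_ ?_
      · intro w hw
        rw [mem_cj, inv_inv] at hw
        have := hsq _ hw
        calc w * w = g⁻¹ * (g * w * g⁻¹ * (g * w * g⁻¹)) * g := by group
          _ = 1 := by rw [this]; group
      · rw [← cj_normalizer, ← cj_le_iff]; exact hTW
      · intro hle
        apply hTc
        have h2 := cj_mono (g := g) hle
        rwa [cj_centralizer, cj_cj_inv] at h2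
      · obtain ⟨x, hx, hxz⟩ := hex
        refine ⟨g⁻¹ * x * g, ?_, fun e => hxz ?_⟩
        · rw [← cj_normalizer, mem_cj, inv_inv]
          have e : g * (g⁻¹ * x * g) * g⁻¹ = x := by group
          rw [e]; exact hx
        · calc x * (g * z * g⁻¹) = g * (g⁻¹ * x * g * z) * g⁻¹ := by group
            _ = g * (z * (g⁻¹ * x * g)) * g⁻¹ := by rw [e]
            _ = g * z * g⁻¹ * x := by group
    rw [← h1, cj_cj_inv]
  tri := by
    intro U hU hU1 hTU
    have hU1' : cj g⁻¹ U ≠ ⊥ := by
      intro e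
      apply hU1
      have := congrArg (cj g) e
      rw [cj_cj_inv] at this
      rw [this]
      exact Subgroup.map_bot _
    have hTU' : T ≤ normalizer ((cj g⁻¹ U : Subgroup G) : Set G) := by
      rw [← cj_normalizer, ← cj_le_iff]; exact hTU
    have hN : cj g (normalizer ((cj g⁻¹ U : Subgroup G) : Set G)) = normalizer (U : Set G) := by
      rw [cj_normalizer, cj_cj_inv]
    rcases h.tri (cj g⁻¹ U) (hU.map _) hU1' hTU' with h1 | ⟨h1, h2⟩
    · left
      have := cj_mono (g := g) h1
      rwa [hN, cj_centralizer_singleton] at this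
    · right
      refine ⟨?_, fun c hc hcz => ?_⟩
      · have := cj_mono (g := g) h1
        rwa [cj_vx, hN] at this
      · obtain ⟨i, j, hij⟩ := h2 (g⁻¹ * c * g) (by
          rw [← hN, mem_cj] at hc; exact hc) (by
          rw [← cj_centralizer_singleton, mem_cj] at hcz; exact hcz)
        refine ⟨i, j, ?_⟩
        have h3 : c ^ (2 ^ i * 3 ^ j) ∈ cj g (centralizer ((vx (normalizer ((cj g⁻¹ U : Subgroup G) : Set G)) z :
          Subgroup G) : Set G)) := by
          rw [mem_cj]
          have e : g⁻¹ * c ^ (2 ^ i * 3 ^ j) * g = (g⁻¹ * c * g) ^ (2 ^ i * 3 ^ j) := by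
            have := conj_pow' g⁻¹ c (2 ^ i * 3 ^ j)
            rwa [inv_inv] at this
          rw [e]; exact hij
        rwa [cj_centralizer, cj_vx, hN] at h3
  red := by
    intro Y hY hYn hcore L hLC hCL hL hmv
    rw [ws_cj, ← cj_ws] at hY
    rw [← cj_centralizer_singleton] at hYn hLC hCL hcore
    have hY' : cj g⁻¹ Y ≤ ws V z := by rw [cj_le_iff, inv_inv]; exact hY
    have hYn' : centralizer ({z} : Set G) ≤ normalizer ((cj g⁻¹ Y : Subgroup G) : Set G) := by
      rw [← cj_normalizer, ← cj_le_iff]; exact hYn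
    have key := h.red (cj g⁻¹ Y) hY' hYn' (fun D hD hDn hDk => by
      have h1 := hcore (cj g D) (cj_mono hD) (by rw [← cj_normalizer]; exact cj_mono hDn) (by
        intro d hd
        obtain ⟨k, hk⟩ := hDk _ (mem_cj.mp hd)
        refine ⟨k, ?_⟩
        rw [← cj_centralizer, mem_cj, inv_inv] at hk
        have e : g * (g⁻¹ * d * g) ^ 2 ^ k * g⁻¹ = d ^ 2 ^ k := by
          rw [conj_pow']; congr 1; group
        rwa [e] at hk)
      rw [← cj_centralizer, ← cj_le_iff]; exact h1) (cj g⁻¹ L) (by rw [cj_le_iff, inv_inv]; exact hLC) (by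
      rw [← cj_normalizer, ← cj_le_iff]; exact hCL) (isStar_conj hL _) (by
      intro hle
      apply hmv
      rw [cj_le_iff, inv_inv, cj_centralizer] at hle
      exact hle)
    rw [← cj_centralizer] at key
    exact cj_le_cj.mp key

theorem star_conj {L : Subgroup G} (h : Star T V z L) (g : G) : Star (cj g T) (cj g V) (g * z * g⁻¹) (cj g L) where
  toBb := bb_conj h.toBb g
  toIsStar := isStar_conj h.toIsStar g
  L_le := by rw [← cj_centralizer_singleton]; exact cj_mono h.L_le
  L_nor := by rw [← cj_centralizer_singleton, ← cj_normalizer]; exact cj_mono h.L_nor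
  L_mv := by
    intro hle
    apply h.L_mv
    rw [← cj_centralizer] at hle
    exact cj_le_cj.mp hle
  L_kq := by
    rw [kq_cj_left, ← Base.cj_kq, ← cj_inf, ← cj_o2]
    exact cj_mono h.L_kq
  F2 := by
    intro U hU hU1 hTU hLU
    have hU1' : cj g⁻¹ U ≠ ⊥ := by
      intro e
      apply hU1
      have := congrArg (cj g) e
      rw [cj_cj_inv] at this
      rw [this]
      exact Subgroup.map_bot _
    have h1 := h.F2 (cj g⁻¹ U) (hU.map _) hU1' (by rw [← cj_normalizer, ← cj_le_iff]; exact hTU) (by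
      rw [← cj_normalizer, ← cj_le_iff]; exact hLU)
    rwa [← cj_normalizer, cj_le_iff, inv_inv, cj_centralizer_singleton] at h1
  L_nor' := by rw [← cj_normalizer, h.L_nor', cj_centralizer_singleton]
  RL := by
    intro x hx
    have e : x * (g * z * g⁻¹) * x⁻¹ = g * ((g⁻¹ * x * g) * z * (g⁻¹ * x * g)⁻¹) * g⁻¹ := by group
    rw [e, ← cj_centralizer_singleton] at hx
    rw [e, h.RL _ (cj_le_cj.mp hx)]
  RED := by
    intro w hw hq l hl
    rw [ws_cj, ← cj_ws, mem_cj] at hw
    rw [mem_cj] at hl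
    have h1 := h.RED _ hw (fun y hy => by
      have h2 := hq (g * y * g⁻¹) (by rw [← cj_o2]; exact conj_mem_cj hy)
      calc y * (g⁻¹ * w * g) = g⁻¹ * (g * y * g⁻¹ * w) * g := by group
        _ = g⁻¹ * (w * (g * y * g⁻¹)) * g := by rw [h2]
        _ = g⁻¹ * w * g * y := by group) _ hl
    calc l * w = g * (g⁻¹ * l * g * (g⁻¹ * w * g)) * g⁻¹ := by group
      _ = g * (g⁻¹ * w * g * (g⁻¹ * l * g)) * g⁻¹ := by rw [h1]
      _ = w * l := by group
  mv := by
    intro hle
    apply h.mv
    rw [← cj_centralizer, ← cj_o2] at hle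
    exact cj_le_cj.mp hle
  f3 := by
    intro x hx
    rw [← cj_centralizer, mem_cj] at hx
    have h1 := h.f3 _ hx
    have e : orderOf (g⁻¹ * x * g) = orderOf x := by
      have := orderOf_injective (MulAut.conj g⁻¹).toMonoidHom (MulAut.conj g⁻¹).injective x
      simpa using this
    rwa [e] at h1
  k3 := by
    intro x hx
    rw [kq_cj_left, ← Base.cj_kq, mem_cj] at hx
    have h1 := h.k3 _ hx
    have e : orderOf (g⁻¹ * x * g) = orderOf x := by
      have := orderOf_injective (MulAut.conj g⁻¹).toMonoidHom (MulAut.conj g⁻¹).injective x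
      simpa using this
    rwa [e] at h1

/-- every point of `V` -/
theorem star_point {L : Subgroup G} (h : Star T V z L) {p : G} (hp : p ∈ V) (hp1 : p ≠ 1) :
    ∃ g ∈ normalizer (V : Set G), g * z * g⁻¹ = p ∧ Star (cj g T) V p (cj g L) := by
  obtain ⟨g, hg, rfl⟩ := h.trans p hp hp1
  have h1 := star_conj h g
  rw [cj_eq_of_mem_normalizer hg] at h1
  exact ⟨g, hg, rfl, h1⟩

end Cfsg.Agent.OddCyclic.EN.BbConj
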