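import Cfsg.Agent.OddCyclic.EN.ListM

/-!
# S0342, (B-b), section 3 of helper217's blueprint: (3.2), a normal `r`-subgroup of `X` which moves `lam`

`X` acts faithfully on the elementary abelian 2-group `V = ⟨lam ^ X⟩`, `O` is a normal `r`-subgroup of `X`, `r ≥ 5`,
`X = O C_X(lam)`, `1 ≠ A ≤ C_X(lam)` elementary abelian, `|V : C_V(A)| ≤ |A|²`. Then `|O| = 5`, `|V : C_V(O)| = 16`,
`|A| = 2`, `A` inverts `O`, `C_X(O) = O`.
-/

set_option autoImplicit false
set_option linter.unusedSectionVars false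

namespace Cfsg.Agent.OddCyclic.EN.ListC

open Subgroup Cfsg.Agent.OddCyclic.T1Module Cfsg.Agent.OddCyclic.FFBasic
  Cfsg.Agent.OddCyclic.FFRed Cfsg.Agent.OddCyclic.FFSl2 Cfsg.Agent.OddCyclic.T1Defs

section grp

variable {X : Type*} [Group X]

theorem exists_ne {A : Subgroup X} (h : A ≠ ⊥) : ∃ a ∈ A, a ≠ 1 := by
  obtain ⟨⟨a, ha⟩, ha1⟩ := ne_bot_iff_exists_ne_one.1 h
  exact ⟨a, ha, fun h => ha1 (Subtype.ext h)⟩

/-- `a`, with `a² = 1`, normalising `⟨w⟩` of odd prime power order centralises or inverts `w` -/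
theorem comm_or_inv {a w : X} {r n : ℕ} (hr : r.Prime) (hr2 : r ≠ 2) (hw : orderOf w = r ^ n) (ha : a * a = 1)
    (hn : a * w * a⁻¹ ∈ zpowers w) : a * w = w * a ∨ a * w * a⁻¹ = w⁻¹ := by
  obtain ⟨k, hk⟩ := hn
  have hk' : w ^ k = a * w * a⁻¹ := hk
  have h1 : (w ^ k) ^ k = w := by
    rw [hk', conj_zpow, hk']
    have : a * (a * w * a⁻¹) * a⁻¹ = (a * a) * w * (a * a)⁻¹ := by group
    rw [this, ha]; group
  rw [← zpow_mul] at h1
  have h2 : w ^ (k * k - 1) = 1 := by rw [zpow_sub, h1, zpow_one, mul_inv_cancel]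
  have h3 : ((r : ℤ) ^ n) ∣ k * k - 1 := by
    have h4 := orderOf_dvd_iff_zpow_eq_one.2 h2
    rw [hw] at h4
    exact_mod_cast h4
  have h4 : ((r : ℤ) ^ n) ∣ (k - 1) * (k + 1) := by
    have : (k - 1) * (k + 1) = k * k - 1 := by ring
    rwa [this]
  have hp := Nat.prime_iff_prime_int.1 hr
  by_cases h5 : (r : ℤ) ∣ k - 1
  · have h6 : ¬ (r : ℤ) ∣ k + 1 := by
      intro h6
      have h7 : (r : ℤ) ∣ 2 := by
        have := dvd_sub h6 h5
        have h8 : k + 1 - (k - 1) = 2 := by ring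
        rwa [h8] at this
      have h8 : r ∣ 2 := by exact_mod_cast h7
      exact hr2 ((Nat.prime_dvd_prime_iff_eq hr Nat.prime_two).1 h8)
    left
    have h7 : ((r : ℤ) ^ n) ∣ k - 1 := hp.pow_dvd_of_dvd_mul_right n h6 h4
    have h8 : w ^ (k - 1) = 1 := by
      apply orderOf_dvd_iff_zpow_eq_one.1
      rw [hw]; exact_mod_cast h7
    rw [zpow_sub, zpow_one, mul_inv_eq_one, hk'] at h8
    rwa [mul_inv_eq_iff_eq_mul] at h8
  · right
    have h7 : ((r : ℤ) ^ n) ∣ k + 1 := hp.pow_dvd_of_dvd_mul_left n h5 h4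
    have h8 : w ^ (k + 1) = 1 := by
      apply orderOf_dvd_iff_zpow_eq_one.1
      rw [hw]; exact_mod_cast h7
    rw [zpow_add, zpow_one] at h8
    rw [← hk']
    exact eq_inv_of_mul_eq_one_left h8

end grp

section abs

variable {X : Type*} [Group X] [Finite X] {V : Type*} [CommGroup V] [Finite V] {ρ : X →* MulAut V}

/-- `w` of order 25 and `w ^ 5` acts nontrivially: `|V : C_V(w ^ 5)| > 16` -/
theorem twentyfive (hV : ∀ v : V, v * v = 1) {y : X} (hy : orderOf y = 25) (hne : ∃ v, ρ (y ^ 5) v ≠ v) :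
    16 < (fx ρ (y ^ 5)).index := by
  by_contra hcon
  push Not at hcon
  have o3 : orderOf (y ^ 5) = 5 := by rw [orderOf_pow, hy]; norm_num
  obtain ⟨d, hd, h1, h2⟩ := prim (ρ := ρ) hV Nat.prime_five (by norm_num) o3 hne
  have h3 : (fx ρ (y ^ 5)).index ≤ 16 := hcon
  have hodd3 : Odd (orderOf (y ^ 5)) := by rw [o3]; decide
  have h := card_dvd_sub_one (K := V) (D := Subgroup.zpowers y)
    (ρ.comp (Subgroup.zpowers y).subtype) (cm ρ (y ^ 5)).range ?_ ?_
  · rw [Nat.card_zpowers, hy, card_range_cm, h1] at h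
    rw [h1] at h3
    have h4 : d ≤ 4 := by
      have : (2 : ℕ) ^ d ≤ 2 ^ 4 := h3
      exact (Nat.pow_le_pow_iff_right (by norm_num)).1 this
    interval_cases d <;> norm_num at h
  · rintro ⟨d, hd⟩ c hc
    obtain ⟨n, rfl⟩ := Subgroup.mem_zpowers_iff.1 hd
    exact apply_mem_range ρ (z := y ^ n) (((Commute.refl y).pow_right 5).zpow_left n).eq hc
  · rintro ⟨e, he⟩ c hc hc1 hfix
    by_contra hne1
    have he1 : e ≠ 1 := fun h => hne1 (Subtype.ext h)
    have hfix' : c ∈ fx ρ e := hfix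
    have hfo : IsOfFinOrder y := orderOf_pos_iff.1 (by rw [hy]; norm_num)
    obtain ⟨n, hn⟩ := (hfo.mem_powers_iff_mem_zpowers.2 he)
    have hn' : y ^ n = e := hn
    have hn9 : n % 25 ≠ 0 := by
      intro h0
      apply he1
      rw [← hn', ← pow_mod_orderOf, hy, h0, pow_zero]
    have key : ∀ j < 25, j ≠ 0 → ∃ k < 25, (j * k) % 25 = 5 := by decide
    obtain ⟨k, -, hk⟩ := key (n % 25) (Nat.mod_lt _ (by norm_num)) hn9
    have h5 : e ^ k = y ^ 5 := by
      rw [← hn', ← pow_mul, ← pow_mod_orderOf, hy]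
      congr 1
      rw [← hk, Nat.mod_mul_mod]
    apply hc1
    apply eq_one_of_fix hV hodd3 hc
    have h6 := fx_pow ρ hfix' k
    rwa [h5] at h6

/-- an element fixing `lam` and centralising `O` is trivial, if `O` is transitive on the orbit of `lam` -/
theorem eq_one (hinj : ∀ x : X, (∀ v, ρ x v = v) → x = 1) {lam : V}
    (hgen : ∀ N : Subgroup V, (∀ g, ρ g lam ∈ N) → N = ⊤) {O : Subgroup X}
    (hcov : ∀ x : X, ∃ l ∈ O, ρ x lam = ρ l lam) {s : X} (hs : ρ s lam = lam) (hc : ∀ o ∈ O, s * o = o * s) :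
    s = 1 := by
  apply hinj
  have h : fx ρ s = ⊤ := by
    apply hgen
    intro g
    obtain ⟨l, hl, hgl⟩ := hcov g
    rw [hgl]
    show ρ s (ρ l lam) = ρ l lam
    rw [← MulAut.mul_apply, ← map_mul, hc l hl, map_mul, MulAut.mul_apply, hs]
  intro v
  have : v ∈ fx ρ s := by rw [h]; trivial
  exact this

/-- **(3.2)** -/
theorem main (hcX : OddCyc X) (hV : ∀ v : V, v * v = 1) (hinj : ∀ x : X, (∀ v, ρ x v = v) → x = 1) {lam : V}
    (hgen : ∀ N : Subgroup V, (∀ g, ρ g lam ∈ N) → N = ⊤) {O A : Subgroup X} [O.Normal] {r : ℕ} (hr : r.Prime)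
    (h5 : 5 ≤ r) (hO : IsPGroup r O) (hO1 : O ≠ ⊥) (hcov : ∀ x : X, ∃ l ∈ O, ρ x lam = ρ l lam)
    (hAl : ∀ a ∈ A, ρ a lam = lam) (hsq : ∀ a ∈ A, a * a = 1) (hA : A ≠ ⊥) (hi : (CS ρ A).index ≤ Nat.card A ^ 2) :
    r = 5 ∧ Nat.card O = 5 ∧ Nat.card A = 2 ∧
      (∀ s : X, ρ s lam = lam → s * s = 1 → s ≠ 1 → ∀ o ∈ O, s * o * s⁻¹ = o⁻¹) ∧
      (∀ s t : X, ρ s lam = lam → s * s = 1 → s ≠ 1 → ρ t lam = lam → t * t = 1 → t ≠ 1 → s = t) ∧
      centralizer (O : Set X) = O ∧ (∀ w ∈ O, w ≠ 1 → (fx ρ w).index = 16) ∧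
      (∀ a ∈ A, a ≠ 1 → (fx ρ a).index = 4) ∧ (CS ρ A).index = 4 := by
  have hr2 : r ≠ 2 := by omega
  have : Fact r.Prime := ⟨hr⟩
  have hOc : IsCyclic O := CompBasic.isCyclic_of_isPGroup hcX hr hr2 hO
  obtain ⟨⟨w, hwO⟩, hw⟩ := hOc.exists_generator
  have hw' : ∀ o ∈ O, o ∈ zpowers w := by
    intro o ho
    obtain ⟨k, hk⟩ := mem_zpowers_iff.1 (hw ⟨o, ho⟩)
    exact mem_zpowers_iff.2 ⟨k, by simpa using congrArg Subtype.val hk⟩
  have hOw : O = zpowers w := le_antisymm hw' ((zpowers_le).2 hwO)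
  obtain ⟨n, hn⟩ := (IsPGroup.iff_orderOf.1 hO) ⟨w, hwO⟩
  rw [orderOf_mk] at hn
  have hn0 : n ≠ 0 := by
    intro h0
    rw [h0, pow_zero, orderOf_eq_one_iff] at hn
    apply hO1
    rw [hOw, hn, zpowers_one_eq_bot]
  have hcw : ∀ s : X, s * w = w * s → ∀ o ∈ O, s * o = o * s := by
    intro s hs o ho
    obtain ⟨k, rfl⟩ := mem_zpowers_iff.1 (hw' o ho)
    exact ((show Commute s w from hs).zpow_right k).eq
  have hone : ∀ s : X, ρ s lam = lam → s * w = w * s → s = 1 := fun s hs hc =>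
    eq_one hinj hgen hcov hs (hcw s hc)
  have hinv : ∀ s : X, ρ s lam = lam → s * s = 1 → s ≠ 1 → s * w * s⁻¹ = w⁻¹ := by
    intro s hs hss hs1
    refine (comm_or_inv hr hr2 hn hss ?_).resolve_left fun h => hs1 (hone s hs h)
    exact hw' _ (Subgroup.Normal.conj_mem inferInstance w hwO s)
  have huniq : ∀ s t : X, ρ s lam = lam → s * s = 1 → s ≠ 1 → ρ t lam = lam → t * t = 1 → t ≠ 1 → s = t := by
    intro s t hs hss hs1 ht htt ht1
    have h1 := hinv s hs hss hs1
    have h2 := hinv t ht htt ht1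
    have h3 : s * t = 1 := by
      apply hone
      · rw [map_mul, MulAut.mul_apply, ht, hs]
      · have h4 : t * w = w⁻¹ * t := by rw [← h2]; group
        have h5 : s * w⁻¹ = w * s := by
          have : s * w⁻¹ * s⁻¹ = w := by
            have h6 : (s * w * s⁻¹)⁻¹ = s * w⁻¹ * s⁻¹ := by group
            rw [← h6, h1, inv_inv]
          calc s * w⁻¹ = (s * w⁻¹ * s⁻¹) * s := by group
            _ = w * s := by rw [this]
        rw [mul_assoc, h4, ← mul_assoc, h5, mul_assoc]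
    have h4 : s⁻¹ = t := inv_eq_of_mul_eq_one_right h3
    rw [← h4]
    exact eq_inv_of_mul_eq_one_left hss
  -- `A = {1, a}`
  obtain ⟨a, ha, ha1⟩ := exists_ne hA
  have hAa : ∀ b ∈ A, b = 1 ∨ b = a := by
    intro b hb
    by_cases hb1 : b = 1
    · exact Or.inl hb1
    · exact Or.inr (huniq b a (hAl b hb) (hsq b hb) hb1 (hAl a ha) (hsq a ha) ha1)
  have hcA : Nat.card A = 2 := by
    have h1 : A = zpowers a := by
      apply le_antisymm
      · intro b hb
        rcases hAa b hb with rfl | rfl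
        · exact one_mem _
        · exact mem_zpowers b
      · exact (zpowers_le).2 ha
    rw [h1, Nat.card_zpowers]
    exact orderOf_eq_prime (by rw [pow_two]; exact hsq a ha) ha1
  have hCS : CS ρ A = fx ρ a := by
    ext v
    constructor
    · intro h; exact h a ha
    · intro h b hb
      rcases hAa b hb with rfl | rfl
      · rw [map_one]; rfl
      · exact h
  have hi4 : (fx ρ a).index ≤ 4 := by rw [← hCS]; rw [hcA] at hi; exact hi
  -- the element of order `r`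
  have haw := hinv a (hAl a ha) (hsq a ha) ha1
  have hmove : ∀ o ∈ O, o ≠ 1 → ∃ v, ρ o v ≠ v := by
    intro o _ ho1
    by_contra hcon
    push Not at hcon
    exact ho1 (hinj o hcon)
  have hinvO : ∀ s : X, ρ s lam = lam → s * s = 1 → s ≠ 1 → ∀ o ∈ O, s * o * s⁻¹ = o⁻¹ := by
    intro s hs hss hs1 o ho
    obtain ⟨k, rfl⟩ := mem_zpowers_iff.1 (hw' o ho)
    rw [← conj_zpow, hinv s hs hss hs1, inv_zpow]
  set y := w ^ r ^ (n - 1) with hy
  have hyo : orderOf y = r := by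
    rw [hy, orderOf_pow' _ (pow_ne_zero _ hr.ne_zero), hn, Nat.gcd_eq_right (pow_dvd_pow r (by omega)),
      Nat.pow_div (by omega) hr.pos]
    have : n - (n - 1) = 1 := by omega
    rw [this, pow_one]
  have hyO : y ∈ O := pow_mem hwO _
  have hy1 : y ≠ 1 := by
    intro h
    rw [h, orderOf_one] at hyo
    exact hr.one_lt.ne hyo
  obtain ⟨h35, hyi⟩ := FFPsl.small hV (hsq a ha) hr hr2 hyo (hmove y hyO hy1)
    (hinvO a (hAl a ha) (hsq a ha) ha1 y hyO) hi4
  have hr5 : r = 5 := by rcases h35 with h | h <;> omega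
  subst hr5
  have hn1 : n = 1 := by
    by_contra hn1
    have h25 : orderOf (w ^ 5 ^ (n - 2)) = 25 := by
      rw [orderOf_pow' _ (pow_ne_zero _ (by norm_num)), hn, Nat.gcd_eq_right (pow_dvd_pow 5 (by omega)),
        Nat.pow_div (by omega) (by norm_num)]
      have : n - (n - 2) = 2 := by omega
      rw [this]
    have hwy : (w ^ 5 ^ (n - 2)) ^ 5 = y := by
      rw [hy, ← pow_mul, ← pow_succ]
      congr 2
      omega
    have h := twentyfive (ρ := ρ) hV h25 (by rw [hwy]; exact hmove y hyO hy1)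
    rw [hwy] at h
    omega
  rw [hn1, pow_one] at hn
  have hcO : Nat.card O = 5 := by rw [hOw, Nat.card_zpowers, hn]
  have h16 : ∀ o ∈ O, o ≠ 1 → (fx ρ o).index = 16 := by
    intro o ho ho1
    have hoo : orderOf o = 5 := by
      have h1 : orderOf (⟨o, ho⟩ : O) ∣ Nat.card O := orderOf_dvd_natCard _
      rw [orderOf_mk, hcO] at h1
      rcases (Nat.dvd_prime Nat.prime_five).1 h1 with h2 | h2
      · exact absurd (orderOf_eq_one_iff.1 h2) ho1
      · exact h2
    obtain ⟨-, h2⟩ := FFPsl.small hV (hsq a ha) Nat.prime_five (by norm_num) hoo (hmove o ho ho1)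
      (hinvO a (hAl a ha) (hsq a ha) ha1 o ho) hi4
    obtain ⟨d, hd, h3, h4⟩ := prim (ρ := ρ) hV Nat.prime_five (by norm_num) hoo (hmove o ho ho1)
    rw [h3] at h2 ⊢
    have h6 : d ≤ 4 := by
      have : (2 : ℕ) ^ d ≤ 2 ^ 4 := h2
      exact (Nat.pow_le_pow_iff_right (by norm_num)).1 this
    interval_cases d
    · exact absurd h4 (by norm_num)
    · exact absurd h4 (by norm_num)
    · exact absurd h4 (by norm_num)
    · rfl
  have hA4 : ∀ b ∈ A, b ≠ 1 → (fx ρ b).index = 4 := by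
    intro b hb hb1
    have hba : b = a := (hAa b hb).resolve_left hb1
    rw [hba]
    have h1 := half' ρ (a := a) (y := y) (by rw [hyo]; decide) (hinvO a (hAl a ha) (hsq a ha) ha1 y hyO)
    rw [h16 y hyO hy1] at h1
    have h2 : 4 ≤ (fx ρ a).index := by nlinarith
    omega
  refine ⟨rfl, hcO, hcA, hinvO, huniq, ?_, h16, hA4, by rw [hCS]; exact hA4 a ha ha1⟩
  apply le_antisymm
  · intro s hs
    rw [mem_centralizer_iff] at hs
    obtain ⟨l, hl, hsl⟩ := hcov s
    have h1 : l⁻¹ * s = 1 := by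
      apply hone
      · rw [map_mul, MulAut.mul_apply, hsl, ← MulAut.mul_apply, ← map_mul, inv_mul_cancel, map_one]; rfl
      · have h2 : w * s = s * w := hs w hwO
        have h3 : w * l = l * w := by
          obtain ⟨k, rfl⟩ := mem_zpowers_iff.1 (hw' l hl)
          exact ((Commute.refl w).zpow_right k).eq
        have h4 : l⁻¹ * w = w * l⁻¹ := ((show Commute w l from h3).inv_right).eq.symm
        rw [mul_assoc, ← h2, ← mul_assoc, h4, mul_assoc]
    have h2 : s = l := by rw [← mul_one l, ← h1]; group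
    rw [h2]; exact hl
  · intro s hs
    rw [mem_centralizer_iff]
    intro o ho
    obtain ⟨k, rfl⟩ := mem_zpowers_iff.1 (hw' s hs)
    obtain ⟨j, rfl⟩ := mem_zpowers_iff.1 (hw' o ho)
    rw [← zpow_add, ← zpow_add, add_comm]

end abs

/-! ### the additive form -/

section add

universe u

variable {M X : Type u} [AddCommGroup M] [Group X] [DistribMulAction X M] {lam : M} {Tb A A' : Subgroup X}

open ListM

theorem card_fx (a : X) : Nat.card (fx (rh M X) a) = Nat.card (EO.Fit.fx (zpowers a) (⊤ : AddSubgroup M)) := by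
  rw [← ListM.card_CS]
  congr 1
  congr 1
  ext v
  constructor
  · intro h b hb
    obtain ⟨k, rfl⟩ := mem_zpowers_iff.1 hb
    have h1 : zpowers a ≤ FFSl2.stb (rh M X) v := (zpowers_le).2 h
    exact h1 hb
  · intro h
    exact h a (mem_zpowers a)

/-- **(3.2)** on helper424's `Out` -/
theorem _root_.Cfsg.Agent.OddCyclic.EN.Pi.Out.cycR (h : Pi.Out M X lam Tb A A') {O : Subgroup X} [O.Normal] {r : ℕ}
    (hr : r.Prime) (h5 : 5 ≤ r) (hO : IsPGroup r O) (hO1 : O ≠ ⊥) (hcov : ∀ x : X, ∃ l ∈ O, x • lam = l • lam) :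
    r = 5 ∧ Nat.card O = 5 ∧ Nat.card A = 2 ∧ A' = A ∧
      (∀ s : X, s • lam = lam → s * s = 1 → s ≠ 1 → ∀ o ∈ O, s * o * s⁻¹ = o⁻¹) ∧
      (∀ s t : X, s • lam = lam → s * s = 1 → s ≠ 1 → t • lam = lam → t * t = 1 → t ≠ 1 → s = t) ∧
      centralizer (O : Set X) = O ∧
      Nat.card M = 16 * Nat.card (EO.Fit.fx O (⊤ : AddSubgroup M)) ∧
      Nat.card M = 4 * Nat.card (EO.Fit.fx A (⊤ : AddSubgroup M)) := by
  have := h.fin
  have := h.finM
  have hTl : ∀ t ∈ Tb, t • lam = lam := fun t ht => h.norm t (le_normalizer ht)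
  have hgen : ∀ N : Subgroup (Multiplicative M), (∀ g, rh M X g (Multiplicative.ofAdd lam) ∈ N) → N = ⊤ := by
    intro N hN
    have e1 := h.span (Subgroup.toAddSubgroup' N) fun g => hN g
    rw [eq_top_iff]
    intro v _
    have : v.toAdd ∈ Subgroup.toAddSubgroup' N := by rw [e1]; trivial
    exact this
  have hcov' : ∀ x : X, ∃ l ∈ O, rh M X x (Multiplicative.ofAdd lam) = rh M X l (Multiplicative.ofAdd lam) := by
    intro x
    obtain ⟨l, hl, hx⟩ := hcov x
    exact ⟨l, hl, congrArg Multiplicative.ofAdd hx⟩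
  have hAl : ∀ a ∈ A, rh M X a (Multiplicative.ofAdd lam) = Multiplicative.ofAdd lam := by
    intro a ha
    exact (rh_eq_iff _ _).2 (hTl a (h.le ha))
  obtain ⟨h1, h2, h3, h4, h6, h7, h8, h9, h10⟩ := main (ρ := rh M X) (lam := Multiplicative.ofAdd lam) (O := O) (A := A)
    h.cyc (fun v => congrArg Multiplicative.ofAdd (h.two v.toAdd))
    (fun x hx => h.faithful x fun m => (rh_eq_iff x m).1 (hx (Multiplicative.ofAdd m))) hgen hr h5 hO hO1 hcov' hAl
    h.sq h.hne (index_CS_le h.card_sq)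
  · have hu : ∀ s t : X, s • lam = lam → s * s = 1 → s ≠ 1 → t • lam = lam → t * t = 1 → t ≠ 1 → s = t :=
      fun s t hs hss hs1 ht htt ht1 => h6 s t ((rh_eq_iff _ _).2 hs) hss hs1 ((rh_eq_iff _ _).2 ht) htt ht1
    have hcM : Nat.card M = 4 * Nat.card (EO.Fit.fx A (⊤ : AddSubgroup M)) := by
      have e1 := (CS (rh M X) A).card_mul_index
      have e2 : Nat.card (Multiplicative M) = Nat.card M := rfl
      rw [e2, h10, ListM.card_CS, mul_comm] at e1
      exact e1.symm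
    -- `|A'| = 2`
    have hpos : 0 < Nat.card (EO.Fit.fx A (⊤ : AddSubgroup M)) := Nat.card_pos
    have hA'2 : 2 ≤ Nat.card A' := by
      have e1 := h.card
      rw [hcM, h3] at e1
      have e2 := Nat.le_of_mul_le_mul_right e1 hpos
      omega
    have hA'ne : A' ≠ ⊥ := by
      rintro rfl
      rw [card_bot] at hA'2
      omega
    obtain ⟨a, ha, ha1⟩ := exists_ne h.hne
    have hAA : A' = A := by
      apply Subgroup.eq_of_le_of_card_ge
      · intro b hb
        by_cases hb1 : b = 1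
        · rw [hb1]; exact one_mem _
        · rw [hu b a (hTl _ (h.le' hb)) (h.sq' _ hb) hb1 (hTl _ (h.le ha)) (h.sq _ ha) ha1]
          exact ha
      · rw [h3]; exact hA'2
    refine ⟨h1, h2, h3, hAA, fun s hs hss hs1 o ho => h4 s ((rh_eq_iff _ _).2 hs) hss hs1 o ho, hu, h7, ?_, hcM⟩
    -- `|M : C_M(O)| = 16`
    obtain ⟨w, hw, hw1⟩ := exists_ne hO1
    have hOw : O = zpowers w := by
      symm
      apply Subgroup.eq_of_le_of_card_ge ((zpowers_le).2 hw)
      rw [h2, Nat.card_zpowers]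
      have e1 : orderOf (⟨w, hw⟩ : O) ∣ Nat.card O := orderOf_dvd_natCard _
      rw [orderOf_mk, h2] at e1
      rcases (Nat.dvd_prime Nat.prime_five).1 e1 with e2 | e2
      · exact absurd (orderOf_eq_one_iff.1 e2) hw1
      · exact e2.ge
    have e1 := (fx (rh M X) w).card_mul_index
    have e2 : Nat.card (Multiplicative M) = Nat.card M := rfl
    rw [e2, h8 w hw hw1, card_fx, mul_comm, ← hOw] at e1
    exact e1.symm

end add

end Cfsg.Agent.OddCyclic.EN.ListC
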