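import Cfsg.Agent.OddCyclic.EN.ListP
import Cfsg.Agent.OddCyclic.EN.PiRep
import Cfsg.Agent.OddCyclic.Eq.Free
import Cfsg.Agent.OddCyclic.Eq.Prim
import Cfsg.Agent.OddCyclic.CaseESz

/-!
# S0342, (B-b), section 3 of helper217's blueprint: the LIST, (3.1) and (3.3)

`X` acts faithfully on the elementary abelian 2-group `V`, `L` is a normal simple subgroup of `X` with `C_X(L) = 1`, `T` a
Sylow 2-subgroup of `X`, `N_X(T)` fixes `lam`, `L` moves `lam`, `1 ≠ A ≤ T` elementary abelian, `|V : C_V(A)| ≤ |A|²`.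

* `kill`: `L` of rank one, `T ≤ L`, `|T| ≥ 8`: impossible;
* `suzuki`, `janko`, `linear`, `main`;
* `rh`: the multiplicative form of a module; `Out.suzuki`, `Out.main`: the statements on helper424's `Pi.Out`.
-/

set_option autoImplicit false
set_option linter.unusedSectionVars false

namespace Cfsg.Agent.OddCyclic.EN.ListM

open Subgroup Cfsg.Agent.OddCyclic.T1Module Cfsg.Agent.OddCyclic.FFBasic
  Cfsg.Agent.OddCyclic.FFRed Cfsg.Agent.OddCyclic.FFSl2 Cfsg.Agent.OddCyclic.T1Defs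
  Cfsg.Agent.OddCyclic.Eq.PrimR Cfsg.Agent.OddCyclic.PumpMain
open scoped Pointwise

/-! ### numbers -/

theorem num {f k : ℕ} (hf : 3 ≤ f) (hk : 1 ≤ k) (hkf : k ≤ f) (h : 2 ^ f - 2 ^ f / 2 ^ k ≤ 2 * k) : False := by
  have h1 : 2 ^ f / 2 ^ k = 2 ^ (f - k) := Nat.pow_div hkf (by norm_num)
  rw [h1] at h
  have h2 : 2 ^ (f - k) * 2 ≤ 2 ^ f := by
    rw [← pow_succ]; exact Nat.pow_le_pow_right (by norm_num) (by omega)
  rcases Nat.lt_or_ge f 5 with h5 | h5
  · interval_cases f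
    · interval_cases k <;> norm_num at h
    · interval_cases k <;> norm_num at h
  · have h3 := Eq.Free.two_pow_ge (f - 1) (by omega)
    have h4 : 2 ^ f = 2 ^ (f - 1) * 2 := by rw [← pow_succ]; congr 1; omega
    omega

section abs

variable {X : Type*} [Group X] [Finite X] {V : Type*} [CommGroup V] [Finite V] {ρ : X →* MulAut V}
variable {L A : Subgroup X} {T : Sylow 2 X} {lam : V}

/-- the normaliser of a Sylow subgroup of `L` -/
theorem mem_norm_of [L.Normal] (hTL : (T : Subgroup X) ≤ L) {g : X}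
    (h : (MulAut.conjNormal g : MulAut L) • T.subtype hTL = T.subtype hTL) :
    g ∈ normalizer ((T : Subgroup X) : Set X) := by
  have key : ∀ x ∈ (T : Subgroup X), g⁻¹ * x * g ∈ (T : Subgroup X) := by
    intro x hx
    have h1 : (⟨x, hTL hx⟩ : L) ∈ T.subtype hTL := hx
    rw [← h, mem_aut_smul] at h1
    have h2 : (((MulAut.conjNormal g)⁻¹ : MulAut L) ⟨x, hTL hx⟩ : X) ∈ (T : Subgroup X) := h1
    rwa [← map_inv, MulAut.conjNormal_apply, inv_inv] at h2
  have key2 : ∀ x ∈ (T : Subgroup X), g * x * g⁻¹ ∈ (T : Subgroup X) := by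
    intro x hx
    have h1 : (MulAut.conjNormal g : MulAut L) ⟨x, hTL hx⟩ ∈ T.subtype hTL := by
      rw [← h, mem_aut_smul]
      have : (MulAut.conjNormal g : MulAut L)⁻¹ ((MulAut.conjNormal g : MulAut L) ⟨x, hTL hx⟩) = ⟨x, hTL hx⟩ :=
        (MulAut.conjNormal g : MulAut L).symm_apply_apply _
      rw [this]
      exact hx
    have h2 : ((MulAut.conjNormal g : MulAut L) ⟨x, hTL hx⟩ : X) ∈ (T : Subgroup X) := h1
    rwa [MulAut.conjNormal_apply] at h2
  exact ZN.Block.mem_normalizer_of key2 key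

/-- **PERM**: a normal subgroup of rank one which contains a Sylow 2-subgroup of order at least 8 does not occur -/
theorem kill (hV : ∀ v : V, v * v = 1) [L.Normal] [IsSimpleGroup L] (hr : R1 L) (hTL : (T : Subgroup X) ≤ L)
    (hnor : ∀ g ∈ normalizer ((T : Subgroup X) : Set X), ρ g lam = lam) (hmv : ∃ l ∈ L, ρ l lam ≠ lam)
    (h8 : 8 ∣ Nat.card L) (hAT : A ≤ (T : Subgroup X)) (hA : A ≠ ⊥) (hi : (CS ρ A).index ≤ Nat.card A ^ 2) :
    False := by
  have : Fact (Nat.Prime 2) := ⟨Nat.prime_two⟩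
  have hr' := hr
  obtain ⟨_, _, _, hti⟩ := hr'
  set H₀ : Subgroup X := stb ρ lam with hH₀
  have hTH : (T : Subgroup X) ≤ H₀ := fun t ht => hnor t (le_normalizer ht)
  have hDne : H₀.subgroupOf L ≠ ⊤ := by
    intro h
    obtain ⟨l, hl, hl'⟩ := hmv
    exact hl' ((subgroupOf_eq_top.1 h) hl)
  have hsr : ∀ g : X, g ∉ H₀ → ∀ t ∈ (T : Subgroup X), g⁻¹ * t * g ∈ H₀ → t = 1 := by
    intro g hg t ht hs
    by_contra ht1
    have htL := hTL ht
    have hsL : g⁻¹ * t * g ∈ L := by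
      have := (inferInstance : L.Normal).conj_mem t htL g⁻¹
      rwa [inv_inv] at this
    set s : L := ⟨g⁻¹ * t * g, hsL⟩ with hsdef
    set TL : Sylow 2 L := T.subtype hTL with hTLdef
    set D : Subgroup L := H₀.subgroupOf L with hD
    have hTD : (TL : Subgroup L) ≤ D := fun x hx => mem_subgroupOf.2 (hTH hx)
    have hsD : s ∈ D := mem_subgroupOf.2 hs
    -- `s` is a 2-element
    have hs2 : IsPGroup 2 (zpowers (⟨s, hsD⟩ : D)) := by
      obtain ⟨n, hn⟩ := T.isPGroup' ⟨t, ht⟩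
      have hn' : t ^ 2 ^ n = 1 := congrArg Subtype.val hn
      have h1 : (⟨s, hsD⟩ : D) ^ 2 ^ n = 1 := by
        apply Subtype.ext
        apply Subtype.ext
        show (g⁻¹ * t * g) ^ 2 ^ n = 1
        have h2 : (g⁻¹ * t * g) ^ 2 ^ n = g⁻¹ * t ^ 2 ^ n * g := by
          have := conj_pow (i := 2 ^ n) (a := g⁻¹) (b := t)
          rwa [inv_inv] at this
        rw [h2, hn']; group
      rintro ⟨y, k, rfl⟩
      refine ⟨n, Subtype.ext ?_⟩
      show ((⟨s, hsD⟩ : D) ^ k) ^ 2 ^ n = 1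
      rw [← zpow_natCast, ← zpow_mul, mul_comm, zpow_mul, zpow_natCast, h1, one_zpow]
    obtain ⟨P, hP⟩ := hs2.exists_le_sylow
    obtain ⟨d, hd⟩ := MulAction.exists_smul_eq D (TL.subtype hTD) P
    have hsP : (⟨s, hsD⟩ : D) ∈ P := hP (mem_zpowers _)
    rw [← hd, FFSz.mem_smul] at hsP
    have hsR : s ∈ ((d : L) • TL : Sylow 2 L) := by
      rw [FFSz.mem_smul]
      exact hsP
    have hRD : (((d : L) • TL : Sylow 2 L) : Subgroup L) ≤ D := (smul_le d.2).2 hTD
    have hRT : TL = (d : L) • TL := by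
      by_contra hne
      exact hDne (gen hr hTD hRD hne)
    rw [← hRT] at hsR
    -- `t` is in `T` and in `g T`
    have ht1' : (⟨t, htL⟩ : L) ∈ TL := ht
    have ht2 : (⟨t, htL⟩ : L) ∈ (MulAut.conjNormal g : MulAut L) • TL := by
      rw [mem_aut_smul]
      have h3 : ((MulAut.conjNormal g)⁻¹ : MulAut L) ⟨t, htL⟩ = s := by
        apply Subtype.ext
        rw [← map_inv, MulAut.conjNormal_apply, inv_inv]
      rw [h3]; exact hsR
    have h4 := hti _ _ _ ht2 ht1' (fun h => ht1 (congrArg Subtype.val h))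
    exact hg (hnor g (mem_norm_of hTL h4))
  have h1 := Eq.Free.free_index ρ hV T.isPGroup' hTH hsr (fun h hh => hh) (by
    obtain ⟨l, _, hl⟩ := hmv
    exact ⟨l, hl⟩) hAT
  -- numbers
  obtain ⟨f, hf⟩ := IsPGroup.iff_card.1 T.isPGroup'
  obtain ⟨k, hk⟩ := IsPGroup.iff_card.1 (T.isPGroup'.to_le hAT)
  have hf' : Nat.card (T : Subgroup X) = 2 ^ f := hf
  have hk1 : 1 ≤ k := by
    by_contra hcon
    have : k = 0 := by omega
    rw [this, pow_zero] at hk
    exact hA (card_eq_one.1 hk)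
  have hkf : k ≤ f := by
    have := Subgroup.card_le_of_le hAT
    rw [hk, hf'] at this
    exact (Nat.pow_le_pow_iff_right (by norm_num)).1 this
  have hf3 : 3 ≤ f := by
    have h2 : 2 ^ 3 ∣ Nat.card X := h8.trans (card_subgroup_dvd_card L)
    have h3 := T.pow_dvd_card_of_pow_dvd_card h2
    have h4 : 2 ^ 3 ≤ Nat.card (T : Subgroup X) := Nat.le_of_dvd Nat.card_pos h3
    rw [hf'] at h4
    exact (Nat.pow_le_pow_iff_right (by norm_num)).1 h4
  rw [hf', hk] at h1
  rw [hk, ← pow_mul] at hi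
  have h5 := (Nat.pow_le_pow_iff_right (by norm_num : 1 < 2)).1 (h1.trans hi)
  exact num hf3 hk1 hkf (by omega)

/-- no element of order three normalises a Sylow 2-subgroup -/
theorem no_three [L.Normal] (hTL : (T : Subgroup X) ≤ L)
    (hnor : ∀ g ∈ normalizer ((T : Subgroup X) : Set X), ρ g lam = lam)
    (f3 : ∀ x : X, orderOf x = 3 → ρ x lam ≠ lam) (Q : Sylow 2 L) {y : L} (hy : orderOf y = 3) (hyQ : y • Q = Q) :
    False := by
  have : Fact (Nat.Prime 2) := ⟨Nat.prime_two⟩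
  obtain ⟨l, hl⟩ := MulAction.exists_smul_eq L Q (T.subtype hTL)
  have h1 : (l * y * l⁻¹) • T.subtype hTL = T.subtype hTL := by
    rw [← hl, smul_smul]
    have : l * y * l⁻¹ * l = l * y := by group
    rw [this, mul_smul, hyQ]
  have h2 : (MulAut.conjNormal ((l * y * l⁻¹ : L) : X) : MulAut L) • T.subtype hTL = T.subtype hTL := by
    have h3 : (MulAut.conjNormal ((l * y * l⁻¹ : L) : X) : MulAut L) = MulAut.conj (l * y * l⁻¹) := by
      ext x
      rw [MulAut.conjNormal_apply]; rfl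
    rw [h3]
    exact h1
  refine f3 ((l * y * l⁻¹ : L) : X) ?_ (hnor _ (mem_norm_of hTL h2))
  rw [Subgroup.orderOf_coe, ← hy]
  exact orderOf_injective (MulAut.conj l).toMonoidHom (MulAut.conj l).injective y

/-! ### Suzuki groups -/

/-- 2-elements are in `Sz(q)` -/
theorem suzuki_le [L.Normal] (hC : centralizer (L : Set X) = ⊥) (hs : Cfsg.Lie.IsoSuzuki L) :
    (T : Subgroup X) ≤ L := by
  intro t ht
  obtain ⟨F, iF, iF', m, hm, hF, ⟨R⟩⟩ := Cfsg.Agent.ThreePrime.SzRel.exists_rel hs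
  obtain ⟨n, hn⟩ := T.isPGroup' ⟨t, ht⟩
  have hn' : t ^ 2 ^ n = 1 := congrArg Subtype.val hn
  obtain ⟨g, hg⟩ := R.inner hm hF (MulAut.conjNormal t) ⟨n, by rw [← map_pow, hn', map_one]⟩
  exact Eq.Prim.mem_of_inner hC hg

/-- `L` is not a Suzuki group -/
theorem suzuki (hV : ∀ v : V, v * v = 1) [L.Normal] (hs : Cfsg.Lie.IsoSuzuki L) (hsi : IsSimpleGroup L)
    (hC : centralizer (L : Set X) = ⊥)
    (hnor : ∀ g ∈ normalizer ((T : Subgroup X) : Set X), ρ g lam = lam) (hmv : ∃ l ∈ L, ρ l lam ≠ lam)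
    (hAT : A ≤ (T : Subgroup X)) (hA : A ≠ ⊥) (hi : (CS ρ A).index ≤ Nat.card A ^ 2) : False := by
  obtain ⟨q, hq⟩ := CaseESz.szK (K := L) hs
  refine kill hV (Eq.PrimR.sz hs) (suzuki_le hC hs) hnor hmv ?_ hAT hA hi
  obtain ⟨m, hm, hqm⟩ := hq.pow
  have h1 : 8 ∣ q := by
    rw [hqm, show (8 : ℕ) = 2 ^ 3 by norm_num]
    exact pow_dvd_pow 2 (by omega)
  rw [hq.card]
  exact Dvd.dvd.mul_right (Dvd.dvd.mul_left (h1.trans (dvd_pow_self q (by norm_num))) _) _

/-! ### `J₁` -/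

open Cfsg.Agent.SporRec.J1.Defs (Local) in
/-- `L` is not `J₁` -/
theorem janko [L.Normal] (hJ : Local L) {k : L} (hk : orderOf k = 2) (hC : centralizer (L : Set X) = ⊥)
    (hnor : ∀ g ∈ normalizer ((T : Subgroup X) : Set X), ρ g lam = lam)
    (f3 : ∀ x : X, orderOf x = 3 → ρ x lam ≠ lam) : False := by
  have : Fact (Nat.Prime 2) := ⟨Nat.prime_two⟩
  have hX := Eq.Prim.janko hC hJ hk
  obtain ⟨E, t, hE, hi, ht, htn⟩ := Eq.Prim.three_dvd_normalizer hJ hk
  refine no_three (T := T) (L := L) (by rw [hX]; exact le_top) hnor f3 (hE.toSylow hi) ht ?_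
  rw [Sylow.smul_eq_iff_mem_normalizer]
  exact htn

/-! ### `SL₂(2^f)` -/

section linear

open Cfsg.Agent.OddCyclic.T1Sl2 Cfsg.Agent.Classification.QDW.TypeHom

variable {F : Type*} [Field F] [Fintype F] [CharP F 2]

/-- an element of order three normalises a Sylow 2-subgroup of `SL₂(F)` if `|F|` is a square -/
theorem exists_three (e : Matrix.SpecialLinearGroup (Fin 2) F ≃* L) {k : ℕ} (hk : 1 ≤ k)
    (hF : Fintype.card F = 2 ^ (2 * k)) : ∃ (Q : Sylow 2 L) (y : L), orderOf y = 3 ∧ y • Q = Q := by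
  have : Fact (Nat.Prime 2) := ⟨Nat.prime_two⟩
  have : Fact (Nat.Prime 3) := ⟨Nat.prime_three⟩
  have h6 : 3 ∣ Nat.card Fˣ := by
    have h7 : Nat.card Fˣ = Nat.card F - 1 := Nat.card_units F
    rw [h7, Nat.card_eq_fintype_card, hF, pow_mul]
    have h1 : (2 ^ 2) ^ k % 3 = 1 := by
      rw [Nat.pow_mod]; norm_num
    omega
  obtain ⟨s, hs⟩ := exists_prime_orderOf_dvd_card' (G := Fˣ) 3 h6
  have h7 : orderOf (T1Sl2.dgHom s) = 3 := by
    rw [← hs]
    exact orderOf_injective (T1Sl2.dgHom (F := F)) T1Sl2.dgHom_injective s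
  have h8 : (T1Sl2.dgHom s) • T1Sl2.SU F = T1Sl2.SU F := by
    rw [smul_SU_eq]; rfl
  refine ⟨(T1Sl2.SU F).mapSurjective (f := e.toMonoidHom) e.surjective, e (T1Sl2.dgHom s), ?_, ?_⟩
  · rw [MulEquiv.orderOf_eq]; exact h7
  · apply Sylow.ext
    ext y
    change y ∈ e (T1Sl2.dgHom s) • ((T1Sl2.SU F).mapSurjective (f := e.toMonoidHom) e.surjective : Sylow 2 L) ↔
      y ∈ ((T1Sl2.SU F).mapSurjective (f := e.toMonoidHom) e.surjective : Sylow 2 L)
    rw [FFSz.mem_smul, Eq.PrimR.mem_map, Eq.PrimR.mem_map, map_mul, map_mul, map_inv, e.symm_apply_apply,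
      ← FFSz.mem_smul, h8]

/-- a 2-element outside `L` induces a field automorphism -/
theorem square_of_not_le [L.Normal] (hC : centralizer (L : Set X) = ⊥)
    (e : Matrix.SpecialLinearGroup (Fin 2) F ≃* L) (hTL : ¬ (T : Subgroup X) ≤ L) {f : ℕ}
    (hF : Fintype.card F = 2 ^ f) : ∃ k, 1 ≤ k ∧ f = 2 * k := by
  obtain ⟨t, ht, htL⟩ := Set.not_subset.1 hTL
  have htL' : t ∉ L := htL
  have h4 : typ (FFOuter.ac e t) ≠ 1 := by
    intro h5
    obtain ⟨s, hs⟩ := (L2Model.inner_iff _).1 h5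
    exact htL' (Eq.Prim.mem_of_inner hC (EO.DThree.psi_of_ac e hs))
  obtain ⟨n, hn⟩ := T.isPGroup' ⟨t, ht⟩
  have hn' : t ^ 2 ^ n = 1 := congrArg Subtype.val hn
  set σ : F ≃+* F := typ (FFOuter.ac e t) with hσ
  have hσn : σ ^ 2 ^ n = 1 := by rw [hσ, ← map_pow, ← map_pow, hn', map_one, map_one]
  -- a power of order two
  obtain ⟨τ, hτ, hτ1⟩ : ∃ τ : F ≃+* F, τ * τ = 1 ∧ τ ≠ 1 := by
    have hex : ∃ m, σ ^ 2 ^ m = 1 := ⟨n, hσn⟩
    classical
    have hm0 : Nat.find hex ≠ 0 := by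
      intro h0
      have := Nat.find_spec hex
      rw [h0, pow_zero, pow_one] at this
      exact h4 this
    obtain ⟨m, hm⟩ := Nat.exists_eq_succ_of_ne_zero hm0
    refine ⟨σ ^ 2 ^ m, ?_, Nat.find_min hex (by omega)⟩
    have := Nat.find_spec hex
    rw [hm, Nat.succ_eq_add_one, pow_succ, pow_mul, pow_two] at this
    exact this
  obtain ⟨K, -, hK⟩ := exists_fixed_card hτ hτ1
  rw [Nat.card_eq_fintype_card (α := F), hF] at hK
  have hKd : Nat.card K ∣ 2 ^ f := by rw [hK, pow_two]; exact dvd_mul_right _ _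
  obtain ⟨k, -, hk⟩ := (Nat.dvd_prime_pow Nat.prime_two).1 hKd
  rw [hk, ← pow_mul] at hK
  have h5 := Nat.pow_right_injective (le_refl 2) hK
  refine ⟨k, ?_, by simpa [mul_comm] using h5⟩
  by_contra hcon
  have hk0 : k = 0 := by omega
  rw [hk0] at h5
  have h6 : f = 0 := by simpa using h5
  have h7 := Fintype.one_lt_card (α := F)
  rw [hF, h6] at h7
  omega

/-- `SL₂(2^f)`: `T ≤ L` is impossible -/
theorem linear (hV : ∀ v : V, v * v = 1) [L.Normal] (hs : IsSimpleGroup L) (hC : centralizer (L : Set X) = ⊥)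
    (e : Matrix.SpecialLinearGroup (Fin 2) F ≃* L) {f : ℕ} (hf : 2 ≤ f) (hF : Fintype.card F = 2 ^ f)
    (hnor : ∀ g ∈ normalizer ((T : Subgroup X) : Set X), ρ g lam = lam) (hmv : ∃ l ∈ L, ρ l lam ≠ lam)
    (f3 : ∀ x : X, orderOf x = 3 → ρ x lam ≠ lam)
    (hAT : A ≤ (T : Subgroup X)) (hA : A ≠ ⊥) (hi : (CS ρ A).index ≤ Nat.card A ^ 2) :
    ¬ (T : Subgroup X) ≤ L ∧ ∃ k, 1 ≤ k ∧ f = 2 * k := by
  have hTL : ¬ (T : Subgroup X) ≤ L := by
    intro hTL
    rcases Nat.even_or_odd f with ⟨k, hk⟩ | ⟨k, hk⟩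
    · obtain ⟨Q, y, hy, hyQ⟩ := exists_three e (k := k) (by omega) (by rw [hF]; congr 1; omega)
      exact no_three hTL hnor f3 Q hy hyQ
    · refine kill hV (Eq.PrimR.equiv e Eq.PrimR.sl) hTL hnor hmv ?_ hAT hA hi
      rw [← Nat.card_congr e.toEquiv, card_sl2']
      have h1 : (8 : ℕ) ∣ Fintype.card F := by
        rw [hF, show (8 : ℕ) = 2 ^ 3 by norm_num]
        exact pow_dvd_pow 2 (by omega)
      exact Dvd.dvd.mul_right (Dvd.dvd.mul_left h1 _) _
  exact ⟨hTL, square_of_not_le hC e hTL hF⟩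

end linear

/-! ### the list -/

/-- **the list** (3.1), (3.3) -/
theorem main (hc : OddCyc X) (hV : ∀ v : V, v * v = 1) (hinj : ∀ x : X, (∀ v, ρ x v = v) → x = 1)
    [L.Normal] (hs : IsSimpleGroup L) (hK : KZero L) (hC : centralizer (L : Set X) = ⊥)
    (hnor : ∀ g ∈ normalizer ((T : Subgroup X) : Set X), ρ g lam = lam) (hmv : ∃ l ∈ L, ρ l lam ≠ lam)
    (f3 : ∀ x : X, orderOf x = 3 → ρ x lam ≠ lam) (hsq : ∀ a ∈ A, a * a = 1)
    (hAT : A ≤ (T : Subgroup X)) (hA : A ≠ ⊥) (hi : (CS ρ A).index ≤ Nat.card A ^ 2) :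
    (∃ (F : Type) (_ : Field F) (_ : Fintype F) (_ : CharP F 2) (k : ℕ), 1 ≤ k ∧ Fintype.card F = 2 ^ (2 * k) ∧
      Nonempty (Matrix.SpecialLinearGroup (Fin 2) F ≃* L) ∧ ¬ (T : Subgroup X) ≤ L) ∨
    (∃ (F : Type) (_ : Field F) (_ : Fintype F), Fintype.card F = 7 ∧
      Nonempty (L ≃* Matrix.ProjectiveSpecialLinearGroup (Fin 2) F)) := by
  rcases hK with ⟨F, _, _, hp, h5, ⟨e⟩⟩ | ⟨F, _, _, f, hf, hF, ⟨e⟩⟩ | hK | ⟨hJ, k, hk⟩
  · have hodd : Odd (Fintype.card F) := hp.odd_of_ne_two (by omega)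
    by_cases h5' : Fintype.card F = 5
    · left
      obtain ⟨K, _, _, _, hK4, ⟨e'⟩⟩ := T1Socle.exists_four h5'
      obtain ⟨h1, -⟩ := linear (F := K) (f := 2) hV hs hC (e.trans e').symm le_rfl (by rw [hK4]; norm_num) hnor hmv f3
        hAT hA hi
      exact ⟨K, _, _, inferInstance, 1, le_rfl, by rw [hK4]; norm_num, ⟨(e.trans e').symm⟩, h1⟩
    · right
      have h7 : 7 ≤ Fintype.card F := by
        have h6 : Fintype.card F ≠ 6 := by
          intro h6
          rw [h6] at hp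
          revert hp
          norm_num
        omega
      have R := Cfsg.Agent.GH.L2Aut.Rep.ofEquiv (Cfsg.Agent.GH.L2Aut.two_ne_zero_of_odd hodd) e
      have h := ListP.seven R hV hinj hc hC hsq hA hi (by rw [Nat.card_eq_fintype_card]; exact hp)
        (by rw [Nat.card_eq_fintype_card]; exact h7)
      rw [Nat.card_eq_fintype_card] at h
      exact ⟨F, _, _, h, ⟨e⟩⟩
  · left
    have h4 : 4 ≤ Fintype.card F := by
      rw [hF]
      calc 4 = 2 ^ 2 := by norm_num
        _ ≤ 2 ^ f := Nat.pow_le_pow_right (by norm_num) hf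
    have hch : CharP F 2 := by
      have hch := ringChar.charP F
      have h1 : ringChar F ∣ 2 ^ f := by
        rw [← hF, ← CharP.cast_eq_zero_iff F (ringChar F), Nat.cast_card_eq_zero]
      have h2 : (ringChar F).Prime := CharP.char_is_prime F (ringChar F)
      have h3 : ringChar F = 2 := (Nat.prime_dvd_prime_iff_eq h2 Nat.prime_two).1 (h2.dvd_of_dvd_pow h1)
      rwa [h3] at hch
    obtain ⟨g⟩ := WeakTI.PslTwo.nonempty_equiv (F := F)
    obtain ⟨h1, k, hk, hk'⟩ := linear hV hs hC (g.trans e.symm) hf hF hnor hmv f3 hAT hA hi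
    exact ⟨F, _, _, hch, k, hk, by rw [hF, hk'], ⟨g.trans e.symm⟩, h1⟩
  · exact (suzuki hV hK hs hC hnor hmv hAT hA hi).elim
  · exact (janko hJ hk hC hnor f3).elim

end abs

/-! ### the additive form -/

section add

universe u

variable {M X : Type u} [AddCommGroup M] [Group X] [DistribMulAction X M]

variable (M X) in
/-- the multiplicative form of a module -/
def rh : X →* MulAut (Multiplicative M) where
  toFun g :=
    { toFun := fun m => Multiplicative.ofAdd (g • m.toAdd)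
      invFun := fun m => Multiplicative.ofAdd (g⁻¹ • m.toAdd)
      left_inv := fun m => by
        apply Multiplicative.toAdd.injective
        change g⁻¹ • g • m.toAdd = m.toAdd
        rw [inv_smul_smul]
      right_inv := fun m => by
        apply Multiplicative.toAdd.injective
        change g • g⁻¹ • m.toAdd = m.toAdd
        rw [smul_inv_smul]
      map_mul' := fun m m' => by
        apply Multiplicative.toAdd.injective
        change g • (m.toAdd + m'.toAdd) = g • m.toAdd + g • m'.toAdd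
        rw [smul_add] }
  map_one' := by
    ext m
    apply Multiplicative.toAdd.injective
    change (1 : X) • m.toAdd = m.toAdd
    rw [one_smul]
  map_mul' g h := by
    ext m
    apply Multiplicative.toAdd.injective
    change (g * h) • m.toAdd = g • h • m.toAdd
    rw [mul_smul]

theorem rh_apply (g : X) (m : M) : rh M X g (Multiplicative.ofAdd m) = Multiplicative.ofAdd (g • m) := rfl

theorem rh_eq_iff (g : X) (m : M) : rh M X g (Multiplicative.ofAdd m) = Multiplicative.ofAdd m ↔ g • m = m := by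
  rw [rh_apply]
  exact Multiplicative.ofAdd.injective.eq_iff

theorem card_CS (A : Subgroup X) : Nat.card (CS (rh M X) A) = Nat.card (EO.Fit.fx A (⊤ : AddSubgroup M)) :=
  Nat.card_congr
    { toFun := fun v => ⟨v.1.toAdd, trivial, fun a ha => congrArg Multiplicative.toAdd (v.2 a ha)⟩
      invFun := fun m => ⟨Multiplicative.ofAdd m.1, fun a ha => congrArg Multiplicative.ofAdd (m.2.2 a ha)⟩
      left_inv := fun _ => rfl
      right_inv := fun _ => rfl }

theorem index_CS_le [Finite M] {A : Subgroup X} {n : ℕ} (h : Nat.card M ≤ n * Nat.card (EO.Fit.fx A (⊤ : AddSubgroup M))) :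
    (CS (rh M X) A).index ≤ n := by
  have h1 := (CS (rh M X) A).card_mul_index
  have h2 : Nat.card (Multiplicative M) = Nat.card M := rfl
  rw [h2] at h1
  rw [← h1, card_CS, mul_comm] at h
  have h3 : 0 < Nat.card (EO.Fit.fx A (⊤ : AddSubgroup M)) := Nat.card_pos
  exact Nat.le_of_mul_le_mul_right h h3

variable {lam : M} {Tb A A' : Subgroup X}

/-- **(3.1)**: Suzuki groups -/
theorem _root_.Cfsg.Agent.OddCyclic.EN.Pi.Out.suzuki (h : Pi.Out M X lam Tb A A') {L : Subgroup X} [L.Normal]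
    (hsi : IsSimpleGroup L) (hs : Cfsg.Lie.IsoSuzuki L) (hC : centralizer (L : Set X) = ⊥)
    (hmv : ∃ l ∈ L, l • lam ≠ lam) : False := by
  have := h.fin
  have := h.finM
  obtain ⟨Q, rfl⟩ := h.syl
  refine suzuki (ρ := rh M X) (lam := Multiplicative.ofAdd lam) (T := Q) (A := A)
    (fun v => congrArg Multiplicative.ofAdd (h.two v.toAdd)) hs hsi hC ?_ ?_ h.le h.hne (index_CS_le h.card_sq)
  · intro g hg
    rw [rh_eq_iff]; exact h.norm g hg
  · obtain ⟨l, hl, hl'⟩ := hmv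
    exact ⟨l, hl, fun h0 => hl' ((rh_eq_iff _ _).1 h0)⟩

/-- **(3.1), (3.3)**: the list -/
theorem _root_.Cfsg.Agent.OddCyclic.EN.Pi.Out.main (h : Pi.Out M X lam Tb A A') {L : Subgroup X} [L.Normal]
    (hs : IsSimpleGroup L) (hK : KZero L) (hC : centralizer (L : Set X) = ⊥)
    (hmv : ∃ l ∈ L, l • lam ≠ lam) (f3 : ∀ x : X, orderOf x = 3 → x • lam ≠ lam) :
    (∃ (F : Type) (_ : Field F) (_ : Fintype F) (_ : CharP F 2) (k : ℕ), 1 ≤ k ∧ Fintype.card F = 2 ^ (2 * k) ∧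
      Nonempty (Matrix.SpecialLinearGroup (Fin 2) F ≃* L) ∧ ¬ Tb ≤ L) ∨
    (∃ (F : Type) (_ : Field F) (_ : Fintype F), Fintype.card F = 7 ∧
      Nonempty (L ≃* Matrix.ProjectiveSpecialLinearGroup (Fin 2) F)) := by
  have := h.fin
  have := h.finM
  obtain ⟨Q, rfl⟩ := h.syl
  refine main (ρ := rh M X) (lam := Multiplicative.ofAdd lam) (T := Q) (A := A) h.cyc
    (fun v => congrArg Multiplicative.ofAdd (h.two v.toAdd)) ?_ hs hK hC ?_ ?_ ?_ h.sq h.le h.hne
    (index_CS_le h.card_sq)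
  · intro x hx
    exact h.faithful x fun m => (rh_eq_iff _ _).1 (hx (Multiplicative.ofAdd m))
  · intro g hg
    rw [rh_eq_iff]; exact h.norm g hg
  · obtain ⟨l, hl, hl'⟩ := hmv
    exact ⟨l, hl, fun h0 => hl' ((rh_eq_iff _ _).1 h0)⟩
  · intro x hx h0
    exact f3 x hx ((rh_eq_iff _ _).1 h0)

end add

end Cfsg.Agent.OddCyclic.EN.ListM
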