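import Cfsg.Agent.OddCyclic.FFStruct
import Cfsg.Agent.S0144

/-!
# (B-b), 3.5: the generalized Fitting subgroup

`H` with cyclic odd Sylow subgroups and `O₂(H) = 1`: `exists_component`, `exists_prime_five`, `gen`, `dichotomy`,
`fitting_eq`.
-/

set_option autoImplicit false
set_option linter.unusedSectionVars false

namespace Cfsg.Agent.OddCyclic.EN.XStruct

open Subgroup Cfsg Cfsg.Agent.OddCyclic.T1Defs Cfsg.Agent.OddCyclic.CompBasic Cfsg.Agent.OddCyclic.FFStruct
  Cfsg.Agent.SignalizersComponents.Components Cfsg.Agent.Lib.GenFitting Cfsg.Agent.Lib.Cores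

/-- Burnside -/
theorem exists_prime_five {K : Type*} [Group K] [Finite K] (h : ¬ Group.IsSolvable K) :
    ∃ r : ℕ, r.Prime ∧ 5 ≤ r ∧ r ∣ Nat.card K := by
  by_contra hcon
  push Not at hcon
  obtain ⟨a, m, hm, e1⟩ := Nat.exists_eq_pow_mul_and_not_dvd (Nat.card_pos (α := K)).ne' 2 (by norm_num)
  have hm0 : m ≠ 0 := by rintro rfl; exact hm (dvd_zero 2)
  obtain ⟨b, k, hk, e2⟩ := Nat.exists_eq_pow_mul_and_not_dvd hm0 3 (by norm_num)
  have hk1 : k = 1 := by
    by_contra hk1
    obtain ⟨p, hp, hpk⟩ := Nat.exists_prime_and_dvd hk1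
    have hpK : p ∣ Nat.card K := by rw [e1, e2]; exact (hpk.mul_left _).mul_left _
    have h5 : p < 5 := by
      by_contra h5
      exact hcon p hp (by omega) hpK
    have h2 := hp.two_le
    interval_cases p
    · exact hm (by rw [e2]; exact hpk.mul_left _)
    · exact hk hpk
    · exact absurd hp (by norm_num)
  rw [hk1, mul_one] at e2
  exact h (Cfsg.Agent.S0144.result 2 3 a b Nat.prime_two Nat.prime_three (by rw [e1, e2]))

variable {H : Type*} [Group H] [Finite H]

theorem exists_component (hc : OddCyc H) (h2 : pCore 2 H = ⊥) (hn : ¬ Group.IsSolvable H) :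
    ∃ K : Subgroup H, IsComponent K := by
  by_contra hcon
  push Not at hcon
  apply hn
  have hl : layer H = ⊥ := by
    rw [layer_def, sSup_eq_bot]
    intro K hK
    exact absurd hK (hcon K)
  have hF : generalizedFittingSubgroup H = fittingSubgroup H := by rw [genFitting_def, hl, bot_sup_eq]
  have hcyc := isCyclic_fitting hc h2
  have hFn : (fittingSubgroup H).Normal := fittingSubgroup_normal
  let φ : H →* (ZMod (Nat.card (fittingSubgroup H)))ˣ :=
    ((IsCyclic.mulAutMulEquiv (fittingSubgroup H)).toMonoidHom).comp (MulAut.conjNormal (H := fittingSubgroup H))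
  have hker : φ.ker ≤ (fittingSubgroup H).subtype.range := by
    rw [range_subtype]
    intro x hx
    have h1 : (IsCyclic.mulAutMulEquiv (fittingSubgroup H)) (MulAut.conjNormal x) = 1 := hx
    rw [MulEquiv.map_eq_one_iff] at h1
    have h3 := centralizer_genFitting_le (G := H)
    rw [hF] at h3
    apply h3
    rw [mem_centralizer_iff]
    intro y hy
    have h4 : ((MulAut.conjNormal x : MulAut (fittingSubgroup H)) ⟨y, hy⟩ : H) = y := by
      rw [h1]; rfl
    rw [MulAut.conjNormal_apply] at h4
    exact (mul_inv_eq_iff_eq_mul.mp h4).symm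
  exact Group.isSolvable_of_ker_le_range (fittingSubgroup H).subtype φ hker

theorem component_nonab {K : Subgroup H} (hK : IsComponent K) : ∃ x y : K, x * y ≠ y * x := by
  by_contra hcon
  push Not at hcon
  exact quasisimple_not_isSolvable hK.2 (Group.isSolvable_of_comm hcon)

/-- `[F(H), J] = 1` -/
theorem fitting_comm (hc : OddCyc H) (h2 : pCore 2 H = ⊥) {J : Subgroup H} (hJ : IsComponent J) :
    ∀ f ∈ fittingSubgroup H, ∀ j ∈ J, f * j = j * f := by
  have hn := component_normal hc hJ
  have hFn : (fittingSubgroup H).Normal := fittingSubgroup_normal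
  have hs := simple_component hc h2 hJ
  have hcyc := isCyclic_fitting hc h2
  have h1 : fittingSubgroup H ⊓ J = ⊥ := by
    have h3 : ((fittingSubgroup H).subgroupOf J).Normal := inferInstance
    rcases h3.eq_bot_or_eq_top with h4 | h4
    · rwa [subgroupOf_eq_bot, disjoint_iff] at h4
    · exfalso
      rw [subgroupOf_eq_top] at h4
      obtain ⟨x, y, hxy⟩ := component_nonab hJ
      apply hxy
      have : IsMulCommutative (fittingSubgroup H) := IsCyclic.isMulCommutative
      have h5 := this.is_comm.comm (⟨x, h4 x.2⟩ : fittingSubgroup H) ⟨y, h4 y.2⟩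
      have h6 : (x : H) * y = y * x := congrArg Subtype.val h5
      exact Subtype.ext h6
  intro f hf j hj
  have h3 : f * j * f⁻¹ * j⁻¹ ∈ fittingSubgroup H ⊓ J := by
    constructor
    · have e : f * j * f⁻¹ * j⁻¹ = f * (j * f⁻¹ * j⁻¹) := by group
      rw [e]
      exact (fittingSubgroup H).mul_mem hf (hFn.conj_mem _ ((fittingSubgroup H).inv_mem hf) j)
    · exact J.mul_mem (hn.conj_mem j hj f) (J.inv_mem hj)
  rw [h1, mem_bot, mul_inv_eq_one] at h3
  exact mul_inv_eq_iff_eq_mul.mp h3

/-- `F*(H) = J F(H)` if `J` is the only component -/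
theorem gen (hc : OddCyc H) (h2 : pCore 2 H = ⊥) {J : Subgroup H} (hJ : IsComponent J)
    (hu : ∀ K : Subgroup H, IsComponent K → K = J) {x : H} (hx : ∀ j ∈ J, x * j = j * x)
    (hx' : ∀ f ∈ fittingSubgroup H, x * f = f * x) : x ∈ fittingSubgroup H := by
  have hFn : (fittingSubgroup H).Normal := fittingSubgroup_normal
  have hl : layer H = J := by
    refine le_antisymm ?_ ?_
    · rw [layer_def]; exact sSup_le fun K hK => (hu K hK).le
    · rw [layer_def]; exact le_sSup hJ
  have h1 : x ∈ centralizer (generalizedFittingSubgroup H : Set H) := by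
    have h3 : generalizedFittingSubgroup H ≤ centralizer ({x} : Set H) := by
      rw [genFitting_def, hl]
      refine sup_le (fun j hj => ?_) fun f hf => ?_
      · rw [mem_centralizer_singleton_iff]; exact (hx j hj).symm
      · rw [mem_centralizer_singleton_iff]; exact (hx' f hf).symm
    rw [mem_centralizer_iff]
    exact fun y hy => mem_centralizer_singleton_iff.mp (h3 hy)
  have h3 := centralizer_genFitting_le h1
  rw [genFitting_def, hl] at h3
  obtain ⟨j, hj, f, hf, rfl⟩ := Subgroup.mem_sup_of_normal_right.mp h3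
  have h4 : j = 1 := by
    refine inter_centralizer hc h2 hJ j hj ?_
    rw [mem_centralizer_iff]
    intro k hk
    have h5 := hx k hk
    have h6 := fitting_comm hc h2 hJ f hf k hk
    have h7 : j * k * f = k * j * f := by
      calc j * k * f = j * (f * k) := by rw [h6]; group
        _ = j * f * k := by group
        _ = k * (j * f) := h5
        _ = k * j * f := by group
    exact (mul_right_cancel h7).symm
  rw [h4, one_mul]; exact hf

/-- normal subgroups of order divisible by the odd prime `p` meet -/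
theorem not_both (hc : OddCyc H) (h2 : pCore 2 H = ⊥) {J : Subgroup H} (hJ : IsComponent J) {p : ℕ}
    (hp : p.Prime) (hp2 : p ≠ 2) (h : p ∣ Nat.card J) (h' : p ∣ Nat.card (fittingSubgroup H)) : False := by
  have : Fact p.Prime := ⟨hp⟩
  have hFn : (fittingSubgroup H).Normal := fittingSubgroup_normal
  obtain ⟨x, hx⟩ := exists_prime_orderOf_dvd_card' (G := J) p h
  have hx' : orderOf (x : H) = p := by rw [Subgroup.orderOf_coe]; exact hx
  have h1 := mem_of_orderOf hc hp hp2 hFn h' hx'
  have h3 := inter_centralizer hc h2 hJ x x.2 (by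
    rw [mem_centralizer_iff]
    exact fun j hj => (fitting_comm hc h2 hJ _ h1 j hj).symm)
  rw [h3, orderOf_one] at hx'
  exact hp.one_lt.ne hx'

/-- `F(H) = 1` or a prime `r ≥ 5` divides `|F(H)|` -/
theorem dichotomy (hc : OddCyc H) (h2 : pCore 2 H = ⊥) {J : Subgroup H} (hJ : IsComponent J)
    (h3 : 3 ∣ Nat.card J) : fittingSubgroup H = ⊥ ∨
      (fittingSubgroup H ≠ ⊥ ∧ ∀ r : ℕ, r.Prime → r ∣ Nat.card (fittingSubgroup H) → 5 ≤ r) := by
  by_cases hF : fittingSubgroup H = ⊥
  · exact Or.inl hF
  refine Or.inr ⟨hF, fun r hr hd => ?_⟩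
  have hodd := odd_card_fitting h2
  by_contra h5
  have h6 := hr.two_le
  have h7 : r = 2 ∨ r = 3 ∨ r = 4 := by omega
  rcases h7 with rfl | rfl | rfl
  · exact (Nat.not_even_iff_odd.mpr hodd) (even_iff_two_dvd.mpr hd)
  · exact not_both hc h2 hJ Nat.prime_three (by norm_num) h3 hd
  · exact absurd hr (by norm_num)

/-- `O_r(H)` -/
theorem pCore_ne_bot {r : ℕ} (hr : r.Prime) (hd : r ∣ Nat.card (fittingSubgroup H)) : pCore r H ≠ ⊥ := by
  have : Fact r.Prime := ⟨hr⟩
  obtain ⟨x, hx⟩ := exists_prime_orderOf_dvd_card' (G := fittingSubgroup H) r hd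
  have h1 : (x : H) ∈ pCore r H := by
    refine mem_pCore_of_mem_fitting x.2 (k := 1) ?_
    have h3 := pow_orderOf_eq_one x
    rw [hx] at h3
    rw [pow_one]
    exact congrArg Subtype.val h3
  intro e
  rw [e, mem_bot] at h1
  have h3 : x = 1 := Subtype.ext h1
  rw [h3, orderOf_one] at hx
  exact hr.one_lt.ne hx

theorem pCore_le_fitting {r : ℕ} (hr : r.Prime) : pCore r H ≤ fittingSubgroup H := by
  have : Fact r.Prime := ⟨hr⟩
  exact le_fittingSubgroup inferInstance (pCore_isPGroup r).isNilpotent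

/-- if only `r` divides `|F(H)|` then `F(H) = O_r(H)` -/
theorem fitting_eq {r : ℕ} (hr : r.Prime) (h : ∀ p : ℕ, p.Prime → p ∣ Nat.card (fittingSubgroup H) → p = r) :
    fittingSubgroup H = pCore r H := by
  have : Fact r.Prime := ⟨hr⟩
  refine le_antisymm ?_ (pCore_le_fitting hr)
  refine le_pCore fittingSubgroup_normal ?_
  rw [IsPGroup.iff_card]
  exact ⟨_, Nat.eq_prime_pow_of_unique_prime_dvd Nat.card_pos.ne' fun {d} hd hdvd => h d hd hdvd⟩

end Cfsg.Agent.OddCyclic.EN.XStruct
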