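import Cfsg.Agent.OddCyclic.EN.ShapeA
import Cfsg.Agent.OddCyclic.EN.PiTri
import Cfsg.Agent.OddCyclic.EN.ListM
import Cfsg.Agent.OddCyclic.EN.ListC
import Cfsg.Agent.OddCyclic.EN.BbConj
import Cfsg.Agent.OddCyclic.EN.XStruct
import Cfsg.Agent.OddCyclic.EO.Line
import Cfsg.Agent.ClassicalGeometry.PSL2Basic

/-!
# (B-b), 3.5 of helper217's blueprint: the shape of `X = C(z) / kq V z`

* `FitFive`: 3.4;
* `main`: `L*` exists, and the only component `J` of `X` is `SL₂(4^k)`, `T` inducing field automorphisms, or `PSL₂(7)`;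
  `C_X(J) = 1`.
-/

set_option autoImplicit false
set_option linter.unusedSectionVars false
set_option linter.style.haveILetI false

namespace Cfsg.Agent.OddCyclic.EN.Shape

open Subgroup Cfsg Cfsg.Agent.ZN Cfsg.Agent.MinSimple.Geo Cfsg.Agent.OddCyclic.GeoC
  Cfsg.Agent.MinSimple.SecRep Cfsg.Agent.OddCyclic.EN.Pi Cfsg.Agent.OddCyclic.EN.BbDefs
open Cfsg.Agent.OddCyclic.EN.PiTri (pr)
open Cfsg.Agent.OddCyclic.T1Defs (OddCyc)
open Cfsg.Agent.OddCyclic.PumpMain (KZero)
open Cfsg.Agent.SignalizersComponents.Components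
open scoped commutatorElement

universe u

/-- 3.4 -/
def FitFive : Prop := ∀ {G : Type u} [Group G] [Finite G] {T V L : Subgroup G} {z : G} {M X : Type u}
    [AddCommGroup M] [Group X] [DistribMulAction X M], Star T V z L → ∀ R : RepM.Rep V z M X, ∀ {J : Subgroup X},
    J.Normal → IsSimpleGroup J → (∀ j, j ∈ J ↔ ∃ l ∈ L, R.rho l = j) →
    (∃ (F : Type) (_ : Field F) (_ : Fintype F), Fintype.card F = 7 ∧
      Nonempty (J ≃* Matrix.ProjectiveSpecialLinearGroup (Fin 2) F)) →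
    ∀ {O : Subgroup X}, O.Normal → Nat.card O = 5 →
    (∀ x : X, (∀ j ∈ J, x * j = j * x) → (∀ o ∈ O, x * o = o * x) → x ∈ O) → False

/-- `Star`, the module at `z`, and `J = F*(X)` -/
structure Cfg {G : Type u} [Group G] (T V : Subgroup G) (z : G) (L : Subgroup G) {M X : Type u} [AddCommGroup M]
    [Group X] [DistribMulAction X M] (R : RepM.Rep V z M X) (J : Subgroup X) : Prop where
  star : Star T V z L
  nor : J.Normal
  simple : IsSimpleGroup J
  mem : ∀ j, j ∈ J ↔ ∃ l ∈ L, R.rho l = j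
  cent : centralizer (J : Set X) = ⊥

/-- `J ≅ SL₂(4^k)` and the image of `T` is not in `J` -/
def TypeA {G : Type u} [Group G] (T V : Subgroup G) (z : G) {M X : Type u} [AddCommGroup M]
    [Group X] [DistribMulAction X M] (R : RepM.Rep V z M X) (J : Subgroup X) : Prop :=
  ∃ (F : Type) (_ : Field F) (_ : Fintype F) (_ : CharP F 2) (k : ℕ), 1 ≤ k ∧ Fintype.card F = 2 ^ (2 * k) ∧
    Nonempty (Matrix.SpecialLinearGroup (Fin 2) F ≃* J) ∧ ¬ R.img T ≤ J

/-- `J ≅ PSL₂(7)` -/
def TypeB {X : Type u} [Group X] (J : Subgroup X) : Prop :=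
  ∃ (F : Type) (_ : Field F) (_ : Fintype F), Fintype.card F = 7 ∧
    Nonempty (J ≃* Matrix.ProjectiveSpecialLinearGroup (Fin 2) F)

variable {G : Type u} [Group G] [Finite G] {T V : Subgroup G} {z : G}
variable {M X : Type u} [AddCommGroup M] [Group X] [DistribMulAction X M]

/-- the module at `z` -/
theorem exists_rep (h : Bb T V z) :
    ∃ (M X : Type u) (_ : AddCommGroup M) (_ : Group X) (_ : DistribMulAction X M),
      Nonempty (RepM.Rep V z M X) := by
  refine exists_sec ?_ (Cfsg.Agent.MinSimple.Geo.centralizer_le_normalizer_ws V z) ?_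
    (RepM.centralizer_le_normalizer_zpowers z) ?_
  · exact h.toGeoC.ws_le_centralizer
  · rw [zpowers_le]; exact h.toGeoC.V_le_ws h.z_mem
  · intro a ha b hb
    have e : a * b * a⁻¹ * b⁻¹ = 1 := by rw [h.ab a ha b hb]; group
    rw [e]; exact one_mem _

theorem oddCyc (h : GeoC T V z) (R : RepM.Rep V z M X) : OddCyc X :=
  T1Structure.oddCyc_of_surjective (T1Structure.oddCyc_of_injective h.cyc (centralizer ({z} : Set G)).subtype
    (centralizer ({z} : Set G)).subtype_injective) R.hom R.hom_surj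

theorem pCore_two (h : GeoC T V z) (R : RepM.Rep V z M X) : pCore 2 X = ⊥ := by
  haveI : Finite X := R.finite_right
  exact ShapeA.o2_eq_bot h R inferInstance (Cfsg.Agent.Lib.Cores.pCore_isPGroup 2)

/-- if `X` is solvable then `C(z)` is solvable modulo `kq V z` -/
theorem solvMod (R : RepM.Rep V z M X) (hs : Group.IsSolvable X) :
    EO.Line.SolvMod (centralizer ({z} : Set G)) (kq V z) := by
  obtain ⟨n, hn⟩ := (Group.isSolvable_def _).mp hs
  refine ⟨n, ?_⟩
  rw [EO.Line.dser_eq]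
  rintro _ ⟨x, hx, rfl⟩
  have h1 : R.hom x ∈ derivedSeries X n := by
    rw [← map_derivedSeries_eq R.hom_surj n]
    exact ⟨x, hx, rfl⟩
  rw [hn, mem_bot] at h1
  exact (RepM.Rep.rho_eq_one R x.2).mp h1

theorem kZero (h : Bb T V z) (R : RepM.Rep V z M X) {K : Subgroup X} (hs : IsSimpleGroup K)
    (hna : ∃ x y : K, x * y ≠ y * x) : KZero K :=
  FFSec.kzero_of_image h.sec (BbMain.centralizer_ne_top h.toGeoC) R.hom R.hom_surj K hs hna

/-- every component of `X` has order divisible by 3 -/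
theorem three_dvd (h : Bb T V z) (R : RepM.Rep V z M X) {K : Subgroup X} (hK : IsComponent K) :
    3 ∣ Nat.card K := by
  haveI : Finite X := R.finite_right
  have hc := oddCyc h.toGeoC R
  have h2 := pCore_two h.toGeoC R
  have hs := FFStruct.simple_component hc h2 hK
  have hKn := FFStruct.component_normal hc hK
  have hna := XStruct.component_nonab hK
  by_contra h3
  have hz := kZero h R hs hna
  have hsz : Cfsg.Lie.IsoSuzuki K := by
    by_contra hns
    exact h3 (FFStruct.three_dvd_of_kZero hz hns)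
  obtain ⟨r, hr, h5, hd⟩ := XStruct.exists_prime_five
    (Cfsg.Agent.SignalizersComponents.Components.quasisimple_not_isSolvable hK.2)
  obtain ⟨y, hy, hy1, hyz⟩ := h.toGeoC.exists_y
  obtain ⟨M', X', i1, i2, i3, R', g, hF, hg, ho, hn, ⟨e⟩, hC, hcov, hmv, -⟩ :=
    PiTri.exists_simple h R hKn hs (by
      obtain ⟨x, y, hxy⟩ := hna
      exact ⟨x, x.2, y, y.2, fun e => hxy (Subtype.ext e)⟩) hr h5 hd hy hy1 hyz
  obtain ⟨F, j1, j2, m, hm, hF', ⟨e'⟩⟩ := hsz
  haveI := hn
  exact ho.suzuki e.isSimpleGroup ⟨F, j1, j2, m, hm, hF', ⟨e.trans e'⟩⟩ hC hmv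

/-- the order of a normal `r`-subgroup of `X`, `r ≥ 5` -/
theorem card_pCore (h : Bb T V z) (R : RepM.Rep V z M X) {O : Subgroup X} (hO : O.Normal) (hne : O ≠ ⊥)
    {r : ℕ} (hr : r.Prime) (h5 : 5 ≤ r) (hp : IsPGroup r O) : r = 5 ∧ Nat.card O = 5 := by
  haveI : Finite X := R.finite_right
  have hc := oddCyc h.toGeoC R
  obtain ⟨y, hy, hy1, hyz⟩ := h.toGeoC.exists_y
  obtain ⟨M', X', i1, i2, i3, R', g, hF, hg, ho, hn, hp', hcov, hmv, -⟩ :=
    PiTri.exists_pGroup h R hO hne hr h5 hp hy hy1 hyz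
  haveI := hn
  obtain ⟨h1, h2, -⟩ := ho.cycR hr h5 hp' (fun e => by
    obtain ⟨l, hl, hl'⟩ := hmv
    rw [e, mem_bot] at hl
    exact hl' (by rw [hl, one_smul])) hcov
  refine ⟨h1, ?_⟩
  have hOc : IsCyclic O := CompBasic.isCyclic_of_isPGroup hc hr (by omega) hp
  have hle : R.pre O ≤ pr (R.pre O) V z := le_sup_left
  obtain ⟨e⟩ := ShapeA.exists_iso hF R R' hle (ShapeA.inj_of_cyclic hF R R' hO hOc hle)
  rw [Nat.card_congr e.toEquiv]
  exact h2

/-- **3.5** -/
theorem main (FF : FitFive.{u}) (h : Bb T V z) (R : RepM.Rep V z M X)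
    (hn : ¬ Group.IsSolvable X) : ∃ (L : Subgroup G) (J : Subgroup X), Cfg T V z L R J ∧
      (TypeA T V z R J ∨ TypeB J) := by
  haveI : Finite X := R.finite_right
  have hc := oddCyc h.toGeoC R
  have h2 := pCore_two h.toGeoC R
  obtain ⟨J, hJ⟩ := XStruct.exists_component hc h2 hn
  have h3 : ∀ {K : Subgroup X}, IsComponent K → 3 ∣ Nat.card K := fun hK => three_dvd h R hK
  have hu : ∀ K : Subgroup X, IsComponent K → K = J := fun K hK =>
    FFStruct.component_eq hc h2 hK hJ Nat.prime_three (by norm_num) (h3 hK) (h3 hJ)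
  have hJs := FFStruct.simple_component hc h2 hJ
  have hJn := FFStruct.component_normal hc hJ
  have hna := XStruct.component_nonab hJ
  have hJp : ⁅J, J⁆ = J := by
    have h1 : commutator J = ⊤ := by
      have h4 : (commutator J).Normal := inferInstance
      rcases h4.eq_bot_or_eq_top with h5 | h5
      · exfalso
        obtain ⟨x, y, hxy⟩ := hna
        apply hxy
        have h6 : ⁅x, y⁆ ∈ commutator J := commutator_mem_commutator (mem_top x) (mem_top y)
        rw [h5, mem_bot, commutatorElement_eq_one_iff_mul_comm] at h6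
        exact h6
      · exact h5
    have h4 := congrArg (Subgroup.map J.subtype) h1
    rw [_root_.commutator_def, map_commutator, ← MonoidHom.range_eq_map, range_subtype] at h4
    exact h4
  obtain ⟨L, hL, hLJ⟩ := BbMain.main h R hJn hJs hJp (h3 hJ)
  obtain ⟨r, hr, h5, hd⟩ := XStruct.exists_prime_five
    (Cfsg.Agent.SignalizersComponents.Components.quasisimple_not_isSolvable hJ.2)
  obtain ⟨y, hy, hy1, hyz⟩ := h.toGeoC.exists_y
  -- the shape of `J`
  have hshape : TypeA T V z R J ∨ TypeB J := by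
    obtain ⟨M', X', i1, i2, i3, R', g, hF, hg, ho, hn', ⟨e⟩, hC, hcov, hmv, hf3⟩ :=
      PiTri.exists_simple h R hJn hJs (by
        obtain ⟨x, y, hxy⟩ := hna
        exact ⟨x, x.2, y, y.2, fun e => hxy (Subtype.ext e)⟩) hr h5 hd hy hy1 hyz
    have hKz : KZero (R'.img (R.pre J)) := FFSec.kzero_congr e (kZero h R hJs hna)
    have hs' : IsSimpleGroup (R'.img (R.pre J)) := e.isSimpleGroup
    have hle : R.pre J ≤ pr (R.pre J) V z := le_sup_left
    haveI := hn'
    rcases ho.main hs' hKz hC hmv (hf3 hL.f3) with ⟨F, j1, j2, j3, k, hk, hFk, ⟨e'⟩, hT⟩ | ⟨F, j1, j2, hF7, ⟨e'⟩⟩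
    · exact Or.inl ⟨F, j1, j2, j3, k, hk, hFk, ⟨e'.trans e⟩, fun hT' => hT (ShapeA.img_T_le hF R R' hle hT')⟩
    · exact Or.inr ⟨F, j1, j2, hF7, ⟨e.symm.trans e'⟩⟩
  -- `F(X) = 1`
  have hF : fittingSubgroup X = ⊥ := by
    rcases XStruct.dichotomy hc h2 hJ (h3 hJ) with h4 | ⟨h4, h6⟩
    · exact h4
    exfalso
    have h7 : ∀ p : ℕ, p.Prime → p ∣ Nat.card (fittingSubgroup X) → p = 5 ∧ Nat.card (pCore p X) = 5 := by
      intro p hp hpd
      exact card_pCore h R inferInstance (XStruct.pCore_ne_bot hp hpd) hp (h6 p hp hpd)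
        (Cfsg.Agent.Lib.Cores.pCore_isPGroup p)
    have h8 : Nat.card (fittingSubgroup X) ≠ 1 := fun e => h4 (card_eq_one.mp e)
    obtain ⟨p, hp, hpd⟩ := Nat.exists_prime_and_dvd h8
    obtain ⟨rfl, h9⟩ := h7 p hp hpd
    have h10 : fittingSubgroup X = pCore 5 X :=
      XStruct.fitting_eq (by norm_num) fun q hq hqd => (h7 q hq hqd).1
    rcases hshape with ⟨F, j1, j2, j3, k, hk, hFk, ⟨e'⟩, hT⟩ | h11
    · refine XStruct.not_both hc h2 hJ (p := 5) (by norm_num) (by norm_num) ?_ hpd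
      rw [← Nat.card_congr e'.toEquiv, Cfsg.Agent.ClassicalGeometry.PSL2Basic.card_SL2, hFk]
      refine Dvd.dvd.mul_left ?_ _
      have h12 : (2 ^ (2 * k)) ^ 2 = 16 ^ k := by
        rw [← pow_mul, show (16 : ℕ) = 2 ^ 4 by norm_num, ← pow_mul]
        congr 1
        ring
      rw [h12]
      have h13 : (16 - 1 : ℕ) ∣ 16 ^ k - 1 := by simpa using Nat.sub_dvd_pow_sub_pow 16 1 k
      exact (by norm_num : (5 : ℕ) ∣ 16 - 1).trans h13
    · refine FF hL R hJn hJs hLJ h11 (O := fittingSubgroup X) Cfsg.Agent.Lib.Cores.fittingSubgroup_normal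
        (by rw [h10]; exact h9) fun x hx hx' => XStruct.gen hc h2 hJ hu hx hx'
  refine ⟨L, J, ⟨hL, hJn, hJs, hLJ, ?_⟩, hshape⟩
  rw [eq_bot_iff]
  intro x hx
  rw [← hF]
  refine XStruct.gen hc h2 hJ hu (fun j hj => ((mem_centralizer_iff.mp hx) j hj).symm) fun f hf => ?_
  rw [hF, mem_bot] at hf
  rw [hf, mul_one, one_mul]

end Cfsg.Agent.OddCyclic.EN.Shape
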