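import Cfsg.Agent.OddCyclic.EN.FitFive
import Cfsg.Agent.OddCyclic.EN.FitA
import Cfsg.Agent.OddCyclic.EN.Shape

/-!
# (B-b), 3.4: the final form
-/

set_option autoImplicit false

namespace Cfsg.Agent.OddCyclic.EN.FitFive

open Subgroup Cfsg

universe u

/-- 3.4 (a) -/
theorem fitA : FitA.{u} := fun h _ _ hL hO hs hc hO5 hcent f3 => by
  haveI := hL
  haveI := hO
  exact Pi.Out.fitA h hs hc hO5 hcent f3

/-- **3.4** -/
theorem fit : Shape.FitFive.{u} := fun h R _ hJ hs hLJ h7 _ hO hO5 gen => false_of fitA h R hJ hs hLJ h7 hO hO5 gen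

end Cfsg.Agent.OddCyclic.EN.FitFive
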