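import Cfsg.Agent.OddCyclic.EN.FitBA
import Cfsg.Agent.OddCyclic.EN.PiTri
import Cfsg.Agent.OddCyclic.EN.BbMain
import Cfsg.Agent.OddCyclic.EN.FThree

/-!
# 3.4 (b) of helper217's blueprint S0342-Bb: "L fixes λ_5" is impossible

`FitB.false`: `O` normal of order 5 in `C(z) / kq V z`, `L*` fixes `o λ - λ` for all `o ∈ O`: contradiction.
-/

set_option autoImplicit false
set_option linter.unusedSectionVars false

namespace Cfsg.Agent.OddCyclic.EN.FitB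

open Subgroup Cfsg Cfsg.Agent.ZN Cfsg.Agent.MinSimple.Geo Cfsg.Agent.OddCyclic.GeoC Cfsg.Agent.MinSimple.SecRep
  Cfsg.Agent.OddCyclic.EN.PiSec Cfsg.Agent.OddCyclic.EN.Pi Cfsg.Agent.OddCyclic.EN.PiTri
  Cfsg.Agent.OddCyclic.EN.BbDefs
open Cfsg.Agent.ZN.Block (conj_mem_of_normalizer conj_mem_of_normalizer')
open Cfsg.Agent.OddCyclic.EN.Line (Ab)

universe u

variable {G : Type u} [Group G] [Finite G] {T V Ls : Subgroup G} {z : G}
  {M X : Type u} [AddCommGroup M] [Group X] [DistribMulAction X M]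

/-- `w` with image fixed by `L*` is centralised by `L*` -/
theorem comm_of_fix (h : Star T V z Ls) (hab : Ab T V z) (Rp : RepM.Rep V z M X) {w : G} (hw : w ∈ ws V z)
    (hf : ∀ l ∈ Ls, Rp.rho l • Rp.pi w = Rp.pi w) : ∀ l ∈ Ls, l * w = w * l := by
  have hlw : ∀ l ∈ Ls, l * w * l⁻¹ = w ∨ l * w * l⁻¹ = z * w := by
    intro l hl
    have h1 := hf l hl
    rw [Rp.smul_pi l (h.L_le hl) w hw] at h1
    exact (RepM.Rep.pi_eq_pi hab (Base.Pt.refl z) Rp (Rp.conj_mem (h.L_le hl) hw) hw).mp h1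
  have hz : ∀ l ∈ Ls, l * w * l⁻¹ * w⁻¹ = 1 ∨ l * w * l⁻¹ * w⁻¹ = z := by
    intro l hl
    rcases hlw l hl with e | e
    · left; rw [e, mul_inv_cancel]
    · right; rw [e, mul_inv_cancel_right]
  have hzl : ∀ l ∈ Ls, l * z = z * l := fun l hl => mem_centralizer_singleton_iff.mp (h.L_le hl)
  refine BbMain.comm_of_perfect' h.perf (fun l => l * w * l⁻¹ * w⁻¹) (fun l _ => by group) ?_ ?_
  · intro l hl k hk
    change k * (l * w * l⁻¹ * w⁻¹) = (l * w * l⁻¹ * w⁻¹) * k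
    rcases hz l hl with e | e
    · rw [e, mul_one, one_mul]
    · rw [e]; exact hzl k hk
  · intro l hl k hk
    change (k * w * k⁻¹ * w⁻¹) * (l * w * l⁻¹ * w⁻¹) = (l * w * l⁻¹ * w⁻¹) * (k * w * k⁻¹ * w⁻¹)
    rcases hz l hl with e | e <;> rcases hz k hk with e' | e' <;> rw [e, e']
    · rw [one_mul, mul_one]
    · rw [one_mul, mul_one]

/-- the elements of `ws V z` centralised by `L*` -/
def cl (V Ls : Subgroup G) (z : G) : Subgroup G := ws V z ⊓ centralizer (Ls : Set G)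

omit [Finite G] in
theorem mem_cl {w : G} : w ∈ cl V Ls z ↔ w ∈ ws V z ∧ ∀ l ∈ Ls, l * w = w * l := by
  rw [cl, mem_inf, mem_centralizer_iff]; rfl

/-- the claim -/
theorem comm_mem_cl (h : Star T V z Ls) (hab : Ab T V z) (Rp : RepM.Rep V z M X) {O : Subgroup X} (hO : O.Normal)
    {y : G} (hy : y ∈ V) (hy1 : y ≠ 1) (hyz : y ≠ z)
    (hfix : ∀ l ∈ Ls, ∀ o ∈ O, Rp.rho l • (o • Rp.pi y - Rp.pi y) = o • Rp.pi y - Rp.pi y)
    (hF : Fr T V (pr (Rp.pre O) V z) z) {c : G} (hc : c ∈ Rp.pre O) :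
    ∀ w ∈ wp V (pr (Rp.pre O) V z), c * w * c⁻¹ * w⁻¹ ∈ cl V Ls z := by
  set P := pr (Rp.pre O) V z with hP
  have hcP : c ∈ P := le_sup_left (a := Rp.pre O) hc
  have hcz : c ∈ centralizer ({z} : Set G) := Rp.pre_le O hc
  have hcw : ∀ w ∈ ws V z, c * w * c⁻¹ * w⁻¹ ∈ ws V z := fun w hw => mul_mem (Rp.conj_mem hcz hw) (inv_mem hw)
  -- the subgroup of the good elements
  let F : Subgroup G :=
    { carrier := {w | w ∈ ws V z ∧ c * w * c⁻¹ * w⁻¹ ∈ cl V Ls z}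
      mul_mem' := by
        rintro a b ⟨ha, ha1⟩ ⟨hb, hb1⟩
        refine ⟨mul_mem ha hb, ?_⟩
        have e : c * (a * b) * c⁻¹ * (a * b)⁻¹ = (c * a * c⁻¹ * a⁻¹) * (c * b * c⁻¹ * b⁻¹) := by
          have h1 := h.ab a ha _ (hcw b hb)
          calc c * (a * b) * c⁻¹ * (a * b)⁻¹ = (c * a * c⁻¹ * a⁻¹) * (a * (c * b * c⁻¹ * b⁻¹)) * a⁻¹ := by group
            _ = (c * a * c⁻¹ * a⁻¹) * (c * b * c⁻¹ * b⁻¹) := by rw [h1]; group
        rw [e]; exact mul_mem ha1 hb1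
      one_mem' := ⟨one_mem _, by
        have e : c * 1 * c⁻¹ * 1⁻¹ = 1 := by group
        rw [e]; exact one_mem _⟩
      inv_mem' := by
        rintro a ⟨ha, ha1⟩
        refine ⟨inv_mem ha, ?_⟩
        have e : c * a⁻¹ * c⁻¹ * a⁻¹⁻¹ = (c * a * c⁻¹ * a⁻¹)⁻¹ := by
          have h1 := h.ab a ha _ (hcw a ha)
          have h3 : a⁻¹ * (c * a * c⁻¹ * a⁻¹)⁻¹ = (c * a * c⁻¹ * a⁻¹)⁻¹ * a⁻¹ :=
            (show Commute a _ from h1).inv_left.inv_right.eq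
          calc c * a⁻¹ * c⁻¹ * a⁻¹⁻¹ = a⁻¹ * (c * a * c⁻¹ * a⁻¹)⁻¹ * a := by group
            _ = (c * a * c⁻¹ * a⁻¹)⁻¹ := by rw [h3, inv_mul_cancel_right]
        rw [e]; exact inv_mem ha1 }
  have hN : centralizer ({z} : Set G) ≤ normalizer (Rp.pre O : Set G) := Rp.le_normalizer_pre hO
  suffices hle : wp V P ≤ F from fun w hw => (hle hw).2
  refine wp_le fun p hp => ?_
  rintro _ ⟨v, hv, rfl⟩
  change p * v * p⁻¹ ∈ F
  obtain ⟨r, hr, n, hn, rfl⟩ := mem_pr hN hp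
  set v' := n * v * n⁻¹ with hv'
  have hv'V : v' ∈ V := conj_mem_of_normalizer le_rfl hn.2 hv
  have e0 : r * n * v * (r * n)⁻¹ = r * v' * r⁻¹ := by rw [hv']; group
  rw [e0]
  have hrz : r ∈ centralizer ({z} : Set G) := Rp.pre_le O hr
  have hv'w : v' ∈ ws V z := h.V_le_ws hv'V
  have hrv : r * v' * r⁻¹ ∈ ws V z := Rp.conj_mem hrz hv'w
  refine ⟨hrv, ?_⟩
  set u := c * (r * v' * r⁻¹) * c⁻¹ * (r * v' * r⁻¹)⁻¹ with hu
  have huw : u ∈ ws V z := hcw _ hrv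
  refine mem_cl.mpr ⟨huw, comm_of_fix h hab Rp huw fun l hl => ?_⟩
  have hpu : Rp.pi u = Rp.rho (c * r) • Rp.pi v' - Rp.rho r • Rp.pi v' := by
    have e1 : c * (r * v' * r⁻¹) * c⁻¹ = (c * r) * v' * (c * r)⁻¹ := by group
    rw [hu, e1, Rp.pi_mul _ (Rp.conj_mem (mul_mem hcz hrz) hv'w) _ (inv_mem hrv), Rp.pi_inv hrv,
      ← Rp.smul_pi _ (mul_mem hcz hrz) _ hv'w, ← Rp.smul_pi _ hrz _ hv'w, ← sub_eq_add_neg]
  have hzz : Rp.pi z = 0 := RepM.Rep.pi_self hab (Base.Pt.refl z) Rp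
  have hcase : Rp.pi v' = 0 ∨ Rp.pi v' = Rp.pi y := by
    rcases h.toGeoC.four h.z_mem hy h.z_ne hy1 (Ne.symm hyz) hv'V with e | e | e | e
    · left; rw [e, Rp.pi_one]
    · left; rw [e, hzz]
    · right; rw [e]
    · right; rw [e, Rp.pi_mul _ (h.V_le_ws h.z_mem) _ (h.V_le_ws hy), hzz, zero_add]
  rcases hcase with e | e
  · rw [hpu, e, smul_zero, smul_zero, sub_self, smul_zero]
  · have e2 : Rp.rho (c * r) • Rp.pi y - Rp.rho r • Rp.pi y =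
        (Rp.rho (c * r) • Rp.pi y - Rp.pi y) - (Rp.rho r • Rp.pi y - Rp.pi y) := by abel
    rw [hpu, e, e2, smul_sub, hfix l hl _ (Rp.mem_pre.mp (mul_mem hc hr)).2, hfix l hl _ (Rp.mem_pre.mp hr).2]

/-- elements of `wp V P` with image in `[M', c]` are centralised by `L*` -/
theorem mem_cl_of (h : Star T V z Ls) (hab : Ab T V z) (Rp : RepM.Rep V z M X) {O : Subgroup X} (hO : O.Normal)
    {y : G} (hy : y ∈ V) (hy1 : y ≠ 1) (hyz : y ≠ z)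
    (hfix : ∀ l ∈ Ls, ∀ o ∈ O, Rp.rho l • (o • Rp.pi y - Rp.pi y) = o • Rp.pi y - Rp.pi y)
    (hF : Fr T V (pr (Rp.pre O) V z) z) {c : G} (hc : c ∈ Rp.pre O)
    {M' X' : Type u} [AddCommGroup M'] [Group X'] [DistribMulAction X' M']
    (R' : Pair.Rep V (pr (Rp.pre O) V z) z M' X') {w : G} (hw : w ∈ wp V (pr (Rp.pre O) V z)) {m : M'}
    (he : R'.pi w = R'.rho c • m - m) : ∀ l ∈ Ls, l * w = w * l := by
  obtain ⟨v, hv, rfl⟩ := R'.pi_surj m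
  have hcP : c ∈ pr (Rp.pre O) V z := le_sup_left (a := Rp.pre O) hc
  have h1 := (mem_cl.mp (comm_mem_cl h hab Rp hO hy hy1 hyz hfix hF hc v hv)).2
  have hcv : c * v * c⁻¹ * v⁻¹ ∈ wp V (pr (Rp.pre O) V z) := mul_mem (R'.conj_mem hcP hv) (inv_mem hv)
  have e1 : R'.rho c • R'.pi v - R'.pi v = R'.pi (c * v * c⁻¹ * v⁻¹) := by
    rw [R'.smul_pi c hcP v hv, R'.pi_mul _ (R'.conj_mem hcP hv) _ (inv_mem hv), R'.pi_inv hv, sub_eq_add_neg]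
  rw [e1] at he
  intro l hl
  rcases (Rep.pi_eq_pi hF R' hw hcv).mp he with e | e
  · rw [e]; exact h1 l hl
  · have hlz : l * z = z * l := mem_centralizer_singleton_iff.mp (h.L_le hl)
    rw [e]
    calc l * (z * (c * v * c⁻¹ * v⁻¹)) = (l * z) * (c * v * c⁻¹ * v⁻¹) := by group
      _ = z * (l * (c * v * c⁻¹ * v⁻¹)) := by rw [hlz]; group
      _ = z * (c * v * c⁻¹ * v⁻¹) * l := by rw [h1 l hl]; group

/-- **3.4 (b)** -/
theorem false (h : Star T V z Ls) (Rp : RepM.Rep V z M X) {O : Subgroup X} (hO : O.Normal)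
    (hO5 : Nat.card O = 5) {y : G} (hy : y ∈ V) (hy1 : y ≠ 1) (hyz : y ≠ z)
    (hfix : ∀ l ∈ Ls, ∀ o ∈ O, Rp.rho l • (o • Rp.pi y - Rp.pi y) = o • Rp.pi y - Rp.pi y) : False := by
  have hab : Ab T V z := BbMain.toAb h
  have h5 : Fact (Nat.Prime 5) := ⟨Nat.prime_five⟩
  have hOne : O ≠ ⊥ := by
    rintro rfl
    rw [card_bot] at hO5
    norm_num at hO5
  have hOp : IsPGroup 5 O := IsPGroup.of_card (n := 1) (by rw [hO5, pow_one])
  obtain ⟨M', X', i1, i2, i3, R', g, hF, hg, ho, hn, -, hcov, hmv, -⟩ :=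
    PiTri.exists_pGroup h.toBb Rp hO hOne Nat.prime_five (by norm_num) hOp hy hy1 hyz
  -- a generator of `O`
  obtain ⟨o, hoO, ho1⟩ := Five.exists_ne_one hOne
  have hoz : O ≤ zpowers o := by
    have h1 : zpowers (⟨o, hoO⟩ : O) = ⊤ := by
      have : Fact (Nat.Prime (Nat.card O)) := ⟨by rw [hO5]; exact Nat.prime_five⟩
      exact zpowers_eq_top_of_prime_card rfl (fun e => ho1 (congrArg Subtype.val e))
    intro x hx
    have h2 : (⟨x, hx⟩ : O) ∈ zpowers (⟨o, hoO⟩ : O) := by rw [h1]; trivial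
    obtain ⟨k, hk⟩ := h2
    exact ⟨k, congrArg Subtype.val hk⟩
  obtain ⟨c, hcz, rfl⟩ := Rp.rho_surj o
  have hc : c ∈ Rp.pre O := Rp.mem_pre.mpr ⟨hcz, hoO⟩
  have hcP : c ∈ pr (Rp.pre O) V z := le_sup_left (a := Rp.pre O) hc
  have hgen : R'.img (Rp.pre O) ≤ zpowers (R'.rho c) := by
    intro a ha
    obtain ⟨x, hx, rfl⟩ := (R'.mem_img le_sup_left).mp ha
    have hxP : x ∈ pr (Rp.pre O) V z := le_sup_left (a := Rp.pre O) hx
    obtain ⟨k, hk⟩ := hoz (Rp.mem_pre.mp hx).2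
    have hxz := (Rp.mem_pre.mp hx).1
    have h1 : Rp.rho (x * (c ^ k)⁻¹) = 1 := by
      have h2 : Rp.rho (c ^ k) = Rp.rho c ^ k := map_zpow Rp.hom ⟨c, hcz⟩ k
      rw [Rp.rho_mul x hxz _ (inv_mem (zpow_mem hcz k)), Rp.rho_inv (zpow_mem hcz k), h2]
      change Rp.rho c ^ k = Rp.rho x at hk
      rw [hk, mul_inv_cancel]
    have h3 := rho_eq_one_of hF Rp R' (mul_mem hxP (inv_mem (zpow_mem hcP k))) h1
    have h2 : R'.rho (c ^ k) = R'.rho c ^ k := map_zpow R'.hom ⟨c, hcP⟩ k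
    rw [R'.rho_mul x hxP _ (inv_mem (zpow_mem hcP k)), R'.rho_inv (zpow_mem hcP k), h2, mul_inv_eq_one] at h3
    exact ⟨k, h3.symm⟩
  have hc5 : orderOf (R'.rho c) = 5 := by
    refine orderOf_eq_prime ?_ ?_
    · rw [← R'.rho_pow hcP]
      refine rho_eq_one_of hF Rp R' (pow_mem hcP _) ?_
      rw [Rp.rho_pow hcz, ← hO5]
      have := pow_card_eq_one' (x := (⟨Rp.rho c, hoO⟩ : O))
      exact congrArg Subtype.val this
    · intro e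
      obtain ⟨l, hl, hne⟩ := hmv
      obtain ⟨k, rfl⟩ := hgen hl
      apply hne
      change (R'.rho c ^ k) • R'.pi y = R'.pi y
      rw [e, one_zpow, one_smul]
  have H : Five M' X' (R'.pi y) (R'.img T) (R'.img (cj g (wp V (pr (Rp.pre O) V z)))) (R'.img (cj g⁻¹ (wp V (pr (Rp.pre O) V z))))
      (R'.img (Rp.pre O)) (R'.rho c) :=
    { toOut := ho
      nrm := hn
      yL := R'.rho_mem_img le_sup_left hc
      gen := hgen
      five := hc5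
      cov := hcov }
  obtain ⟨a', ha', ha'1⟩ := H.exists_A'
  obtain ⟨n, hn5⟩ := H.l5_mem
  have hfix5 : a' • (R'.rho c • n - n) = R'.rho c • n - n := by
    rw [← hn5]; exact H.l5_fix (H.le' ha')
  obtain ⟨m, hm⟩ := H.exists_comm ha' ha'1 hfix5
  have hg' := hg.symm
  obtain ⟨b, hb, rfl⟩ := (R'.mem_img (hg'.le_P hF)).mp ha'
  obtain ⟨w, hw, rfl⟩ := R'.pi_surj m
  have hbP := hg'.le_P hF hb
  -- `r₀`
  set r₀ := b * w * b⁻¹ * w⁻¹ with hr₀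
  have hr₀w : r₀ ∈ wp V (pr (Rp.pre O) V z) := mul_mem (R'.conj_mem hbP hw) (inv_mem hw)
  have hpr₀ : R'.pi r₀ = Five.l5 (R'.rho c) (R'.pi y) := by
    rw [hn5, ← hm, hr₀, R'.smul_pi b hbP w hw, R'.pi_mul _ (R'.conj_mem hbP hw) _ (inv_mem hw), R'.pi_inv hw,
      sub_eq_add_neg]
  have hL₀ : ∀ l ∈ Ls, l * r₀ = r₀ * l :=
    mem_cl_of h hab Rp hO hy hy1 hyz hfix hF hc R' hr₀w (m := n) (by rw [hpr₀, hn5])
  have hr₀z := (Rep.pi_eq_zero' hF R' hr₀w).not.mp (by rw [hpr₀]; exact H.l5_ne)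
  push Not at hr₀z
  have h3 : centralizer ({r₀} : Set G) ≤ centralizer ({z} : Set G) := by
    refine h.F3 (hF.wp_le_T hr₀w) (hF.sq hr₀w) hr₀z.1 hr₀z.2 hL₀ fun t ht => ?_
    have htP := hF.T_le ht
    rw [← Rep.pi_eq_pi hF R' (R'.conj_mem htP hr₀w) hr₀w, ← R'.smul_pi t htP _ hr₀w, hpr₀]
    exact H.l5_fix (R'.rho_mem_img hF.T_le ht)
  -- `r = g r₀ g⁻¹`
  obtain ⟨w1, hw1, hbw⟩ : ∃ w1 ∈ wp V (pr (Rp.pre O) V z), w1 = g * b * g⁻¹ := by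
    refine ⟨g * b * g⁻¹, ?_, rfl⟩
    rw [mem_cj, inv_inv] at hb
    exact hb
  obtain ⟨b1, hb1, hwb⟩ : ∃ b1 ∈ cj g (wp V (pr (Rp.pre O) V z)), b1 = g * w * g⁻¹ := ⟨_, conj_mem_cj hw, rfl⟩
  have hb1P := hg.le_P hF hb1
  have hr : g * r₀ * g⁻¹ = w1 * b1 * w1⁻¹ * b1⁻¹ := by
    rw [hr₀, hbw, hwb]; group
  have hrw : w1 * b1 * w1⁻¹ * b1⁻¹ ∈ wp V (pr (Rp.pre O) V z) := (hg.comm_mem hF hw1 hb1).1
  obtain ⟨k, hk⟩ := H.comm_mem (R'.rho_mem_img (hg.le_P hF) hb1) (R'.pi w1)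
  have hpr : R'.pi (w1 * b1 * w1⁻¹ * b1⁻¹) = R'.rho c • (-k) - (-k) := by
    have e1 : w1 * b1 * w1⁻¹ * b1⁻¹ = w1 * (b1 * w1⁻¹ * b1⁻¹) := by group
    rw [e1, R'.pi_mul _ hw1 _ (R'.conj_mem hb1P (inv_mem hw1)), ← R'.smul_pi b1 hb1P _ (inv_mem hw1),
      R'.pi_inv hw1, smul_neg, smul_neg]
    have : R'.pi w1 + -(R'.rho b1 • R'.pi w1) = -(R'.rho b1 • R'.pi w1 - R'.pi w1) := by abel
    rw [this, hk]; abel
  have hL₁ : ∀ l ∈ Ls, l * (g * r₀ * g⁻¹) = (g * r₀ * g⁻¹) * l := by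
    rw [hr]
    exact mem_cl_of h hab Rp hO hy hy1 hyz hfix hF hc R' hrw hpr
  apply hg.ne hF
  apply h.RL
  intro l hl
  have h4 : g⁻¹ * l * g ∈ centralizer ({r₀} : Set G) := by
    rw [mem_centralizer_singleton_iff]
    have h5 := hL₁ l hl
    calc g⁻¹ * l * g * r₀ = g⁻¹ * (l * (g * r₀ * g⁻¹)) * g := by group
      _ = g⁻¹ * ((g * r₀ * g⁻¹) * l) * g := by rw [h5]
      _ = r₀ * (g⁻¹ * l * g) := by group
  have h5 := mem_centralizer_singleton_iff.mp (h3 h4)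
  rw [mem_centralizer_singleton_iff]
  calc l * (g * z * g⁻¹) = g * (g⁻¹ * l * g * z) * g⁻¹ := by group
    _ = g * (z * (g⁻¹ * l * g)) * g⁻¹ := by rw [h5]
    _ = g * z * g⁻¹ * l := by group

end Cfsg.Agent.OddCyclic.EN.FitB
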