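import Mathlib
import Cfsg.Agent.OddCyclic.GamMod

/-!
# S0342 (B-b), n = 1, type (A_4): the module end (8.4 (ID), 8.8 of helper217's blueprint)

`Hyp t lam`: `S₅` acts on the elementary abelian 2-group `M`, generated by the orbit of `lam ∈ [M, t]`, `t` a double
transposition, `C(t)` fixes `lam`, `|[M, t]| ≤ 4`, `C_M(A₅) = 0`, no element of order three fixes `lam`.
Then `|M| = 16` and the elements of order three act fixed-point-freely.
-/

set_option autoImplicit false
set_option linter.unusedSectionVars false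

namespace Cfsg.Agent.OddCyclic.EN.OneMod

open Cfsg.Agent.OddCyclic.GamPerm Cfsg.Agent.OddCyclic.GamMod
open Cfsg.Agent.OddCyclic.GamMod.Nat5 (dd dd_apply)
open Equiv (Perm)

universe v

/-! ### facts on `S₅` -/

theorem k4_of_even : ∀ g : S5, g * g = 1 → Perm.sign g = 1 → ∃ i, K4 i g := by decide +kernel

theorem even_prod : ∀ g : S5, Perm.sign g = 1 → ∃ a : S5, Perm.sign a = 1 ∧ a * a = 1 ∧ (a * g) * (a * g) = 1 := by
  decide +kernel

theorem k4_trans : ∀ j l m : Fin 5, l ≠ j → m ≠ j → ∃ a : S5, K4 j a ∧ a m = l := by decide +kernel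

theorem exists_rot : ∀ i : Fin 5, ∀ t : S5, K4 i t → t ≠ 1 → ∀ s : S5, K4 i s → s ≠ 1 → s ≠ t →
    ∃ k : S5, O3 k ∧ k i = i ∧ k * t * k⁻¹ = s ∧ k * s * k⁻¹ = t * s := by
  decide +kernel

theorem k4_comm : ∀ i : Fin 5, ∀ t : S5, K4 i t → ∀ s : S5, K4 i s → s * t = t * s := by decide +kernel

set_option synthInstance.maxHeartbeats 400000 in
set_option synthInstance.maxSize 2000 in
theorem k4_cases : ∀ i : Fin 5, ∀ t : S5, K4 i t → t ≠ 1 → ∀ s : S5, K4 i s → s ≠ 1 → s ≠ t →
    ∀ g : S5, K4 i g → g = 1 ∨ g = t ∨ g = s ∨ g = t * s := by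
  decide +kernel

theorem exists_k4_ne' : ∀ i : Fin 5, ∀ t : S5, K4 i t → t ≠ 1 → ∃ s : S5, K4 i s ∧ s ≠ 1 ∧ s ≠ t := by decide +kernel

theorem exists_conj : ∀ i : Fin 5, ∀ t : S5, K4 i t → t ≠ 1 → ∀ j : Fin 5, ∀ s : S5, K4 j s → s ≠ 1 →
    ∃ h : S5, h i = j ∧ h * t * h⁻¹ = s := by
  decide +kernel

theorem exists_odd_comm : ∀ i : Fin 5, ∀ t : S5, K4 i t → ∃ h : S5, h * t = t * h ∧ Perm.sign h = -1 := by
  decide +kernel

theorem k4_move : ∀ i : Fin 5, ∀ t : S5, K4 i t → t ≠ 1 → ∀ j : Fin 5, j ≠ i → t j ≠ j := by decide +kernel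

theorem o3_fix : ∀ g : S5, O3 g → ∃ i j : Fin 5, i ≠ j ∧ g i = i ∧ g j = j := by decide +kernel

theorem card_comm : ∀ i : Fin 5, ∀ t : S5, K4 i t → t ≠ 1 → Fintype.card {g : S5 // g * t = t * g} = 8 := by
  decide +kernel

/-- a subgroup containing `K4 j` and an element moving `j` contains `A₅` -/
theorem gen {H : Subgroup S5} {j : Fin 5} (h1 : ∀ g, K4 j g → g ∈ H) {g : S5} (hg : g ∈ H) (hgj : g j ≠ j)
    {x : S5} (hx : Perm.sign x = 1) : x ∈ H := by
  have htr : ∀ l : Fin 5, ∃ h ∈ H, h j = l := by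
    intro l
    by_cases hl : l = j
    · exact ⟨1, one_mem _, by rw [hl]; rfl⟩
    · obtain ⟨a, ha, hal⟩ := k4_trans j l (g j) hl hgj
      exact ⟨a * g, mul_mem (h1 a ha) hg, hal⟩
  have hall : ∀ l : Fin 5, ∀ b, K4 l b → b ∈ H := by
    intro l b hb
    obtain ⟨h, hh, hl⟩ := htr l
    have h2 : K4 j (h⁻¹ * b * h) := by
      have h3 := hb.conj h⁻¹
      rw [inv_inv] at h3
      have h4 : h⁻¹ l = j := by rw [← hl]; simp
      rwa [h4] at h3
    have h3 := mul_mem (mul_mem hh (h1 _ h2)) (inv_mem hh)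
    have e : h * (h⁻¹ * b * h) * h⁻¹ = b := by group
    rwa [e] at h3
  obtain ⟨a, ha1, ha2, ha3⟩ := even_prod x hx
  obtain ⟨i, hi⟩ := k4_of_even a ha2 ha1
  obtain ⟨l, hl⟩ := k4_of_even (a * x) ha3 (by rw [map_mul, ha1, hx, mul_one])
  have h2 := mul_mem (hall i a hi) (hall l _ hl)
  rwa [← mul_assoc, ha2, one_mul] at h2

/-! ### the module -/

variable {M : Type v} [AddCommGroup M] [DistribMulAction S5 M]

/-- the input of the module end -/
structure Hyp (t : S5) (lam : M) : Prop where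
  two : ∀ m : M, m + m = 0
  t2 : t * t = 1
  t1 : t ≠ 1
  te : Perm.sign t = 1
  fix : ∀ g : S5, g * t = t * g → g • lam = lam
  lam0 : lam ≠ 0
  three : ∀ g : S5, O3 g → g • lam ≠ lam
  gen : ∀ N : AddSubgroup M, (∀ g : S5, g • lam ∈ N) → N = ⊤
  idx : Nat.card (dd M t).range ≤ 4
  mem : ∃ m : M, lam = t • m + m
  cent : ∀ m : M, (∀ g : S5, Perm.sign g = 1 → g • m = m) → m = 0

/-- fixed points of `K4 i` -/
abbrev Pp (M : Type v) [AddCommGroup M] [DistribMulAction S5 M] (i : Fin 5) : AddSubgroup M :=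
  P (MonoidHom.id S5) M i

theorem mem_Pp {i : Fin 5} {m : M} : m ∈ Pp M i ↔ ∀ g : S5, K4 i g → g • m = m := Iff.rfl

theorem smul_mem_Pp {i : Fin 5} {m : M} (hm : m ∈ Pp M i) (c : S5) : c • m ∈ Pp M (c i) := by
  rw [mem_Pp]
  intro d hd
  have h1 := hd.conj c⁻¹
  have h2 : c⁻¹ (c i) = i := by simp
  rw [h2, inv_inv] at h1
  have h3 : (c⁻¹ * d * c) • m = m := hm _ h1
  calc d • c • m = c • ((c⁻¹ * d * c) • m) := by rw [smul_smul, smul_smul]; congr 1; group
    _ = c • m := by rw [h3]

namespace Hyp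

variable {t : S5} {lam : M}

theorem neg_eq (h : Hyp t lam) (m : M) : -m = m := neg_eq_of_add_eq_zero_left (h.two m)

theorem eq_of_add (h : Hyp t lam) {a b : M} (hab : a + b = 0) : a = b := by
  rw [eq_neg_of_add_eq_zero_left hab, h.neg_eq]

theorem finite_range (h : Hyp t lam) [Finite M] : Finite (dd M t).range := inferInstance

variable [Finite M]

/-- four different elements are everything -/
theorem four_cases {D : AddSubgroup M} (two : ∀ m : M, m + m = 0) (hD : Nat.card D ≤ 4) {a b x : M} (ha : a ∈ D)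
    (hb : b ∈ D) (ha0 : a ≠ 0) (hb0 : b ≠ 0) (hab : a ≠ b) (hx : x ∈ D) : x = 0 ∨ x = a ∨ x = b ∨ x = a + b := by
  have hneg : ∀ m : M, -m = m := fun m => neg_eq_of_add_eq_zero_left (two m)
  have hab0 : a + b ≠ 0 := fun e => hab (by rw [eq_neg_of_add_eq_zero_left e, hneg])
  have haba : a + b ≠ a := fun e => hb0 (by simpa using e)
  have habb : a + b ≠ b := fun e => ha0 (by simpa using e)
  have h1 : ({0, a, b, a + b} : Set M) ⊆ (D : Set M) := by
    rintro x (rfl | rfl | rfl | rfl)
    · exact D.zero_mem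
    · exact ha
    · exact hb
    · exact D.add_mem ha hb
  have h2 : ({0, a, b, a + b} : Set M).ncard = 4 := by
    rw [Set.ncard_insert_of_notMem, Set.ncard_insert_of_notMem, Set.ncard_pair (Ne.symm habb)]
    · rintro (e | e)
      · exact hab e
      · exact haba e.symm
    · rintro (e | e | e)
      · exact ha0 e.symm
      · exact hb0 e.symm
      · exact hab0 e.symm
  have h3 : (D : Set M).ncard ≤ 4 := hD
  have h4 : ({0, a, b, a + b} : Set M) = D := Set.eq_of_subset_of_ncard_le h1 (by rw [h2]; exact h3)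
    (Set.toFinite _)
  have : x ∈ ({0, a, b, a + b} : Set M) := by rw [h4]; exact hx
  simpa using this

theorem smul_mem_range {s : S5} (hs : s * t = t * s) {d : M} (hd : d ∈ (dd M t).range) : s • d ∈ (dd M t).range := by
  obtain ⟨m, rfl⟩ := hd
  refine ⟨s • m, ?_⟩
  rw [dd_apply, dd_apply, smul_add, smul_smul, smul_smul, hs]

/-- `(ID)`: an element moved by `s` is moved by `lam` -/
theorem eq_lam (h : Hyp t lam) {s : S5} (hs : s * t = t * s) {d : M} (hd : d ∈ (dd M t).range) (hsd : s • d ≠ d) :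
    s • d + d = lam := by
  have hlam : lam ∈ (dd M t).range := by
    obtain ⟨m, hm⟩ := h.mem
    exact ⟨m, hm.symm⟩
  have hd0 : d ≠ 0 := by rintro rfl; exact hsd (smul_zero s)
  have hdl : lam ≠ d := by rintro rfl; exact hsd (h.fix s hs)
  rcases four_cases h.two h.idx hlam hd h.lam0 hd0 hdl (smul_mem_range hs hd) with e | e | e | e
  · exfalso
    apply hd0
    have := congrArg (fun m => s⁻¹ • m) e
    simpa using this
  · exfalso
    apply hdl
    have h1 : s • lam = lam := h.fix s hs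
    have h2 : s • d = s • lam := by rw [e, h1]
    have := congrArg (fun m => s⁻¹ • m) h2
    simp only [inv_smul_smul] at this
    exact this.symm
  · exact absurd e hsd
  · rw [e, add_assoc, h.two, add_zero]

theorem k4 (h : Hyp t lam) : ∃ i, K4 i t := k4_of_even t h.t2 h.te

/-- `[M, t]` is centralised by the four-group -/
theorem range_le (h : Hyp t lam) {i : Fin 5} (hi : K4 i t) : (dd M t).range ≤ Pp M i := by
  obtain ⟨s, hs, hs1, hst⟩ := exists_k4_ne' i t hi h.t1
  obtain ⟨k, hk3, hki, hkt, hks⟩ := exists_rot i t hi h.t1 s hs hs1 hst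
  have hc : s * t = t * s := k4_comm i t hi s hs
  have hss : s * s = 1 := hs.2.2
  have htt : ∀ m : M, t • (t • m + m) = t • m + m := by
    intro m
    rw [smul_add, smul_smul, h.t2, one_smul, add_comm]
  have key : ∀ m : M, s • (t • m + m) = t • m + m := by
    intro m
    by_contra hne
    have h1 := h.eq_lam hc ⟨m, rfl⟩ hne
    rw [dd_apply] at h1
    -- apply `k`
    have h2 : s • (t • (k • m) + k • m) + (t • (k • m) + k • m) = k • lam := by
      have e1 : k * t = s * k := by rw [← hkt]; group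
      have e2 : k * s = t * s * k := by rw [← hks]; group
      have e3 : k * (s * t) = t * k := by
        calc k * (s * t) = (k * s) * t := by group
          _ = t * s * (k * t) := by rw [e2]; group
          _ = t * (s * s) * k := by rw [e1]; group
          _ = t * k := by rw [hss, mul_one]
      rw [← h1]
      simp only [smul_add, smul_smul]
      rw [e1, e2, e3, ← mul_assoc s t k, hc]
      abel
    by_cases hd : s • (t • (k • m) + k • m) = t • (k • m) + k • m
    · rw [hd, h.two] at h2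
      apply h.lam0
      have := congrArg (fun m => k⁻¹ • m) h2
      simpa using this.symm
    · have h3 := h.eq_lam hc ⟨k • m, rfl⟩ hd
      rw [dd_apply, h2] at h3
      exact h.three k hk3 h3
  rintro _ ⟨m, rfl⟩
  rw [mem_Pp, dd_apply]
  intro g hg
  rcases k4_cases i t hi h.t1 s hs hs1 hst g hg with rfl | rfl | rfl | rfl
  · exact one_smul _ _
  · exact htt m
  · exact key m
  · rw [mul_smul, key, htt]

/-- the same for all double transpositions -/
theorem range_le' (h : Hyp t lam) {j : Fin 5} {g : S5} (hg : K4 j g) (m : M) : g • m + m ∈ Pp M j := by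
  by_cases hg1 : g = 1
  · rw [hg1, one_smul, h.two]; exact zero_mem _
  obtain ⟨i, hi⟩ := h.k4
  obtain ⟨x, hx, hxg⟩ := exists_conj i t hi h.t1 j g hg hg1
  have h1 := smul_mem_Pp (h.range_le hi ⟨x⁻¹ • m, rfl⟩) x
  rw [dd_apply, hx] at h1
  have e : x • (t • x⁻¹ • m + x⁻¹ • m) = g • m + m := by
    rw [smul_add, smul_inv_smul, smul_smul, smul_smul, hxg]
  rwa [e] at h1

theorem lam_mem (h : Hyp t lam) {i : Fin 5} (hi : K4 i t) : lam ∈ Pp M i := by
  rw [mem_Pp]
  intro g hg
  exact h.fix g (k4_comm i t hi g hg)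

/-- the stabiliser of `m` -/
theorem eq_zero_of_fix (h : Hyp t lam) {j : Fin 5} {g : S5} (hgj : g j ≠ j) {m : M} (hm : m ∈ Pp M j)
    (hg : g • m = m) : m = 0 := by
  refine h.cent m fun x hx => ?_
  exact OneMod.gen (H := MulAction.stabilizer S5 m) (j := j) (fun c hc => hm c hc) (g := g) hg hgj hx

theorem Pp_inf (h : Hyp t lam) {i j : Fin 5} (hij : i ≠ j) {m : M} (hi : m ∈ Pp M i) (hj : m ∈ Pp M j) : m = 0 := by
  obtain ⟨g, hg, hg1⟩ := exists_k4_ne i
  exact h.eq_zero_of_fix (k4_move i g hg hg1 j hij.symm) hj (hi g hg)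

theorem Pp_sup (h : Hyp t lam) {i j : Fin 5} (hij : i ≠ j) : Pp M i ⊔ Pp M j = ⊤ := by
  set N := Pp M i ⊔ Pp M j with hN
  let H : Subgroup S5 :=
    { carrier := {g | ∀ m : M, g • m + m ∈ N}
      mul_mem' := by
        intro a b ha hb m
        have h1 := add_mem (ha (b • m)) (hb m)
        have e : a • b • m + b • m + (b • m + m) = (a * b) • m + m := by
          rw [mul_smul]
          calc a • b • m + b • m + (b • m + m) = a • b • m + (b • m + b • m) + m := by abel
            _ = a • b • m + m := by rw [h.two, add_zero]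
        rwa [e] at h1
      one_mem' := by
        intro m
        rw [one_smul, h.two]; exact zero_mem _
      inv_mem' := by
        intro a ha m
        have h1 := ha (a⁻¹ • m)
        rw [smul_inv_smul, add_comm] at h1
        exact h1 }
  have hmem : ∀ {g : S5}, g ∈ H ↔ ∀ m : M, g • m + m ∈ N := Iff.rfl
  obtain ⟨g, hg, hg1⟩ := exists_k4_ne i
  have hev : ∀ x : S5, Perm.sign x = 1 → x ∈ H := fun x hx =>
    OneMod.gen (H := H) (j := j) (fun c hc m => (le_sup_right : Pp M j ≤ N) (h.range_le' hc m)) (g := g)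
      (fun m => (le_sup_left : Pp M i ≤ N) (h.range_le' hg m)) (k4_move i g hg hg1 j hij.symm) hx
  refine h.gen N fun x => ?_
  obtain ⟨m0, hm0⟩ := h.mem
  have hlam : lam ∈ N := by
    rw [hm0]; exact hev t h.te m0
  obtain ⟨i0, hi0⟩ := h.k4
  obtain ⟨o, ho, ho1⟩ := exists_odd_comm i0 t hi0
  have key : ∀ x : S5, Perm.sign x = 1 → x • lam ∈ N := by
    intro x hx
    have h1 := add_mem (hev x hx lam) hlam
    rwa [add_assoc, h.two, add_zero] at h1
  rcases Int.units_eq_one_or (Perm.sign x) with hx | hx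
  · exact key x hx
  · have h1 := key (x * o) (by rw [map_mul, hx, ho1]; rfl)
    rwa [mul_smul, h.fix o ho] at h1

theorem card_Pp_eq (_ : Hyp t lam) (i j : Fin 5) : Nat.card (Pp M i) = Nat.card (Pp M j) := by
  obtain ⟨c, _, hc⟩ := exists_even_move i j
  refine Nat.card_congr ⟨fun m => ⟨c • (m : M), ?_⟩, fun m => ⟨c⁻¹ • (m : M), ?_⟩, ?_, ?_⟩
  · have := smul_mem_Pp m.2 c
    rwa [hc] at this
  · have := smul_mem_Pp m.2 c⁻¹
    have h1 : c⁻¹ j = i := by rw [← hc]; simp
    rwa [h1] at this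
  · intro m; simp
  · intro m; simp

theorem card_Pp_le (h : Hyp t lam) (j : Fin 5) : Nat.card (Pp M j) ≤ 4 := by
  obtain ⟨i, hi⟩ := h.k4
  obtain ⟨l, hl⟩ : ∃ l : Fin 5, l ≠ i := ⟨i + 1, by
    clear hi
    revert i
    decide⟩
  rw [h.card_Pp_eq j l]
  refine le_trans (Nat.card_le_card_of_injective (fun m : Pp M l => (⟨t • (m : M) + m, ⟨m, rfl⟩⟩ : (dd M t).range)) ?_)
    h.idx
  intro a b hab
  have h1 : t • (a : M) + a = t • (b : M) + b := congrArg Subtype.val hab
  apply Subtype.ext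
  have h2 : t • ((a : M) + b) = a + b := by
    apply h.eq_of_add
    rw [smul_add]
    calc t • (a : M) + t • (b : M) + (a + b) = (t • (a : M) + a) + (t • (b : M) + b) := by abel
      _ = 0 := by rw [h1, h.two]
  exact h.eq_of_add (h.eq_zero_of_fix (k4_move i t hi h.t1 l hl) (add_mem a.2 b.2) h2)

theorem o3_smul (h : Hyp t lam) {g : S5} (hg : O3 g) : g • g • lam ≠ lam := by
  intro e
  have h1 : g • g • g • lam = lam := by rw [smul_smul, smul_smul, hg.1, one_smul]
  rw [e] at h1
  exact h.three g hg h1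

/-- the elements of the four-group of fixed points -/
theorem Pp_cases (h : Hyp t lam) {i : Fin 5} (hi : K4 i t) {g : S5} (hg : O3 g) (hgi : g i = i) {m : M}
    (hm : m ∈ Pp M i) : m = 0 ∨ m = lam ∨ m = g • lam ∨ m = lam + g • lam := by
  have h1 := smul_mem_Pp (h.lam_mem hi) g
  rw [hgi] at h1
  refine four_cases h.two (h.card_Pp_le i) (h.lam_mem hi) h1 h.lam0 ?_ (h.three g hg).symm hm
  intro e
  apply h.lam0
  have := congrArg (fun m => g⁻¹ • m) e
  simpa using this

theorem card_Pp (h : Hyp t lam) (j : Fin 5) : Nat.card (Pp M j) = 4 := by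
  refine le_antisymm (h.card_Pp_le j) ?_
  obtain ⟨i, hi⟩ := h.k4
  rw [h.card_Pp_eq j i]
  obtain ⟨g, hg, hgi⟩ := exists_o3_fix i
  have h1 := smul_mem_Pp (h.lam_mem hi) g
  rw [hgi] at h1
  have hg0 : g • lam ≠ 0 := fun e => h.lam0 (by simpa using congrArg (fun m => g⁻¹ • m) e)
  have hne := h.three g hg
  have h2 : ({0, lam, g • lam, lam + g • lam} : Set M) ⊆ (Pp M i : Set M) := by
    rintro x (rfl | rfl | rfl | rfl)
    · exact (Pp M i).zero_mem
    · exact h.lam_mem hi
    · exact h1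
    · exact (Pp M i).add_mem (h.lam_mem hi) h1
  have h3 : ({0, lam, g • lam, lam + g • lam} : Set M).ncard = 4 := by
    have hab0 : lam + g • lam ≠ 0 := fun e => hne (h.eq_of_add e).symm
    have haba : lam + g • lam ≠ lam := fun e => hg0 (by simpa using e)
    have habb : lam + g • lam ≠ g • lam := fun e => h.lam0 (by simpa using e)
    rw [Set.ncard_insert_of_notMem, Set.ncard_insert_of_notMem, Set.ncard_pair (Ne.symm habb)]
    · rintro (e | e)
      · exact hne e.symm
      · exact haba e.symm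
    · rintro (e | e | e)
      · exact h.lam0 e.symm
      · exact hg0 e.symm
      · exact hab0 e.symm
  have h4 := Set.ncard_le_ncard h2 (Set.toFinite _)
  rw [h3] at h4
  exact h4

/-- **`|M| = 16`** -/
theorem card (h : Hyp t lam) : Nat.card M = 16 := by
  have hij : (0 : Fin 5) ≠ 1 := by decide
  have hsup := h.Pp_sup hij
  let f : Pp M 0 × Pp M 1 → M := fun p => (p.1 : M) + p.2
  have hf : Function.Bijective f := by
    constructor
    · rintro ⟨a, b⟩ ⟨c, d⟩ hab
      have h1 : (a : M) + b = c + d := hab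
      have h2 : (a : M) + c = b + d := by
        apply h.eq_of_add
        calc (a : M) + c + (b + d) = (a + b) + (c + d) := by abel
          _ = 0 := by rw [h1, h.two]
      have h3 : (a : M) + c = 0 := h.Pp_inf hij (add_mem a.2 c.2) (by rw [h2]; exact add_mem b.2 d.2)
      have h4 : (b : M) + d = 0 := by rw [← h2, h3]
      exact Prod.ext (Subtype.ext (h.eq_of_add h3)) (Subtype.ext (h.eq_of_add h4))
    · intro m
      have : m ∈ Pp M 0 ⊔ Pp M 1 := by rw [hsup]; trivial
      obtain ⟨a, ha, b, hb, rfl⟩ := AddSubgroup.mem_sup.mp this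
      exact ⟨(⟨a, ha⟩, ⟨b, hb⟩), rfl⟩
  rw [← Nat.card_congr (Equiv.ofBijective f hf), Nat.card_prod, h.card_Pp, h.card_Pp]

/-- elements of order three are fixed-point-free on the four-groups -/
theorem fpf_Pp (h : Hyp t lam) {j : Fin 5} {g : S5} (hg : O3 g) (hgj : g j = j) {m : M} (hm : m ∈ Pp M j)
    (hgm : g • m = m) : m = 0 := by
  obtain ⟨i, hi⟩ := h.k4
  obtain ⟨c, _, hc⟩ := exists_even_move j i
  have h1 : O3 (c * g * c⁻¹) := by
    constructor
    · calc c * g * c⁻¹ * (c * g * c⁻¹) * (c * g * c⁻¹) = c * (g * g * g) * c⁻¹ := by group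
        _ = 1 := by rw [hg.1]; group
    · intro e
      apply hg.2
      calc g = c⁻¹ * (c * g * c⁻¹) * c := by group
        _ = 1 := by rw [e]; group
  have h2 : (c * g * c⁻¹) i = i := by
    have : c⁻¹ i = j := by rw [← hc]; simp
    rw [Perm.mul_apply, Perm.mul_apply, this, hgj, hc]
  have h3 := smul_mem_Pp hm c
  rw [hc] at h3
  have h4 : (c * g * c⁻¹) • (c • m) = c • m := by
    rw [mul_smul, inv_smul_smul, mul_smul, hgm]
  set k := c * g * c⁻¹ with hk
  have h5 : c • m = 0 := by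
    rcases h.Pp_cases hi h1 h2 h3 with e | e | e | e
    · exact e
    · rw [e] at h4
      exact absurd h4 (h.three k h1)
    · exfalso
      rw [e] at h4
      have := congrArg (fun m => k⁻¹ • m) h4
      simp only [inv_smul_smul] at this
      exact h.three k h1 this
    · exfalso
      rw [e, smul_add, add_comm lam] at h4
      exact h.o3_smul h1 (add_left_cancel h4)
  have := congrArg (fun m => c⁻¹ • m) h5
  simpa using this

/-- **elements of order three act fixed-point-freely** -/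
theorem fpf (h : Hyp t lam) {g : S5} (hg : O3 g) {m : M} (hgm : g • m = m) : m = 0 := by
  obtain ⟨i, j, hij, hi, hj⟩ := o3_fix g hg
  have : m ∈ Pp M i ⊔ Pp M j := by rw [h.Pp_sup hij]; trivial
  obtain ⟨a, ha, b, hb, rfl⟩ := AddSubgroup.mem_sup.mp this
  have ha' := smul_mem_Pp ha g
  have hb' := smul_mem_Pp hb g
  rw [hi] at ha'
  rw [hj] at hb'
  rw [smul_add] at hgm
  have h1 : g • a + a = g • b + b := by
    apply h.eq_of_add
    calc g • a + a + (g • b + b) = (g • a + g • b) + (a + b) := by abel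
      _ = 0 := by rw [hgm, h.two]
  have h2 : g • a + a = 0 := h.Pp_inf hij (add_mem ha' ha) (by rw [h1]; exact add_mem hb' hb)
  have h3 : g • b + b = 0 := by rw [← h1, h2]
  rw [h.fpf_Pp hg hi ha (h.eq_of_add h2), h.fpf_Pp hg hj hb (h.eq_of_add h3), add_zero]

end Hyp

end Cfsg.Agent.OddCyclic.EN.OneMod
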