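import Mathlib
import Cfsg.Agent.OddCyclic.EN.RepM
import Cfsg.Agent.OddCyclic.EN.OneMod
import Cfsg.Agent.OddCyclic.GamEnd

/-!
# S0342 (B-b), n = 1, type (A_4): the bridge to `Gam`

`OneEnd.false`: `C(z)/kq V z ≅ S₅`, `t` central in the image of `T`, `|M : C_M(t)| ≤ 4`, the line vector in `[M, t]`,
`C_M(A₅) = 0`, no element of order three centralises `V`: impossible.
-/

set_option autoImplicit false
set_option linter.unusedSectionVars false

namespace Cfsg.Agent.OddCyclic.EN.OneEnd

open Subgroup Cfsg Cfsg.Agent.ZN Cfsg.Agent.MinSimple.Geo Cfsg.Agent.OddCyclic.GeoC Cfsg.Agent.OddCyclic.BTwoA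
  Cfsg.Agent.OddCyclic.EN.Line Cfsg.Agent.OddCyclic.EN.Base Cfsg.Agent.OddCyclic.EN.RepM
  Cfsg.Agent.MinSimple.SecRep
open Cfsg.Agent.OddCyclic.GamPerm (S5 O3 K4)
open Cfsg.Agent.OddCyclic.GamMod.Nat5 (dd dd_apply)
open Equiv (Perm)

universe u

variable {G : Type u} [Group G] [Finite G] {T V : Subgroup G} {z y : G} {M X : Type u} [AddCommGroup M] [Group X]
  [DistribMulAction X M]

/-- `C_X(t)` is the image of `T` -/
theorem comm_le_img (h : Ab T V z) (R : Rep V z M X) (e : X ≃* S5) {t : X} (t2 : t * t = 1) (t1 : t ≠ 1)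
    (te : Perm.sign (e t) = 1) (htT : ∀ c ∈ T, t * R.rho c = R.rho c * t) {x : X} (hx : x * t = t * x) :
    ∃ c ∈ T, R.rho c = x := by
  have hT : T ≤ centralizer ({z} : Set G) := h.T_le
  have hfX : Finite X := R.finite_right
  have hle : R.img T ≤ centralizer ({t} : Set X) := by
    intro w hw
    obtain ⟨c, hc, rfl⟩ := (R.mem_img hT).mp hw
    rw [mem_centralizer_singleton_iff]
    exact (htT c hc).symm
  have hX : Nat.card X = 120 := by
    rw [Nat.card_congr e.toEquiv, Nat.card_eq_fintype_card, Fintype.card_perm, Fintype.card_fin]; rfl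
  obtain ⟨i, hi⟩ := OneMod.k4_of_even (e t) (by rw [← map_mul, t2, map_one]) te
  have hC : Nat.card (centralizer ({t} : Set X)) = 8 := by
    have h1 := OneMod.card_comm i (e t) hi (fun e1 => t1 (e.injective (by rw [e1, map_one])))
    rw [← Nat.card_eq_fintype_card] at h1
    rw [← h1]
    refine Nat.card_congr (Equiv.subtypeEquiv e.toEquiv fun a => ?_)
    rw [mem_centralizer_singleton_iff]
    change a * t = t * a ↔ e a * e t = e t * e a
    rw [← map_mul, ← map_mul, e.apply_eq_iff_eq]
  have hodd : ¬ 2 ∣ (R.img T).index := by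
    intro h2
    apply h.T_syl
    exact h2.trans (Subgroup.index_map_dvd (H := T.subgroupOf (centralizer ({z} : Set G))) (f := R.hom) R.hom_surj)
  have h8 : 8 ≤ Nat.card (R.img T) := by
    have h1 := (R.img T).card_mul_index
    rw [hX] at h1
    have hcop : Nat.Coprime 8 (R.img T).index := by
      have : Nat.Coprime (2 ^ 3) (R.img T).index :=
        Nat.Coprime.pow_left 3 ((Nat.Prime.coprime_iff_not_dvd Nat.prime_two).mpr hodd)
      exact this
    have h2 : 8 ∣ Nat.card (R.img T) * (R.img T).index := by rw [h1]; norm_num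
    exact Nat.le_of_dvd Nat.card_pos (hcop.dvd_of_dvd_mul_right h2)
  have heq : R.img T = centralizer ({t} : Set X) := by
    apply Subgroup.eq_of_le_of_card_ge hle
    rw [hC]; exact h8
  have hx' : x ∈ R.img T := by
    rw [heq, mem_centralizer_singleton_iff]; exact hx
  exact (R.mem_img hT).mp hx'

/-- an element of order three of `X` moves the line vector -/
theorem three_move (h : Ab T V z) (R : Rep V z M X) (hy : y ∈ V) (hy1 : y ≠ 1) (hyz : y ≠ z)
    (f3 : ∀ g ∈ centralizer (V : Set G), orderOf g ≠ 3) {x : X} (hx : x * x * x = 1) (hx1 : x ≠ 1) :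
    x • R.pi y ≠ R.pi y := by
  intro hfix
  have hxp : x ^ 3 ^ 1 = 1 := by
    rw [pow_one, ← hx, pow_succ, pow_two]
  obtain ⟨c, hc, rfl, j, hj⟩ := R.exists_lift Nat.prime_three hxp
  have hyw : y ∈ ws V z := h.V_le_ws hy
  rw [R.smul_pi c hc y hyw, Rep.pi_eq_pi h (Pt.refl z) R (R.conj_mem hc hyw) hyw] at hfix
  have hcz : c * z = z * c := mem_centralizer_singleton_iff.mp hc
  have hcy : c * y = y * c := by
    rcases hfix with e | e
    · calc c * y = c * y * c⁻¹ * c := by group
        _ = y * c := by rw [e]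
    · exfalso
      have key : ∀ n : ℕ, c ^ n * y * (c ^ n)⁻¹ = z ^ n * y := by
        intro n
        induction n with
        | zero => simp
        | succ n ih =>
          have hcz' : c * z ^ n = z ^ n * c := (show Commute c z from hcz).pow_right n
          calc c ^ (n + 1) * y * (c ^ (n + 1))⁻¹ = c * (c ^ n * y * (c ^ n)⁻¹) * c⁻¹ := by
                rw [pow_succ']; group
            _ = c * (z ^ n * y) * c⁻¹ := by rw [ih]
            _ = (c * z ^ n) * y * c⁻¹ := by group
            _ = z ^ n * (c * y * c⁻¹) := by rw [hcz']; group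
            _ = z ^ (n + 1) * y := by rw [e, pow_succ]; group
      have h1 := key (3 ^ j)
      rw [hj] at h1
      have h2 : z ^ 3 ^ j = 1 := by
        have : y = z ^ 3 ^ j * y := by simpa using h1
        simpa using this.symm
      have h3 : z ^ 3 ^ j = z := by
        obtain ⟨k, hk⟩ : ∃ k, 3 ^ j = 2 * k + 1 := (Odd.pow (by decide : Odd 3) : Odd (3 ^ j))
        rw [hk, pow_succ, pow_mul, pow_two, h.zz, one_pow, one_mul]
      exact h.z_ne (h3.symm.trans h2)
  have hcV : c ∈ centralizer (V : Set G) := by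
    rw [mem_centralizer_iff]
    intro v hv
    rcases h.four h.z_mem hy h.z_ne hy1 (Ne.symm hyz) hv with rfl | rfl | rfl | rfl
    · simp
    · exact hcz.symm
    · exact hcy.symm
    · rw [mul_assoc, ← hcy, ← mul_assoc, ← hcz, mul_assoc]
  have hc1 : c ≠ 1 := by
    rintro rfl
    exact hx1 R.rho_one
  have hdvd : 3 ∣ orderOf c := by
    have h1 : orderOf c ∣ 3 ^ j := orderOf_dvd_of_pow_eq_one hj
    obtain ⟨i, _, hi⟩ := (Nat.dvd_prime_pow Nat.prime_three).mp h1
    rcases Nat.eq_zero_or_pos i with rfl | hi0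
    · exfalso
      apply hc1
      rw [← orderOf_eq_one_iff, hi, pow_zero]
    · rw [hi]
      exact dvd_pow_self 3 hi0.ne'
  exact f3 (c ^ (orderOf c / 3)) (pow_mem hcV _) (orderOf_pow_orderOf_div (orderOf_pos c).ne' hdvd)

/-- the input of the module end -/
theorem hyp (h : Ab T V z) (R : Rep V z M X) (e : X ≃* S5) (hy : y ∈ V) (hy1 : y ≠ 1) (hyz : y ≠ z)
    {t : X} (t2 : t * t = 1) (t1 : t ≠ 1) (te : Perm.sign (e t) = 1) (htT : ∀ c ∈ T, t * R.rho c = R.rho c * t)
    (idx : Nat.card M ≤ 4 * Nat.card {m : M // t • m = m}) (mem : ∃ m : M, R.pi y = t • m + m)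
    (cent : ∀ m : M, (∀ x : X, Perm.sign (e x) = 1 → x • m = m) → m = 0)
    (f3 : ∀ g ∈ centralizer (V : Set G), orderOf g ≠ 3) :
    letI : DistribMulAction S5 M := DistribMulAction.compHom M e.symm.toMonoidHom
    OneMod.Hyp (e t) (R.pi y) := by
  letI : DistribMulAction S5 M := DistribMulAction.compHom M e.symm.toMonoidHom
  have hsm : ∀ (g : S5) (m : M), g • m = e.symm g • m := fun g m => rfl
  have hzp : Pt z z := Pt.refl z
  have hfM : Finite M := R.finite_left
  have two := Rep.two h hzp R
  have hcol : Col V z y := col_of_mem h.toGeoC h.z_mem hy h.z_ne hy1 (Ne.symm hyz)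
  refine ⟨two, by rw [← map_mul, t2, map_one], fun e1 => t1 (e.injective (by rw [e1, map_one])), te, ?_,
    Rep.pi_line_ne_zero h hzp R hcol, ?_, ?_, ?_, ?_, ?_⟩
  · intro g hg
    rw [hsm]
    have hx : e.symm g * t = t * e.symm g := by
      apply e.injective
      rw [map_mul, map_mul, e.apply_symm_apply]; exact hg
    obtain ⟨c, hc, hc2⟩ := comm_le_img h R e t2 t1 te htT hx
    have hyw : y ∈ ws V z := h.V_le_ws hy
    have hcz := h.T_le hc
    rw [← hc2, R.smul_pi c hcz y hyw, Rep.pi_eq_pi h hzp R (R.conj_mem hcz hyw) hyw]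
    exact h.conj_cases h.z_mem hy h.z_ne (mem_centralizer_singleton_iff.mp hcz) (h.T_norm hc)
  · intro g hg
    rw [hsm]
    refine three_move h R hy hy1 hyz f3 ?_ ?_
    · rw [← map_mul, ← map_mul, hg.1, map_one]
    · intro e1
      apply hg.2
      rw [← e.apply_symm_apply g, e1, map_one]
  · intro N hN
    refine Rep.eq_top_of_line h hzp R hcol N fun x => ?_
    have := hN (e x)
    rwa [hsm, e.symm_apply_apply] at this
  · have h1 : Nat.card (dd M (e t)).range = (dd M (e t)).ker.index := (AddSubgroup.index_ker _).symm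
    have h2 := (dd M (e t)).ker.card_mul_index
    have h3 : Nat.card (dd M (e t)).ker = Nat.card {m : M // t • m = m} := by
      refine Nat.card_congr (Equiv.subtypeEquivRight fun m => ?_)
      rw [AddMonoidHom.mem_ker, dd_apply, hsm, e.symm_apply_apply]
      constructor
      · intro h4
        rw [eq_neg_of_add_eq_zero_left h4]
        exact neg_eq_of_add_eq_zero_left (two m)
      · intro h4
        rw [h4, two]
    rw [h3] at h2
    rw [h1]
    rw [← h2, mul_comm] at idx
    have h5 : 0 < Nat.card {m : M // t • m = m} := by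
      have : Nonempty {m : M // t • m = m} := ⟨0, smul_zero t⟩
      exact Nat.card_pos
    exact Nat.le_of_mul_le_mul_right idx h5
  · obtain ⟨m, hm⟩ := mem
    refine ⟨m, ?_⟩
    rw [hsm, e.symm_apply_apply]
    exact hm
  · intro m hm
    refine cent m fun x hx => ?_
    have := hm (e x) hx
    rwa [hsm, e.symm_apply_apply] at this

/-- **the end of type (A_4), n = 1** -/
theorem false (h : Ab T V z) (R : Rep V z M X) (e : X ≃* S5) (hy : y ∈ V) (hy1 : y ≠ 1) (hyz : y ≠ z)
    {t : X} (t2 : t * t = 1) (t1 : t ≠ 1) (te : Perm.sign (e t) = 1) (htT : ∀ c ∈ T, t * R.rho c = R.rho c * t)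
    (idx : Nat.card M ≤ 4 * Nat.card {m : M // t • m = m}) (mem : ∃ m : M, R.pi y = t • m + m)
    (cent : ∀ m : M, (∀ x : X, Perm.sign (e x) = 1 → x • m = m) → m = 0)
    (f3 : ∀ g ∈ centralizer (V : Set G), orderOf g ≠ 3) : False := by
  have hyp' := hyp h R e hy hy1 hyz t2 t1 te htT idx mem cent f3
  letI : DistribMulAction S5 M := DistribMulAction.compHom M e.symm.toMonoidHom
  have hsm : ∀ (g : S5) (m : M), g • m = e.symm g • m := fun g m => rfl
  have hzp : Pt z z := Pt.refl z
  have hfM : Finite M := R.finite_left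
  have hcard : Nat.card M = 16 := OneMod.Hyp.card hyp'
  have hfpf : ∀ x : X, O3 (e x) → ∀ m : M, x • m = m → m = 0 := by
    intro x hx m hm
    refine OneMod.Hyp.fpf hyp' hx ?_
    rw [hsm, e.symm_apply_apply]; exact hm
  have hzw : z ∈ ws V z := h.V_le_ws h.z_mem
  refine GamBase.Gam.false (V := V) (z := z) ⟨h.cyc, h.card_V, h.sq, h.z_mem, h.trans, ?_, ?_, h.core, f3⟩
  · obtain ⟨w, hw, hwm⟩ := h.exists_swap
    refine ⟨w, h.T_le hw.1, y, hy, ?_, hy1, hyz⟩
    rw [hwm y hy hy1 hyz]
    exact h.comm h.z_mem hy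
  · refine ⟨e.toMonoidHom.comp R.hom, ?_⟩
    have hρ : ∀ c, (e.toMonoidHom.comp R.hom) c = e (R.rho c) := fun c => rfl
    refine ⟨h.z_ne, hzw, h.ab, fun a ha => h.ws_sq ha, fun c hc w hw => R.conj_mem hc hw, ?_, ?_, ?_, ?_⟩
    · -- the order
      let f : ws V z →* Multiplicative M :=
        { toFun := fun w => Multiplicative.ofAdd (R.pi w)
          map_one' := by
            change Multiplicative.ofAdd (R.pi 1) = 1
            rw [R.pi_one]; rfl
          map_mul' := fun a b => by
            change Multiplicative.ofAdd (R.pi ((a : G) * b)) = _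
            rw [R.pi_mul a a.2 b b.2]; rfl }
      have hf : Function.Surjective f := by
        intro m
        obtain ⟨w, hw, hw2⟩ := R.pi_surj (Multiplicative.toAdd m)
        exact ⟨⟨w, hw⟩, congrArg Multiplicative.ofAdd hw2⟩
      have hk : Nat.card f.ker = 2 := by
        have h2 : Nat.card (zpowers z) = 2 := by
          rw [Nat.card_zpowers]
          exact orderOf_eq_prime (by rw [pow_two]; exact h.zz) h.z_ne
        rw [← h2]
        refine Nat.card_congr ⟨fun u => ⟨u.1.1, ?_⟩, fun v => ⟨⟨v.1, ?_⟩, ?_⟩, ?_, ?_⟩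
        · have h1 : R.pi (u.1 : G) = 0 := congrArg Multiplicative.toAdd (u.2 : f u.1 = 1)
          exact (R.pi_eq_zero _ u.1.2).mp h1
        · exact (zpowers_le.mpr hzw) v.2
        · change Multiplicative.ofAdd (R.pi (v : G)) = 1
          rw [(R.pi_eq_zero _ ((zpowers_le.mpr hzw) v.2)).mpr v.2]; rfl
        · intro u; rfl
        · intro v; rfl
      have h1 := Subgroup.card_eq_card_quotient_mul_card_subgroup f.ker
      rw [h1, hk, Nat.card_congr (QuotientGroup.quotientKerEquivOfSurjective f hf).toEquiv]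
      change Nat.card M * 2 = 32
      rw [hcard]
    · intro g _
      obtain ⟨c, hc⟩ := R.hom_surj (e.symm g)
      refine ⟨c, ?_⟩
      rw [hρ]
      have : R.rho (c : G) = e.symm g := hc
      rw [this, e.apply_symm_apply]
    · intro c
      rw [hρ, ← map_one e, e.apply_eq_iff_eq, R.rho_eq_one_iff c.2]
      refine forall₂_congr fun w hw => ?_
      rw [mem_zpowers_iff_of_mul_self h.zz]
      unfold GamLoc.Cg
      constructor
      · rintro (e1 | e1)
        · left; exact mul_inv_eq_one.mp e1
        · right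
          rw [mul_inv_eq_iff_eq_mul] at e1
          rw [e1]; exact h.ab z hzw w hw
      · rintro (e1 | e1)
        · left; rw [e1, mul_inv_cancel]
        · right
          rw [e1, h.ab w hw z hzw, mul_inv_cancel_right]
    · intro c hc w hw hcg
      rw [hρ] at hc
      have h1 : R.rho (c : G) • R.pi w = R.pi w := by
        rw [R.smul_pi c c.2 w hw, Rep.pi_eq_pi h hzp R (R.conj_mem c.2 hw) hw]
        rcases hcg with e1 | e1
        · exact Or.inl e1
        · right
          rw [e1]; exact h.ab w hw z hzw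
      exact (Rep.pi_eq_zero' h hzp R hw).mp (hfpf _ hc _ h1)

end Cfsg.Agent.OddCyclic.EN.OneEnd
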