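import Mathlib
import Cfsg.Agent.OddCyclic.EN.RepM
import Cfsg.Agent.OddCyclic.EN.PiRep

/-!
# (E1), `ws V z` abelian, `n = 1`: the inequality (**) (8.1 of helper217's (B-b))

* `dq V p y`: the elements `g` of `O₂(C(p))` with `[g, ws V y] ≤ ws V p`;
* `star`: `|A| |O₂(C(x)) : dq V x z| ≤ 2 |B|`, `A`, `B` the images of `ws V x`, `O₂(C(x)) ∩ C(z)` in `X = C(z)/kq V z`;
* `swap_relIndex`: the two indices are equal; `img_le`, `img_conj`: `B ≤ T̄`, `T̄` normalises `A`;
* `card_M_le`: `|M| ≤ |A|² |C_M(A)|`.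
-/

set_option autoImplicit false
set_option linter.unusedSectionVars false

namespace Cfsg.Agent.OddCyclic.EN.OneStar

open Subgroup Cfsg Cfsg.Agent.ZN Cfsg.Agent.MinSimple.Geo Cfsg.Agent.OddCyclic.GeoC Cfsg.Agent.OddCyclic.BTwoA
  Cfsg.Agent.OddCyclic.EN.Line Cfsg.Agent.OddCyclic.EN.Base Cfsg.Agent.MinSimple.SecRep
  Cfsg.Agent.OddCyclic.EN.RepM
open Cfsg.Agent.OddCyclic.BTwoB (kq_le centralizer_le_normalizer_kq)
open Cfsg.Agent.OddCyclic.EO.Fit (fx mem_fx)
open Cfsg.Agent.ZN.Block (conj_mem_of_normalizer conj_mem_of_normalizer' le_normalizer_of_forall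
  mem_normalizer_of)

universe u

variable {G : Type u} [Group G]

/-- the elements `g` of `O₂(C(p))` with `[g, ws V y] ≤ ws V p` -/
def dq (V : Subgroup G) (p y : G) : Subgroup G where
  carrier := {g | g ∈ o2 (centralizer ({p} : Set G)) ∧ ∀ w ∈ ws V y, g * w * g⁻¹ * w⁻¹ ∈ ws V p}
  mul_mem' := by
    rintro a b ⟨ha, ha1⟩ ⟨hb, hb1⟩
    refine ⟨mul_mem ha hb, fun w hw => ?_⟩
    have h1 := conj_mem_of_normalizer (Cfsg.Agent.MinSimple.Geo.centralizer_le_normalizer_ws V p)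
      (o2_le _ ha) (hb1 w hw)
    have e : a * b * w * (a * b)⁻¹ * w⁻¹ = a * (b * w * b⁻¹ * w⁻¹) * a⁻¹ * (a * w * a⁻¹ * w⁻¹) := by group
    rw [e]
    exact mul_mem h1 (ha1 w hw)
  one_mem' := ⟨one_mem _, fun w _ => by simp⟩
  inv_mem' := by
    rintro a ⟨ha, ha1⟩
    refine ⟨inv_mem ha, fun w hw => ?_⟩
    have h1 := conj_mem_of_normalizer (Cfsg.Agent.MinSimple.Geo.centralizer_le_normalizer_ws V p)
      (inv_mem (o2_le _ ha)) (inv_mem (ha1 w hw))
    have e : a⁻¹ * (a * w * a⁻¹ * w⁻¹)⁻¹ * a⁻¹⁻¹ = a⁻¹ * w * a⁻¹⁻¹ * w⁻¹ := by group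
    rwa [e] at h1

theorem mem_dq {V : Subgroup G} {p y g : G} : g ∈ dq V p y ↔ g ∈ o2 (centralizer ({p} : Set G)) ∧
    ∀ w ∈ ws V y, g * w * g⁻¹ * w⁻¹ ∈ ws V p := Iff.rfl

theorem dq_le (V : Subgroup G) (p y : G) : dq V p y ≤ o2 (centralizer ({p} : Set G)) := fun _ h => h.1

theorem cj_dq (V : Subgroup G) (g p y : G) : cj g (dq V p y) = dq V (g * p * g⁻¹) (g * y * g⁻¹) := by
  have key : ∀ g p y : G, cj g (dq V p y) ≤ dq V (g * p * g⁻¹) (g * y * g⁻¹) := by
    rintro g p y _ ⟨d, ⟨hd, hd1⟩, rfl⟩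
    change g * d * g⁻¹ ∈ _
    refine ⟨?_, fun w hw => ?_⟩
    · rw [← cj_centralizer_singleton, ← cj_o2]; exact conj_mem_cj hd
    · rw [← cj_ws, mem_cj] at hw
      have h1 := conj_mem_cj (g := g) (hd1 _ hw)
      rw [cj_ws] at h1
      have e : g * (d * (g⁻¹ * w * g) * d⁻¹ * (g⁻¹ * w * g)⁻¹) * g⁻¹ =
          g * d * g⁻¹ * w * (g * d * g⁻¹)⁻¹ * w⁻¹ := by group
      rwa [e] at h1
  refine le_antisymm (key g p y) ?_
  have h := key g⁻¹ (g * p * g⁻¹) (g * y * g⁻¹)
  have e1 : g⁻¹ * (g * p * g⁻¹) * g⁻¹⁻¹ = p := by group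
  have e2 : g⁻¹ * (g * y * g⁻¹) * g⁻¹⁻¹ = y := by group
  rw [e1, e2, cj_le_iff, inv_inv] at h
  exact h

section

variable [Finite G] {T V : Subgroup G} {z x : G}

/-- the data `x ∈ V`, `x ≠ 1, z` -/
structure Pt2 (V : Subgroup G) (z x : G) : Prop where
  mem : x ∈ V
  ne_one : x ≠ 1
  ne : x ≠ z

/-- an element of `N(V)` interchanging `z` and `x` -/
theorem exists_g (h : Ab T V z) (hx : Pt2 V z x) : ∃ g ∈ normalizer (V : Set G),
    g * z * g⁻¹ = x ∧ g * x * g⁻¹ = z := by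
  obtain ⟨w, hw, h1, h2⟩ := h.exists_move h.z_mem hx.mem h.z_ne hx.ne_one hx.ne.symm
  have hr1 : z * x ≠ 1 := fun e => hx.ne (by
    have := mul_eq_one_iff_eq_inv.mp e
    rw [h.inv_eq hx.mem] at this; exact this.symm)
  exact ⟨w, ll_le_normalizer h (kq_le_ll (mul_mem h.z_mem hx.mem) hr1 hw), h1, h2⟩

theorem ptx (h : Ab T V z) (hx : Pt2 V z x) : Pt z x := pt_of_mem h.toGeoC hx.mem hx.ne_one

theorem z_mem_wx (h : Ab T V z) (hx : Pt2 V z x) : z ∈ ws V x := by
  obtain ⟨T', h'⟩ := h.point hx.mem hx.ne_one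
  exact h'.V_le_ws h.z_mem

theorem x_mem_wz (h : Ab T V z) (hx : Pt2 V z x) : x ∈ ws V z := h.V_le_ws hx.mem

theorem wx_le_cz (h : Ab T V z) (hx : Pt2 V z x) : ws V x ≤ centralizer ({z} : Set G) := fun _ hw =>
  mem_centralizer_singleton_iff.2 (ws_comm h (ptx h hx) hw (z_mem_wx h hx))

theorem wz_le_cx (h : Ab T V z) (hx : Pt2 V z x) : ws V z ≤ centralizer ({x} : Set G) := fun _ hw =>
  mem_centralizer_singleton_iff.2 (h.ab _ hw _ (x_mem_wz h hx))

theorem comm_mem (h : Ab T V z) (hx : Pt2 V z x) {a b : G} (ha : a ∈ ws V z) (hb : b ∈ ws V x) :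
    b * a * b⁻¹ * a⁻¹ ∈ ws V z ∧ b * a * b⁻¹ * a⁻¹ ∈ ws V x := by
  constructor
  · exact mul_mem (conj_mem_of_normalizer (Cfsg.Agent.MinSimple.Geo.centralizer_le_normalizer_ws V z)
      (wx_le_cz h hx hb) ha) (inv_mem ha)
  · have h1 := conj_mem_of_normalizer (Cfsg.Agent.MinSimple.Geo.centralizer_le_normalizer_ws V x)
      (wz_le_cx h hx ha) (inv_mem hb)
    have e : b * a * b⁻¹ * a⁻¹ = b * (a * b⁻¹ * a⁻¹) := by group
    rw [e]; exact mul_mem hb h1

/-- `[O₂(C(x)), ws V x] ≤ ⟨x⟩` -/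
theorem q_comm (h : Ab T V z) (hx : Pt2 V z x) {y w : G} (hy : y ∈ o2 (centralizer ({x} : Set G)))
    (hw : w ∈ ws V x) : y * w * y⁻¹ * w⁻¹ ∈ zpowers x := by
  obtain ⟨T', h'⟩ := h.point hx.mem hx.ne_one
  have h1 := inv_mem (h'.toGeoC.comm_mem hw hy)
  have e : (w * y * w⁻¹ * y⁻¹)⁻¹ = y * w * y⁻¹ * w⁻¹ := by group
  rwa [e] at h1

theorem zp_le_wz (h : Ab T V z) (hx : Pt2 V z x) : zpowers x ≤ ws V z := zpowers_le.2 (x_mem_wz h hx)

theorem wx_le_dq (h : Ab T V z) (hx : Pt2 V z x) : ws V x ≤ dq V x z := by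
  intro w hw
  refine ⟨Base.ws_le_o2 h (ptx h hx) hw, fun a ha => (comm_mem h hx ha hw).2⟩

theorem inf_kq_le_dq (h : Ab T V z) (hx : Pt2 V z x) : o2 (centralizer ({x} : Set G)) ⊓ kq V z ≤ dq V x z := by
  intro w hw
  refine ⟨hw.1, fun a ha => ?_⟩
  have h1 := hw.2.2.1 a ha
  exact (zpowers_le.2 (z_mem_wx h hx)) h1

/-- `|O₂(C(x)) : O₂(C(x)) ∩ C(z)| ≤ 2` -/
theorem card_o2_le (h : Ab T V z) (hx : Pt2 V z x) : Nat.card (o2 (centralizer ({x} : Set G))) ≤
    2 * Nat.card ↥(o2 (centralizer ({x} : Set G)) ⊓ centralizer ({z} : Set G)) := by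
  refine PiSec.card_le_two_mul inf_le_left fun a ha b hb haz hbz => ⟨mul_mem ha hb, mem_centralizer_singleton_iff.2 ?_⟩
  have hxx : x * x = 1 := Base.Pt.sq h.toGeoC (ptx h hx)
  have key : ∀ a ∈ o2 (centralizer ({x} : Set G)), a ∉ o2 (centralizer ({x} : Set G)) ⊓ centralizer ({z} : Set G) →
      a * z = x * (z * a) := by
    intro a ha haz
    have h1 := q_comm h hx ha (z_mem_wx h hx)
    rcases (mem_zpowers_iff_of_mul_self hxx).1 h1 with e | e
    · exfalso
      apply haz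
      refine ⟨ha, mem_centralizer_singleton_iff.2 ?_⟩
      calc a * z = (a * z * a⁻¹ * z⁻¹) * (z * a) := by group
        _ = z * a := by rw [e, one_mul]
    · calc a * z = (a * z * a⁻¹ * z⁻¹) * (z * a) := by group
        _ = x * (z * a) := by rw [e]
  have hax : a * x = x * a := mem_centralizer_singleton_iff.1 (o2_le _ ha)
  calc a * b * z = a * (b * z) := by group
    _ = a * (x * (z * b)) := by rw [key b hb hbz]
    _ = (a * x) * z * b := by group
    _ = x * (a * z) * b := by rw [hax]; group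
    _ = x * (x * (z * a)) * b := by rw [key a ha haz]
    _ = (x * x) * (z * (a * b)) := by group
    _ = z * (a * b) := by rw [hxx, one_mul]

variable {M X : Type u} [AddCommGroup M] [Group X] [DistribMulAction X M]

theorem kk_eq (R : Rep V z M X) : PiSec.kk (centralizer ({z} : Set G)) (ws V z) (zpowers z) = kq V z := by
  ext c
  constructor
  · intro hc
    have h1 := (PiSec.rho_eq_one R (centralizer_le_normalizer_zpowers z) hc.1).2 hc
    exact (Rep.rho_eq_one R hc.1).1 h1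
  · intro hc
    have h1 := (Rep.rho_eq_one R (kq_le V z hc)).2 hc
    exact (PiSec.rho_eq_one R (centralizer_le_normalizer_zpowers z) (kq_le V z hc)).1 h1

theorem card_img (R : Rep V z M X) {H : Subgroup G} (hH : H ≤ centralizer ({z} : Set G)) :
    Nat.card H = Nat.card (R.img H) * Nat.card ↥(H ⊓ kq V z) := by
  rw [← kk_eq R]; exact PiSec.card_img R (centralizer_le_normalizer_zpowers z) hH

theorem img_mono (R : Rep V z M X) {H K : Subgroup G} (hK : K ≤ centralizer ({z} : Set G)) (hHK : H ≤ K) :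
    R.img H ≤ R.img K := by
  intro a ha
  obtain ⟨u, hu, rfl⟩ := (R.mem_img (hHK.trans hK)).1 ha
  exact R.rho_mem_img hK (hHK hu)

/-- **(**)** -/
theorem star (h : Ab T V z) (hx : Pt2 V z x) (R : Rep V z M X) :
    Nat.card (R.img (ws V x)) * (dq V x z).relIndex (o2 (centralizer ({x} : Set G))) ≤
      2 * Nat.card (R.img (o2 (centralizer ({x} : Set G)) ⊓ centralizer ({z} : Set G))) := by
  have hX : Finite X := R.finite_right
  set Q := o2 (centralizer ({x} : Set G)) with hQ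
  set Q₀ := Q ⊓ centralizer ({z} : Set G) with hQ₀
  set D := dq V x z with hD
  set D₀ := D ⊓ centralizer ({z} : Set G) with hD₀
  have h1 : Nat.card Q ≤ 2 * Nat.card Q₀ := card_o2_le h hx
  have h2 := card_img R (H := Q₀) inf_le_right
  have h3 := card_img R (H := D₀) inf_le_right
  have e1 : Q₀ ⊓ kq V z = Q ⊓ kq V z := le_antisymm (inf_le_inf_right _ inf_le_left)
    (le_inf (le_inf inf_le_left (inf_le_right.trans (kq_le V z))) inf_le_right)
  have e2 : D₀ ⊓ kq V z = Q ⊓ kq V z := le_antisymm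
    (inf_le_inf_right _ (inf_le_left.trans (dq_le V x z)))
    (le_inf (le_inf (inf_kq_le_dq h hx) (inf_le_right.trans (kq_le V z))) inf_le_right)
  rw [e1] at h2
  rw [e2] at h3
  have h4 : Nat.card (R.img (ws V x)) ≤ Nat.card (R.img D₀) :=
    Subgroup.card_le_of_le (img_mono R inf_le_right (le_inf (wx_le_dq h hx) (wx_le_cz h hx)))
  have h5 : Nat.card Q = D.relIndex Q * Nat.card D := by
    rw [← Subgroup.card_mul_index (D.subgroupOf Q), Subgroup.relIndex, mul_comm,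
      Nat.card_congr (Subgroup.subgroupOfEquivOfLe (dq_le V x z)).toEquiv]
  have h6 : Nat.card D₀ ≤ Nat.card D := Subgroup.card_le_of_le inf_le_left
  have hpos : 0 < Nat.card ↥(Q ⊓ kq V z) := Nat.card_pos
  have h7 : (Nat.card (R.img (ws V x)) * D.relIndex Q) * Nat.card ↥(Q ⊓ kq V z) ≤
      (2 * Nat.card (R.img Q₀)) * Nat.card ↥(Q ⊓ kq V z) := by
    calc (Nat.card (R.img (ws V x)) * D.relIndex Q) * Nat.card ↥(Q ⊓ kq V z)
        ≤ (Nat.card (R.img D₀) * D.relIndex Q) * Nat.card ↥(Q ⊓ kq V z) :=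
          Nat.mul_le_mul_right _ (Nat.mul_le_mul_right _ h4)
      _ = D.relIndex Q * Nat.card D₀ := by rw [h3]; ring
      _ ≤ D.relIndex Q * Nat.card D := Nat.mul_le_mul_left _ h6
      _ = Nat.card Q := h5.symm
      _ ≤ 2 * Nat.card Q₀ := h1
      _ = _ := by rw [h2]; ring
  exact Nat.le_of_mul_le_mul_right h7 hpos

/-- the two indices are equal -/
theorem swap_relIndex (h : Ab T V z) (hx : Pt2 V z x) :
    (dq V x z).relIndex (o2 (centralizer ({x} : Set G))) = (dq V z x).relIndex (o2 (centralizer ({z} : Set G))) := by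
  obtain ⟨g, hg, h1, h2⟩ := exists_g h hx
  have e1 := cj_dq V g z x
  rw [h1, h2] at e1
  have e2 : cj g (o2 (centralizer ({z} : Set G))) = o2 (centralizer ({x} : Set G)) := by
    rw [cj_o2, cj_centralizer_singleton, h1]
  rw [← e1, ← e2, relIndex_cj]

/-- `O₂(C(x)) ∩ C(z) ≤ T` -/
theorem inf_le_T (h : Ab T V z) (hx : Pt2 V z x) :
    o2 (centralizer ({x} : Set G)) ⊓ centralizer ({z} : Set G) ≤ T := by
  have hVc : centralizer ({x} : Set G) ⊓ centralizer ({z} : Set G) ≤ centralizer (V : Set G) := by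
    intro c hc
    rw [mem_centralizer_iff]
    intro v hv
    have h1 := mem_centralizer_singleton_iff.1 hc.1
    have h2 := mem_centralizer_singleton_iff.1 hc.2
    rcases h.four h.z_mem hx.mem h.z_ne hx.ne_one hx.ne.symm hv with rfl | rfl | rfl | rfl
    · simp
    · exact h2.symm
    · exact h1.symm
    · calc z * x * c = z * (x * c) := by group
        _ = z * (c * x) := by rw [h1]
        _ = (z * c) * x := by group
        _ = c * (z * x) := by rw [← h2]; group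
  have hcx : centralizer (V : Set G) ≤ centralizer ({x} : Set G) := centralizer_le (by
    rintro _ rfl; exact hx.mem)
  have hcz : centralizer (V : Set G) ≤ centralizer ({z} : Set G) := centralizer_le (by
    rintro _ rfl; exact h.z_mem)
  have h1 : o2 (centralizer ({x} : Set G)) ⊓ centralizer ({z} : Set G) ≤ o2 (centralizer (V : Set G)) := by
    refine le_o2 ((inf_le_inf_right _ (o2_le _)).trans hVc) ((isPGroup_o2 _).to_le inf_le_left) ?_
    refine le_normalizer_of_forall fun c hc y hy => mem_inf.2 ⟨?_, ?_⟩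
    · exact conj_mem_of_normalizer (le_normalizer_o2 _) (hcx hc) hy.1
    · exact mul_mem (mul_mem (hcz hc) (mem_inf.1 hy).2) (inv_mem (hcz hc))
  have h2 : o2 (centralizer (V : Set G)) ≤ o2 (normalizer (V : Set G)) := by
    refine le_o2 ((o2_le _).trans (centralizer_le_normalizer _)) (isPGroup_o2 _) ?_
    have hN : normalizer (V : Set G) ≤ normalizer ((centralizer (V : Set G) : Subgroup G) : Set G) := by
      refine le_normalizer_of_forall fun m hm c hc => ?_
      rw [mem_centralizer_iff] at hc ⊢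
      intro v hv
      have h3 := hc _ (conj_mem_of_normalizer' (le_refl (normalizer (V : Set G))) hm hv)
      calc v * (m * c * m⁻¹) = m * (m⁻¹ * v * m * c) * m⁻¹ := by group
        _ = m * (c * (m⁻¹ * v * m)) * m⁻¹ := by rw [h3]
        _ = m * c * m⁻¹ * v := by group
    intro n hn
    rw [mem_normalizer_iff_cj, cj_o2]
    congr 1
    exact cj_eq_of_mem_normalizer (hN hn)
  exact h1.trans (h2.trans (o2_le_of_sylow h.T_norm h.two h.T_syl'))

theorem wx_le_T (h : Ab T V z) (hx : Pt2 V z x) : ws V x ≤ T :=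
  (le_inf (Base.ws_le_o2 h (ptx h hx)) (wx_le_cz h hx)).trans (inf_le_T h hx)

/-- the stabiliser of the line vector normalises the image of `ws V x` -/
theorem conj_img (h : Ab T V z) (hx : Pt2 V z x) (R : Rep V z M X) {g : X} (hg : g • R.pi x = R.pi x)
    {a : X} (ha : a ∈ R.img (ws V x)) : g * a * g⁻¹ ∈ R.img (ws V x) := by
  obtain ⟨c, hc, rfl⟩ := R.rho_surj g
  obtain ⟨w, hw, rfl⟩ := (R.mem_img (wx_le_cz h hx)).1 ha
  -- replace `c` by an element of `C(x)`
  obtain ⟨d, hd, hdx, hdc⟩ : ∃ d ∈ centralizer ({z} : Set G), d ∈ centralizer ({x} : Set G) ∧ R.rho d = R.rho c := by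
    have hxw := x_mem_wz h hx
    rw [R.smul_pi c hc x hxw, Rep.pi_eq_pi h (Base.Pt.refl z) R (R.conj_mem hc hxw) hxw] at hg
    rcases hg with e | e
    · refine ⟨c, hc, mem_centralizer_singleton_iff.2 ?_, rfl⟩
      calc c * x = c * x * c⁻¹ * c := by group
        _ = x * c := by rw [e]
    · obtain ⟨k, hk, hk2⟩ := h.exists_swap
      have hkz := kq_le V z hk.2
      refine ⟨k * c, mul_mem hkz hc, mem_centralizer_singleton_iff.2 ?_, ?_⟩
      · have h1 := hk2 x hx.mem hx.ne_one hx.ne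
        have h2 : k * z = z * k := mem_centralizer_singleton_iff.1 hkz
        calc k * c * x = k * (c * x * c⁻¹) * c := by group
          _ = k * (z * x) * c := by rw [e]
          _ = (k * z) * x * c := by group
          _ = z * (k * x * k⁻¹) * k * c := by rw [h2]; group
          _ = (z * z) * x * (k * c) := by rw [h1]; group
          _ = x * (k * c) := by rw [h.zz, one_mul]
      · rw [R.rho_mul k hkz c hc, (Rep.rho_eq_one R hkz).2 hk.2, one_mul]
  rw [← hdc, ← R.rho_conj hd (wx_le_cz h hx hw)]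
  exact R.rho_mem_img (wx_le_cz h hx)
    (conj_mem_of_normalizer (Cfsg.Agent.MinSimple.Geo.centralizer_le_normalizer_ws V x) hdx hw)

/-- the image of `T` fixes the line vector -/
theorem img_T_fix (h : Ab T V z) (hx : Pt2 V z x) (R : Rep V z M X) {g : X} (hg : g ∈ R.img T) :
    g • R.pi x = R.pi x := by
  obtain ⟨t, ht, rfl⟩ := (R.mem_img h.T_le).1 hg
  have hxw := x_mem_wz h hx
  rw [R.smul_pi t (h.T_le ht) x hxw, Rep.pi_eq_pi h (Base.Pt.refl z) R (R.conj_mem (h.T_le ht) hxw) hxw]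
  exact h.conj_cases h.z_mem hx.mem h.z_ne (h.z_comm (h.T_le ht)) (h.T_norm ht)

/-- the images of `ws V x` and of `O₂(C(x)) ∩ C(z)` commute -/
theorem img_comm (h : Ab T V z) (hx : Pt2 V z x) (R : Rep V z M X) {a b : X} (ha : a ∈ R.img (ws V x))
    (hb : b ∈ R.img (o2 (centralizer ({x} : Set G)) ⊓ centralizer ({z} : Set G))) : a * b = b * a := by
  obtain ⟨w, hw, rfl⟩ := (R.mem_img (wx_le_cz h hx)).1 ha
  obtain ⟨y, hy, rfl⟩ := (R.mem_img inf_le_right).1 hb
  have hwz := wx_le_cz h hx hw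
  have hyz : y ∈ centralizer ({z} : Set G) := (mem_inf.1 hy).2
  have hx1 : R.rho x = 1 := by
    rw [R.rho_eq_one_iff (wx_le_cz h hx (Base.self_mem_ws h.toGeoC (ptx h hx)))]
    intro v hv
    have e : x * v * x⁻¹ * v⁻¹ = 1 := by rw [h.ab x (x_mem_wz h hx) v hv]; group
    rw [e]; exact one_mem _
  have hxz : x ∈ centralizer ({z} : Set G) := wx_le_cz h hx (Base.self_mem_ws h.toGeoC (ptx h hx))
  have hxx : x * x = 1 := Base.Pt.sq h.toGeoC (ptx h hx)
  have h1 : R.rho (y * w * y⁻¹ * w⁻¹) = 1 := by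
    rcases (mem_zpowers_iff_of_mul_self hxx).1 (q_comm h hx (mem_inf.1 hy).1 hw) with e | e
    · rw [e, R.rho_one]
    · rw [e, hx1]
  rw [R.rho_mul _ (mul_mem (mul_mem hyz hwz) (inv_mem hyz)) _ (inv_mem hwz),
    R.rho_mul _ (mul_mem hyz hwz) _ (inv_mem hyz), R.rho_mul _ hyz _ hwz, R.rho_inv hyz, R.rho_inv hwz,
    mul_inv_eq_one, mul_inv_eq_iff_eq_mul] at h1
  exact h1.symm

theorem img_sq (h : Ab T V z) (hx : Pt2 V z x) (R : Rep V z M X) {a : X} (ha : a ∈ R.img (ws V x)) :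
    a * a = 1 := by
  obtain ⟨w, hw, rfl⟩ := (R.mem_img (wx_le_cz h hx)).1 ha
  rw [← R.rho_mul w (wx_le_cz h hx hw) w (wx_le_cz h hx hw), Base.ws_sq h (ptx h hx) hw, R.rho_one]

/-- `|M| ≤ |A|² |C_M(A)|` and, if `x` is not a commutator, `|M| ≤ |A| |C_M(A)|` -/
theorem card_M_le (h : Ab T V z) (hx : Pt2 V z x) (hnc : ∃ a ∈ ws V z, ∃ b ∈ ws V x, a * b ≠ b * a)
    (R : Rep V z M X) :
    Nat.card M ≤ (Nat.card (R.img (ws V x)) * Nat.card (R.img (ws V x))) *
      Nat.card (fx (R.img (ws V x)) (⊤ : AddSubgroup M)) ∧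
    ((∀ a ∈ ws V z, ∀ b ∈ ws V x, a * b * a⁻¹ * b⁻¹ ≠ x) →
      Nat.card M ≤ Nat.card (R.img (ws V x)) * Nat.card (fx (R.img (ws V x)) (⊤ : AddSubgroup M))) := by
  obtain ⟨g, hg, h1, h2⟩ := exists_g h hx
  have hfr : Pi.Fr T V (centralizer ({z} : Set G)) z :=
    { geo := h.toGeoC
      ab := h.ab
      T_le := h.T_le
      P_le := le_rfl
      inf_le := inf_le_left
      core := fun U h1 h2 h3 => h.core U h1 h2 h3 }
  have hwp : Pi.wp V (centralizer ({z} : Set G)) = ws V z := by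
    refine le_antisymm hfr.wp_le_ws (ws_le fun L hL => ?_)
    obtain ⟨c, hc, rfl⟩ := h.exists_of_mem_lines hL
    exact Pi.cj_le_wp hc
  have e1 : cj g (ws V z) = ws V x := by rw [cj_ws, h1]
  have e2 : cj g⁻¹ (ws V z) = ws V x := by
    rw [cj_ws, inv_inv]
    congr 1
    rw [← h2]; group
  have hp : Pi.Pair V (centralizer ({z} : Set G)) g :=
    { nc := by
        rw [hwp, e1]
        obtain ⟨a, ha, b, hb, hab⟩ := hnc
        exact fun hc => hab (hc a ha b hb)
      le := by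
        rw [hwp, e1]
        exact h.ws_le_centralizer_V hx.mem hx.ne_one
      le' := by
        rw [hwp, e2]
        exact h.ws_le_centralizer_V hx.mem hx.ne_one }
  have key : ∀ (W : Subgroup G) (_ : Pi.wp V (centralizer ({z} : Set G)) = W)
      (R : Sec (centralizer ({z} : Set G)) W (zpowers z) M X), cj g W = ws V x → cj g⁻¹ W = ws V x →
      Nat.card M ≤ (Nat.card (R.img (ws V x)) * Nat.card (R.img (ws V x))) *
        Nat.card (fx (R.img (ws V x)) (⊤ : AddSubgroup M)) ∧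
      ((∀ a ∈ W, ∀ b ∈ ws V x, a * b * a⁻¹ * b⁻¹ ≠ x) →
        Nat.card M ≤ Nat.card (R.img (ws V x)) * Nat.card (fx (R.img (ws V x)) (⊤ : AddSubgroup M))) := by
    rintro _ rfl R e3 e4
    constructor
    · have h3 := hp.card_M_le hfr R
      rw [e3, e4] at h3
      exact h3
    · intro hz
      have h3 := hp.card_M_le' hfr R (by rw [e3, h1]; exact hz)
      rw [e3, e4] at h3
      exact h3
  exact key _ hwp R e1 e2

end

end Cfsg.Agent.OddCyclic.EN.OneStar
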