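import Cfsg.Agent.OddCyclic.EN.OneQEnd
import Cfsg.Agent.OddCyclic.EN.Shape

/-!
# (B-b), the end theorem for type (A), `n = 1`: the field `aOne` of `Final.Ends`
-/

set_option autoImplicit false

namespace Cfsg.Agent.OddCyclic.EN.OneA

open Subgroup Cfsg Cfsg.Agent.MinSimple.Geo

universe u

/-- the field `aOne` of `Final.Ends` -/
theorem aOne {G : Type u} [Group G] [Finite G] {T V L : Subgroup G} {z : G} {M X : Type u} [AddCommGroup M] [Group X]
    [DistribMulAction X M] {R : RepM.Rep V z M X} {J : Subgroup X} (hc : Shape.Cfg T V z L R J)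
    (ha : Shape.TypeA T V z R J) {x : G} (hx : x ∈ V) (hx1 : x ≠ 1) (hxz : x ≠ z)
    (hnc : ∃ a ∈ ws V z, ∃ b ∈ ws V x, a * b ≠ b * a) : False := by
  obtain ⟨F, i1, i2, i3, k, hk, hF, ⟨e⟩, hout⟩ := ha
  refine OneQEnd.false hc.star R hc.nor hc.mem hc.cent (F := F) ?_ e hout ⟨hx, hx1, hxz⟩ hnc
  rw [hF]
  calc 4 = 2 ^ (2 * 1) := by norm_num
    _ ≤ 2 ^ (2 * k) := Nat.pow_le_pow_right (by norm_num) (by omega)

end Cfsg.Agent.OddCyclic.EN.OneA
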