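import Mathlib
import Cfsg.Agent.OddCyclic.EN.RepM

/-!
# Counting cosets fixed by an element of prime power order

* `dv P N v = {k ∈ P | [k, v] ∈ N}`;
* `dv_conj`, `inf_le_dv`, `le_dv_pow`;
* `relIndex_mod`: `|P : dv P N y| ≡ 1` modulo `r` if `y` has `r`-power order and `P` is a 2-group, `r` odd;
* `relIndex_five`: so `|P : dv P N y| = 1` or `≥ 16` if `r = 5`.
-/

set_option autoImplicit false
set_option linter.unusedSectionVars false

namespace Cfsg.Agent.OddCyclic.EN.OneCount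

open Subgroup Cfsg Cfsg.Agent.ZN Cfsg.Agent.MinSimple.Geo
open Cfsg.Agent.ZN.Block (conj_mem_of_normalizer conj_mem_of_normalizer' le_normalizer_of_forall
  mem_normalizer_of)

universe u

variable {G : Type u} [Group G]

/-- `{k ∈ P | [k, v] ∈ N}` -/
def dv (P N : Subgroup G) (v : G) : Subgroup G where
  carrier := {k | k ∈ P ∧ k ∈ normalizer (N : Set G) ∧ k * v * k⁻¹ * v⁻¹ ∈ N}
  mul_mem' := by
    rintro a b ⟨ha, ha1, ha2⟩ ⟨hb, hb1, hb2⟩
    refine ⟨mul_mem ha hb, mul_mem ha1 hb1, ?_⟩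
    have e : a * b * v * (a * b)⁻¹ * v⁻¹ = (a * (b * v * b⁻¹ * v⁻¹) * a⁻¹) * (a * v * a⁻¹ * v⁻¹) := by group
    rw [e]
    exact mul_mem ((mem_normalizer_iff.mp ha1 _).mp hb2) ha2
  one_mem' := ⟨one_mem _, one_mem _, by simp⟩
  inv_mem' := by
    rintro a ⟨ha, ha1, ha2⟩
    refine ⟨inv_mem ha, inv_mem ha1, ?_⟩
    have h1 := conj_mem_of_normalizer' le_rfl ha1 (inv_mem ha2)
    have e : a⁻¹ * (a * v * a⁻¹ * v⁻¹)⁻¹ * a = a⁻¹ * v * a⁻¹⁻¹ * v⁻¹ := by group
    rw [e] at h1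
    exact h1

theorem mem_dv {P N : Subgroup G} {v k : G} :
    k ∈ dv P N v ↔ k ∈ P ∧ k ∈ normalizer (N : Set G) ∧ k * v * k⁻¹ * v⁻¹ ∈ N := Iff.rfl

theorem dv_le (P N : Subgroup G) (v : G) : dv P N v ≤ P := fun _ h => h.1

theorem inf_le_dv {P N : Subgroup G} {v w : G} (hv : v ∈ normalizer (N : Set G)) :
    dv P N v ⊓ dv P N w ≤ dv P N (v * w) := by
  rintro k ⟨h1, h2⟩
  refine ⟨h1.1, h1.2.1, ?_⟩
  have e : k * (v * w) * k⁻¹ * (v * w)⁻¹ = (k * v * k⁻¹ * v⁻¹) * (v * (k * w * k⁻¹ * w⁻¹) * v⁻¹) := by group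
  rw [e]
  exact mul_mem h1.2.2 ((mem_normalizer_iff.mp hv _).mp h2.2.2)

theorem le_dv_pow {P N : Subgroup G} {v : G} (hv : v ∈ normalizer (N : Set G)) (n : ℕ) :
    dv P N v ≤ dv P N (v ^ n) := by
  induction n with
  | zero =>
    intro k hk
    refine ⟨hk.1, hk.2.1, ?_⟩
    simp
  | succ n ih =>
    intro k hk
    rw [pow_succ']
    exact inf_le_dv hv ⟨hk, ih hk⟩

theorem cj_dv {P N : Subgroup G} {g v : G} (hP : g ∈ normalizer (P : Set G)) (hN : g ∈ normalizer (N : Set G)) :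
    cj g (dv P N v) = dv P N (g * v * g⁻¹) := by
  ext k
  rw [mem_cj, mem_dv, mem_dv]
  have e : g * (g⁻¹ * k * g * v * (g⁻¹ * k * g)⁻¹ * v⁻¹) * g⁻¹ = k * (g * v * g⁻¹) * k⁻¹ * (g * v * g⁻¹)⁻¹ := by
    group
  have e2 : g * (g⁻¹ * k * g) * g⁻¹ = k := by group
  constructor
  · rintro ⟨h1, h2, h3⟩
    refine ⟨?_, ?_, ?_⟩
    · rw [← e2]; exact (mem_normalizer_iff.mp hP _).mp h1
    · rw [← e2]; exact mul_mem (mul_mem hN h2) (inv_mem hN)
    · rw [← e]; exact (mem_normalizer_iff.mp hN _).mp h3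
  · rintro ⟨h1, h2, h3⟩
    refine ⟨?_, ?_, ?_⟩
    · exact (mem_normalizer_iff.mp hP _).mpr (by rwa [e2])
    · exact mul_mem (mul_mem (inv_mem hN) h2) hN
    · exact (mem_normalizer_iff.mp hN _).mpr (by rwa [e])

theorem relIndex_cj_dv {P N : Subgroup G} {g v : G} (hP : g ∈ normalizer (P : Set G))
    (hN : g ∈ normalizer (N : Set G)) : (dv P N (g * v * g⁻¹)).relIndex P = (dv P N v).relIndex P := by
  rw [← cj_dv hP hN]
  nth_rewrite 2 [← cj_eq_of_mem_normalizer hP]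
  rw [relIndex_cj]

/-- `|P : N| ≡ |dv P N y : N|` modulo `r` -/
theorem relIndex_modEq [Finite G] {P N : Subgroup G} {y : G} {r : ℕ} (hr : r.Prime)
    (hPN : P ≤ normalizer (N : Set G)) (hyP : y ∈ normalizer (P : Set G)) (hyN : y ∈ normalizer (N : Set G))
    {n : ℕ} (hy : y ^ r ^ n = 1) : N.relIndex P ≡ N.relIndex (dv P N y) [MOD r] := by
  classical
  haveI : Fact r.Prime := ⟨hr⟩
  haveI hn : (N.subgroupOf P).Normal := normal_subgroupOf_of_le_normalizer hPN
  let α := P ⧸ N.subgroupOf P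
  haveI : Finite α := inferInstance
  letI : Fintype α := Fintype.ofFinite α
  let g : P → P := fun k => ⟨y * k * y⁻¹, (mem_normalizer_iff.mp hyP _).mp k.2⟩
  have hg : ∀ a b : P, QuotientGroup.leftRel (N.subgroupOf P) a b →
      QuotientGroup.leftRel (N.subgroupOf P) (g a) (g b) := by
    intro a b hab
    rw [QuotientGroup.leftRel_apply, mem_subgroupOf] at hab ⊢
    have e : (((g a)⁻¹ * g b : P) : G) = y * ((a⁻¹ * b : P) : G) * y⁻¹ := by
      change (y * (a : G) * y⁻¹)⁻¹ * (y * (b : G) * y⁻¹) = y * ((a : G)⁻¹ * (b : G)) * y⁻¹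
      group
    rw [e]
    exact (mem_normalizer_iff.mp hyN _).mp hab
  let f : Function.End α := Quotient.map' g hg
  have hf : ∀ k : P, f (QuotientGroup.mk k) = QuotientGroup.mk (g k) := fun k => rfl
  have hfm : ∀ (m : ℕ) (k : P), ∃ k' : P, (k' : G) = y ^ m * k * (y ^ m)⁻¹ ∧
      (f ^ m) (QuotientGroup.mk k) = QuotientGroup.mk k' := by
    intro m
    induction m with
    | zero =>
      intro k
      exact ⟨k, by simp, rfl⟩
    | succ m ih =>
      intro k
      obtain ⟨k', h1, h2⟩ := ih k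
      refine ⟨g k', ?_, ?_⟩
      · change y * (k' : G) * y⁻¹ = _
        rw [h1, pow_succ']; group
      · rw [pow_succ']
        change f ((f ^ m) (QuotientGroup.mk k)) = _
        rw [h2, hf]
  have hf1 : f ^ r ^ n = 1 := by
    funext q
    obtain ⟨k, rfl⟩ := QuotientGroup.mk_surjective q
    obtain ⟨k', h1, h2⟩ := hfm (r ^ n) k
    rw [h2]
    change (QuotientGroup.mk k' : α) = QuotientGroup.mk k
    congr 1
    ext
    rw [h1, hy]; simp
  have key := Equiv.Perm.card_fixedPoints_modEq (p := r) hf1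
  have h1 : Fintype.card α = N.relIndex P := by
    rw [← Nat.card_eq_fintype_card]; rfl
  have hiff : ∀ k : P, f (QuotientGroup.mk k) = QuotientGroup.mk k ↔ (k : G) ∈ dv P N y := by
    intro k
    rw [hf, QuotientGroup.eq, mem_subgroupOf]
    have hkN : (k : G) ∈ normalizer (N : Set G) := hPN k.2
    have e : (((g k)⁻¹ * k : P) : G) = (y * (k : G) * y⁻¹)⁻¹ * (k : G) := rfl
    rw [e, mem_dv]
    have e2 : (k : G) * ((y * (k : G) * y⁻¹)⁻¹ * (k : G)) * (k : G)⁻¹ =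
      (k : G) * y * (k : G)⁻¹ * y⁻¹ := by group
    constructor
    · intro h
      refine ⟨k.2, hkN, ?_⟩
      rw [← e2]
      exact (mem_normalizer_iff.mp hkN _).mp h
    · rintro ⟨-, -, h⟩
      rw [← e2] at h
      exact (mem_normalizer_iff.mp hkN _).mpr h
  have h2 : Fintype.card (Function.fixedPoints f) = N.relIndex (dv P N y) := by
    rw [← Nat.card_eq_fintype_card]
    let D := dv P N y
    have hDP : D ≤ P := dv_le _ _ _
    refine Nat.card_congr (Equiv.symm ?_)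
    refine Equiv.ofBijective (fun q : D ⧸ N.subgroupOf D =>
      (⟨Quotient.map' (fun k : D => (⟨k, hDP k.2⟩ : P)) (fun a b hab => by
        rw [QuotientGroup.leftRel_apply, mem_subgroupOf] at hab ⊢
        exact hab) q, ?_⟩ : Function.fixedPoints f)) ⟨?_, ?_⟩
    · obtain ⟨k, rfl⟩ := QuotientGroup.mk_surjective q
      exact (hiff ⟨k, hDP k.2⟩).mpr k.2
    · intro q q' hq
      obtain ⟨k, rfl⟩ := QuotientGroup.mk_surjective q
      obtain ⟨k', rfl⟩ := QuotientGroup.mk_surjective q'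
      have h3 := congrArg Subtype.val hq
      change (QuotientGroup.mk (⟨k, hDP k.2⟩ : P) : α) = QuotientGroup.mk (⟨k', hDP k'.2⟩ : P) at h3
      rw [QuotientGroup.eq, mem_subgroupOf] at h3
      rw [QuotientGroup.eq, mem_subgroupOf]
      exact h3
    · rintro ⟨q, hq⟩
      obtain ⟨k, rfl⟩ := QuotientGroup.mk_surjective q
      exact ⟨QuotientGroup.mk (⟨k, (hiff k).mp hq⟩ : D), rfl⟩
  rw [h1, h2] at key
  exact key

/-- `|P : dv P N y| ≡ 1` modulo `r` -/
theorem relIndex_dv_modEq [Finite G] {P N : Subgroup G} {y : G} {r : ℕ} (hr : r.Prime) (hr2 : r ≠ 2)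
    (hP : IsPGroup 2 P) (hNP : N ≤ P)
    (hPN : P ≤ normalizer (N : Set G)) (hyP : y ∈ normalizer (P : Set G)) (hyN : y ∈ normalizer (N : Set G))
    {n : ℕ} (hy : y ^ r ^ n = 1) : (dv P N y).relIndex P ≡ 1 [MOD r] := by
  have h1 := relIndex_modEq hr hPN hyP hyN hy
  have hND : N ≤ dv P N y := by
    intro k hk
    refine ⟨hNP hk, hPN (hNP hk), ?_⟩
    have e : k * y * k⁻¹ * y⁻¹ = k * (y * k⁻¹ * y⁻¹) := by group
    rw [e]
    exact mul_mem hk ((mem_normalizer_iff.mp hyN _).mp (inv_mem hk))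
  have h2 : N.relIndex (dv P N y) * (dv P N y).relIndex P = N.relIndex P :=
    relIndex_mul_relIndex _ _ _ hND (dv_le _ _ _)
  rw [← h2] at h1
  have h3 : Nat.Coprime r (N.relIndex (dv P N y)) := by
    have h4 : IsPGroup 2 (dv P N y) := hP.to_le (dv_le _ _ _)
    obtain ⟨m, hm⟩ := h4.index (N.subgroupOf (dv P N y))
    have h5 : N.relIndex (dv P N y) = 2 ^ m := hm
    rw [h5]
    exact Nat.Coprime.pow_right _ ((Nat.coprime_primes hr Nat.prime_two).mpr hr2)
  have h6 : N.relIndex (dv P N y) * (dv P N y).relIndex P ≡ N.relIndex (dv P N y) * 1 [MOD r] := by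
    rwa [mul_one]
  exact Nat.ModEq.cancel_left_of_coprime h3 h6

/-- `|P : dv P N y| = 1` or `≥ 16` if `y` is a 5-element -/
theorem relIndex_dv_five [Finite G] {P N : Subgroup G} {y : G}
    (hP : IsPGroup 2 P) (hNP : N ≤ P)
    (hPN : P ≤ normalizer (N : Set G)) (hyP : y ∈ normalizer (P : Set G)) (hyN : y ∈ normalizer (N : Set G))
    {n : ℕ} (hy : y ^ 5 ^ n = 1) : P ≤ dv P N y ∨ 16 ≤ (dv P N y).relIndex P := by
  have h1 := relIndex_dv_modEq (r := 5) (by norm_num) (by norm_num) hP hNP hPN hyP hyN hy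
  obtain ⟨m, hm⟩ := hP.index ((dv P N y).subgroupOf P)
  have h5 : (dv P N y).relIndex P = 2 ^ m := hm
  rw [h5] at h1 ⊢
  have h2 : m = 0 ∨ 4 ≤ m := by
    by_contra hcon
    push Not at hcon
    obtain ⟨h6, h7⟩ := hcon
    have h8 : m = 1 ∨ m = 2 ∨ m = 3 := by omega
    rcases h8 with rfl | rfl | rfl <;> revert h1 <;> decide
  rcases h2 with rfl | h2
  · left
    rw [← relIndex_eq_one, h5, pow_zero]
  · right
    calc 16 = 2 ^ 4 := by norm_num
      _ ≤ 2 ^ m := Nat.pow_le_pow_right (by norm_num) h2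

end Cfsg.Agent.OddCyclic.EN.OneCount
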