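import Mathlib
import Cfsg.Agent.OddCyclic.EN.OneCount
import Cfsg.Agent.OddCyclic.EN.Bb

/-!
# `n = 1`: the general part of 8.5 - 8.7 (helper217's blueprint S0342-Bb, part III)

* `LsD T V Ls z`: what is used of `Ls = L*`; `LsD.of_star`;
* `cq V z = O₂(C(z)) ∩ C(ws V z)`;
* `not_le_dv`: `[Q, y] ≰ C(ws V z)` for `y ∈ Ls` with `ρ(y)² ≠ 1`;
* `comm_mem_ws`: `[C_Q(W), y] ≤ W` for one `y ∈ Ls`, `ρ(y) ≠ 1`, implies `[C_Q(W), Ls] ≤ W`;
* `fixed_dd`: (2'): no nonzero vector of `dd V / ⟨z⟩` is fixed by `Ls`;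
* `trans`: (TR).
-/

set_option autoImplicit false
set_option linter.unusedSectionVars false

namespace Cfsg.Agent.OddCyclic.EN.OneGen

open Subgroup Cfsg Cfsg.Agent.ZN Cfsg.Agent.MinSimple.Geo Cfsg.Agent.OddCyclic.GeoC Cfsg.Agent.OddCyclic.BTwoA
  Cfsg.Agent.OddCyclic.EN.Line Cfsg.Agent.OddCyclic.EN.Base Cfsg.Agent.OddCyclic.EN.RepM
  Cfsg.Agent.MinSimple.SecRep Cfsg.Agent.OddCyclic.EN.OneCount Cfsg.Agent.OddCyclic.EN.BbDefs
open Cfsg.Agent.ZN.Block (conj_mem_of_normalizer conj_mem_of_normalizer' le_normalizer_of_forall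
  mem_normalizer_of)
open scoped commutatorElement

universe u

variable {G : Type u} [Group G]

/-- what is used of `Ls = L*` -/
structure LsD (V Ls : Subgroup G) (z : G) : Prop where
  le : Ls ≤ centralizer ({z} : Set G)
  norm : centralizer ({z} : Set G) ≤ normalizer (Ls : Set G)
  perf : ⁅Ls, Ls⁆ = Ls
  top : ∀ N : Subgroup G, N ≤ Ls → centralizer ({z} : Set G) ≤ normalizer (N : Set G) → ¬ N ≤ kq V z → N = Ls
  nt : ¬ Ls ≤ kq V z
  red : ∀ v ∈ ws V z, (∀ k ∈ Ls ⊓ o2 (centralizer ({z} : Set G)), k * v = v * k) → ∀ g ∈ Ls, g * v = v * g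

/-- `O₂(C(z)) ∩ C(ws V z)` -/
def cq (V : Subgroup G) (z : G) : Subgroup G := o2 (centralizer ({z} : Set G)) ⊓ centralizer (ws V z : Set G)

theorem centralizer_le_normalizer_cws (V : Subgroup G) (z : G) :
    centralizer ({z} : Set G) ≤ normalizer ((centralizer (ws V z : Set G) : Subgroup G) : Set G) := by
  refine le_normalizer_of_forall fun c hc x hx => ?_
  rw [mem_centralizer_iff] at hx ⊢
  intro w hw
  have h2 := hx _ (conj_mem_of_normalizer' (Cfsg.Agent.MinSimple.Geo.centralizer_le_normalizer_ws V z) hc hw)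
  calc w * (c * x * c⁻¹) = c * (c⁻¹ * w * c * x) * c⁻¹ := by group
    _ = c * (x * (c⁻¹ * w * c)) * c⁻¹ := by rw [h2]
    _ = c * x * c⁻¹ * w := by group

theorem centralizer_le_normalizer_cq (V : Subgroup G) (z : G) :
    centralizer ({z} : Set G) ≤ normalizer ((cq V z : Subgroup G) : Set G) := by
  refine le_normalizer_of_forall fun c hc x hx => ⟨?_, ?_⟩
  · exact conj_mem_of_normalizer (le_normalizer_o2 _) hc hx.1
  · exact conj_mem_of_normalizer (centralizer_le_normalizer_cws V z) hc hx.2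

variable [Finite G]

theorem o2_le_kq {T V : Subgroup G} {z : G} (h : GeoC T V z) : o2 (centralizer ({z} : Set G)) ≤ kq V z := by
  refine BTwoB.le_kq h (o2_le _) (le_normalizer_o2 _) fun x hx => ?_
  obtain ⟨k, hk⟩ := isPGroup_o2 (centralizer ({z} : Set G)) ⟨x, hx⟩
  refine ⟨k, ?_⟩
  have : x ^ 2 ^ k = 1 := congrArg Subtype.val hk
  rw [this]; exact one_mem _

/-- from helper561's structure -/
theorem LsD.of_star {T V L : Subgroup G} {z : G} (h : Star T V z L) : LsD V L z where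
  le := h.L_le
  norm := h.L_nor
  perf := h.perf
  top := by
    intro N hN hn hk
    rcases h.max N hN (h.L_le.trans hn) with e | e
    · exact e
    · exact absurd ((le_o2 (hN.trans h.L_le) e hn).trans (o2_le_kq h.toGeoC)) hk
  nt := by
    intro hle
    apply h.L_mv
    have hL2 : L ≤ o2 L := le_trans (le_inf le_rfl hle) h.L_kq
    have h2 : IsPGroup 2 L := (isPGroup_o2 L).to_le hL2
    -- a perfect 2-group is trivial
    have hnil : Group.IsNilpotent L := h2.isNilpotent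
    have hsol : Group.IsSolvable L := inferInstance
    exfalso
    have h3 := h.three
    obtain ⟨n, hn⟩ := IsPGroup.iff_card.mp h2
    rw [hn] at h3
    have h4 := Nat.Prime.dvd_of_dvd_pow Nat.prime_three h3
    omega
  red := by
    intro v hv hk g hg
    refine h.RED v hv (fun y hy => hk y ⟨o2_le _ hy, ?_⟩) g hg
    have hchar : centralizer ({z} : Set G) ≤ normalizer ((o2 L : Subgroup G) : Set G) :=
      h.L_nor.trans (normalizer_le_normalizer_o2 L)
    exact le_o2 ((o2_le _).trans h.L_le) (isPGroup_o2 _) hchar hy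

section Mod

variable {M X : Type*} [AddCommGroup M] [Group X] [DistribMulAction X M]

/-- a 2-group acting on a nontrivial invariant subgroup of exponent 2 has a nontrivial fixed point there -/
theorem exists_fixed [Finite M] (two : ∀ m : M, m + m = 0) {P : Subgroup X} (hP : IsPGroup 2 P)
    {N : AddSubgroup M} (hN : ∀ p ∈ P, ∀ n ∈ N, p • n ∈ N) (hne : ∃ n ∈ N, n ≠ 0) :
    ∃ n ∈ N, n ≠ 0 ∧ ∀ p ∈ P, p • n = n := by
  have hf : Fact (Nat.Prime 2) := ⟨Nat.prime_two⟩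
  let _ : MulAction P N :=
    { smul := fun b n => ⟨(b : X) • (n : M), hN b b.2 n n.2⟩
      one_smul := fun n => Subtype.ext (one_smul X (n : M))
      mul_smul := fun a b n => Subtype.ext (mul_smul (a : X) (b : X) (n : M)) }
  obtain ⟨n₀, hn₀, hn₁⟩ := hne
  have h2 : 2 ∣ Nat.card N := by
    have h1 : addOrderOf (⟨n₀, hn₀⟩ : N) = 2 := by
      apply addOrderOf_eq_prime
      · rw [two_nsmul]; exact Subtype.ext (two n₀)
      · exact fun e => hn₁ (congrArg Subtype.val e)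
    rw [← h1]
    exact addOrderOf_dvd_natCard _
  obtain ⟨n, hn, hn1⟩ := hP.exists_fixed_point_of_prime_dvd_card_of_fixed_point N h2
    (a := (0 : N)) (fun b => Subtype.ext (smul_zero (b : X)))
  exact ⟨n, n.2, fun e => hn1 (Subtype.ext e.symm), fun b hb => congrArg Subtype.val (hn ⟨b, hb⟩)⟩

/-- an element of order dividing 5 acting on at most four elements -/
theorem smul_eq_of_five {u : X} (hu : u ^ 5 = 1) {m a b c d : M} (h : ∀ i : ℕ, u ^ i • m = a ∨ u ^ i • m = b ∨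
    u ^ i • m = c ∨ u ^ i • m = d) : u • m = m := by
  classical
  have key : ∀ k : ℕ, 0 < k → k < 5 → u ^ k • m = m → u • m = m := by
    intro k hk0 hk5 hk
    have hpow : ∀ n : ℕ, (u ^ k) ^ n • m = m := by
      intro n
      induction n with
      | zero => rw [pow_zero, one_smul]
      | succ n ih => rw [pow_succ, mul_smul, hk, ih]
    have h6 : u ^ 6 = u := by rw [pow_succ, hu, one_mul]
    have h16 : u ^ 16 = u := by
      calc u ^ 16 = (u ^ 5) ^ 3 * u := by rw [← pow_mul, ← pow_succ]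
        _ = u := by rw [hu, one_pow, one_mul]
    rcases (by omega : k = 1 ∨ k = 2 ∨ k = 3 ∨ k = 4) with rfl | rfl | rfl | rfl
    · rwa [pow_one] at hk
    · have := hpow 3
      rwa [← pow_mul, h6] at this
    · have := hpow 2
      rwa [← pow_mul, h6] at this
    · have := hpow 4
      rwa [← pow_mul, h16] at this
  obtain ⟨i, hi, j, hj, hij, he⟩ := Finset.exists_ne_map_eq_of_card_lt_of_maps_to
    (s := Finset.range 5) (t := ({a, b, c, d} : Finset M)) (f := fun i => u ^ i • m)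
    (by
      rw [Finset.card_range]
      exact lt_of_le_of_lt (Finset.card_le_four) (by norm_num))
    (by
      intro i _
      simp only [Finset.coe_insert, Finset.coe_singleton, Set.mem_insert_iff, Set.mem_singleton_iff]
      exact h i)
  rw [Finset.mem_range] at hi hj
  have hlt : ∀ i j : ℕ, i < j → j < 5 → u ^ i • m = u ^ j • m → u • m = m := by
    intro i j hij hj he
    refine key (j - i) (by omega) (by omega) ?_
    have h1 : u ^ j = u ^ i * u ^ (j - i) := by rw [← pow_add]; congr 1; omega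
    rw [h1, mul_smul] at he
    exact (MulAction.injective (u ^ i) he).symm
  rcases lt_or_gt_of_ne hij with h1 | h1
  · exact hlt i j h1 hj he
  · exact hlt j i h1 hi he.symm

/-- two elements with `[N, t] ≤ {0, δ}`, `[N, s] ≤ {0, ε}`, `ts` of order 5: `ts` is trivial on `N` -/
theorem five_trivial (two : ∀ m : M, m + m = 0) {t s : X} (hu : (t * s) ^ 5 = 1) {N : AddSubgroup M} {δ ε : M}
    (ht : ∀ m ∈ N, t • m ∈ N ∧ (t • m = m ∨ t • m = m + δ))
    (hs : ∀ m ∈ N, s • m ∈ N ∧ (s • m = m ∨ s • m = m + ε)) : ∀ m ∈ N, (t * s) • m = m := by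
  have hneg : ∀ m : M, -m = m := fun m => neg_eq_of_add_eq_zero_left (two m)
  -- one step
  have h1 : ∀ m ∈ N, (t * s) • m ∈ N ∧
      ((t * s) • m = m ∨ (t * s) • m = m + δ ∨ (t * s) • m = m + ε ∨ (t * s) • m = m + ε + δ) := by
    intro m hm
    obtain ⟨h2, h3⟩ := hs m hm
    obtain ⟨h4, h5⟩ := ht _ h2
    rw [mul_smul]
    refine ⟨h4, ?_⟩
    rcases h3 with e | e
    · rw [e] at h5 ⊢
      rcases h5 with e' | e'
      · exact Or.inl e'
      · exact Or.inr (Or.inl e')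
    · rw [e] at h5 ⊢
      rcases h5 with e' | e'
      · exact Or.inr (Or.inr (Or.inl e'))
      · exact Or.inr (Or.inr (Or.inr e'))
  -- elements of `N` in `{0, δ, ε, ε + δ}` are fixed
  have h2 : ∀ m ∈ N, (m = 0 ∨ m = δ ∨ m = ε ∨ m = ε + δ) → (t * s) • m = m := by
    intro m hm hm4
    have h3 : ∀ i : ℕ, (t * s) ^ i • m ∈ N ∧ ((t * s) ^ i • m = 0 ∨ (t * s) ^ i • m = δ ∨ (t * s) ^ i • m = ε ∨
        (t * s) ^ i • m = ε + δ) := by
      intro i
      induction i with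
      | zero => rw [pow_zero, one_smul]; exact ⟨hm, hm4⟩
      | succ i ih =>
        obtain ⟨ih1, ih2⟩ := ih
        rw [pow_succ', mul_smul]
        obtain ⟨h4, h5⟩ := h1 _ ih1
        refine ⟨h4, ?_⟩
        have dd0 : δ + δ = 0 := two δ
        have ee0 : ε + ε = 0 := two ε
        have a1 : δ + ε = ε + δ := add_comm _ _
        have a2 : ε + δ + δ = ε := by rw [add_assoc, dd0, add_zero]
        have a3 : ε + δ + ε = δ := by rw [add_comm ε δ, add_assoc, ee0, add_zero]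
        have a4 : ε + δ + ε + δ = 0 := by rw [a3, dd0]
        have a5 : δ + ε + δ = ε := by rw [a1, a2]
        have a6 : ε + ε + δ = δ := by rw [ee0, zero_add]
        rcases ih2 with e | e | e | e <;> rw [e] at h5 ⊢ <;> rcases h5 with e' | e' | e' | e' <;> rw [e'] <;>
          simp [dd0, ee0, a1, a2, a3]
    exact smul_eq_of_five hu fun i => (h3 i).2
  intro m hm
  obtain ⟨h3, h4⟩ := h1 m hm
  set σ := (t * s) • m + m with hσ
  have hσN : σ ∈ N := N.add_mem h3 hm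
  have hσ4 : σ = 0 ∨ σ = δ ∨ σ = ε ∨ σ = ε + δ := by
    rcases h4 with e | e | e | e
    · left; rw [hσ, e, two]
    · right; left; rw [hσ, e, add_assoc, add_comm δ, ← add_assoc, two, zero_add]
    · right; right; left; rw [hσ, e, add_assoc, add_comm ε, ← add_assoc, two, zero_add]
    · right; right; right
      rw [hσ, e]
      calc m + ε + δ + m = (m + m) + (ε + δ) := by abel
        _ = ε + δ := by rw [two, zero_add]
  have h5 := h2 σ hσN hσ4
  have h6 : (t * s) • m = m + σ := by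
    rw [hσ]
    calc (t * s) • m = (t * s) • m + (m + m) := by rw [two, add_zero]
      _ = m + ((t * s) • m + m) := by abel
  have h7 : (t * s) ^ 2 • m = m := by
    rw [pow_two, mul_smul, h6, smul_add, h6, h5, add_assoc, two, add_zero]
  have h8 : (t * s) ^ 6 = t * s := by rw [pow_succ, hu, one_mul]
  have h9 : (t * s) ^ 6 = (t * s) ^ 2 * ((t * s) ^ 2 * (t * s) ^ 2) := by group
  calc (t * s) • m = (t * s) ^ 6 • m := by rw [h8]
    _ = m := by rw [h9, mul_smul, mul_smul, h7, h7, h7]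

end Mod

section Grp

variable {T V Ls : Subgroup G} {z x : G} {M X : Type u} [AddCommGroup M] [Group X] [DistribMulAction X M]

theorem ws_le_cq (h : Ab T V z) : ws V z ≤ cq V z :=
  le_inf h.toGeoC.ws_le_o2 (ws_le_centralizer_ws h (Pt.refl z))

/-- `[Q, y]` is not centralised by `ws V z` -/
theorem not_le_dv (h : Ab T V z) (hL : LsD V Ls z) (R : Rep V z M X) {y : G} (hy : y ∈ Ls)
    (hy1 : R.rho y * R.rho y ≠ 1) :
    ¬ o2 (centralizer ({z} : Set G)) ≤ dv (o2 (centralizer ({z} : Set G))) (cq V z) y := by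
  intro hle
  apply hy1
  have hyC := hL.le hy
  have hyz : y * z = z * y := mem_centralizer_singleton_iff.mp hyC
  have two := Rep.two h (Pt.refl z) R
  apply R.faithful
  intro m
  obtain ⟨w, hw, rfl⟩ := R.pi_surj m
  have hyw : y * w * y⁻¹ ∈ ws V z := R.conj_mem hyC hw
  obtain ⟨v, hv⟩ : ∃ v, v = y * w * y⁻¹ * w⁻¹ := ⟨_, rfl⟩
  have hvW : v ∈ ws V z := by rw [hv]; exact mul_mem hyw (inv_mem hw)
  have hcomm : ∀ k ∈ Ls ⊓ o2 (centralizer ({z} : Set G)), k * v = v * k := by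
    intro k hk
    have h2 : k * y * k⁻¹ * y⁻¹ ∈ centralizer (ws V z : Set G) := (mem_dv.mp (hle hk.2)).2.2.2
    obtain ⟨c, hc⟩ : ∃ c, c = k * y * k⁻¹ * y⁻¹ := ⟨_, rfl⟩
    rw [← hc] at h2
    have hkk : k ∈ kq V z := o2_le_kq h.toGeoC hk.2
    have e1 : k * v * k⁻¹ = c * (y * (k * w * k⁻¹) * y⁻¹) * c⁻¹ * (k * w * k⁻¹)⁻¹ := by rw [hc, hv]; group
    have e2 : k * v * k⁻¹ = v := by
      rcases kq_ws h.toGeoC hkk hw with e | e
      · rw [e] at e1
        have h3 := mem_centralizer_iff.mp h2 _ hyw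
        rw [e1, ← h3, mul_inv_cancel_right, hv]
      · rw [e] at e1
        have e3 : y * (z * w) * y⁻¹ = z * (y * w * y⁻¹) := by
          calc y * (z * w) * y⁻¹ = (y * z) * w * y⁻¹ := by group
            _ = z * (y * w * y⁻¹) := by rw [hyz]; group
        have h3 := mem_centralizer_iff.mp h2 _ (mul_mem (h.V_le_ws h.z_mem) hyw)
        rw [e3, ← h3, mul_inv_cancel_right] at e1
        have h4 : z * v = v * z := h.ab z (h.V_le_ws h.z_mem) v hvW
        calc k * v * k⁻¹ = z * (y * w * y⁻¹) * (z * w)⁻¹ := e1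
          _ = z * (y * w * y⁻¹ * w⁻¹) * z⁻¹ := by group
          _ = z * v * z⁻¹ := by rw [hv]
          _ = v := by rw [h4]; group
    calc k * v = k * v * k⁻¹ * k := by group
      _ = v * k := by rw [e2]
  have hred := hL.red v hvW hcomm y hy
  have e4 : R.rho y • R.pi v = R.pi v := by
    rw [R.smul_pi y hyC v hvW, hred, mul_inv_cancel_right]
  have e5 : R.pi v = R.rho y • R.pi w + R.pi w := by
    rw [hv, R.pi_mul _ hyw _ (inv_mem hw), R.pi_inv hw, Rep.neg_eq h (Pt.refl z) R, R.smul_pi y hyC w hw]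
  rw [e5, smul_add, smul_smul, add_comm] at e4
  exact add_left_cancel e4

/-- `[C_Q(W), Ls] ≤ W` as soon as one `y ∈ Ls`, nontrivial on `M`, has `[C_Q(W), y] ≤ W` -/
theorem comm_mem_ws (_ : Ab T V z) (hL : LsD V Ls z) {y : G} (hy : y ∈ Ls) (hyk : y ∉ kq V z)
    (hc : ∀ c ∈ cq V z, c * y * c⁻¹ * y⁻¹ ∈ ws V z) : ∀ c ∈ cq V z, ∀ g ∈ Ls, c * g * c⁻¹ * g⁻¹ ∈ ws V z := by
  have hW : centralizer ({z} : Set G) ≤ normalizer ((ws V z : Subgroup G) : Set G) :=
    Cfsg.Agent.MinSimple.Geo.centralizer_le_normalizer_ws V z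
  let N : Subgroup G :=
    { carrier := {g | g ∈ Ls ∧ ∀ c ∈ cq V z, c * g * c⁻¹ * g⁻¹ ∈ ws V z}
      mul_mem' := by
        rintro a b ⟨ha, ha1⟩ ⟨hb, hb1⟩
        refine ⟨mul_mem ha hb, fun c hc => ?_⟩
        have e : c * (a * b) * c⁻¹ * (a * b)⁻¹ = (c * a * c⁻¹ * a⁻¹) * (a * (c * b * c⁻¹ * b⁻¹) * a⁻¹) := by group
        rw [e]
        exact mul_mem (ha1 c hc) (conj_mem_of_normalizer hW (hL.le ha) (hb1 c hc))
      one_mem' := ⟨one_mem _, fun c _ => by simp⟩
      inv_mem' := by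
        rintro a ⟨ha, ha1⟩
        refine ⟨inv_mem ha, fun c hc => ?_⟩
        have e : c * a⁻¹ * c⁻¹ * a⁻¹⁻¹ = a⁻¹ * (c * a * c⁻¹ * a⁻¹)⁻¹ * a := by group
        rw [e]
        exact conj_mem_of_normalizer' hW (hL.le ha) (inv_mem (ha1 c hc)) }
  have hNn : centralizer ({z} : Set G) ≤ normalizer (N : Set G) := by
    refine le_normalizer_of_forall fun a ha g hg => ⟨conj_mem_of_normalizer hL.norm ha hg.1, fun c hc => ?_⟩
    have h1 := hg.2 _ (conj_mem_of_normalizer' (centralizer_le_normalizer_cq V z) ha hc)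
    have e : c * (a * g * a⁻¹) * c⁻¹ * (a * g * a⁻¹)⁻¹ =
        a * (a⁻¹ * c * a * g * (a⁻¹ * c * a)⁻¹ * g⁻¹) * a⁻¹ := by group
    rw [e]
    exact conj_mem_of_normalizer hW ha h1
  have hNL : N = Ls := hL.top N (fun g hg => hg.1) hNn (fun hle => hyk (hle ⟨hy, hc⟩))
  intro c hc' g hg
  rw [← hNL] at hg
  exact hg.2 c hc'

/-- (2') -/
theorem no_atype (h : Ab T V z) {a : G} (ha : a ∈ dd V)
    (h1 : centralizer ({a} : Set G) ≤ centralizer ({z} : Set G))
    (h2 : centralizer ({z * a} : Set G) ≤ centralizer ({z} : Set G)) : False := by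
  obtain ⟨x, hx, hx1, hxz⟩ := h.exists_y
  obtain ⟨q, hq, hqm⟩ := h.exists_swap' hx hx1
  have e1 : q * z * q⁻¹ = x * z := hqm z h.z_mem h.z_ne (Ne.symm hxz)
  have key : q ∉ centralizer ({z} : Set G) := by
    intro hc
    rw [mem_centralizer_singleton_iff] at hc
    rw [hc, mul_inv_cancel_right] at e1
    exact hx1 (by simpa using e1.symm)
  rcases h.kq_dd hx hx1 hq ha with e | e
  · apply key
    apply h1
    rw [mem_centralizer_singleton_iff]
    calc q * a = q * a * q⁻¹ * q := by group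
      _ = a * q := by rw [e]
  · apply key
    apply h2
    rw [mem_centralizer_singleton_iff]
    have e2 : q * (z * a) * q⁻¹ = z * a := by
      calc q * (z * a) * q⁻¹ = (q * z * q⁻¹) * (q * a * q⁻¹) := by group
        _ = (x * z) * (x * a) := by rw [e1, e]
        _ = z * (x * x) * a := by rw [h.comm hx h.z_mem]; group
        _ = z * a := by rw [h.sq x hx, mul_one]
    calc q * (z * a) = q * (z * a) * q⁻¹ * q := by group
      _ = z * a * q := by rw [e2]

/-- the literal form of (F3) -/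
def F3 (T Ls : Subgroup G) (z : G) : Prop :=
  ∀ a : G, a ∈ T → a * a = 1 → a ≠ 1 → a ≠ z → (∀ l ∈ Ls, l * a = a * l) →
    (∀ t ∈ T, t * a * t⁻¹ = a ∨ t * a * t⁻¹ = z * a) → centralizer ({a} : Set G) ≤ centralizer ({z} : Set G)

/-- **(2')**: no nonzero vector of `dd V / ⟨z⟩` is fixed by `Ls` -/
theorem fixed_dd (h : Ab T V z) (hL : LsD V Ls z) (R : Rep V z M X) (hF : F3 T Ls z) {d : G} (hd : d ∈ dd V)
    (hfix : ∀ g ∈ Ls, R.rho g • R.pi d = R.pi d) : R.pi d = 0 := by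
  by_contra hne
  have hM : Finite M := R.finite_left
  have hX : Finite X := R.finite_right
  have hzp : Pt z z := Pt.refl z
  have two := Rep.two h hzp R
  have hddW : dd V ≤ ws V z := h.dd_le_ws h.z_mem h.z_ne
  let N : AddSubgroup M :=
    { carrier := {m | (∃ d ∈ dd V, R.pi d = m) ∧ ∀ g ∈ Ls, R.rho g • m = m}
      add_mem' := by
        rintro a b ⟨⟨d, hd, rfl⟩, ha⟩ ⟨⟨d', hd', rfl⟩, hb⟩
        refine ⟨⟨d * d', mul_mem hd hd', R.pi_mul d (hddW hd) d' (hddW hd')⟩, fun g hg => ?_⟩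
        rw [smul_add, ha g hg, hb g hg]
      zero_mem' := ⟨⟨1, one_mem _, R.pi_one⟩, fun g _ => smul_zero _⟩
      neg_mem' := by
        rintro a ⟨⟨d, hd, rfl⟩, ha⟩
        rw [Rep.neg_eq h hzp R]
        exact ⟨⟨d, hd, rfl⟩, ha⟩ }
  have hPi : IsPGroup 2 (R.img T) := by
    intro ⟨g, hg⟩
    obtain ⟨s, hs, rfl⟩ := (R.mem_img h.T_le).mp hg
    obtain ⟨k, hk⟩ := h.two ⟨s, hs⟩
    refine ⟨k, Subtype.ext ?_⟩
    have : s ^ 2 ^ k = 1 := congrArg Subtype.val hk
    change R.rho s ^ 2 ^ k = 1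
    rw [← R.rho_pow (h.T_le hs), this, R.rho_one]
  obtain ⟨n, ⟨⟨a, ha, rfl⟩, hnL⟩, hn0, hnT⟩ := exists_fixed two hPi (N := N) (by
    rintro p hp n ⟨⟨d, hd, rfl⟩, hn⟩
    obtain ⟨s, hs, rfl⟩ := (R.mem_img h.T_le).mp hp
    have hsC := h.T_le hs
    refine ⟨⟨s * d * s⁻¹, conj_mem_dd (h.T_norm hs) hd, (R.smul_pi s hsC d (hddW hd)).symm⟩, fun g hg => ?_⟩
    have hg' : s⁻¹ * g * s ∈ Ls := conj_mem_of_normalizer' hL.norm hsC hg
    have e : g * s = s * (s⁻¹ * g * s) := by group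
    rw [smul_smul, ← R.rho_mul g (hL.le hg) s hsC, e, R.rho_mul s hsC _ (hL.le hg'), mul_smul, hn _ hg'])
    ⟨R.pi d, ⟨⟨d, hd, rfl⟩, hfix⟩, hne⟩
  have haW := hddW ha
  have hzW : z ∈ ws V z := h.V_le_ws h.z_mem
  have hrel : ∀ c ∈ centralizer ({z} : Set G), R.rho c • R.pi a = R.pi a → c * a * c⁻¹ = a ∨ c * a * c⁻¹ = z * a := by
    intro c hc he
    rw [R.smul_pi c hc a haW, Rep.pi_eq_pi h hzp R (R.conj_mem hc haW) haW] at he
    exact he
  have hT : ∀ s ∈ T, s * a * s⁻¹ = a ∨ s * a * s⁻¹ = z * a := fun s hs =>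
    hrel s (h.T_le hs) (hnT _ (R.rho_mem_img h.T_le hs))
  have hza : z * a = a * z := h.ab z hzW a haW
  have hLa : ∀ g ∈ Ls, g * a = a * g := by
    have hle : ⁅Ls, Ls⁆ ≤ centralizer ({a} : Set G) := by
      rw [commutator_le]
      intro g hg g' hg'
      rw [mem_centralizer_singleton_iff, commutatorElement_def]
      have hcz : ∀ c ∈ Ls, ∀ ζ : G, (ζ = 1 ∨ ζ = z) → c * ζ = ζ * c := by
        rintro c hc ζ (rfl | rfl)
        · rw [mul_one, one_mul]
        · exact mem_centralizer_singleton_iff.mp (hL.le hc)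
      have hsc : ∀ c ∈ Ls, ∃ ζ : G, (ζ = 1 ∨ ζ = z) ∧ c * a * c⁻¹ = ζ * a := by
        intro c hc
        rcases hrel c (hL.le hc) (hnL c hc) with e | e
        · exact ⟨1, Or.inl rfl, by rw [e, one_mul]⟩
        · exact ⟨z, Or.inr rfl, e⟩
      obtain ⟨ζ, hζ, e1⟩ := hsc g hg
      obtain ⟨ζ', hζ', e2⟩ := hsc g' hg'
      have c1 := hcz g hg ζ' hζ'
      have c2 := hcz g' hg' ζ hζ
      have hζζ : ζ * ζ' = ζ' * ζ := by
        rcases hζ with rfl | rfl <;> rcases hζ' with rfl | rfl <;> simp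
      have p1 : g * g' * a * (g * g')⁻¹ = ζ * ζ' * a := by
        calc g * g' * a * (g * g')⁻¹ = g * (g' * a * g'⁻¹) * g⁻¹ := by group
          _ = (g * ζ') * a * g⁻¹ := by rw [e2]; group
          _ = ζ' * (g * a * g⁻¹) := by rw [c1]; group
          _ = ζ * ζ' * a := by rw [e1, hζζ]; group
      have p2 : g' * g * a * (g' * g)⁻¹ = ζ * ζ' * a := by
        calc g' * g * a * (g' * g)⁻¹ = g' * (g * a * g⁻¹) * g'⁻¹ := by group
          _ = (g' * ζ) * a * g'⁻¹ := by rw [e1]; group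
          _ = ζ * (g' * a * g'⁻¹) := by rw [c2]; group
          _ = ζ * ζ' * a := by rw [e2]; group
      have hDm : g * g' * g⁻¹ * g'⁻¹ ∈ Ls := mul_mem (mul_mem (mul_mem hg hg') (inv_mem hg)) (inv_mem hg')
      obtain ⟨D, hD⟩ : ∃ D, D = g * g' * g⁻¹ * g'⁻¹ := ⟨_, rfl⟩
      rw [← hD] at hDm ⊢
      have hDη : D * (ζ * ζ') = ζ * ζ' * D := by
        rw [← mul_assoc, hcz D hDm ζ hζ, mul_assoc, hcz D hDm ζ' hζ', ← mul_assoc]
      have hD2 : D * (ζ * ζ' * a) = ζ * ζ' * a * D := by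
        calc D * (ζ * ζ' * a) = D * (g' * g * a * (g' * g)⁻¹) := by rw [p2]
          _ = (g * g' * a * (g * g')⁻¹) * D := by rw [hD]; group
          _ = ζ * ζ' * a * D := by rw [p1]
      have hD3 : ζ * ζ' * (D * a) = ζ * ζ' * (a * D) := by
        calc ζ * ζ' * (D * a) = (ζ * ζ' * D) * a := by group
          _ = D * (ζ * ζ' * a) := by rw [← hDη]; group
          _ = ζ * ζ' * (a * D) := by rw [hD2]; group
      exact mul_left_cancel hD3
    intro g hg
    rw [← hL.perf] at hg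
    exact mem_centralizer_singleton_iff.mp (hle hg)
  have ha1 : a ≠ 1 := by
    rintro rfl; exact hn0 R.pi_one
  have haz : a ≠ z := by
    rintro rfl; exact hn0 (Rep.pi_self h hzp R)
  have hTd : ∀ d ∈ dd V, d ∈ T := fun d hd => h.toGeoC.ws_le_T (hddW hd)
  refine no_atype h ha (hF a (hTd a ha) (h.dd_sq ha) ha1 haz hLa hT) (hF (z * a) (hTd _ ?_) (h.dd_sq ?_) ?_ ?_ ?_ ?_)
  · exact mul_mem (h.V_le_dd h.z_mem) ha
  · exact mul_mem (h.V_le_dd h.z_mem) ha
  · intro e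
    apply haz
    rw [hza] at e
    rw [mul_eq_one_iff_eq_inv.mp e, inv_eq_self h.zz]
  · intro e
    exact ha1 (mul_eq_left.mp e)
  · intro l hl
    have hlz : l * z = z * l := mem_centralizer_singleton_iff.mp (hL.le hl)
    calc l * (z * a) = (l * z) * a := by group
      _ = z * (l * a) := by rw [hlz]; group
      _ = z * a * l := by rw [hLa l hl]; group
  · intro s hs
    have hsz : s * z = z * s := mem_centralizer_singleton_iff.mp (h.T_le hs)
    have e : s * (z * a) * s⁻¹ = z * (s * a * s⁻¹) := by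
      calc s * (z * a) * s⁻¹ = (s * z) * a * s⁻¹ := by group
        _ = z * (s * a * s⁻¹) := by rw [hsz]; group
    rw [e]
    rcases hT s hs with e1 | e1
    · left; rw [e1]
    · right; rw [e1]

/-! ### (TR) -/

/-- the map `β : Ls ∩ Q → M`, `k ↦ [k, b]⟨z⟩` -/
structure Beta (V Ls : Subgroup G) (z x : G) (R : Rep V z M X) (β : G → M) : Prop where
  add : ∀ k ∈ Ls ⊓ o2 (centralizer ({z} : Set G)), ∀ k' ∈ Ls ⊓ o2 (centralizer ({z} : Set G)),
    β (k * k') = β k + β k'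
  conj : ∀ g ∈ Ls, ∀ k ∈ Ls ⊓ o2 (centralizer ({z} : Set G)), R.rho g • β k = β (g * k * g⁻¹)
  iff : ∀ k ∈ Ls ⊓ o2 (centralizer ({z} : Set G)), (∃ d ∈ dd V, R.pi d = β k) ↔ k * x = x * k

/-- (TR), the construction -/
theorem exists_beta (h : Ab T V z) (hL : LsD V Ls z) (R : Rep V z M X) (hx : x ∈ V) (hx1 : x ≠ 1) (hxz : x ≠ z)
    {b : G} (hb : b ∈ ws V x) (hbc : b ∈ centralizer (ws V z : Set G)) (hbW : b ∉ ws V z)
    (hcm : ∀ g ∈ Ls, b * g * b⁻¹ * g⁻¹ ∈ ws V z) : ∃ β : G → M, Beta V Ls z x R β := by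
  have hzp : Pt z z := Pt.refl z
  have hzW : z ∈ ws V z := h.V_le_ws h.z_mem
  have hxW : x ∈ ws V z := h.V_le_ws hx
  have hzd : z ∈ dd V := h.V_le_dd h.z_mem
  have hbC : b ∈ centralizer ({z} : Set G) := by
    rw [mem_centralizer_singleton_iff]; exact (mem_centralizer_iff.mp hbc z hzW).symm
  have hkC : ∀ k ∈ Ls ⊓ o2 (centralizer ({z} : Set G)), k ∈ centralizer ({z} : Set G) := fun k hk => hL.le hk.1
  have hkq : ∀ k ∈ Ls ⊓ o2 (centralizer ({z} : Set G)), k ∈ kq V z := fun k hk => o2_le_kq h.toGeoC hk.2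
  have hkp : ∀ k ∈ Ls ⊓ o2 (centralizer ({z} : Set G)), ∀ w ∈ ws V z, R.pi (k * w * k⁻¹) = R.pi w := by
    intro k hk w hw
    rw [← R.smul_pi k (hkC k hk) w hw, (Rep.rho_eq_one R (hkC k hk)).mpr (hkq k hk), one_smul]
  have hcm' : ∀ g ∈ Ls, g * b * g⁻¹ * b⁻¹ ∈ ws V z := by
    intro g hg
    have h1 := inv_mem (hcm g hg)
    have e : (b * g * b⁻¹ * g⁻¹)⁻¹ = g * b * g⁻¹ * b⁻¹ := by group
    rwa [e] at h1
  refine ⟨fun k => R.pi (k * b * k⁻¹ * b⁻¹), ⟨?_, ?_, ?_⟩⟩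
  · intro k hk k' hk'
    have e : k * k' * b * (k * k')⁻¹ * b⁻¹ = (k * (k' * b * k'⁻¹ * b⁻¹) * k⁻¹) * (k * b * k⁻¹ * b⁻¹) := by group
    change R.pi (k * k' * b * (k * k')⁻¹ * b⁻¹) = _
    rw [e, R.pi_mul _ (R.conj_mem (hkC k hk) (hcm' k' hk'.1)) _ (hcm' k hk.1), hkp k hk _ (hcm' k' hk'.1), add_comm]
  · intro g hg k hk
    have hgC := hL.le hg
    have hk' : g * k * g⁻¹ ∈ Ls ⊓ o2 (centralizer ({z} : Set G)) :=
      ⟨conj_mem_of_normalizer hL.norm hgC hk.1, conj_mem_of_normalizer (le_normalizer_o2 _) hgC hk.2⟩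
    have hw : g * b * g⁻¹ * b⁻¹ ∈ ws V z := hcm' g hg
    change R.rho g • R.pi (k * b * k⁻¹ * b⁻¹) = R.pi (g * k * g⁻¹ * b * (g * k * g⁻¹)⁻¹ * b⁻¹)
    rw [R.smul_pi g hgC _ (hcm' k hk.1)]
    have e : g * (k * b * k⁻¹ * b⁻¹) * g⁻¹ = ((g * k * g⁻¹) * (g * b * g⁻¹ * b⁻¹) * (g * k * g⁻¹)⁻¹) *
        (g * k * g⁻¹ * b * (g * k * g⁻¹)⁻¹ * b⁻¹) * (g * b * g⁻¹ * b⁻¹)⁻¹ := by group
    have h1 := hcm' _ hk'.1
    have h2 := R.conj_mem (hkC _ hk') hw
    rw [e, R.pi_mul _ (mul_mem h2 h1) _ (inv_mem hw), R.pi_mul _ h2 _ h1, hkp _ hk' _ hw, R.pi_inv hw]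
    abel
  · intro k hk
    change (∃ d ∈ dd V, R.pi d = R.pi (k * b * k⁻¹ * b⁻¹)) ↔ _
    have hkN : k ∈ normalizer (V : Set G) := kq_le_normalizer h.toGeoC (hkq k hk)
    constructor
    · rintro ⟨d, hd, he⟩
      by_contra hkx
      have hmove : k * x * k⁻¹ = z * x := by
        rcases kq_ws h.toGeoC (hkq k hk) hxW with e | e
        · exfalso
          apply hkx
          calc k * x = k * x * k⁻¹ * k := by group
            _ = x * k := by rw [e]
        · exact e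
      have hddW : dd V ≤ ws V z := h.dd_le_ws h.z_mem h.z_ne
      have h1 : k * b * k⁻¹ * b⁻¹ ∈ dd V := by
        rw [Rep.pi_eq_pi h hzp R (hddW hd) (hcm' k hk.1)] at he
        rcases he with e | e
        · rw [← e]; exact hd
        · have e2 : k * b * k⁻¹ * b⁻¹ = z⁻¹ * d := by rw [e]; group
          rw [e2]; exact mul_mem (inv_mem hzd) hd
      have h2 : k * b * k⁻¹ ∈ ws V x := by
        have e : k * b * k⁻¹ = (k * b * k⁻¹ * b⁻¹) * b := by group
        rw [e]; exact mul_mem (h.dd_le_ws hx hx1 h1) hb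
      have h3 : k * b * k⁻¹ ∈ ws V (z * x) := by
        rw [← hmove]; exact conj_mem_ws hb
      have hzx : z * x ∈ V := mul_mem h.z_mem hx
      have hzx1 : z * x ≠ 1 := fun e => hxz (by
        have := mul_eq_one_iff_eq_inv.mp e
        rw [h.inv_eq hx] at this; exact this.symm)
      have hne : x ≠ z * x := fun e => h.z_ne (by simpa using e.symm)
      have h4 : k * b * k⁻¹ ∈ dd V := by
        rw [← h.inf_eq_dd hx hx1 hzx hzx1 hne]; exact ⟨h2, h3⟩
      have h5 := conj_mem_dd (inv_mem hkN) h4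
      have e : k⁻¹ * (k * b * k⁻¹) * k⁻¹⁻¹ = b := by group
      rw [e] at h5
      exact hbW (hddW h5)
    · intro hkx
      refine ⟨_, ?_, rfl⟩
      have h1 : k * b * k⁻¹ ∈ ws V x := by
        have := conj_mem_ws (g := k) hb
        rwa [hkx, mul_inv_cancel_right] at this
      rw [← h.inf_eq_dd h.z_mem h.z_ne hx hx1 (Ne.symm hxz)]
      exact ⟨hcm' k hk.1, (ws V x).mul_mem h1 ((ws V x).inv_mem hb)⟩

namespace Beta

variable {R : Rep V z M X} {β : G → M}

/-- the image of `β` -/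
def rg (hβ : Beta V Ls z x R β) (two : ∀ m : M, m + m = 0) : AddSubgroup M where
  carrier := {m | ∃ k ∈ Ls ⊓ o2 (centralizer ({z} : Set G)), β k = m}
  add_mem' := by
    rintro a b ⟨k, hk, rfl⟩ ⟨k', hk', rfl⟩
    exact ⟨k * k', mul_mem hk hk', hβ.add k hk k' hk'⟩
  zero_mem' := ⟨1, one_mem _, by
    have := hβ.add 1 (one_mem _) 1 (one_mem _)
    rw [mul_one] at this
    exact (add_eq_left.mp this.symm)⟩
  neg_mem' := by
    rintro a ⟨k, hk, rfl⟩
    rw [neg_eq_of_add_eq_zero_left (two (β k))]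
    exact ⟨k, hk, rfl⟩

theorem mem_rg (hβ : Beta V Ls z x R β) (two : ∀ m : M, m + m = 0) {m : M} :
    m ∈ hβ.rg two ↔ ∃ k ∈ Ls ⊓ o2 (centralizer ({z} : Set G)), β k = m := Iff.rfl

/-- `g ∈ Ls` trivial on the image of `β`: then `λ + g⁻¹λ` is fixed by `Ls` -/
theorem fix_of_trivial (h : Ab T V z) (hL : LsD V Ls z) (hx : x ∈ V) (hβ : Beta V Ls z x R β)
    {g : G} (hg : g ∈ Ls) (hfix : ∀ k ∈ Ls ⊓ o2 (centralizer ({z} : Set G)), R.rho g • β k = β k) :
    ∀ l ∈ Ls, R.rho l • (R.pi x + (R.rho g)⁻¹ • R.pi x) = R.pi x + (R.rho g)⁻¹ • R.pi x := by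
  have hzp : Pt z z := Pt.refl z
  have two := Rep.two h hzp R
  have hgC := hL.le hg
  have hgz : g * z = z * g := mem_centralizer_singleton_iff.mp hgC
  have hxW : x ∈ ws V z := h.V_le_ws hx
  have hxg : g⁻¹ * x * g ∈ ws V z := by
    have := R.conj_mem (inv_mem hgC) hxW
    rwa [inv_inv] at this
  have hzx : z * x = x * z := h.comm h.z_mem hx
  have hcomm : ∀ k ∈ Ls ⊓ o2 (centralizer ({z} : Set G)), k * (x * (g⁻¹ * x * g)) = x * (g⁻¹ * x * g) * k := by
    intro k hk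
    have hkC := hL.le hk.1
    have hkz : k * z = z * k := mem_centralizer_singleton_iff.mp hkC
    have hk' : g * k * g⁻¹ ∈ Ls ⊓ o2 (centralizer ({z} : Set G)) :=
      ⟨conj_mem_of_normalizer hL.norm hgC hk.1, conj_mem_of_normalizer (le_normalizer_o2 _) hgC hk.2⟩
    have h1 : g * k * g⁻¹ * k⁻¹ ∈ Ls ⊓ o2 (centralizer ({z} : Set G)) :=
      Subgroup.mul_mem _ hk' (Subgroup.inv_mem _ hk)
    have hki : β k⁻¹ = β k := by
      have h2 := hβ.add k hk k⁻¹ (inv_mem hk)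
      have h3 := hβ.add 1 (one_mem _) 1 (one_mem _)
      rw [mul_one] at h3
      have h4 : β 1 = 0 := add_eq_left.mp h3.symm
      rw [mul_inv_cancel, h4] at h2
      rw [(eq_neg_of_add_eq_zero_right h2.symm), neg_eq_of_add_eq_zero_left (two (β k))]
    have h2 : β (g * k * g⁻¹ * k⁻¹) = 0 := by
      rw [hβ.add _ hk' _ (inv_mem hk), ← hβ.conj g hg k hk, hfix k hk, hki, two]
    have h3 : g * k * g⁻¹ * k⁻¹ * x = x * (g * k * g⁻¹ * k⁻¹) :=
      (hβ.iff _ h1).mp ⟨1, one_mem _, by rw [R.pi_one, h2]⟩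
    obtain ⟨k1, hk1⟩ : ∃ k1, k1 = g * k * g⁻¹ * k⁻¹ := ⟨_, rfl⟩
    rw [← hk1] at h3
    have hk1z : k1 * z = z * k1 := by
      have : k1 ∈ centralizer ({z} : Set G) := by rw [hk1]; exact hL.le h1.1
      exact mem_centralizer_singleton_iff.mp this
    have e0 : k * (g⁻¹ * x * g) * k⁻¹ = g⁻¹ * (k1 * (k * x * k⁻¹) * k1⁻¹) * g := by rw [hk1]; group
    have hkq : k ∈ kq V z := o2_le_kq h.toGeoC hk.2
    have e5 : k * (x * (g⁻¹ * x * g)) * k⁻¹ = x * (g⁻¹ * x * g) := by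
      have e6 : k * (x * (g⁻¹ * x * g)) * k⁻¹ = (k * x * k⁻¹) * (k * (g⁻¹ * x * g) * k⁻¹) := by group
      rw [e6, e0]
      rcases kq_ws h.toGeoC hkq hxW with e | e
      · rw [e, h3, mul_inv_cancel_right]
      · rw [e]
        have e7 : k1 * (z * x) * k1⁻¹ = z * x := by
          calc k1 * (z * x) * k1⁻¹ = (k1 * z) * x * k1⁻¹ := by group
            _ = z * (k1 * x) * k1⁻¹ := by rw [hk1z]; group
            _ = z * x := by rw [h3]; group
        rw [e7]
        have e8 : g⁻¹ * (z * x) * g = z * (g⁻¹ * x * g) := by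
          have : g⁻¹ * z = z * g⁻¹ := by
            calc g⁻¹ * z = g⁻¹ * (z * g) * g⁻¹ := by group
              _ = z * g⁻¹ := by rw [← hgz]; group
          calc g⁻¹ * (z * x) * g = (g⁻¹ * z) * x * g := by group
            _ = z * (g⁻¹ * x * g) := by rw [this]; group
        rw [e8]
        calc z * x * (z * (g⁻¹ * x * g)) = (z * z) * (x * (g⁻¹ * x * g)) := by
              calc z * x * (z * (g⁻¹ * x * g)) = z * (x * z) * (g⁻¹ * x * g) := by group
                _ = (z * z) * (x * (g⁻¹ * x * g)) := by rw [← hzx]; group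
          _ = x * (g⁻¹ * x * g) := by rw [h.zz, one_mul]
    calc k * (x * (g⁻¹ * x * g)) = k * (x * (g⁻¹ * x * g)) * k⁻¹ * k := by group
      _ = x * (g⁻¹ * x * g) * k := by rw [e5]
  have hvW : x * (g⁻¹ * x * g) ∈ ws V z := mul_mem hxW hxg
  have hπ : R.pi (x * (g⁻¹ * x * g)) = R.pi x + (R.rho g)⁻¹ • R.pi x := by
    rw [R.pi_mul x hxW _ hxg, ← R.rho_inv hgC, R.smul_pi g⁻¹ (inv_mem hgC) x hxW, inv_inv]
  intro l hl
  have hred := hL.red _ hvW hcomm l hl
  rw [← hπ, R.smul_pi l (hL.le hl) _ hvW, hred, mul_inv_cancel_right]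

end Beta

end Grp

end Cfsg.Agent.OddCyclic.EN.OneGen
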