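import Cfsg.Agent.OddCyclic.EN.S7Key
import Cfsg.Agent.OddCyclic.EN.OneGen

/-!
# S0342 (B-b), type (B'), `n = 1`: `[C_{O₂(C(z))}(ws V z), L] ≤ ws V z`
-/

set_option autoImplicit false
set_option linter.unusedSectionVars false

namespace Cfsg.Agent.OddCyclic.EN.S7One

open Subgroup Cfsg Cfsg.Agent.ZN Cfsg.Agent.MinSimple.Geo Cfsg.Agent.OddCyclic.GeoC Cfsg.Agent.OddCyclic.BTwoA
  Cfsg.Agent.OddCyclic.EN.Line Cfsg.Agent.OddCyclic.EN.Base Cfsg.Agent.MinSimple.SecRep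
  Cfsg.Agent.OddCyclic.EN.RepM Cfsg.Agent.OddCyclic.EN.BbDefs Cfsg.Agent.OddCyclic.EN.OneStar
  Cfsg.Agent.OddCyclic.EN.S7Grp Cfsg.Agent.OddCyclic.EN.S7Mod
open Cfsg.Agent.OddCyclic.BTwoB (kq_le centralizer_le_normalizer_kq)
open Cfsg.Agent.OddCyclic.T1Module (CS)
open Cfsg.Agent.OddCyclic.FFBasic (fx mem_fx cm cm_apply card_range_cm)
open Cfsg.Agent.ZN.Block (conj_mem_of_normalizer conj_mem_of_normalizer' le_normalizer_of_forall
  mem_normalizer_of)
open Cfsg.Agent.OddCyclic.EN.OneGen (cq centralizer_le_normalizer_cq ws_le_cq)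
open scoped commutatorElement

universe u

variable {G : Type u} [Group G] [Finite G]

/-- an element of `A ∖ B`, central and of order 2 modulo `B` -/
theorem exists_sq_mod {S A B : Subgroup G} (hS : IsPGroup 2 S) (hAS : A ≤ S) (hA : S ≤ normalizer (A : Set G))
    (hB : S ≤ normalizer (B : Set G)) (hAB : ¬ A ≤ B) : ∃ c ∈ cmod A S B, c ∉ B ∧ c * c ∈ B := by
  have hnil : Group.IsNilpotent S := hS.isNilpotent
  have hAn : (A.subgroupOf S).Normal := normal_subgroupOf_of_le_normalizer hA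
  have hBn : (B.subgroupOf S).Normal := normal_subgroupOf_of_le_normalizer hB
  obtain ⟨c, hcA, hcB, hc⟩ := Cfsg.Agent.Lib.NormalAbelian.exists_mem_not_mem_central_mod hBn hAn (by
    intro hle
    apply hAB
    intro a ha
    have : (⟨a, hAS ha⟩ : S) ∈ A.subgroupOf S := ha
    exact hle this)
  have hcm : (c : G) ∈ cmod A S B := by
    refine ⟨hcA, hB c.2, fun k hk => inv_comm_mem (hc ⟨k, hk⟩)⟩
  have hcB' : (c : G) ∉ B := hcB
  obtain ⟨n, hn⟩ := hS c
  have hex : ∃ n : ℕ, (c : G) ^ 2 ^ n ∈ B := ⟨n, by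
    have : (c : G) ^ 2 ^ n = 1 := congrArg Subtype.val hn
    rw [this]; exact one_mem _⟩
  classical
  have h1 := Nat.find_spec hex
  have h2 : Nat.find hex ≠ 0 := by
    intro e
    rw [e] at h1
    apply hcB'
    simpa using h1
  obtain ⟨m, hm⟩ := Nat.exists_eq_succ_of_ne_zero h2
  refine ⟨(c : G) ^ 2 ^ m, pow_mem hcm _, ?_, ?_⟩
  · exact Nat.find_min hex (by omega)
  · rw [hm] at h1
    have e : (c : G) ^ 2 ^ m * (c : G) ^ 2 ^ m = (c : G) ^ 2 ^ m.succ := by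
      rw [← pow_add, pow_succ]; congr 1; omega
    rwa [e]

theorem sqm_inv {C A N : Subgroup G} {h1 : A ≤ normalizer (N : Set G)} {h2 : ∀ a ∈ A, ∀ b ∈ A, a * b * a⁻¹ * b⁻¹ ∈ N}
    (hA : C ≤ normalizer (A : Set G)) (hN : C ≤ normalizer (N : Set G)) :
    C ≤ normalizer ((sqm A N h1 h2 : Subgroup G) : Set G) := by
  refine le_normalizer_of_forall fun c hc w hw => ⟨conj_mem_of_normalizer hA hc hw.1, ?_⟩
  have h3 := conj_mem_of_normalizer hN hc hw.2
  have e : c * (w * w) * c⁻¹ = c * w * c⁻¹ * (c * w * c⁻¹) := by group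
  rwa [e] at h3

variable {T V L : Subgroup G} {z x : G} {M X : Type u} [AddCommGroup M] [Group X]
  [DistribMulAction X M] [Finite M] [Finite X] {R : Rep V z M X} {J : Subgroup X}

namespace Tw

variable {t : X} {w : G}

theorem card_fx (h : Tw T V z x L R J t w) : Nat.card (fx (hm X M) t) = 16 := by
  have h1 := (fx (hm X M) t).card_mul_index
  rw [h.idx, h.CS_bot.2] at h1
  omega

theorem range_le_fx (h : Tw T V z x L R J t w) : (cm (hm X M) t).range ≤ fx (hm X M) t := by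
  rintro _ ⟨m, rfl⟩
  rw [mem_fx, cm_apply, map_mul, map_inv, ← MulAut.mul_apply, ← map_mul, h.tt, map_one, MulAut.one_apply,
    h.inv_eq, h.inv_eq, mul_comm]

theorem relIndex_range (h : Tw T V z x L R J t w) : (cm (hm X M) t).range.relIndex (fx (hm X M) t) = 4 := by
  have h1 := relIndex_mul_relIndex (⊥ : Subgroup (Multiplicative M)) (cm (hm X M) t).range (fx (hm X M) t) bot_le
    h.range_le_fx
  rw [relIndex_bot_left, relIndex_bot_left, h.card_range, h.card_fx] at h1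
  omega

/-- `|F_z : D| ≤ 4` -/
theorem relIndex_Fz (h : Tw T V z x L R J t w) :
    (⁅ws V z, ws V x⁆).relIndex (ws V z ⊓ centralizer (ws V x : Set G)) ≤ 4 := by
  let f : ws V z →* Multiplicative M :=
    { toFun := fun v => Multiplicative.ofAdd (R.pi v)
      map_one' := by
        change Multiplicative.ofAdd (R.pi 1) = 1
        rw [R.pi_one]; rfl
      map_mul' := fun a b => by
        change Multiplicative.ofAdd (R.pi (a * b)) = _
        rw [R.pi_mul a a.2 b b.2, ofAdd_add] }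
  have h1 : (⁅ws V z, ws V x⁆).subgroupOf (ws V z) = (cm (hm X M) t).range.comap f := by
    ext v
    rw [mem_subgroupOf, h.mem_D, mem_comap]
    exact ⟨fun h2 => h2.2, fun h2 => ⟨v.2, h2⟩⟩
  have h2 := relIndex_subgroupOf (H := ⁅ws V z, ws V x⁆)
    (inf_le_left : ws V z ⊓ centralizer (ws V x : Set G) ≤ ws V z)
  rw [← h2, h1, relIndex_comap, ← h.relIndex_range]
  refine relIndex_le_of_le_right ?_ ?_
  · rintro _ ⟨v, hv, rfl⟩
    have hv2 : (v : G) ∈ centralizer (ws V x : Set G) := hv.2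
    have e1 : w * v = v * w := mem_centralizer_iff.1 hv2 w h.wx
    change hm X M t (Multiplicative.ofAdd (R.pi v)) = Multiplicative.ofAdd (R.pi v)
    rw [← h.wt, h.act h.wz v.2, e1, mul_inv_cancel_right]
  · rw [h.relIndex_range]; norm_num

/-- `|F_x : D| ≤ 4` -/
theorem relIndex_Fx (h : Tw T V z x L R J t w) :
    (⁅ws V z, ws V x⁆).relIndex (ws V x ⊓ centralizer (ws V z : Set G)) ≤ 4 := by
  obtain ⟨g, hg⟩ := exists_sw h.ab h.pt
  have h1 := h.relIndex_Fz
  rw [← relIndex_cj g, sw_D hg] at h1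
  refine le_trans (le_of_eq ?_) h1
  congr 1
  ext y
  rw [mem_cj, mem_inf, mem_inf]
  constructor
  · rintro ⟨hy, hyc⟩
    refine ⟨?_, ?_⟩
    · have := hg.inv.wx hy
      rwa [inv_inv] at this
    · rw [mem_centralizer_iff] at hyc ⊢
      intro v hv
      have h2 := hyc _ (hg.wx hv)
      calc v * (g⁻¹ * y * g) = g⁻¹ * (g * v * g⁻¹ * y) * g := by group
        _ = g⁻¹ * (y * (g * v * g⁻¹)) * g := by rw [h2]
        _ = g⁻¹ * y * g * v := by group
  · rintro ⟨hy, hyc⟩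
    refine ⟨?_, ?_⟩
    · have := hg.wz hy
      have e : g * (g⁻¹ * y * g) * g⁻¹ = y := by group
      rwa [e] at this
    · rw [mem_centralizer_iff] at hyc ⊢
      intro v hv
      have h2 := hyc (g⁻¹ * v * g) (by
        have := hg.inv.wz hv
        rwa [inv_inv] at this)
      calc v * y = g * (g⁻¹ * v * g * (g⁻¹ * y * g)) * g⁻¹ := by group
        _ = g * (g⁻¹ * y * g * (g⁻¹ * v * g)) * g⁻¹ := by rw [h2]
        _ = y * v := by group

/-- `F_x ≤ C_{O₂(C(z))}(ws V z)` -/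
theorem Fx_le (h : Tw T V z x L R J t w) : ws V x ⊓ centralizer (ws V z : Set G) ≤ cq V z := by
  have hxW := x_mem_wz h.ab h.pt
  have hzW : z ∈ ws V z := h.ab.V_le_ws h.ab.z_mem
  refine le_inf ?_ inf_le_right
  have h1 : centralizer (ws V z : Set G) ≤
      normalizer ((ws V x ⊓ centralizer (ws V z : Set G) : Subgroup G) : Set G) := by
    refine le_normalizer_of_forall fun c hc y hy => mem_inf.mpr ⟨?_, ?_⟩
    · have hcx : c ∈ centralizer ({x} : Set G) := by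
        rw [mem_centralizer_singleton_iff]
        exact (mem_centralizer_iff.mp hc x hxW).symm
      exact conj_mem_of_normalizer (Cfsg.Agent.MinSimple.Geo.centralizer_le_normalizer_ws V x) hcx hy.1
    · exact mul_mem (mul_mem hc hy.2) (inv_mem hc)
  have h2 : ws V x ⊓ centralizer (ws V z : Set G) ≤ o2 (centralizer (ws V z : Set G)) :=
    le_o2 inf_le_right ((ws_isPGroup h.ab (ptx h.ab h.pt)).to_le inf_le_left) h1
  have hzc : centralizer (ws V z : Set G) ≤ centralizer ({z} : Set G) := by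
    intro c hc
    rw [mem_centralizer_singleton_iff]
    exact (mem_centralizer_iff.mp hc z hzW).symm
  have h3 : o2 (centralizer (ws V z : Set G)) ≤ o2 (centralizer ({z} : Set G)) :=
    le_o2 ((o2_le _).trans hzc) (isPGroup_o2 _)
      ((OneGen.centralizer_le_normalizer_cws V z).trans (normalizer_le_normalizer_o2 _))
  exact h2.trans h3

/-- `[C_{O₂(C(z))}(ws V z), L] ≤ ws V z` -/
theorem cq_le (h : Tw T V z x L R J t w) : cq V z ≤ cmod (cq V z) L (ws V z) := by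
  by_contra hcon
  set W := cq V z with hW
  set C := centralizer ({z} : Set G) with hC
  set S := kq V z with hS
  set N := ws V z with hN
  set W₂ := cmod W L N with hW₂
  have hS2 : IsPGroup 2 S := h.kq_two
  have hSC : S ≤ C := kq_le V z
  have hCS : C ≤ normalizer (S : Set G) := centralizer_le_normalizer_kq V z
  have hCW : C ≤ normalizer (W : Set G) := centralizer_le_normalizer_cq V z
  have hCL : C ≤ normalizer (L : Set G) := h.star.L_nor
  have hCN : C ≤ normalizer (N : Set G) := Cfsg.Agent.MinSimple.Geo.centralizer_le_normalizer_ws V z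
  have hCW₂ : C ≤ normalizer (W₂ : Set G) := cmod_inv hCW hCL hCN
  have hWS : W ≤ S := inf_le_left.trans (OneGen.o2_le_kq h.ab.toGeoC)
  have hWC : W ≤ C := hWS.trans hSC
  obtain ⟨c, hc, hcW₂, hcc⟩ := exists_sq_mod hS2 hWS (hSC.trans hCW) (hSC.trans hCW₂) hcon
  set Cm := cmod W S W₂ with hCm
  have hCCm : C ≤ normalizer (Cm : Set G) := cmod_inv hCW hCS hCW₂
  have hCmW : Cm ≤ W := fun y hy => hy.1
  have hCmN : Cm ≤ normalizer (W₂ : Set G) := fun y hy => hy.2.1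
  have hCmab : ∀ a ∈ Cm, ∀ b ∈ Cm, a * b * a⁻¹ * b⁻¹ ∈ W₂ := fun a ha b hb => hb.2.2 a (hWS (hCmW ha))
  set W₁ := sqm Cm W₂ hCmN hCmab with hW₁
  have hCW₁ : C ≤ normalizer (W₁ : Set G) := sqm_inv hCCm hCW₂
  have hW₁Cm : W₁ ≤ Cm := fun y hy => hy.1
  have hW₁C : W₁ ≤ C := hW₁Cm.trans (hCmW.trans hWC)
  have hW₂W : W₂ ≤ W := fun y hy => hy.1
  have hW₂₁ : W₂ ≤ W₁ := by
    intro y hy
    refine ⟨⟨hW₂W hy, le_normalizer hy, fun k hk => ?_⟩, mul_mem hy hy⟩
    exact mul_mem (conj_mem_of_normalizer hCW₂ (hSC hk) hy) (inv_mem hy)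
  have hcW₁ : c ∈ W₁ := ⟨hc, hcc⟩
  obtain ⟨M', X', i1, i2, i3, ⟨R'⟩⟩ := exists_sec hW₁C hCW₁ hW₂₁ hCW₂
    (fun a ha b hb => hCmab a (hW₁Cm ha) b (hW₁Cm hb))
  have hfM : Finite M' := R'.finite_left
  -- `S` is trivial on `W₁/W₂`
  have hker : R.hom.ker ≤ R'.hom.ker := by
    intro k hk
    rw [MonoidHom.mem_ker] at hk ⊢
    have hkS : (k : G) ∈ S := (Rep.rho_eq_one R k.2).1 hk
    apply R'.faithful
    intro m
    obtain ⟨y, hy, rfl⟩ := R'.pi_surj m
    change R'.rho k • R'.pi y = R'.pi y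
    rw [R'.smul_pi _ k.2 y hy, R'.pi_eq_iff (conj_mem_of_normalizer hCW₁ k.2 hy) hy]
    exact (hW₁Cm hy).2.2 k hkS
  let φ : X →* X' := R.hom.liftOfSurjective R.hom_surj ⟨R'.hom, hker⟩
  have hφ : ∀ c ∈ C, φ (R.rho c) = R'.rho c := by
    intro c hc
    exact MonoidHom.liftOfRightInverse_comp_apply R.hom _ _ ⟨R'.hom, hker⟩ ⟨c, hc⟩
  let ρ' : X →* MulAut (Multiplicative M') := (hm X' M').comp φ
  have hρ' : ∀ c ∈ C, ∀ y ∈ W₁, ρ' (R.rho c) (Multiplicative.ofAdd (R'.pi y)) =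
      Multiplicative.ofAdd (R'.pi (c * y * c⁻¹)) := by
    intro c hc y hy
    change hm X' M' (φ (R.rho c)) _ = _
    rw [hφ c hc, hm_apply, R'.smul_pi c hc y hy]
  have hcm' : ∀ c ∈ C, ∀ y ∈ W₁, cm ρ' (R.rho c) (Multiplicative.ofAdd (R'.pi y)) =
      Multiplicative.ofAdd (R'.pi (c * y * c⁻¹ * y⁻¹)) := by
    intro c hc y hy
    rw [cm_apply, hρ' c hc y hy, R'.pi_mul _ (conj_mem_of_normalizer hCW₁ hc hy) _ (inv_mem hy), R'.pi_inv hy,
      ofAdd_add, ofAdd_neg]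
  have hsq : ∀ m : Multiplicative M', m * m = 1 := by
    intro m
    obtain ⟨y, hy, hym⟩ := R'.pi_surj m.toAdd
    have e1 : m = Multiplicative.ofAdd (R'.pi y) := by rw [hym]; rfl
    subst e1
    rw [← ofAdd_add, ← R'.pi_mul y hy y hy, (R'.pi_eq_zero _ (mul_mem hy hy)).2 hy.2]; rfl
  have hne : ∃ j ∈ J, ∃ v, ρ' j v ≠ v := by
    by_contra hall
    push Not at hall
    apply hcW₂
    refine ⟨hCmW hc, hCN (hWC (hCmW hc)), ?_⟩
    refine fun l hl => three_sub h.star.L_le h.star.perf hCN hW₁C (W₂ := W₂) ?_ (fun l hl y hy => hy.2.2 l hl) l hl c hcW₁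
    intro l hl y hy
    have h1 := hall (R.rho l) ((h.img _).2 ⟨l, hl, rfl⟩) (Multiplicative.ofAdd (R'.pi y))
    rw [hρ' l (h.star.L_le hl) y hy] at h1
    have h2 := Multiplicative.ofAdd.injective h1
    rwa [R'.pi_eq_iff (conj_mem_of_normalizer hCW₁ (h.star.L_le hl) hy) hy] at h2
  have h4 : 4 ≤ (fx ρ' t).index := four_le_of h.amb h.ne_top hsq hne h.tJ h.t1 h.tt
  rw [← card_range_cm] at h4
  set F := ws V x ⊓ centralizer (ws V z : Set G) with hF
  have hFW : F ≤ W := h.Fx_le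
  let f : (F ⊓ W₁ : Subgroup G) →* Multiplicative M' :=
    { toFun := fun v => Multiplicative.ofAdd (R'.pi v)
      map_one' := by
        change Multiplicative.ofAdd (R'.pi 1) = 1
        rw [R'.pi_one]; rfl
      map_mul' := fun a b => by
        change Multiplicative.ofAdd (R'.pi (a * b)) = _
        rw [R'.pi_mul a a.2.2 b b.2.2, ofAdd_add] }
  have hr : (cm ρ' t).range ≤ f.range := by
    rintro _ ⟨m, rfl⟩
    obtain ⟨y, hy, hym⟩ := R'.pi_surj m.toAdd
    have e1 : m = Multiplicative.ofAdd (R'.pi y) := by rw [hym]; rfl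
    subst e1
    rw [← h.wt, hcm' w h.wz y hy]
    have hyW : y ∈ W := hCmW (hW₁Cm hy)
    have hyc : y ∈ centralizer (ws V z : Set G) := hyW.2
    refine ⟨⟨w * y * w⁻¹ * y⁻¹, mem_inf.2 ⟨mem_inf.2 ⟨?_, ?_⟩, ?_⟩⟩, rfl⟩
    · have hyx : y ∈ centralizer ({x} : Set G) := by
        rw [mem_centralizer_singleton_iff]
        exact (mem_centralizer_iff.mp hyc x (x_mem_wz h.ab h.pt)).symm
      have e : w * y * w⁻¹ * y⁻¹ = w * (y * w⁻¹ * y⁻¹) := by group
      rw [e]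
      exact mul_mem h.wx (conj_mem_of_normalizer (Cfsg.Agent.MinSimple.Geo.centralizer_le_normalizer_ws V x) hyx
        (inv_mem h.wx))
    · exact mul_mem (conj_mem_of_normalizer (OneGen.centralizer_le_normalizer_cws V z) h.wz hyc) (inv_mem hyc)
    · exact mul_mem (conj_mem_of_normalizer hCW₁ h.wz hy) (inv_mem hy)
  have hk : f.ker = W₂.subgroupOf (F ⊓ W₁) := by
    ext v
    rw [MonoidHom.mem_ker, mem_subgroupOf]
    change Multiplicative.ofAdd (R'.pi v) = 1 ↔ _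
    rw [← R'.pi_eq_zero v v.2.2]
    exact ⟨fun e => Multiplicative.ofAdd.injective e, fun e => by rw [e]; rfl⟩
  have h5 : 4 ≤ W₂.relIndex (F ⊓ W₁) := by
    have h6 : Nat.card f.range = W₂.relIndex (F ⊓ W₁) := by
      rw [← Subgroup.index_ker, hk]; rfl
    rw [← h6]
    exact h4.trans (Nat.card_le_card_of_injective _ (inclusion_injective hr))
  set D := ⁅ws V z, ws V x⁆ with hD
  have hDW₂ : D ≤ W₂ := by
    intro d hd
    have hdz := h.D_le_z hd
    exact ⟨ws_le_cq h.ab hdz, le_normalizer hdz, fun l hl =>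
      mul_mem (conj_mem_of_normalizer hCN (h.star.L_le hl) hdz) (inv_mem hdz)⟩
  have hDF : D ≤ F := by
    intro d hd
    refine ⟨h.D_le_x hd, ?_⟩
    exact ws_le_centralizer_ws h.ab (Pt.refl z) (h.D_le_z hd)
  have hDF2 : D ≤ F ⊓ W₂ := le_inf hDF hDW₂
  have h7 : D.relIndex (F ⊓ W₂) * (F ⊓ W₂).relIndex (F ⊓ W₁) = D.relIndex (F ⊓ W₁) :=
    relIndex_mul_relIndex _ _ _ hDF2 (inf_le_inf_left _ hW₂₁)
  have h8 : D.relIndex (F ⊓ W₁) * (F ⊓ W₁).relIndex F = D.relIndex F :=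
    relIndex_mul_relIndex _ _ _ (le_inf hDF (hDW₂.trans hW₂₁)) inf_le_left
  have h9 : (F ⊓ W₂).relIndex (F ⊓ W₁) = W₂.relIndex (F ⊓ W₁) := by
    have e : F ⊓ W₂ = W₂ ⊓ (F ⊓ W₁) ⊓ F ⊓ W₂ := by
      apply le_antisymm
      · exact le_inf (le_inf (le_inf inf_le_right (inf_le_inf_left _ hW₂₁)) inf_le_left) inf_le_right
      · exact le_inf (inf_le_left.trans inf_le_right) inf_le_right
    have e2 : (F ⊓ W₂) ⊓ (F ⊓ W₁) = W₂ ⊓ (F ⊓ W₁) := by
      apply le_antisymm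
      · exact le_inf (inf_le_left.trans inf_le_right) inf_le_right
      · exact le_inf (le_inf (inf_le_right.trans inf_le_left) inf_le_left) inf_le_right
    rw [← inf_relIndex_right (F ⊓ W₂), e2, inf_relIndex_right]
  have h10 := h.relIndex_Fx
  rw [← hD, ← hF] at h10
  have p1 : D.relIndex (F ⊓ W₂) ≠ 0 := index_ne_zero_of_finite
  have p2 : (F ⊓ W₁).relIndex F ≠ 0 := index_ne_zero_of_finite
  have q1 : D.relIndex (F ⊓ W₂) = 1 ∧ (F ⊓ W₁).relIndex F = 1 := by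
    rw [← h8, ← h7, h9] at h10
    have a1 : 1 ≤ D.relIndex (F ⊓ W₂) := by omega
    have a2 : 1 ≤ (F ⊓ W₁).relIndex F := by omega
    constructor
    · by_contra hcon
      have a3 : 2 ≤ D.relIndex (F ⊓ W₂) := by omega
      have := Nat.mul_le_mul (Nat.mul_le_mul a3 h5) a2
      omega
    · by_contra hcon
      have a3 : 2 ≤ (F ⊓ W₁).relIndex F := by omega
      have := Nat.mul_le_mul (Nat.mul_le_mul a1 h5) a3
      omega
  obtain ⟨q1, q2⟩ := q1
  rw [relIndex_eq_one] at q1 q2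
  obtain ⟨δ, hδ, hδc, k, hk, hkV, hkδ⟩ := h.exists_key
  have hδF : δ ∈ F := ⟨hδ, mem_centralizer_iff.2 fun v hv => (hδc v hv).symm⟩
  have hδ1 : δ ∈ W₁ := (q2 hδF).2
  have hkS : k ∈ S := (mem_inf.1 (BbMain.o2L_le_T h.star hk)).2
  have h11 : k * δ * k⁻¹ * δ⁻¹ ∈ W₂ := (hW₁Cm hδ1).2.2 k hkS
  apply hkδ
  apply q1
  refine mem_inf.2 ⟨mem_inf.2 ⟨?_, ?_⟩, h11⟩
  · have hkx : k ∈ centralizer ({x} : Set G) := by
      rw [mem_centralizer_singleton_iff]
      exact (mem_centralizer_iff.mp hkV x h.pt.mem).symm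
    exact mul_mem (conj_mem_of_normalizer (Cfsg.Agent.MinSimple.Geo.centralizer_le_normalizer_ws V x) hkx hδ)
      (inv_mem hδ)
  · exact mul_mem (conj_mem_of_normalizer (OneGen.centralizer_le_normalizer_cws V z) (hSC hkS) hδF.2)
      (inv_mem hδF.2)

/-- `[C_{O₂(C(z))}(ws V z), L] ≤ ws V z` -/
theorem comm (h : Tw T V z x L R J t w) : ∀ c ∈ cq V z, ∀ g ∈ L, c * g * c⁻¹ * g⁻¹ ∈ ws V z :=
  fun _ hc g hg => inv_comm_mem ((h.cq_le hc).2.2 g hg)

end Tw

end Cfsg.Agent.OddCyclic.EN.S7One
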