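import Mathlib
import Cfsg.Agent.OddCyclic.EmpSTB
import Cfsg.Agent.OddCyclic.EO.Fit

/-!
# 2.5 (PERM) of helper217's blueprint S0342-Bb

`L = B ∪ U w B`, the 2-group `U` regular on the points different from `B`; `λ` fixed by `B`, not by `L`: the vectors
`u w λ` are linearly independent, `2^|U| |C_M(A)| ≤ |M| 2^|U : A|` for `A ≤ U`.  (Additive form of helper106's
`EmpSTB.stb`.)
-/

set_option autoImplicit false

namespace Cfsg.Agent.OddCyclic.EN.Perm

open Subgroup Cfsg.Agent.OddCyclic.T1Module Cfsg.Agent.OddCyclic.FFBasic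
open Cfsg.Agent.OddCyclic.EO.Fit (fx mem_fx)

universe u v

variable {X : Type u} {M : Type v} [Group X] [AddCommGroup M] [DistribMulAction X M]

/-- the action as a homomorphism to `MulAut (Multiplicative M)` -/
def hm (X : Type u) (M : Type v) [Group X] [AddCommGroup M] [DistribMulAction X M] :
    X →* MulAut (Multiplicative M) where
  toFun x :=
    { toFun := fun m => Multiplicative.ofAdd (x • m.toAdd)
      invFun := fun m => Multiplicative.ofAdd (x⁻¹ • m.toAdd)
      left_inv := fun m => congrArg Multiplicative.ofAdd (inv_smul_smul x m.toAdd)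
      right_inv := fun m => congrArg Multiplicative.ofAdd (smul_inv_smul x m.toAdd)
      map_mul' := fun m n => congrArg Multiplicative.ofAdd (smul_add x m.toAdd n.toAdd) }
  map_one' := by
    ext m
    exact congrArg Multiplicative.ofAdd (one_smul X m.toAdd)
  map_mul' x y := by
    ext m
    exact congrArg Multiplicative.ofAdd (mul_smul x y m.toAdd)

theorem hm_apply (x : X) (m : Multiplicative M) : (hm X M x m).toAdd = x • m.toAdd := rfl

theorem hm_ofAdd (x : X) (m : M) : hm X M x (Multiplicative.ofAdd m) = Multiplicative.ofAdd (x • m) := rfl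

/-- **PERM** -/
theorem perm [Finite X] [Finite M] (two : ∀ m : M, m + m = 0) {L B U : Subgroup X} {w : X} (hUL : U ≤ L)
    (hw : w ∈ L) (hU : IsPGroup 2 U) (hcov : ∀ x ∈ L, x ∈ B ∨ ∃ u ∈ U, (u * w)⁻¹ * x ∈ B)
    (hwB : ∀ u ∈ U, u * w ∉ B) (hinj : ∀ u ∈ U, w⁻¹ * u * w ∈ B → u = 1) {lam : M}
    (hB : ∀ b ∈ B, b • lam = lam) (hne : ∃ l ∈ L, l • lam ≠ lam) {A : Subgroup X} (hA : A ≤ U) :
    2 ^ Nat.card U * Nat.card (fx A (⊤ : AddSubgroup M)) ≤ Nat.card M * 2 ^ A.relIndex U := by
  set V := Multiplicative M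
  have hV : ∀ v : V, v * v = 1 := fun v => by
    apply Multiplicative.toAdd.injective
    exact two v.toAdd
  set e : V := Multiplicative.ofAdd lam with he
  have hee : e * e = 1 := hV e
  have he1 : e ≠ 1 := by
    intro h
    obtain ⟨l, hl, hn⟩ := hne
    apply hn
    have : lam = 0 := Multiplicative.ofAdd.injective h
    rw [this, smul_zero]
  set V₀ : Subgroup V := zpowers e with hV0
  have hcard0 : Nat.card V₀ = 2 := by
    rw [hV0, Nat.card_zpowers]
    exact orderOf_eq_prime (by rw [pow_two]; exact hee) he1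
  have hV₀ : V₀ ≤ CS (hm X M) B := by
    rw [hV0, zpowers_le]
    intro b hb
    rw [he, hm_ofAdd, hB b hb]
  have hd : V₀ ⊓ CS (hm X M) L = ⊥ := by
    rw [eq_bot_iff]
    rintro v ⟨hv, hv2⟩
    rw [mem_bot]
    obtain ⟨n, rfl⟩ := hv
    rcases Int.emod_two_eq_zero_or_one n with hn | hn
    · obtain ⟨k, hk⟩ := Int.dvd_of_emod_eq_zero hn
      change e ^ n = 1
      rw [hk, zpow_mul]
      have : e ^ (2 : ℤ) = 1 := by rw [zpow_ofNat, pow_two]; exact hee
      rw [this, one_zpow]
    · exfalso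
      have hn' : e ^ n = e := by
        have : n = 2 * (n / 2) + 1 := by omega
        rw [this, zpow_add, zpow_mul, zpow_one]
        have h2 : e ^ (2 : ℤ) = 1 := by rw [zpow_ofNat, pow_two]; exact hee
        rw [h2, one_zpow, one_mul]
      change e ^ n ∈ CS (hm X M) L at hv2
      rw [hn'] at hv2
      obtain ⟨l, hl, hnl⟩ := hne
      apply hnl
      have := hv2 l hl
      rw [he, hm_ofAdd] at this
      exact Multiplicative.ofAdd.injective this
  obtain ⟨N, -, -, h3, h4⟩ := EmpSTB.stb (hm X M) hV hUL hw hU hcov hwB hinj hV₀ hd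
  have h5 := h4 A hA
  rw [hcard0] at h3 h5
  have h6 : Nat.card N * Nat.card (CS (hm X M) A) ≤ Nat.card V * Nat.card (N ⊓ CS (hm X M) A : Subgroup V) := by
    have hcs := Subgroup.card_mul_index (CS (hm X M) A)
    have h7 : (N ⊓ CS (hm X M) A).relIndex N ≤ (CS (hm X M) A).index := by
      rw [inf_relIndex_left]
      exact Nat.le_of_dvd (Nat.pos_of_ne_zero index_ne_zero_of_finite) (relIndex_dvd_index_of_normal _ _)
    have h8 : Nat.card (N ⊓ CS (hm X M) A : Subgroup V) * (N ⊓ CS (hm X M) A).relIndex N = Nat.card N := by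
      have := Subgroup.card_mul_index ((N ⊓ CS (hm X M) A).subgroupOf N)
      rwa [Nat.card_congr (Subgroup.subgroupOfEquivOfLe (inf_le_left : N ⊓ CS (hm X M) A ≤ N)).toEquiv] at this
    calc Nat.card N * Nat.card (CS (hm X M) A)
        = Nat.card (N ⊓ CS (hm X M) A : Subgroup V) * (N ⊓ CS (hm X M) A).relIndex N * Nat.card (CS (hm X M) A) := by
          rw [h8]
      _ ≤ Nat.card (N ⊓ CS (hm X M) A : Subgroup V) * (CS (hm X M) A).index * Nat.card (CS (hm X M) A) :=
          Nat.mul_le_mul_right _ (Nat.mul_le_mul_left _ h7)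
      _ = (Nat.card (CS (hm X M) A) * (CS (hm X M) A).index) * Nat.card (N ⊓ CS (hm X M) A : Subgroup V) := by ring
      _ = _ := by rw [hcs]
  have h9 : Nat.card (fx A (⊤ : AddSubgroup M)) = Nat.card (CS (hm X M) A) := by
    refine Nat.card_congr
      { toFun := fun m => ⟨Multiplicative.ofAdd (m : M), fun a ha => ?_⟩
        invFun := fun m => ⟨(m : V).toAdd, trivial, fun a ha => ?_⟩
        left_inv := fun _ => rfl
        right_inv := fun _ => rfl }
    · rw [hm_ofAdd, m.2.2 a ha]
    · have := m.2 a ha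
      exact congrArg Multiplicative.toAdd this
  rw [h3, h5, ← h9] at h6
  exact h6

end Cfsg.Agent.OddCyclic.EN.Perm
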