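import Mathlib
import Cfsg.Agent.OddCyclic.EN.SevMod
import Cfsg.Agent.OddCyclic.EN.Perm
import Cfsg.Agent.OddCyclic.EN.BbMain
import Cfsg.Agent.OddCyclic.EN.OneStar
import Cfsg.Agent.Lib.NormalAbelian

/-!
# (B-b), types `L₃(2)`, `PGL₂(7)`: the facts on a point `x` and on a critical pair

* `cjRep`: the module `ws V x / ⟨x⟩` at all points, with the same `M`, `X`;
* `Pf V z J x R`: `(RED)`, `(RR)`, `(Z)`, `(f3)` at `x`; `Pf.cj`;
* `Cp`: an (ordered) critical pair; `Cp.index_le`, `Cp.E_le`, `Cp.E_eq_one`.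
-/

set_option autoImplicit false
set_option linter.unusedSectionVars false

namespace Cfsg.Agent.OddCyclic.EN.SevPt

open Subgroup Cfsg Cfsg.Agent.ZN Cfsg.Agent.MinSimple.Geo Cfsg.Agent.OddCyclic.GeoC Cfsg.Agent.OddCyclic.BTwoA
  Cfsg.Agent.OddCyclic.EN.Line Cfsg.Agent.OddCyclic.EN.Base Cfsg.Agent.MinSimple.SecRep
  Cfsg.Agent.OddCyclic.EN.RepM Cfsg.Agent.OddCyclic.EN.Perm Cfsg.Agent.OddCyclic.T1Module
  Cfsg.Agent.OddCyclic.FFBasic Cfsg.Agent.OddCyclic.EN.SevGrp Cfsg.Agent.OddCyclic.EN.SevMod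
  Cfsg.Agent.OddCyclic.FFThree Cfsg.Agent.OddCyclic.FFSl2
open Cfsg.Agent.ZN.Block (conj_mem_of_normalizer conj_mem_of_normalizer' le_normalizer_of_forall
  mem_normalizer_of)

universe u

variable {G : Type u} [Group G]

/-! ### the module at a conjugate point -/

section cjRep

variable {V : Subgroup G} {x : G} {M X : Type u} [AddCommGroup M] [Group X] [DistribMulAction X M]

theorem mem_ws_conj {g w : G} : g⁻¹ * w * g ∈ ws V x ↔ w ∈ ws V (g * x * g⁻¹) := by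
  rw [← cj_ws, mem_cj]

theorem mem_kq_conj {g w : G} : g⁻¹ * w * g ∈ kq V x ↔ w ∈ kq V (g * x * g⁻¹) := by
  rw [← Base.cj_kq, mem_cj]

theorem mem_centralizer_conj {g w : G} :
    g⁻¹ * w * g ∈ centralizer ({x} : Set G) ↔ w ∈ centralizer ({g * x * g⁻¹} : Set G) := by
  rw [← cj_centralizer_singleton, mem_cj]

theorem mem_zpowers_conj {g w : G} : g⁻¹ * w * g ∈ zpowers x ↔ w ∈ zpowers (g * x * g⁻¹) := by
  constructor
  · rintro ⟨n, hn⟩
    refine ⟨n, ?_⟩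
    show (g * x * g⁻¹) ^ n = w
    rw [conj_zpow]
    have : x ^ n = g⁻¹ * w * g := hn
    rw [this]; group
  · rintro ⟨n, hn⟩
    refine ⟨n, ?_⟩
    show x ^ n = g⁻¹ * w * g
    have : (g * x * g⁻¹) ^ n = w := hn
    rw [conj_zpow] at this
    rw [← this]; group

/-- the module at the point `g x g⁻¹` -/
def cjRep (R : Rep V x M X) (g : G) : Rep V (g * x * g⁻¹) M X where
  pi w := R.pi (g⁻¹ * w * g)
  rho c := R.rho (g⁻¹ * c * g)
  W_le := by
    intro w hw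
    rw [← mem_ws_conj] at hw
    exact mem_centralizer_conj.mp (R.W_le hw)
  W_norm := Cfsg.Agent.MinSimple.Geo.centralizer_le_normalizer_ws V _
  pi_mul := by
    intro a ha b hb
    rw [← mem_ws_conj] at ha hb
    have e : g⁻¹ * (a * b) * g = (g⁻¹ * a * g) * (g⁻¹ * b * g) := by group
    rw [e, R.pi_mul _ ha _ hb]
  pi_eq_zero := by
    intro a ha
    rw [← mem_ws_conj] at ha
    rw [R.pi_eq_zero _ ha, mem_zpowers_conj]
  pi_surj := by
    intro m
    obtain ⟨a, ha, rfl⟩ := R.pi_surj m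
    refine ⟨g * a * g⁻¹, ?_, ?_⟩
    · rw [← mem_ws_conj]
      have e : g⁻¹ * (g * a * g⁻¹) * g = a := by group
      rwa [e]
    · congr 1; group
  rho_mul := by
    intro a ha b hb
    rw [← mem_centralizer_conj] at ha hb
    have e : g⁻¹ * (a * b) * g = (g⁻¹ * a * g) * (g⁻¹ * b * g) := by group
    rw [e, R.rho_mul _ ha _ hb]
  rho_surj := by
    intro m
    obtain ⟨a, ha, rfl⟩ := R.rho_surj m
    refine ⟨g * a * g⁻¹, ?_, ?_⟩
    · rw [← mem_centralizer_conj]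
      have e : g⁻¹ * (g * a * g⁻¹) * g = a := by group
      rwa [e]
    · congr 1; group
  smul_pi := by
    intro c hc w hw
    rw [← mem_centralizer_conj] at hc
    rw [← mem_ws_conj] at hw
    rw [R.smul_pi _ hc _ hw]
    congr 1; group
  faithful := R.faithful

theorem cjRep_pi (R : Rep V x M X) (g w : G) : (cjRep R g).pi w = R.pi (g⁻¹ * w * g) := rfl

theorem cjRep_rho (R : Rep V x M X) (g w : G) : (cjRep R g).rho w = R.rho (g⁻¹ * w * g) := rfl

end cjRep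

/-! ### facts on a point -/

/-- (RED), (RR), (Z), (f3) at the point `x` -/
structure Pf (V : Subgroup G) (z : G) {M X : Type u} [AddCommGroup M] [Group X] [DistribMulAction X M]
    (J : Subgroup X) (x : G) (R : Rep V x M X) : Prop where
  red : ∀ w ∈ ws V x, (∀ k ∈ kq V x, k * w = w * k) → ∀ j ∈ J, j • R.pi w = R.pi w
  rr : ∀ v ∈ ws V x, Pt z v → v ≠ x → ∃ k ∈ kq V x, k * v ≠ v * k
  zz : ∀ v ∈ ws V x, Pt z v → v ≠ x → (∃ P : Sylow 2 X, ∀ g ∈ P, g • R.pi v = R.pi v) → Col V x v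
  k3 : ∀ g ∈ kq V x, orderOf g ≠ 3

theorem orderOf_conj (g x : G) : orderOf (g⁻¹ * x * g) = orderOf x :=
  (SemiconjBy.orderOf_eq (x := x) (y := g⁻¹ * x * g) g⁻¹ (by
    show g⁻¹ * x = g⁻¹ * x * g * g⁻¹
    group)).symm

section Pf

variable {V : Subgroup G} {z x : G} {M X : Type u} [AddCommGroup M] [Group X] [DistribMulAction X M]
  {J : Subgroup X} {R : Rep V x M X}

theorem Pf.cj (h : Pf V z J x R) (g : G) : Pf V z J (g * x * g⁻¹) (cjRep R g) where
  red := by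
    intro w hw hk j hj
    rw [← mem_ws_conj] at hw
    refine h.red _ hw (fun k hk' => ?_) j hj
    have h1 : g * k * g⁻¹ ∈ kq V (g * x * g⁻¹) := by
      rw [← mem_kq_conj]
      have e : g⁻¹ * (g * k * g⁻¹) * g = k := by group
      rwa [e]
    have h2 := hk _ h1
    calc k * (g⁻¹ * w * g) = g⁻¹ * (g * k * g⁻¹ * w) * g := by group
      _ = g⁻¹ * (w * (g * k * g⁻¹)) * g := by rw [h2]
      _ = g⁻¹ * w * g * k := by group
  rr := by
    intro v hv hp hne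
    rw [← mem_ws_conj] at hv
    obtain ⟨k, hk, hkv⟩ := h.rr (g⁻¹ * v * g) hv (by
      have := hp.conj g⁻¹
      rwa [inv_inv] at this) (fun e => hne (by rw [← e]; group))
    refine ⟨g * k * g⁻¹, ?_, fun e => hkv ?_⟩
    · rw [← mem_kq_conj]
      have e : g⁻¹ * (g * k * g⁻¹) * g = k := by group
      rwa [e]
    · calc k * (g⁻¹ * v * g) = g⁻¹ * (g * k * g⁻¹ * v) * g := by group
        _ = g⁻¹ * (v * (g * k * g⁻¹)) * g := by rw [e]
        _ = g⁻¹ * v * g * k := by group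
  zz := by
    intro v hv hp hne hP
    rw [← mem_ws_conj] at hv
    have h1 := h.zz (g⁻¹ * v * g) hv (by
      have := hp.conj g⁻¹
      rwa [inv_inv] at this) (fun e => hne (by rw [← e]; group)) hP
    have h2 := h1.conj g
    have e : g * (g⁻¹ * v * g) * g⁻¹ = v := by group
    rwa [e] at h2
  k3 := by
    intro k hk e
    rw [← mem_kq_conj] at hk
    exact h.k3 _ hk (by rw [orderOf_conj]; exact e)

end Pf

/-! ### computations at a point -/

section point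

variable [Finite G] {T V : Subgroup G} {z x : G} {M X : Type u} [AddCommGroup M] [Group X] [DistribMulAction X M]

/-- `σ` -/
local notation "σ" => hm X M
local notation "mk" => (Multiplicative.ofAdd : M → Multiplicative M)

theorem sq_mk (h : Ab T V z) (hx : Pt z x) (R : Rep V x M X) (v : Multiplicative M) : v * v = 1 :=
  Multiplicative.toAdd.injective (Rep.two h hx R v.toAdd)

theorem act (R : Rep V x M X) {c w : G} (hc : c ∈ centralizer ({x} : Set G)) (hw : w ∈ ws V x) :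
    σ (R.rho c) (mk (R.pi w)) = mk (R.pi (c * w * c⁻¹)) := by
  rw [hm_ofAdd, R.smul_pi c hc w hw]

theorem cm_act (R : Rep V x M X) {c w : G} (hc : c ∈ centralizer ({x} : Set G)) (hw : w ∈ ws V x) :
    cm σ (R.rho c) (mk (R.pi w)) = mk (R.pi (c * w * c⁻¹ * w⁻¹)) := by
  rw [cm_apply, act R hc hw, R.pi_mul _ (R.conj_mem hc hw) _ (inv_mem hw), R.pi_inv hw]
  rfl

/-- `pi` as a homomorphism -/
def pim (R : Rep V x M X) : ws V x →* Multiplicative M where
  toFun w := mk (R.pi w)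
  map_one' := by rw [OneMemClass.coe_one, R.pi_one]; rfl
  map_mul' a b := by rw [Subgroup.coe_mul, R.pi_mul _ a.2 _ b.2]; rfl

theorem pim_surj (R : Rep V x M X) : Function.Surjective (pim R) := by
  intro m
  obtain ⟨w, hw, e⟩ := R.pi_surj m.toAdd
  exact ⟨⟨w, hw⟩, by show mk (R.pi w) = m; rw [e]; rfl⟩

end point

/-! ### critical pairs -/

section crit

variable [Finite G] {T V : Subgroup G} {z p q : G} {n : ℕ} {M X : Type u} [AddCommGroup M] [Group X]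
  [DistribMulAction X M] {J : Subgroup X} {lam : M} {Rp : Rep V p M X} {Rq : Rep V q M X}

local notation "σ" => hm X M
local notation "mk" => (Multiplicative.ofAdd : M → Multiplicative M)

/-- an (ordered) critical pair `p`, `q` -/
structure Cp (T V : Subgroup G) (z : G) (n : ℕ) (J : Subgroup X) (lam : M) (p q : G) (Rp : Rep V p M X)
    (Rq : Rep V q M X) : Prop where
  abn : AbN T V z n
  crit : Crit V z n p q
  fp : Pf V z J p Rp
  fq : Pf V z J q Rq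
  sit : Sit (hm X M) J (Multiplicative.ofAdd lam)

namespace Cp

theorem symm (h : Cp T V z n J lam p q Rp Rq) : Cp T V z n J lam q p Rq Rp :=
  ⟨h.abn, h.crit.symm h.abn.toAb, h.fq, h.fp, h.sit⟩

variable (h : Cp T V z n J lam p q Rp Rq)
include h

theorem pp : Pt z p := h.crit.pt
theorem pq : Pt z q := h.crit.pt' h.abn.toGeoC
theorem p_mem : p ∈ ws V p := self_mem_ws h.abn.toGeoC h.pp
theorem q_mem : q ∈ ws V q := self_mem_ws h.abn.toGeoC h.pq
theorem p1 : p ≠ 1 := Base.Pt.ne_one h.abn.toGeoC h.pp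
theorem q1 : q ≠ 1 := Base.Pt.ne_one h.abn.toGeoC h.pq
theorem p2 : p * p = 1 := Base.Pt.sq h.abn.toGeoC h.pp
theorem q2 : q * q = 1 := Base.Pt.sq h.abn.toGeoC h.pq

/-- `Q ≤ C(p)` -/
theorem Q_le : ws V q ≤ centralizer ({p} : Set G) := h.crit.ws_le_centralizer h.abn
theorem P_le : ws V p ≤ centralizer ({q} : Set G) := (h.crit.symm h.abn.toAb).ws_le_centralizer h.abn

theorem ne : p ≠ q := by
  rintro rfl
  obtain ⟨_, _, a, ha, b, hb, hab⟩ := h.crit
  exact hab (ws_comm h.abn.toAb h.pp ha hb)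

theorem pP {a : G} (ha : a ∈ ws V p) : a * p = p * a := ws_comm h.abn.toAb h.pp ha h.p_mem
theorem qQ {b : G} (hb : b ∈ ws V q) : b * q = q * b := ws_comm h.abn.toAb h.pq hb h.q_mem
theorem pQ {b : G} (hb : b ∈ ws V q) : b * p = p * b := mem_centralizer_singleton_iff.mp (h.Q_le hb)
theorem qP {a : G} (ha : a ∈ ws V p) : a * q = q * a := mem_centralizer_singleton_iff.mp (h.P_le ha)

theorem c_mem {a b : G} (ha : a ∈ ws V p) (hb : b ∈ ws V q) : a * b * a⁻¹ * b⁻¹ ∈ ws V p ⊓ ws V q :=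
  h.crit.comm_mem h.abn ha hb

theorem comm_p {k : G} (hk : k ∈ kq V p) {a : G} (ha : a ∈ ws V p) : k * a * k⁻¹ = a ∨ k * a * k⁻¹ = p * a := by
  rcases (mem_zpowers_iff_of_mul_self h.p2).mp ((mem_kq0.mp hk).2.1 a ha) with e | e
  · left
    calc k * a * k⁻¹ = (k * a * k⁻¹ * a⁻¹) * a := by group
      _ = a := by rw [e, one_mul]
  · right
    calc k * a * k⁻¹ = (k * a * k⁻¹ * a⁻¹) * a := by group
      _ = p * a := by rw [e]

theorem P_kq : ws V p ≤ kq V p := by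
  intro w hw
  have h1 : ∀ a ∈ ws V p, w * a = a * w := fun a ha => ws_comm h.abn.toAb h.pp hw ha
  have h2 : ∀ a ∈ ws V p, w * a * w⁻¹ * a⁻¹ ∈ zpowers p := fun a ha => by
    rw [h1 a ha, mul_inv_cancel_right, mul_inv_cancel]; exact one_mem _
  have h3 : ∀ a ∈ ws V p, w⁻¹ * a * w * a⁻¹ ∈ zpowers p := fun a ha => by
    have e : w⁻¹ * a * w = a := by rw [mul_assoc, ← h1 a ha, inv_mul_cancel_left]
    rw [e, mul_inv_cancel]; exact one_mem _
  exact mem_kq0.mpr ⟨mem_centralizer_singleton_iff.mpr (h.pP hw), h2, h3⟩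

/-- bilinearity of the commutator, left -/
theorem c_mul_left {a a' b : G} (ha : a ∈ ws V p) (ha' : a' ∈ ws V p) (hb : b ∈ ws V q) :
    (a * a') * b * (a * a')⁻¹ * b⁻¹ = (a * b * a⁻¹ * b⁻¹) * (a' * b * a'⁻¹ * b⁻¹) := by
  have h1 := (h.c_mem ha' hb).1
  have h2 := (h.c_mem ha hb).1
  have e : (a * a') * b * (a * a')⁻¹ * b⁻¹ = (a * (a' * b * a'⁻¹ * b⁻¹) * a⁻¹) * (a * b * a⁻¹ * b⁻¹) := by group
  rw [e, ws_comm h.abn.toAb h.pp ha h1, mul_inv_cancel_right, ws_comm h.abn.toAb h.pp h1 h2]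

theorem c_mul_right {a b b' : G} (ha : a ∈ ws V p) (hb : b ∈ ws V q) (hb' : b' ∈ ws V q) :
    a * (b * b') * a⁻¹ * (b * b')⁻¹ = (a * b * a⁻¹ * b⁻¹) * (a * b' * a⁻¹ * b'⁻¹) := by
  have h1 := (h.c_mem ha hb').2
  have e : a * (b * b') * a⁻¹ * (b * b')⁻¹ = (a * b * a⁻¹ * b⁻¹) * (b * (a * b' * a⁻¹ * b'⁻¹) * b⁻¹) := by group
  rw [e, ws_comm h.abn.toAb h.pq hb h1, mul_inv_cancel_right]

/-- `[a,b] = [b,a]` -/
theorem c_swap {a b : G} (ha : a ∈ ws V p) (hb : b ∈ ws V q) : b * a * b⁻¹ * a⁻¹ = a * b * a⁻¹ * b⁻¹ := by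
  have h1 := ws_inv h.abn.toAb h.pp (h.c_mem ha hb).1
  rw [← h1]; group

/-- the module at `p` -/
theorem cmP {a b : G} (ha : a ∈ ws V p) (hb : b ∈ ws V q) :
    cm σ (Rp.rho b) (mk (Rp.pi a)) = mk (Rp.pi (a * b * a⁻¹ * b⁻¹)) := by
  rw [cm_act Rp (h.Q_le hb) ha, h.c_swap ha hb]

/-- elements of `Q ∩ K_p`: the commutators with `P` lie in `⟨p⟩` -/
theorem c_kq {a b : G} (ha : a ∈ ws V p) (hb : b ∈ ws V q) (hbk : b ∈ kq V p) :
    a * b * a⁻¹ * b⁻¹ = 1 ∨ a * b * a⁻¹ * b⁻¹ = p := by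
  rw [← h.c_swap ha hb]
  exact (mem_zpowers_iff_of_mul_self h.p2).mp ((mem_kq0.mp hbk).2.1 a ha)

theorem mem_kq_of {b : G} (hb : b ∈ ws V q) (hc : ∀ a ∈ ws V p, a * b * a⁻¹ * b⁻¹ = 1 ∨ a * b * a⁻¹ * b⁻¹ = p) :
    b ∈ kq V p := by
  rw [← Rep.rho_eq_one Rp (h.Q_le hb)]
  rw [Rp.rho_eq_one_iff (h.Q_le hb)]
  intro a ha
  rw [h.c_swap ha hb]
  exact (mem_zpowers_iff_of_mul_self h.p2).mpr (hc a ha)

/-- `A' = Rp.img Q` is elementary abelian -/
theorem img_sq : ∀ t ∈ Rp.img (ws V q), t * t = 1 := by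
  intro t ht
  obtain ⟨b, hb, rfl⟩ := (Rp.mem_img h.Q_le).mp ht
  rw [← Rp.rho_mul b (h.Q_le hb) b (h.Q_le hb), Base.ws_sq h.abn.toAb h.pq hb, Rp.rho_one]

theorem quad : ∀ t ∈ Rp.img (ws V q), ∀ t' ∈ Rp.img (ws V q), ∀ v, σ t' (cm σ t v) = cm σ t v := by
  intro t ht t' ht' v
  obtain ⟨b, hb, rfl⟩ := (Rp.mem_img h.Q_le).mp ht
  obtain ⟨b', hb', rfl⟩ := (Rp.mem_img h.Q_le).mp ht'
  obtain ⟨a, ha, e⟩ := Rp.pi_surj v.toAdd
  have hv : v = mk (Rp.pi a) := by rw [e]; rfl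
  have h1 := h.c_mem ha hb
  rw [hv, h.cmP ha hb, act Rp (h.Q_le hb') h1.1, ws_comm h.abn.toAb h.pq hb' h1.2, mul_inv_cancel_right]

/-! ### indices -/

/-- `|M : C_M(A')| ≤ |P : C_P(Q)|` -/
theorem CS_index_le : (CS σ (Rp.img (ws V q))).index ≤ (centralizer (ws V q : Set G)).relIndex (ws V p) := by
  set S := (centralizer (ws V q : Set G)).subgroupOf (ws V p) with hS
  have h1 : S.map (pim Rp) ≤ CS σ (Rp.img (ws V q)) := by
    rintro _ ⟨a, ha, rfl⟩
    intro t ht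
    obtain ⟨b, hb, rfl⟩ := (Rp.mem_img h.Q_le).mp ht
    have hab : b * a = a * b := mem_centralizer_iff.mp ha b hb
    show σ (Rp.rho b) (mk (Rp.pi a)) = mk (Rp.pi a)
    rw [act Rp (h.Q_le hb) a.2, hab, mul_inv_cancel_right]
  have h2 : (S.map (pim Rp)).index ∣ S.index := Subgroup.index_map_dvd S (pim_surj Rp)
  have : Finite M := Rp.finite_left
  have h3 : (CS σ (Rp.img (ws V q))).index ≤ (S.map (pim Rp)).index := index_le_of_le h1
  have h4 : S.index ≠ 0 := index_ne_zero_of_finite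
  exact h3.trans (Nat.le_of_dvd (Nat.pos_of_ne_zero h4) h2)

/-- `E = |P ∩ K_q : C(Q)|` -/
theorem CQ_le : centralizer (ws V q : Set G) ≤ kq V q := by
  intro w hw
  have h1 : ∀ a ∈ ws V q, w * a = a * w := fun a ha => (mem_centralizer_iff.mp hw a ha).symm
  have h2 : ∀ a ∈ ws V q, w * a * w⁻¹ * a⁻¹ ∈ zpowers q := fun a ha => by
    rw [h1 a ha, mul_inv_cancel_right, mul_inv_cancel]; exact one_mem _
  have h3 : ∀ a ∈ ws V q, w⁻¹ * a * w * a⁻¹ ∈ zpowers q := fun a ha => by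
    have e : w⁻¹ * a * w = a := by rw [mul_assoc, ← h1 a ha, inv_mul_cancel_left]
    rw [e, mul_inv_cancel]; exact one_mem _
  exact mem_kq0.mpr ⟨mem_centralizer_singleton_iff.mpr (h1 q h.q_mem), h2, h3⟩

theorem relIndex_eq : (centralizer (ws V q : Set G)).relIndex (ws V p) =
    Nat.card (Rq.img (ws V p)) * (centralizer (ws V q : Set G)).relIndex (ws V p ⊓ kq V q) := by
  set CQ := centralizer (ws V q : Set G) with hCQ
  have h1 := Subgroup.relIndex_mul_relIndex (CQ ⊓ ws V p) (ws V p ⊓ kq V q) (ws V p)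
    (le_inf inf_le_right (inf_le_left.trans h.CQ_le)) inf_le_left
  rw [inf_relIndex_right] at h1
  have h2 : (CQ ⊓ ws V p).relIndex (ws V p ⊓ kq V q) = CQ.relIndex (ws V p ⊓ kq V q) := by
    rw [← inf_relIndex_right (CQ ⊓ ws V p), ← inf_relIndex_right CQ]
    congr 1
    rw [inf_assoc, ← inf_assoc (ws V p), inf_idem]
  have h3 : (ws V p ⊓ kq V q).relIndex (ws V p) = Nat.card (Rq.img (ws V p)) := by
    have h4 := OneStar.card_img Rq (H := ws V p) h.P_le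
    have h5 : Nat.card ↥(ws V p ⊓ kq V q) * (ws V p ⊓ kq V q).relIndex (ws V p) = Nat.card (ws V p) := by
      have := Subgroup.card_mul_index ((ws V p ⊓ kq V q).subgroupOf (ws V p))
      rwa [Nat.card_congr (Subgroup.subgroupOfEquivOfLe (inf_le_left : ws V p ⊓ kq V q ≤ ws V p)).toEquiv] at this
    have h6 : 0 < Nat.card ↥(ws V p ⊓ kq V q) := Nat.card_pos
    rw [h4, mul_comm] at h5
    exact Nat.eq_of_mul_eq_mul_right h6 h5
  rw [h2, h3] at h1
  rw [← h1, mul_comm]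

/-- `E ≤ |A'|` -/
theorem E_le : (centralizer (ws V q : Set G)).relIndex (ws V p ⊓ kq V q) ≤ Nat.card (Rp.img (ws V q)) := by
  set CQ := centralizer (ws V q : Set G) with hCQ
  set D := ws V p ⊓ kq V q with hD
  have h1 := PiSec.card_pair h.q2 (D := D) (B := ws V q) (B₀ := ws V q ⊓ kq V p) inf_le_left
    (fun d hd b hb => by
      rw [← h.c_swap hd.1 hb]
      exact h.symm.c_kq hb hd.1 hd.2)
    (fun d hd => h.qP hd.1)
    (fun d hd b hb => by
      have h2 := h.c_kq hd.1 hb.1 hb.2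
      have h3 : d * b * d⁻¹ * b⁻¹ = 1 ∨ d * b * d⁻¹ * b⁻¹ = q := by
        rw [← h.c_swap hd.1 hb.1]
        exact h.symm.c_kq hb.1 hd.1 hd.2
      have h4 : d * b * d⁻¹ * b⁻¹ = 1 := by
        rcases h2 with e | e
        · exact e
        · rcases h3 with e' | e'
          · exact e'
          · exact absurd (e.symm.trans e') h.ne
      rw [mul_inv_eq_one] at h4
      exact mul_inv_eq_iff_eq_mul.mp h4)
  have h2 := OneStar.card_img Rp (H := ws V q) h.Q_le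
  have h3 : Nat.card ↥(D ⊓ CQ) * CQ.relIndex D = Nat.card D := by
    have := Subgroup.card_mul_index ((D ⊓ CQ).subgroupOf D)
    rw [Nat.card_congr (Subgroup.subgroupOfEquivOfLe (inf_le_left : D ⊓ CQ ≤ D)).toEquiv] at this
    rw [← inf_relIndex_left D CQ]
    exact this
  rw [h2, ← h3] at h1
  have h4 : 0 < Nat.card ↥(D ⊓ CQ) := Nat.card_pos
  have h5 : 0 < Nat.card ↥(ws V q ⊓ kq V p) := Nat.card_pos
  refine Nat.le_of_mul_le_mul_left (?_ : Nat.card ↥(D ⊓ CQ) * Nat.card ↥(ws V q ⊓ kq V p) * _ ≤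
    Nat.card ↥(D ⊓ CQ) * Nat.card ↥(ws V q ⊓ kq V p) * _) (Nat.mul_pos h4 h5)
  calc Nat.card ↥(D ⊓ CQ) * Nat.card ↥(ws V q ⊓ kq V p) * CQ.relIndex D
      = Nat.card ↥(D ⊓ CQ) * CQ.relIndex D * Nat.card ↥(ws V q ⊓ kq V p) := by ring
    _ ≤ Nat.card ↥(D ⊓ CQ) * (Nat.card (Rp.img (ws V q)) * Nat.card ↥(ws V q ⊓ kq V p)) := h1
    _ = _ := by ring

/-- `E ≠ 1` ⇒ `q = [d, b]` -/
theorem exists_q (hE : (centralizer (ws V q : Set G)).relIndex (ws V p ⊓ kq V q) ≠ 1) :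
    ∃ d ∈ ws V p, d ∈ kq V q ∧ ∃ b ∈ ws V q, d * b * d⁻¹ * b⁻¹ = q := by
  by_contra hcon
  push Not at hcon
  apply hE
  rw [relIndex_eq_one]
  intro d hd
  rw [mem_centralizer_iff]
  intro b hb
  have h3 : d * b * d⁻¹ * b⁻¹ = 1 ∨ d * b * d⁻¹ * b⁻¹ = q := by
    rw [← h.c_swap hd.1 hb]
    exact h.symm.c_kq hb hd.1 hd.2
  rcases h3 with e | e
  · rw [mul_inv_eq_one] at e
    exact (mul_inv_eq_iff_eq_mul.mp e).symm
  · exact absurd e (hcon d hd.1 hd.2 b hb)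

theorem q_mem_of (hE : (centralizer (ws V q : Set G)).relIndex (ws V p ⊓ kq V q) ≠ 1) : q ∈ ws V p := by
  obtain ⟨d, hd, -, b, hb, e⟩ := h.exists_q hE
  rw [← e]
  exact (h.c_mem hd hb).1

/-- `|M : C_M(A')| ≤ |A| E` -/
theorem index_le : (CS σ (Rp.img (ws V q))).index ≤
    Nat.card (Rq.img (ws V p)) * (centralizer (ws V q : Set G)).relIndex (ws V p ⊓ kq V q) := by
  rw [← h.relIndex_eq]; exact h.CS_index_le

/-- (F1) at `q` -/
theorem exists_pair {a : G} (ha : a ∈ ws V p) (hk : a ∉ kq V q) : ∃ b ∈ ws V q, ∃ b' ∈ ws V q,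
    mk (Rq.pi (a * b * a⁻¹ * b⁻¹)) ∉ CS σ J ∧ mk (Rq.pi (a * b' * a⁻¹ * b'⁻¹)) ∉ CS σ J ∧
    mk (Rq.pi ((a * b * a⁻¹ * b⁻¹) * (a * b' * a⁻¹ * b'⁻¹))) ∉ CS σ J := by
  have : Finite M := Rp.finite_left
  have : Finite X := Rp.finite_right
  have h1 : Rq.rho a ≠ 1 := fun e => hk ((Rep.rho_eq_one Rq (h.P_le ha)).mp e)
  have h2 : Rq.rho a * Rq.rho a = 1 := h.symm.img_sq _ (Rq.rho_mem_img h.P_le ha)
  obtain ⟨v, w, hv, hw, hvw⟩ := h.sit.exists_pair h1 h2
  obtain ⟨b, hb, e⟩ := Rq.pi_surj v.toAdd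
  obtain ⟨b', hb', e'⟩ := Rq.pi_surj w.toAdd
  have ev : v = mk (Rq.pi b) := by rw [e]; rfl
  have ew : w = mk (Rq.pi b') := by rw [e']; rfl
  have hc : ∀ b ∈ ws V q, cm σ (Rq.rho a) (mk (Rq.pi b)) = mk (Rq.pi (a * b * a⁻¹ * b⁻¹)) := fun b hb => by
    rw [cm_act Rq (h.P_le ha) hb]
  refine ⟨b, hb, b', hb', ?_, ?_, ?_⟩
  · rw [← hc b hb, ← ev]; exact hv
  · rw [← hc b' hb', ← ew]; exact hw
  · rw [Rq.pi_mul _ (h.c_mem ha hb).2 _ (h.c_mem ha hb').2, ofAdd_add, ← hc b hb, ← hc b' hb', ← ev, ← ew, ← map_mul]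
    exact hvw

/-- **(V)** `A' ≠ 1` -/
theorem exists_not_kq : ∃ b ∈ ws V q, b ∉ kq V p := by
  by_contra hcon
  push Not at hcon
  have hc : ∀ a ∈ ws V p, ∀ b ∈ ws V q, a * b * a⁻¹ * b⁻¹ = 1 ∨ a * b * a⁻¹ * b⁻¹ = p := fun a ha b hb =>
    h.c_kq ha hb (hcon b hb)
  have hone : mk (Rq.pi 1) ∈ CS σ J := by
    rw [Rq.pi_one]; exact one_mem _
  by_cases hA : ∃ a ∈ ws V p, a ∉ kq V q
  · obtain ⟨a, ha, hak⟩ := hA
    obtain ⟨b, hb, b', hb', h1, h2, h3⟩ := h.exists_pair ha hak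
    rcases hc a ha b hb with e | e
    · rw [e] at h1; exact h1 hone
    · rcases hc a ha b' hb' with e' | e'
      · rw [e'] at h2; exact h2 hone
      · rw [e, e', h.p2] at h3; exact h3 hone
  · push Not at hA
    obtain ⟨_, _, a, ha, b, hb, hab⟩ := h.crit
    apply hab
    have h1 := hc a ha b hb
    have h2 : a * b * a⁻¹ * b⁻¹ = 1 ∨ a * b * a⁻¹ * b⁻¹ = q := by
      rw [← h.c_swap ha hb]
      exact h.symm.c_kq hb ha (hA a ha)
    have h4 : a * b * a⁻¹ * b⁻¹ = 1 := by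
      rcases h1 with e | e
      · exact e
      · rcases h2 with e' | e'
        · exact e'
        · exact absurd (e.symm.trans e') h.ne
    rw [mul_inv_eq_one] at h4
    exact mul_inv_eq_iff_eq_mul.mp h4

theorem img_ne_bot : Rp.img (ws V q) ≠ ⊥ := by
  intro e
  obtain ⟨b, hb, hbk⟩ := h.exists_not_kq
  apply hbk
  rw [← Rep.rho_eq_one Rp (h.Q_le hb), ← mem_bot, ← e]
  exact Rp.rho_mem_img h.Q_le hb

theorem card_cases : Nat.card (Rp.img (ws V q)) = 2 ∨ Nat.card (Rp.img (ws V q)) = 4 := by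
  have : Finite X := Rp.finite_right
  have h1 := h.sit.card_le_four h.img_sq
  have h2 : Nat.card (Rp.img (ws V q)) ≠ 1 := fun e => h.img_ne_bot (Subgroup.card_eq_one.mp e)
  have h3 : IsPGroup 2 (Rp.img (ws V q)) := by
    intro t
    refine ⟨1, Subtype.ext ?_⟩
    rw [pow_one, pow_two]
    exact h.img_sq _ t.2
  obtain ⟨k, hk⟩ := IsPGroup.iff_card.mp h3
  have h4 : 0 < Nat.card (Rp.img (ws V q)) := Nat.card_pos
  rw [hk] at h1 h2 ⊢
  have : k < 3 := by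
    by_contra hd2
    have := Nat.pow_le_pow_right (n := 2) (by norm_num) (not_lt.1 hd2)
    omega
  interval_cases k <;> omega

/-- **(*)** `p ∈ Q`, `|A'| = 4` is impossible -/
theorem star (hpQ : p ∈ ws V q) (h4 : Nat.card (Rp.img (ws V q)) = 4) : False := by
  have hX : Finite X := Rp.finite_right
  have hA : IsFour (Rp.img (ws V q)) := ⟨h4, h.img_sq⟩
  obtain ⟨t1, ht1, t2, ht2, hfour, hmem⟩ := hA.exists_four
  -- `k ∈ K_q` commuting with `p` centralises `P ∩ Q`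
  have key : ∀ k ∈ kq V q, k * p = p * k → ∀ r ∈ ws V p ⊓ ws V q, k * r = r * k := by
    intro k hk hkp r hr
    have hkC : k ∈ centralizer ({p} : Set G) := mem_centralizer_singleton_iff.mpr hkp
    have hcomm : ∀ t ∈ Rp.img (ws V q), Rp.rho k * t = t * Rp.rho k := by
      intro t ht
      obtain ⟨b, hb, rfl⟩ := (Rp.mem_img h.Q_le).mp ht
      have h1 := h.symm.comm_p hk hb
      have hq1 : Rp.rho q = 1 := by
        rw [Rp.rho_eq_one_iff (h.Q_le h.q_mem)]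
        intro w hw
        have e : q * w * q⁻¹ * w⁻¹ = 1 := by rw [← h.qP hw]; group
        rw [e]; exact one_mem _
      have h2 : Rp.rho (k * b * k⁻¹) = Rp.rho b := by
        rcases h1 with e | e
        · rw [e]
        · rw [e, Rp.rho_mul _ (h.Q_le h.q_mem) _ (h.Q_le hb), hq1, one_mul]
      rw [Rp.rho_conj hkC (h.Q_le hb)] at h2
      exact mul_inv_eq_iff_eq_mul.mp h2
    have h5 : Rp.rho k ∈ Rp.img (ws V q) := by
      rcases h.sit.cent_four hfour (hcomm t1 ht1) (hcomm t2 ht2) with e | e | e | e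
      · rw [e]; exact one_mem _
      · rw [e]; exact ht1
      · rw [e]; exact ht2
      · rw [e]; exact mul_mem ht1 ht2
    obtain ⟨v, hv, hvk⟩ := (Rp.mem_img h.Q_le).mp h5
    have h6 : v⁻¹ * k ∈ kq V p := by
      rw [← Rep.rho_eq_one Rp (mul_mem (inv_mem (h.Q_le hv)) hkC), Rp.rho_mul _ (inv_mem (h.Q_le hv)) _ hkC,
        Rp.rho_inv (h.Q_le hv), hvk, inv_mul_cancel]
    have h7 : v⁻¹ * k ∈ kq V q := mul_mem (inv_mem (h.symm.P_kq hv)) hk
    have h8 := h.comm_p h6 hr.1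
    have h9 := h.symm.comm_p h7 hr.2
    have h10 : (v⁻¹ * k) * r * (v⁻¹ * k)⁻¹ = r := by
      rcases h8 with e | e
      · exact e
      · rcases h9 with e' | e'
        · exact e'
        · exact absurd (mul_right_cancel (e.symm.trans e')) h.ne
    have h11 : (v⁻¹ * k) * r = r * (v⁻¹ * k) := mul_inv_eq_iff_eq_mul.mp h10
    have h12 : v * r = r * v := ws_comm h.abn.toAb h.pq hv hr.2
    calc k * r = v * ((v⁻¹ * k) * r) := by group
      _ = v * (r * (v⁻¹ * k)) := by rw [h11]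
      _ = (v * r) * (v⁻¹ * k) := by group
      _ = r * k := by rw [h12]; group
  obtain ⟨a, ha, hak⟩ := h.symm.exists_not_kq
  obtain ⟨b, hb, b', hb', h1, h2, h3⟩ := h.exists_pair ha hak
  set r := a * b * a⁻¹ * b⁻¹ with hr
  set r' := a * b' * a⁻¹ * b'⁻¹ with hr'
  have hrm := h.c_mem ha hb
  have hrm' := h.c_mem ha hb'
  rw [← hr] at hrm
  rw [← hr'] at hrm'
  have hmv : ∀ s ∈ ws V q, mk (Rq.pi s) ∉ CS σ J → ∃ k ∈ kq V q, k * s ≠ s * k := by
    intro s hs hn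
    by_contra hcon
    push Not at hcon
    exact hn fun j hj => congrArg Multiplicative.ofAdd (h.fq.red s hs hcon j hj)
  obtain ⟨k1, hk1, hk1r⟩ := hmv r hrm.2 h1
  obtain ⟨k2, hk2, hk2r⟩ := hmv r' hrm'.2 h2
  obtain ⟨k3, hk3, hk3r⟩ := hmv (r * r') (mul_mem hrm.2 hrm'.2) h3
  have hk1p : k1 * p ≠ p * k1 := fun e => hk1r (key k1 hk1 e r hrm)
  have hk2p : k2 * p ≠ p * k2 := fun e => hk2r (key k2 hk2 e r' hrm')
  have hk3p : k3 * p ≠ p * k3 := fun e => hk3r (key k3 hk3 e _ (mul_mem hrm hrm'))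
  -- elements of `K_q` moving `s`
  have hsw : ∀ s ∈ ws V q, ∀ k ∈ kq V q, k * s ≠ s * k → k * s * k⁻¹ = q * s := by
    intro s hs k hk hne
    rcases h.symm.comm_p hk hs with e | e
    · exact absurd (mul_inv_eq_iff_eq_mul.mp e) hne
    · exact e
  have hcom : ∀ s ∈ ws V q, ∀ k ∈ kq V q, ∀ l ∈ kq V q, k * s ≠ s * k → l * s ≠ s * l →
      (k⁻¹ * l) * s = s * (k⁻¹ * l) := by
    intro s hs k hk l hl h1 h2
    have e1 := hsw s hs k hk h1
    have e2 := hsw s hs l hl h2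
    have e3 : l * s * l⁻¹ = k * s * k⁻¹ := by rw [e1, e2]
    calc (k⁻¹ * l) * s = k⁻¹ * (l * s * l⁻¹) * l := by group
      _ = k⁻¹ * (k * s * k⁻¹) * l := by rw [e3]
      _ = _ := by group
  have hkr' : k1 * r' ≠ r' * k1 := by
    intro e
    have e1 := key _ (mul_mem (inv_mem hk1) hk2) (hcom p hpQ k1 hk1 k2 hk2 hk1p hk2p) r' hrm'
    apply hk2r
    calc k2 * r' = k1 * ((k1⁻¹ * k2) * r') := by group
      _ = (k1 * r') * (k1⁻¹ * k2) := by rw [e1]; group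
      _ = r' * k2 := by rw [e]; group
  have e1 := hsw r hrm.2 k1 hk1 hk1r
  have e2 := hsw r' hrm'.2 k1 hk1 hkr'
  have hqr : r * q = q * r := ws_comm h.abn.toAb h.pq hrm.2 h.q_mem
  have e3 : k1 * (r * r') = (r * r') * k1 := by
    have : k1 * (r * r') * k1⁻¹ = r * r' := by
      calc k1 * (r * r') * k1⁻¹ = (k1 * r * k1⁻¹) * (k1 * r' * k1⁻¹) := by group
        _ = (q * r) * (q * r') := by rw [e1, e2]
        _ = q * (r * q) * r' := by group
        _ = (q * q) * (r * r') := by rw [hqr]; group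
        _ = r * r' := by rw [h.q2, one_mul]
    exact mul_inv_eq_iff_eq_mul.mp this
  have e4 := key _ (mul_mem (inv_mem hk1) hk3) (hcom p hpQ k1 hk1 k3 hk3 hk1p hk3p) _ (mul_mem hrm hrm')
  apply hk3r
  calc k3 * (r * r') = k1 * ((k1⁻¹ * k3) * (r * r')) := by group
    _ = (k1 * (r * r')) * (k1⁻¹ * k3) := by rw [e4]; group
    _ = (r * r') * k3 := by rw [e3]; group

end Cp

end crit

end Cfsg.Agent.OddCyclic.EN.SevPt
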