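import Mathlib
import Cfsg.Agent.OddCyclic.EN.SevPt

/-!
# (B-b), types `L₃(2)`, `PGL₂(7)`, `n ≥ 2`

`Cp.false`: a critical pair with `n ≥ 2` is impossible.
-/

set_option autoImplicit false
set_option linter.unusedSectionVars false

namespace Cfsg.Agent.OddCyclic.EN.SevPt

open Subgroup Cfsg Cfsg.Agent.ZN Cfsg.Agent.MinSimple.Geo Cfsg.Agent.OddCyclic.GeoC Cfsg.Agent.OddCyclic.BTwoA
  Cfsg.Agent.OddCyclic.EN.Line Cfsg.Agent.OddCyclic.EN.Base Cfsg.Agent.MinSimple.SecRep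
  Cfsg.Agent.OddCyclic.EN.RepM Cfsg.Agent.OddCyclic.EN.Perm Cfsg.Agent.OddCyclic.T1Module
  Cfsg.Agent.OddCyclic.FFBasic Cfsg.Agent.OddCyclic.EN.SevGrp Cfsg.Agent.OddCyclic.EN.SevMod
  Cfsg.Agent.OddCyclic.FFThree Cfsg.Agent.OddCyclic.FFSl2
open Cfsg.Agent.ZN.Block (conj_mem_of_normalizer conj_mem_of_normalizer' le_normalizer_of_forall
  mem_normalizer_of)

universe u

variable {G : Type u} [Group G] [Finite G] {T V : Subgroup G} {z p q : G} {n : ℕ} {M X : Type u} [AddCommGroup M]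
  [Group X] [DistribMulAction X M] {J : Subgroup X} {lam : M} {Rp : Rep V p M X} {Rq : Rep V q M X}

local notation "σ" => hm X M
local notation "mk" => (Multiplicative.ofAdd : M → Multiplicative M)

/-! ### general lemmas -/

/-- a 2-group fixes a nontrivial vector of an invariant subgroup of even order -/
theorem exists_fix_mem {Y W : Type*} [Group Y] [CommGroup W] [Finite W] (ρ : Y →* MulAut W) {S : Subgroup Y}
    (hS : IsPGroup 2 S) {B : Subgroup W} (hB : ∀ s ∈ S, ∀ b ∈ B, ρ s b ∈ B) (h2 : 2 ∣ Nat.card B) :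
    ∃ b ∈ B, b ≠ 1 ∧ ∀ s ∈ S, ρ s b = b := by
  let _ : MulAction S B :=
    { smul := fun b v => ⟨ρ b v, hB b b.2 v v.2⟩
      one_smul := fun v => Subtype.ext (by
        show ρ ((1 : S) : Y) v = v
        rw [OneMemClass.coe_one, map_one]; rfl)
      mul_smul := fun b c v => Subtype.ext (by
        show ρ ((b * c : S) : Y) v = ρ b (ρ c v)
        rw [← MulAut.mul_apply, ← map_mul]; rfl) }
  have : Fact (Nat.Prime 2) := ⟨Nat.prime_two⟩
  have h3 : (1 : B) ∈ MulAction.fixedPoints S B := fun b => Subtype.ext (map_one (ρ b))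
  obtain ⟨b, hb, hb1⟩ := hS.exists_fixed_point_of_prime_dvd_card_of_fixed_point B h2 h3
  exact ⟨b, b.2, fun e => hb1 (Subtype.ext e.symm), fun s hs => congrArg Subtype.val (hb ⟨s, hs⟩)⟩

/-- an involution of `J` is centralised by a Sylow 2-subgroup of `X` -/
theorem exists_syl {X : Type*} [Group X] [Finite X] {J : Subgroup X} (h : Sv J) {t : X} (htJ : t ∈ J) (ht1 : t ≠ 1)
    (ht : t * t = 1) : ∃ P : Sylow 2 X, ∀ g ∈ P, g * t = t * g := by
  have : Fact (Nat.Prime 2) := ⟨Nat.prime_two⟩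
  have hn := h.nrm
  obtain ⟨S, hS⟩ : ∃ S : Sylow 2 X, zpowers t ≤ S := by
    refine IsPGroup.exists_le_sylow fun x => ⟨1, ?_⟩
    obtain ⟨k, hk⟩ := x.2
    apply Subtype.ext
    rw [pow_one, SubmonoidClass.coe_pow, ← hk, pow_two, ← zpow_add, ← two_mul, zpow_mul, zpow_two, ht, one_zpow]
    rfl
  have htS : t ∈ S := hS (mem_zpowers t)
  have hnil : Group.IsNilpotent S := S.2.isNilpotent
  have hne : J.subgroupOf (S : Subgroup X) ≠ ⊥ := by
    intro e
    have h1 : (⟨t, htS⟩ : S) ∈ J.subgroupOf (S : Subgroup X) := htJ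
    rw [e, mem_bot] at h1
    exact ht1 (congrArg Subtype.val h1)
  obtain ⟨⟨y, hy⟩, hy1⟩ := Subgroup.ne_bot_iff_exists_ne_one.mp
    (Cfsg.Agent.Lib.NormalAbelian.normal_inf_center_ne_bot (J.subgroupOf (S : Subgroup X)) hne)
  have hy1' : y ≠ 1 := fun e => hy1 (Subtype.ext e)
  obtain ⟨k, hk⟩ := S.2 y
  -- an involution in `⟨y⟩`
  obtain ⟨m, hm1, hm2⟩ : ∃ m : ℕ, y ^ m ≠ 1 ∧ y ^ m * y ^ m = 1 := by
    have hex : ∃ i, y ^ 2 ^ i = 1 := ⟨k, hk⟩
    classical
    have h0 : Nat.find hex ≠ 0 := by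
      intro e
      have := Nat.find_spec hex
      rw [e, pow_zero, pow_one] at this
      exact hy1' this
    obtain ⟨i, hi⟩ := Nat.exists_eq_succ_of_ne_zero h0
    refine ⟨2 ^ i, Nat.find_min hex (by rw [hi]; exact Nat.lt_succ_self i), ?_⟩
    rw [← pow_add, ← two_mul, ← pow_succ', ← Nat.succ_eq_add_one, ← hi]
    exact Nat.find_spec hex
  set x : S := y ^ m with hx
  have hxJ : (x : X) ∈ J := by
    rw [hx, SubmonoidClass.coe_pow]
    exact pow_mem hy.1 m
  have hxc : ∀ g : S, g * x = x * g := fun g =>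
    Subgroup.mem_center_iff.mp (pow_mem hy.2 m) g
  have hm1' : (x : X) ≠ 1 := fun e => hm1 (Subtype.ext e)
  have hm2' : (x : X) * x = 1 := by
    have := congrArg (Subtype.val : S → X) hm2
    exact this
  obtain ⟨g, hg⟩ := h.l32.conj ⟨x, hxJ⟩ ⟨t, htJ⟩ (fun e => hm1' (congrArg (Subtype.val : J → X) e))
    (Subtype.ext hm2') (fun e => ht1 (congrArg Subtype.val e)) (Subtype.ext ht)
  have hg' : (g : X) * x * (g : X)⁻¹ = t := congrArg Subtype.val hg
  refine ⟨(g : X) • S, fun a ha => ?_⟩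
  have h3 : (MulAut.conj (g : X))⁻¹ • a ∈ (S : Subgroup X) := Subgroup.mem_pointwise_smul_iff_inv_smul_mem.mp ha
  rw [MulAut.smul_def, MulAut.conj_inv_apply] at h3
  have h4 : (g : X)⁻¹ * a * g * x = x * ((g : X)⁻¹ * a * g) := congrArg Subtype.val (hxc ⟨_, h3⟩)
  calc a * t = g * ((g : X)⁻¹ * a * g * x) * (g : X)⁻¹ := by rw [← hg']; group
    _ = g * (x * ((g : X)⁻¹ * a * g)) * (g : X)⁻¹ := by rw [h4]
    _ = t * a := by rw [← hg']; group

namespace Cp

variable (h : Cp T V z n J lam p q Rp Rq)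
include h

theorem not_col (hn : 2 ≤ n) : ¬ Col V p q := fun hc => h.crit.not_walk h.abn (m := 1) hn hc.walk

/-- no element of order 3 commutes with `p` and `q` if `|A| = 2`, `A ≤ J` -/
theorem no_three {t : X} (ht : t ∈ Rq.img (ws V p)) (ht1 : t ≠ 1) (htJ : t ∈ J)
    (h2 : Nat.card (Rq.img (ws V p)) = 2) {g : G} (hg : orderOf g = 3) (hgp : g * p = p * g) (hgq : g * q = q * g) :
    False := by
  have : Finite X := Rp.finite_right
  have hgC : g ∈ centralizer ({q} : Set G) := mem_centralizer_singleton_iff.mpr hgq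
  have hgC' : g ∈ centralizer ({p} : Set G) := mem_centralizer_singleton_iff.mpr hgp
  have h1 : Rq.rho g ≠ 1 := fun e => h.fq.k3 g ((Rep.rho_eq_one Rq hgC).mp e) hg
  have : Fact (Nat.Prime 3) := ⟨Nat.prime_three⟩
  have h3 : orderOf (Rq.rho g) = 3 := by
    refine orderOf_eq_prime ?_ h1
    rw [← Rq.rho_pow hgC, ← hg, pow_orderOf_eq_one, Rq.rho_one]
  have h4 : Rq.rho g * t * (Rq.rho g)⁻¹ ∈ Rq.img (ws V p) := by
    obtain ⟨a, ha, rfl⟩ := (Rq.mem_img h.P_le).mp ht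
    rw [← Rq.rho_conj hgC (h.P_le ha)]
    exact Rq.rho_mem_img h.P_le (Rp.conj_mem hgC' ha)
  have h5 : Rq.rho g * t * (Rq.rho g)⁻¹ = t := eq_of_card_two h2 h4 ht
    (fun e => ht1 (by
      have e1 : t = (Rq.rho g)⁻¹ * (Rq.rho g * t * (Rq.rho g)⁻¹) * Rq.rho g := by group
      rw [e1, e]; group)) ht1
  exact h.sit.no_three htJ (h.symm.img_sq t ht) ht1 h3 (mul_inv_eq_iff_eq_mul.mp h5)

/-- no element of order 3 fixes `π_p(q)` -/
theorem f3 {t : X} (ht : t ∈ Rq.img (ws V p)) (ht1 : t ≠ 1) (htJ : t ∈ J)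
    (h2 : Nat.card (Rq.img (ws V p)) = 2) (hq : q ∈ ws V p) {y : X} (hy : orderOf y = 3) : y • Rp.pi q ≠ Rp.pi q := by
  intro e
  have hy3 : y ^ 3 ^ 1 = 1 := by rw [pow_one, ← hy]; exact pow_orderOf_eq_one y
  obtain ⟨g, hgC, hgy, j, hj⟩ := Rp.exists_lift Nat.prime_three hy3
  have hgp : g * p = p * g := mem_centralizer_singleton_iff.mp hgC
  have h1 : Rp.pi (g * q * g⁻¹) = Rp.pi q := by rw [← Rp.smul_pi g hgC q hq, hgy, e]
  rw [Rep.pi_eq_pi h.abn.toAb h.pp Rp (Rp.conj_mem hgC hq) hq] at h1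
  have hg2 : (g * g) * q = q * (g * g) := by
    rcases h1 with e1 | e1
    · have e2 : g * q = q * g := mul_inv_eq_iff_eq_mul.mp e1
      rw [mul_assoc, e2, ← mul_assoc, e2, mul_assoc]
    · have e2 : (g * g) * q * (g * g)⁻¹ = q := by
        calc (g * g) * q * (g * g)⁻¹ = g * (g * q * g⁻¹) * g⁻¹ := by group
          _ = g * (p * q) * g⁻¹ := by rw [e1]
          _ = (g * p * g⁻¹) * (g * q * g⁻¹) := by group
          _ = p * (p * q) := by rw [e1, hgp, mul_inv_cancel_right]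
          _ = q := by rw [← mul_assoc, h.p2, one_mul]
      exact mul_inv_eq_iff_eq_mul.mp e2
  have hodd : Odd (3 ^ j) := Odd.pow (by decide)
  have hgq : g * q = q * g := by
    obtain ⟨m, hm⟩ := hodd
    have h3 : Commute ((g * g) ^ (m + 1)) q := Commute.pow_left hg2 _
    have h4 : (g * g) ^ (m + 1) = g := by
      rw [← pow_two, ← pow_mul]
      have : 2 * (m + 1) = 3 ^ j + 1 := by omega
      rw [this, pow_succ, hj, one_mul]
    rw [h4] at h3
    exact h3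
  have hg1 : g ≠ 1 := by
    rintro rfl
    rw [Rp.rho_one] at hgy
    rw [← hgy, orderOf_one] at hy
    norm_num at hy
  -- an element of order 3 in `⟨g⟩`
  have : Fact (Nat.Prime 3) := ⟨Nat.prime_three⟩
  have h5 : 3 ∣ orderOf g := by
    have h6 : orderOf g ∣ 3 ^ j := orderOf_dvd_of_pow_eq_one hj
    obtain ⟨i, -, hi⟩ := (Nat.dvd_prime_pow Nat.prime_three).mp h6
    rw [hi]
    refine dvd_pow_self 3 ?_
    rintro rfl
    rw [pow_zero] at hi
    exact hg1 (orderOf_eq_one_iff.mp hi)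
  obtain ⟨m, hm⟩ := h5
  have hm0 : m ≠ 0 := by
    rintro rfl
    have := orderOf_pos g
    omega
  have h7 : orderOf (g ^ m) = 3 := by
    rw [orderOf_pow_of_dvd hm0 (hm ▸ Dvd.intro_left 3 rfl), hm]
    exact Nat.mul_div_left 3 (Nat.pos_of_ne_zero hm0)
  have hc1 : Commute (g ^ m) p := Commute.pow_left hgp m
  have hc2 : Commute (g ^ m) q := Commute.pow_left hgq m
  exact h.no_three ht ht1 htJ h2 h7 hc1 hc2

/-- the case `|A| = 2`, `|A'| = 4` -/
theorem false_two_four (hn : 2 ≤ n) (h2 : Nat.card (Rq.img (ws V p)) = 2) (h4 : Nat.card (Rp.img (ws V q)) = 4) :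
    False := by
  have hX : Finite X := Rp.finite_right
  have hM : Finite M := Rp.finite_left
  have hA : IsFour (Rp.img (ws V q)) := ⟨h4, h.img_sq⟩
  have h8 := h.sit.eight_le_four hA
  have h1 := h.index_le
  have h3 := h.E_le
  rw [h2] at h1
  rw [h4] at h3
  have hE : (centralizer (ws V q : Set G)).relIndex (ws V p ⊓ kq V q) ≠ 1 := by omega
  have hq := h.q_mem_of hE
  obtain ⟨d, hd, hdk, b, hb, hdb⟩ := h.exists_q hE
  -- `A ≤ J`
  have hE' : (centralizer (ws V p : Set G)).relIndex (ws V q ⊓ kq V p) = 1 := by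
    by_contra hne
    exact h.star (h.symm.q_mem_of hne) h4
  have h5 := h.symm.index_le
  rw [hE', h4] at h5
  obtain ⟨⟨t, ht⟩, ht1⟩ := exists_ne_one_of_card h2
  have ht1' : t ≠ 1 := fun e => ht1 (Subtype.ext e)
  have htJ : t ∈ J := by
    by_contra hcon
    have h6 := h.sit.eight_le hcon (h.symm.img_sq t ht)
    have h7 : fx σ t ≤ CS σ (Rq.img (ws V p)) := by
      intro v hv s hs
      by_cases hs1 : s = 1
      · rw [hs1, map_one]; rfl
      · rw [eq_of_card_two h2 hs ht hs1 ht1']; exact hv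
    have h8 : (CS σ (Rq.img (ws V p))).index = (fx σ t).index := by
      congr 1
      exact le_antisymm (CS_le_fx ht) h7
    omega
  have hv : mk (Rp.pi q) ∈ EmpC.CM σ (Rp.img (ws V q)) := by
    have e := h.cmP hd hb
    rw [hdb] at e
    rw [← e]
    rw [cm_apply]
    exact EmpC.mem_CM (Rp.rho_mem_img h.Q_le hb) _
  obtain ⟨P, hP⟩ := h.sit.fixed hA (by omega) (fun a ha b hb v => h.quad a ha b hb v) hv
    (fun g hg e => h.f3 ht ht1' htJ h2 hq hg (congrArg Multiplicative.toAdd e))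
  exact h.not_col hn (h.fp.zz q hq h.pq h.ne.symm ⟨P, fun g hg => congrArg Multiplicative.toAdd (hP g hg)⟩)

/-- the case `|A| = |A'| = 2` -/
theorem two_two (h2 : Nat.card (Rq.img (ws V p)) = 2) (h2' : Nat.card (Rp.img (ws V q)) = 2) :
    (centralizer (ws V q : Set G)).relIndex (ws V p ⊓ kq V q) ≠ 1 ∧ ∃ t ∈ Rp.img (ws V q), t ≠ 1 ∧ t ∈ J ∧
      (fx σ t).index = 4 ∧ ∀ s ∈ Rp.img (ws V q), s = 1 ∨ s = t := by
  have hX : Finite X := Rp.finite_right
  have hM : Finite M := Rp.finite_left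
  obtain ⟨⟨t, ht⟩, ht1⟩ := exists_ne_one_of_card h2'
  have ht1' : t ≠ 1 := fun e => ht1 (Subtype.ext e)
  have hmem : ∀ s ∈ Rp.img (ws V q), s = 1 ∨ s = t := fun s hs => by
    by_cases hs1 : s = 1
    · exact Or.inl hs1
    · exact Or.inr (eq_of_card_two h2' hs ht hs1 ht1')
  have hCS : CS σ (Rp.img (ws V q)) = fx σ t := by
    refine le_antisymm (CS_le_fx ht) fun v hv s hs => ?_
    rcases hmem s hs with e | e
    · rw [e, map_one]; rfl
    · rw [e]; exact hv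
  have htt := h.img_sq t ht
  have h4 := h.sit.four_le ht1' htt
  have h1 := h.index_le
  have h3 := h.E_le
  rw [h2, hCS] at h1
  rw [h2'] at h3
  have hE : (centralizer (ws V q : Set G)).relIndex (ws V p ⊓ kq V q) ≠ 1 := by omega
  refine ⟨hE, t, ht, ht1', ?_, by omega, hmem⟩
  by_contra hcon
  have h6 := h.sit.eight_le hcon htt
  omega

theorem false_two_two (hn : 2 ≤ n) (h2 : Nat.card (Rq.img (ws V p)) = 2) (h2' : Nat.card (Rp.img (ws V q)) = 2) :
    False := by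
  have hX : Finite X := Rp.finite_right
  have hM : Finite M := Rp.finite_left
  obtain ⟨hE, t, ht, ht1, htJ, hidx, hmem⟩ := h.two_two h2 h2'
  obtain ⟨hE', -⟩ := h.symm.two_two h2' h2
  have hq := h.q_mem_of hE
  have hp := h.symm.q_mem_of hE'
  have htt := h.img_sq t ht
  set B := (cm σ t).range with hB
  have hB4 : Nat.card B = 4 := by rw [hB, card_range_cm, hidx]
  have hBf : IsFour B := ⟨hB4, fun b _ => sq_mk h.abn.toAb h.pp Rp b⟩
  obtain ⟨b0, hb0, hb0t⟩ := (Rp.mem_img h.Q_le).mp ht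
  have hR0 : ∀ r ∈ ws V p, mk (Rp.pi r) ∈ B → r ∈ ws V q := by
    rintro r hr ⟨v, hv⟩
    obtain ⟨a, ha, e⟩ := Rp.pi_surj v.toAdd
    have ev : v = mk (Rp.pi a) := by rw [e]; rfl
    rw [ev, ← hb0t, h.cmP ha hb0] at hv
    have hc := h.c_mem ha hb0
    have h3 : Rp.pi (a * b0 * a⁻¹ * b0⁻¹) = Rp.pi r := Multiplicative.ofAdd.injective hv
    rw [Rep.pi_eq_pi h.abn.toAb h.pp Rp hc.1 hr] at h3
    rcases h3 with e1 | e1
    · rw [← e1]; exact hc.2
    · have e2 : r = p * (a * b0 * a⁻¹ * b0⁻¹) := by rw [e1, ← mul_assoc, h.p2, one_mul]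
      rw [e2]; exact mul_mem hp hc.2
  obtain ⟨d, hd, -, b, hb, hdb⟩ := h.exists_q hE
  have hμ : mk (Rp.pi q) ∈ B := by
    have e := h.cmP hd hb
    rw [hdb] at e
    rw [← e]
    rcases hmem (Rp.rho b) (Rp.rho_mem_img h.Q_le hb) with e1 | e1
    · rw [e1, cm_apply, map_one, MulAut.one_apply, mul_inv_cancel]; exact one_mem _
    · rw [e1]; exact ⟨_, rfl⟩
  obtain ⟨S, hS⟩ := exists_syl h.sit.toSv htJ ht1 htt
  by_cases hfix : ∀ g ∈ S, g • Rp.pi q = Rp.pi q
  · exact h.not_col hn (h.fp.zz q hq h.pq h.ne.symm ⟨S, hfix⟩)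
  push Not at hfix
  obtain ⟨s, hs, hsμ⟩ := hfix
  obtain ⟨c, hc, hcs⟩ := Rp.rho_surj s
  set q' := c * q * c⁻¹ with hq'def
  have hq' : q' ∈ ws V p := Rp.conj_mem hc hq
  have hπ : Rp.pi q' = s • Rp.pi q := by rw [← hcs, Rp.smul_pi c hc q hq]
  have hBinv : ∀ g ∈ S, ∀ v ∈ B, σ g v ∈ B := fun g hg v hv => apply_mem_range σ (hS g hg) hv
  have hq'B : mk (Rp.pi q') ∈ B := by
    rw [hπ, ← hm_ofAdd]; exact hBinv s hs _ hμ
  have hne' : Rp.pi q' ≠ Rp.pi q := by rw [hπ]; exact hsμ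
  have hμ0 : Rp.pi q ≠ 0 := by
    rw [Ne, Rep.pi_eq_zero' h.abn.toAb h.pp Rp hq]
    rintro (e | e)
    · exact h.q1 e
    · exact h.ne e.symm
  have hμ0' : Rp.pi q' ≠ 0 := by
    rw [hπ]
    intro e
    apply hμ0
    rw [← inv_smul_smul s (Rp.pi q), e, smul_zero]
  obtain ⟨w, hwB, hw1, hwfix⟩ := exists_fix_mem σ S.2 hBinv (by rw [hB4]; norm_num)
  have hw : w = mk (Rp.pi q' + Rp.pi q) := by
    have h3 := (hBf.exists_pair hq'B (fun e => hμ0' (Multiplicative.ofAdd.injective e)) hμ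
      (fun e => hμ0 (Multiplicative.ofAdd.injective e)) (fun e => hne' (Multiplicative.ofAdd.injective e))).2 w
    have hws := hwfix s hs
    rcases h3.mp hwB with e | e | e | e
    · exact absurd e hw1
    · exfalso
      rw [e, hm_ofAdd] at hws
      have h5 : s • Rp.pi q' = Rp.pi q' := Multiplicative.ofAdd.injective hws
      apply hne'
      have h6 : s • Rp.pi q' = s • Rp.pi q := by rw [h5, hπ]
      exact MulAction.injective s h6
    · exfalso
      rw [e, hm_ofAdd] at hws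
      exact hsμ (Multiplicative.ofAdd.injective hws)
    · rw [e, ofAdd_add]
  -- `p`, `q ∈ ws V q'`
  have hconj : ∀ r ∈ ws V p, mk (Rp.pi r) ∈ B → r ∈ ws V q' := by
    intro r hr hrB
    rw [hq'def, ← mem_ws_conj]
    have hc' : c⁻¹ ∈ centralizer ({p} : Set G) := inv_mem hc
    have h3 : c⁻¹ * r * c ∈ ws V p := by
      have := Rp.conj_mem hc' hr
      rwa [inv_inv] at this
    refine hR0 _ h3 ?_
    have h4 : Rp.pi (c⁻¹ * r * c) = s⁻¹ • Rp.pi r := by
      rw [← hcs, ← Rp.rho_inv hc, Rp.smul_pi _ hc' r hr, inv_inv]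
    rw [h4, ← hm_ofAdd]
    exact hBinv _ (inv_mem hs) _ hrB
  have hpq' : p ∈ ws V q' := hconj p h.p_mem (by
    rw [Rep.pi_self h.abn.toAb h.pp Rp]; exact one_mem _)
  have hqq' : q ∈ ws V q' := hconj q hq hμ
  have hPq' : Pt z q' := h.pq.conj c
  have hq'2 : q' * q' = 1 := Base.Pt.sq h.abn.toGeoC hPq'
  have Frr : ∀ v ∈ ws V q', Pt z v → v ≠ q' → ∃ k ∈ kq V q', k * v ≠ v * k := (h.fq.cj c).rr
  have hmv : ∀ k ∈ kq V q', ∀ r ∈ ws V q', k * r * k⁻¹ = r ∨ k * r * k⁻¹ = q' * r := by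
    intro k hk r hr
    rcases (mem_zpowers_iff_of_mul_self hq'2).mp ((mem_kq0.mp hk).2.1 r hr) with e | e
    · left
      calc k * r * k⁻¹ = (k * r * k⁻¹ * r⁻¹) * r := by group
        _ = r := by rw [e, one_mul]
    · right
      calc k * r * k⁻¹ = (k * r * k⁻¹ * r⁻¹) * r := by group
        _ = q' * r := by rw [e]
  -- `p * q` is a point
  have hptpq : Pt z (p * q) := by
    obtain ⟨k, hk, hkp⟩ := h.fq.rr p hp h.pp h.ne
    rcases h.symm.comm_p hk hp with e | e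
    · exact absurd (mul_inv_eq_iff_eq_mul.mp e) hkp
    · rw [← h.pQ h.q_mem, ← e]
      exact h.pp.conj k
  have hpqne : p * q ≠ q' := by
    intro e
    apply hne'
    rw [← e, Rep.pi_self_mul h.abn.toAb h.pp Rp hq]
  have hqne : q ≠ q' := fun e => hne' (by rw [← e])
  obtain ⟨k1, hk1, hk1q⟩ := Frr q hqq' h.pq hqne
  obtain ⟨k2, hk2, hk2pq⟩ := Frr (p * q) (mul_mem hpq' hqq') hptpq hpqne
  have e1q : k1 * q * k1⁻¹ = q' * q := by
    rcases hmv k1 hk1 q hqq' with e | e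
    · exact absurd (mul_inv_eq_iff_eq_mul.mp e) hk1q
    · exact e
  have hq'c : ∀ k ∈ kq V q', k * q' * k⁻¹ = q' := fun k hk =>
    mul_inv_eq_iff_eq_mul.mpr (mem_centralizer_singleton_iff.mp (mem_kq0.mp hk).1)
  obtain ⟨k, hkp, hkq⟩ : ∃ k : G, k * p * k⁻¹ = p ∧ k * q * k⁻¹ = q' * q := by
    rcases hmv k1 hk1 p hpq' with e | e
    · exact ⟨k1, e, e1q⟩
    rcases hmv k2 hk2 p hpq' with e2 | e2 <;> rcases hmv k2 hk2 q hqq' with e3 | e3
    · exfalso
      apply hk2pq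
      have : k2 * (p * q) * k2⁻¹ = p * q := by
        calc k2 * (p * q) * k2⁻¹ = (k2 * p * k2⁻¹) * (k2 * q * k2⁻¹) := by group
          _ = p * q := by rw [e2, e3]
      exact mul_inv_eq_iff_eq_mul.mp this
    · exact ⟨k2, e2, e3⟩
    · refine ⟨k1 * k2, ?_, ?_⟩
      · calc k1 * k2 * p * (k1 * k2)⁻¹ = k1 * (k2 * p * k2⁻¹) * k1⁻¹ := by group
          _ = k1 * (q' * p) * k1⁻¹ := by rw [e2]
          _ = (k1 * q' * k1⁻¹) * (k1 * p * k1⁻¹) := by group
          _ = q' * (q' * p) := by rw [hq'c k1 hk1, e]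
          _ = p := by rw [← mul_assoc, hq'2, one_mul]
      · calc k1 * k2 * q * (k1 * k2)⁻¹ = k1 * (k2 * q * k2⁻¹) * k1⁻¹ := by group
          _ = k1 * q * k1⁻¹ := by rw [e3]
          _ = q' * q := e1q
    · exfalso
      apply hk2pq
      have hcp : q' * p = p * q' := ws_comm h.abn.toAb hPq' (self_mem_ws h.abn.toGeoC hPq') hpq'
      have : k2 * (p * q) * k2⁻¹ = p * q := by
        calc k2 * (p * q) * k2⁻¹ = (k2 * p * k2⁻¹) * (k2 * q * k2⁻¹) := by group
          _ = (q' * p) * (q' * q) := by rw [e2, e3]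
          _ = p * (q' * q') * q := by rw [hcp]; group
          _ = p * q := by rw [hq'2, mul_one]
      exact mul_inv_eq_iff_eq_mul.mp this
  -- the point `q' * q` is collinear with `p`
  have hpt : Pt z (q' * q) := by rw [← hkq]; exact h.pq.conj k
  have hmem3 : q' * q ∈ ws V p := mul_mem hq' hq
  have hpi3 : Rp.pi (q' * q) = Rp.pi q' + Rp.pi q := Rp.pi_mul _ hq' _ hq
  have hne3 : q' * q ≠ p := by
    intro e
    rw [e, Rep.pi_self h.abn.toAb h.pp Rp] at hpi3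
    apply hne'
    have h5 := Rep.two h.abn.toAb h.pp Rp (Rp.pi q)
    calc Rp.pi q' = Rp.pi q' + (Rp.pi q + Rp.pi q) := by rw [h5, add_zero]
      _ = (Rp.pi q' + Rp.pi q) + Rp.pi q := by rw [add_assoc]
      _ = Rp.pi q := by rw [← hpi3, zero_add]
  have hcol := h.fp.zz (q' * q) hmem3 hpt hne3 ⟨S, fun g hg => by
    rw [hpi3]
    have h5 := hwfix g hg
    rw [hw, hm_ofAdd] at h5
    exact Multiplicative.ofAdd.injective h5⟩
  have h6 := hcol.conj k⁻¹
  apply h.not_col hn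
  have e4 : k⁻¹ * p * k⁻¹⁻¹ = p := by
    calc k⁻¹ * p * k⁻¹⁻¹ = k⁻¹ * (k * p * k⁻¹) * k := by rw [hkp]; group
      _ = p := by group
  have e5 : k⁻¹ * (q' * q) * k⁻¹⁻¹ = q := by
    rw [← hkq]; group
  rwa [e4, e5] at h6

/-- **a critical pair with `n ≥ 2` is impossible** -/
theorem false (hn : 2 ≤ n) : False := by
  rcases h.card_cases with h2 | h4 <;> rcases h.symm.card_cases with h2' | h4'
  · exact h.false_two_two hn h2' h2
  · exact h.symm.false_two_four hn h2 h4'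
  · exact h.false_two_four hn h2' h4
  · have hM : Finite M := Rp.finite_left
    have hX : Finite X := Rp.finite_right
    have h8 := h.symm.sit.eight_le_four ⟨h4', h.symm.img_sq⟩
    have h1 := h.symm.index_le
    rw [h4] at h1
    refine h.star (h.symm.q_mem_of fun e => ?_) h4
    rw [e] at h1
    omega

end Cp

end Cfsg.Agent.OddCyclic.EN.SevPt
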