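import Cfsg.Agent.OddCyclic.EN.Bb

/-!
# (B-b): (Z) = 1.7, and the dual form of (RED)

* `mem_of_four`: (Z): a point `v ≠ z` with `[v, T] ≤ ⟨z⟩` lies in `V` (only `GeoC` and `four`);
* `Star.exists_dual`: every homomorphism `ws V z → {1, z}` trivial on `z` and on `C_{ws V z}(L)` is `w ↦ [y, w]` for
  some `y ∈ O₂(L)`.
-/

set_option autoImplicit false
set_option linter.unusedSectionVars false
set_option linter.style.haveILetI false

namespace Cfsg.Agent.OddCyclic.EN.ZDual

open Subgroup Cfsg Cfsg.Agent.ZN Cfsg.Agent.MinSimple.Geo Cfsg.Agent.OddCyclic.GeoC Cfsg.Agent.OddCyclic.BTwoA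
  Cfsg.Agent.OddCyclic.EN.Line Cfsg.Agent.OddCyclic.EN.Base Cfsg.Agent.OddCyclic.EN.BbDefs
open scoped commutatorElement

universe u

variable {G : Type u} [Group G]

theorem exists_cj_le [Finite G] {T C U : Subgroup G} (hT : IsPGroup 2 T)
    (hs : ¬ 2 ∣ T.relIndex C) (hU : U ≤ C) (hU2 : IsPGroup 2 U) : ∃ c ∈ C, cj c U ≤ T := by
  haveI : Fact (Nat.Prime 2) := ⟨Nat.prime_two⟩
  have hT' : IsPGroup 2 (T.subgroupOf C) := hT.comap_of_injective _ C.subtype_injective
  have hU' : IsPGroup 2 (U.subgroupOf C) := hU2.comap_of_injective _ C.subtype_injective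
  obtain ⟨Q, hQ⟩ := hU'.exists_le_sylow
  obtain ⟨c, hc⟩ := MulAction.exists_smul_eq C Q (hT'.toSylow hs)
  refine ⟨c, c.2, ?_⟩
  rintro _ ⟨u, hu, rfl⟩
  have h1 : (⟨u, hU hu⟩ : C) ∈ (Q : Subgroup C) := hQ hu
  have h2 : c * ⟨u, hU hu⟩ * c⁻¹ ∈ ((c • Q : Sylow 2 C) : Subgroup C) := by
    rw [Sylow.coe_subgroup_smul]
    exact Subgroup.smul_mem_pointwise_smul _ (MulAut.conj c) _ h1
  rw [hc] at h2
  exact h2

theorem card_cj' (g : G) (H : Subgroup G) : Nat.card (cj g H) = Nat.card H :=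
  Nat.card_congr (H.equivMapOfInjective _ (MulAut.conj g).injective).toEquiv.symm

/-- the four-group `{1, z, v, z * v}` -/
def quad {z v : G} (hz : z * z = 1) (hv : v * v = 1) (hc : z * v = v * z) : Subgroup G where
  carrier := {x | x = 1 ∨ x = z ∨ x = v ∨ x = z * v}
  mul_mem' := by
    have e1 : v * (z * v) = z := by rw [hc, ← mul_assoc, hv, one_mul]
    have e2 : z * (z * v) = v := by rw [← mul_assoc, hz, one_mul]
    have e3 : z * v * z = v := by rw [hc, mul_assoc, hz, mul_one]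
    have e4 : z * v * v = z := by rw [mul_assoc, hv, mul_one]
    have e5 : z * v * (z * v) = 1 := by rw [← mul_assoc, e3, hv]
    rintro a b (rfl | rfl | rfl | rfl) (rfl | rfl | rfl | rfl) <;>
      simp [hz, hv, e1, e2, e3, e4, e5, hc.symm]
  one_mem' := Or.inl rfl
  inv_mem' := by
    rintro a (rfl | rfl | rfl | rfl)
    · left; simp
    · right; left; exact inv_eq_self hz
    · right; right; left; exact inv_eq_self hv
    · right; right; right
      rw [mul_inv_rev, inv_eq_self hz, inv_eq_self hv, hc]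

theorem mem_quad {z v : G} {hz : z * z = 1} {hv : v * v = 1} {hc : z * v = v * z} {x : G} :
    x ∈ quad hz hv hc ↔ x = 1 ∨ x = z ∨ x = v ∨ x = z * v := Iff.rfl

theorem card_quad {z v : G} (hz : z * z = 1) (hv : v * v = 1) (hc : z * v = v * z) (hz1 : z ≠ 1) (hv1 : v ≠ 1)
    (hvz : v ≠ z) : Nat.card (quad hz hv hc) = 4 := by
  have hzv1 : z * v ≠ 1 := fun e => hvz (by
    have : v = z * (z * v) := by rw [← mul_assoc, hz, one_mul]
    rw [this, e, mul_one])
  have hzvz : z * v ≠ z := fun e => hv1 (by simpa using e)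
  have hzvv : z * v ≠ v := fun e => hz1 (by simpa using e)
  have h0 : ((quad hz hv hc : Subgroup G) : Set G) = {1, z, v, z * v} := by
    ext x
    simp only [SetLike.mem_coe, mem_quad, Set.mem_insert_iff, Set.mem_singleton_iff]
  have h2 : ({1, z, v, z * v} : Set G).ncard = 4 := by
    rw [Set.ncard_insert_of_notMem, Set.ncard_insert_of_notMem, Set.ncard_pair (Ne.symm hzvv)]
    · rintro (e | e)
      · exact hvz e.symm
      · exact hzvz e.symm
    · rintro (e | e | e)
      · exact hz1 e.symm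
      · exact hv1 e.symm
      · exact hzv1 e.symm
  rw [← h2, ← h0]; rfl

/-- **(Z)** -/
theorem mem_of_four [Finite G] {T V : Subgroup G} {z : G} (h : GeoC T V z)
    (four : ∀ W : Subgroup G, Nat.card W = 4 → (∀ w ∈ W, w * w = 1) → T ≤ normalizer (W : Set G) →
      ¬ T ≤ centralizer (W : Set G) → (∃ g ∈ normalizer (W : Set G), g * z ≠ z * g) → W = V)
    {v : G} (hv : Pt z v) (hvc : v ∈ centralizer ({z} : Set G)) (hvz : v ≠ z)
    (ht : ∀ t ∈ T, t * v * t⁻¹ = v ∨ t * v * t⁻¹ = z * v) : v ∈ V := by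
  haveI : Fact (Nat.Prime 2) := ⟨Nat.prime_two⟩
  have hv1 : v ≠ 1 := Base.Pt.ne_one h hv
  have hv2 : v * v = 1 := Base.Pt.sq h hv
  have hz2 : z * z = 1 := h.zz
  have hz1 : z ≠ 1 := h.z_ne
  have hc : z * v = v * z := (h.z_comm hvc).symm
  set W : Subgroup G := quad hz2 hv2 hc with hW
  have hW4 : Nat.card W = 4 := card_quad hz2 hv2 hc hz1 hv1 hvz
  have hzW : z ∈ W := Or.inr (Or.inl rfl)
  have hvW : v ∈ W := Or.inr (Or.inr (Or.inl rfl))
  have hzvW : z * v ∈ W := Or.inr (Or.inr (Or.inr rfl))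
  have htz : ∀ t ∈ T, t * z * t⁻¹ = z := fun t h1 => by rw [h.z_comm (h.T_le h1)]; group
  have hTW : T ≤ normalizer (W : Set G) := by
    refine Cfsg.Agent.ZN.Block.le_normalizer_of_forall fun t h1 x hx => ?_
    have e3 : t * (z * v) * t⁻¹ = (t * z * t⁻¹) * (t * v * t⁻¹) := by group
    rcases hx with rfl | rfl | rfl | rfl
    · left; group
    · rw [htz t h1]; exact hzW
    · rcases ht t h1 with e | e <;> rw [e]
      · exact hvW
      · exact hzvW
    · rw [e3, htz t h1]
      rcases ht t h1 with e | e <;> rw [e]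
      · exact hzvW
      · rw [← mul_assoc, hz2, one_mul]; exact hvW
  have hWC : W ≤ centralizer ({z} : Set G) := by
    intro x hx
    rw [mem_centralizer_singleton_iff]
    rcases hx with rfl | rfl | rfl | rfl
    · simp
    · rfl
    · exact hc.symm
    · rw [mul_assoc, ← hc]
  have hWsq : ∀ w ∈ W, w * w = 1 := by
    rintro w (rfl | rfl | rfl | rfl)
    · simp
    · exact hz2
    · exact hv2
    · calc z * v * (z * v) = z * (v * z) * v := by group
        _ = (z * z) * (v * v) := by rw [← hc]; group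
        _ = 1 := by rw [hz2, hv2, one_mul]
  -- `v ∈ T`
  have hvT : v ∈ T := by
    have hp : IsPGroup 2 (T ⊔ W : Subgroup G) := by
      refine h.two.to_sup_of_normal_right' ?_ hTW
      intro w
      exact ⟨1, Subtype.ext (by rw [pow_one, pow_two]; exact hWsq w w.2)⟩
    obtain ⟨c, _, hc2⟩ := exists_cj_le h.two h.T_syl (sup_le h.T_le hWC) hp
    have h1 : Nat.card (T ⊔ W : Subgroup G) ≤ Nat.card T := by
      rw [← card_cj' c]
      exact Subgroup.card_le_of_le hc2
    have h2 : T = T ⊔ W := Subgroup.eq_of_le_of_card_ge le_sup_left h1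
    rw [h2]
    exact (le_sup_right : W ≤ T ⊔ W) hvW
  -- some `t ∈ T` moves `v`
  obtain ⟨t, htT, htv⟩ : ∃ t ∈ T, t * v * t⁻¹ = z * v := by
    by_contra hcon
    push Not at hcon
    rcases h.soc v hvT hv2 (fun s hs => by
      rcases ht s hs with e | e
      · calc s * v = s * v * s⁻¹ * s := by group
          _ = v * s := by rw [e]
      · exact absurd e (hcon s hs)) with e | e
    · exact hv1 e
    · exact hvz e
  set Tv : Subgroup G := T ⊓ centralizer ({v} : Set G) with hTv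
  have hmemTv : ∀ s, s ∈ Tv ↔ s ∈ T ∧ s * v = v * s := fun s => by
    rw [hTv, mem_inf, mem_centralizer_singleton_iff]
  have hsT : ∀ s ∈ T, s ∉ Tv → s * v * s⁻¹ = z * v := by
    intro s hs hsn
    rcases ht s hs with e | e
    · exact absurd ((hmemTv s).mpr ⟨hs, by
        calc s * v = s * v * s⁻¹ * s := by group
          _ = v * s := by rw [e]⟩) hsn
    · exact e
  have hcomm_of : ∀ s : G, s * v * s⁻¹ = v → s * v = v * s := fun s e => by
    calc s * v = s * v * s⁻¹ * s := by group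
      _ = v * s := by rw [e]
  have hts : ∀ s ∈ T, s ∉ Tv → t * s ∈ Tv := by
    intro s hs hsn
    refine (hmemTv _).mpr ⟨mul_mem htT hs, hcomm_of _ ?_⟩
    have e1 := hsT s hs hsn
    calc t * s * v * (t * s)⁻¹ = t * (s * v * s⁻¹) * t⁻¹ := by group
      _ = (t * z * t⁻¹) * (t * v * t⁻¹) := by rw [e1]; group
      _ = v := by rw [htz t htT, htv, ← mul_assoc, hz2, one_mul]
  have htn : t ∉ Tv := fun h1 => by
    have h2 := ((hmemTv t).mp h1).2
    apply hz1
    have : z * v = v := by rw [← htv, h2]; group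
    simpa using this
  have hidx : Tv.relIndex T = 2 := by
    rw [relIndex_eq_two_iff]
    refine ⟨t, htT, fun b hb => ?_⟩
    by_cases hbn : b ∈ Tv
    · refine Or.inr ⟨hbn, fun h1 => htn ?_⟩
      have := mul_mem (inv_mem hbn) h1
      rwa [inv_mul_cancel_left] at this
    · refine Or.inl ⟨?_, hbn⟩
      refine (hmemTv _).mpr ⟨mul_mem hb htT, hcomm_of _ ?_⟩
      have e1 := hsT b hb hbn
      calc b * t * v * (b * t)⁻¹ = b * (t * v * t⁻¹) * b⁻¹ := by group
        _ = (b * z * b⁻¹) * (b * v * b⁻¹) := by rw [htv]; group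
        _ = v := by rw [htz b hb, e1, ← mul_assoc, hz2, one_mul]
  -- the socle of the centre of `Tv`
  have hE : ∀ e ∈ Tv, e * e = 1 → (∀ s ∈ Tv, s * e = e * s) → e ∈ W := by
    intro e he he2 hes
    have hein : e⁻¹ = e := inv_eq_self he2
    have hnT : ∀ s ∈ Tv, t * s * t⁻¹ ∈ Tv := by
      intro s hs
      obtain ⟨hs1, hs2⟩ := (hmemTv s).mp hs
      refine (hmemTv _).mpr ⟨mul_mem (mul_mem htT hs1) (inv_mem htT), hcomm_of _ ?_⟩
      have e1 : t⁻¹ * v * t = z * v := by
        have e2 : t⁻¹ * z * t = z := by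
          have := htz t⁻¹ (inv_mem htT); rwa [inv_inv] at this
        calc t⁻¹ * v * t = t⁻¹ * (z * (z * v)) * t := by rw [← mul_assoc z z, hz2, one_mul]
          _ = (t⁻¹ * z * t) * (t⁻¹ * (z * v) * t) := by group
          _ = z * (t⁻¹ * (t * v * t⁻¹) * t) := by rw [e2, htv]
          _ = z * v := by group
      have hsz : s * (z * v) * s⁻¹ = z * v := by
        calc s * (z * v) * s⁻¹ = (s * z * s⁻¹) * (s * v) * s⁻¹ := by group
          _ = z * v := by rw [htz s hs1, hs2]; group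
      calc t * s * t⁻¹ * v * (t * s * t⁻¹)⁻¹ = t * (s * (t⁻¹ * v * t) * s⁻¹) * t⁻¹ := by group
        _ = (t * z * t⁻¹) * (t * v * t⁻¹) := by rw [e1, hsz]; group
        _ = v := by rw [htz t htT, htv, ← mul_assoc, hz2, one_mul]
    have htt : t * t ∈ Tv := hts t htT htn
    set f := t * e * t⁻¹ with hf
    have hfT : f ∈ Tv := hnT e he
    have hfe : f * e = e * f := hes f hfT
    have hf2 : f * f = 1 := by
      calc f * f = t * (e * e) * t⁻¹ := by rw [hf]; group
        _ = 1 := by rw [he2]; group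
    have htf : t * f * t⁻¹ = e := by
      calc t * f * t⁻¹ = (t * t * e) * (t * t)⁻¹ := by rw [hf]; group
        _ = e := by rw [hes _ htt]; group
    have hfs : ∀ s ∈ Tv, s * f = f * s := by
      intro s hs
      have h1 : t⁻¹ * s * t ∈ Tv := by
        have h2 := hnT _ hs
        have h3 := mul_mem (mul_mem (inv_mem htt) h2) htt
        have : (t * t)⁻¹ * (t * s * t⁻¹) * (t * t) = t⁻¹ * s * t := by group
        rwa [this] at h3
      have h2 := hes _ h1
      calc s * f = t * (t⁻¹ * s * t * e) * t⁻¹ := by rw [hf]; group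
        _ = t * (e * (t⁻¹ * s * t)) * t⁻¹ := by rw [h2]
        _ = f * s := by rw [hf]; group
    have hall : ∀ c ∈ Tv, c * c = 1 → (∀ s ∈ Tv, s * c = c * s) → t * c * t⁻¹ = c → c = 1 ∨ c = z := by
      intro c hc1 hc2 hc3 hc4
      refine h.soc c ((hmemTv c).mp hc1).1 hc2 fun s hs => ?_
      by_cases hsn : s ∈ Tv
      · exact hc3 s hsn
      · have h1 := hc3 _ (hts s hs hsn)
        have h2 : t⁻¹ * c = c * t⁻¹ := by
          calc t⁻¹ * c = t⁻¹ * (t * c * t⁻¹) := by rw [hc4]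
            _ = c * t⁻¹ := by group
        calc s * c = t⁻¹ * (t * s * c) := by group
          _ = t⁻¹ * (c * (t * s)) := by rw [h1]
          _ = (t⁻¹ * c) * (t * s) := by group
          _ = c * s := by rw [h2]; group
    rcases hall (e * f) (mul_mem he hfT) (by
        calc e * f * (e * f) = e * (f * e) * f := by group
          _ = (e * e) * (f * f) := by rw [hfe]; group
          _ = 1 := by rw [he2, hf2, one_mul]) (fun s hs => by
        calc s * (e * f) = (s * e) * f := (mul_assoc _ _ _).symm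
          _ = e * (s * f) := by rw [hes s hs, mul_assoc]
          _ = e * (f * s) := by rw [hfs s hs]
          _ = e * f * s := (mul_assoc _ _ _).symm) (by
        calc t * (e * f) * t⁻¹ = (t * e * t⁻¹) * (t * f * t⁻¹) := by group
          _ = f * e := by rw [htf]
          _ = e * f := hfe) with e1 | e1
    · have h1 : f = e := by
        calc f = e * (e * f) := by rw [← mul_assoc, he2, one_mul]
          _ = e := by rw [e1, mul_one]
      rcases hall e he he2 hes (by rw [← hf, h1]) with e2 | e2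
      · left; exact e2
      · right; left; exact e2
    · have hez : e * z = z * e := by
        calc e * z = e * z * e⁻¹ * e := by group
          _ = z * e := by rw [htz e ((hmemTv e).mp he).1]
      have h1 : f = z * e := by
        calc f = e * (e * f) := by rw [← mul_assoc, he2, one_mul]
          _ = e * z := by rw [e1]
          _ = z * e := hez
      have hvTv : v ∈ Tv := (hmemTv v).mpr ⟨hvT, rfl⟩
      have hve : v * e = e * v := hes v hvTv
      rcases hall (e * v) (mul_mem he hvTv) (by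
        calc e * v * (e * v) = e * (v * e) * v := by group
          _ = (e * e) * (v * v) := by rw [hve]; group
          _ = 1 := by rw [he2, hv2, one_mul]) (fun s hs => by
        rw [← mul_assoc, hes s hs, mul_assoc, ((hmemTv s).mp hs).2, mul_assoc]) (by
        calc t * (e * v) * t⁻¹ = f * (t * v * t⁻¹) := by rw [hf]; group
          _ = (e * z) * (z * v) := by rw [htv, h1, hez]
          _ = e * (z * z) * v := by group
          _ = e * v := by rw [hz2, mul_one]) with e2 | e2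
      · right; right; left
        calc e = e * v * v := by rw [mul_assoc, hv2, mul_one]
          _ = v := by rw [e2, one_mul]
      · right; right; right
        calc e = e * v * v := by rw [mul_assoc, hv2, mul_one]
          _ = z * v := by rw [e2]
  -- a Sylow subgroup of `C(v)` over `Tv`
  obtain ⟨g, rfl⟩ := hv
  set v := g * z * g⁻¹ with hvdef
  have hg := h.conj g
  obtain ⟨c, hcC, hcle⟩ := exists_cj_le hg.two hg.T_syl (inf_le_right : Tv ≤ centralizer ({v} : Set G))
    (h.two.to_le inf_le_left)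
  set T1 : Subgroup G := cj c⁻¹ (cj g T) with hT1
  have hTvT1 : Tv ≤ T1 := by
    rw [hT1]
    have := cj_mono (g := c⁻¹) hcle
    rwa [cj_inv_cj] at this
  have hT1v : T1 ≤ centralizer ({v} : Set G) := by
    have h1 := cj_mono (g := c⁻¹) hg.T_le
    rw [cj_centralizer_singleton] at h1
    have h2 : c⁻¹ * v * c⁻¹⁻¹ = v := by
      have h3 := mem_centralizer_singleton_iff.mp hcC
      calc c⁻¹ * v * c⁻¹⁻¹ = c⁻¹ * (v * c) := by group
        _ = c⁻¹ * (c * v) := by rw [h3]
        _ = v := by group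
    rw [← hvdef, h2] at h1
    exact h1
  have hcT1 : Nat.card T1 = Nat.card T := by rw [hT1, card_cj', card_cj']
  have hvTv : v ∈ Tv := (hmemTv v).mpr ⟨hvT, rfl⟩
  have hidx1 : Tv.relIndex T1 = 2 := by
    have h1 := Cfsg.Agent.ZN.Block.card_mul_relIndex' (inf_le_left : Tv ≤ T)
    have h2 := Cfsg.Agent.ZN.Block.card_mul_relIndex' hTvT1
    rw [hcT1, ← h1, hidx] at h2
    exact Nat.eq_of_mul_eq_mul_left Nat.card_pos h2
  have hnT1 : ∀ s ∈ T1, ∀ x ∈ Tv, s * x * s⁻¹ ∈ Tv := by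
    intro s hs x hx
    by_cases hsn : s ∈ Tv
    · exact mul_mem (mul_mem hsn hx) (inv_mem hsn)
    · refine Cfsg.Agent.ZN.Block.mul_mem_of_relIndex_two hidx1 (mul_mem hs (hTvT1 hx)) (inv_mem hs) (fun h1 => ?_)
        (fun h1 => hsn (inv_mem_iff.mp h1))
      have h2 := mul_mem h1 (inv_mem hx)
      rw [mul_inv_cancel_right] at h2
      exact hsn h2
  -- `T1` normalises `W`
  have hT1z : ∀ s ∈ T1, s * z * s⁻¹ = z ∨ s * z * s⁻¹ = z * v := by
    intro s hs
    have hzTv : z ∈ Tv := (hmemTv z).mpr ⟨h.V_le h.z_mem, hc⟩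
    have h1 : s * z * s⁻¹ ∈ W := by
      refine hE _ (hnT1 s hs z hzTv) ?_ fun x hx => ?_
      · calc s * z * s⁻¹ * (s * z * s⁻¹) = s * (z * z) * s⁻¹ := by group
          _ = 1 := by rw [hz2]; group
      · have h2 := hnT1 s⁻¹ (inv_mem hs) x hx
        rw [inv_inv] at h2
        have h3 := h.z_comm (h.T_le ((hmemTv _).mp h2).1)
        calc x * (s * z * s⁻¹) = s * (s⁻¹ * x * s * z) * s⁻¹ := by group
          _ = s * (z * (s⁻¹ * x * s)) * s⁻¹ := by rw [h3]
          _ = s * z * s⁻¹ * x := by group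
    have hsv : s * v * s⁻¹ = v := by
      rw [mem_centralizer_singleton_iff.mp (hT1v hs)]; group
    rcases h1 with e | e | e | e
    · exact absurd (by
        calc z = s⁻¹ * (s * z * s⁻¹) * s := by group
          _ = 1 := by rw [e]; group) hz1
    · exact Or.inl e
    · exact absurd (by
        calc v = s⁻¹ * (s * v * s⁻¹) * s := by group
          _ = s⁻¹ * (s * z * s⁻¹) * s := by rw [hsv, e]
          _ = z := by group) hvz
    · exact Or.inr e
  obtain ⟨s, hs, hsz⟩ : ∃ s ∈ T1, s * z * s⁻¹ = z * v := by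
    by_contra hcon
    push Not at hcon
    have h1 : T1 ≤ centralizer ({z} : Set G) := by
      intro s hs
      rw [mem_centralizer_singleton_iff]
      rcases hT1z s hs with e | e
      · calc s * z = s * z * s⁻¹ * s := by group
          _ = z * s := by rw [e]
      · exact absurd e (hcon s hs)
    obtain ⟨d, hd, hdle⟩ := exists_cj_le h.two h.T_syl h1 ((h.two.map _).map _)
    have h2 : cj d T1 = T := Subgroup.eq_of_le_of_card_ge hdle (by rw [card_cj', hcT1])
    have hdv : d * v * d⁻¹ ∈ T := by rw [← h2]; exact conj_mem_cj (hTvT1 hvTv)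
    have hdz := mem_centralizer_singleton_iff.mp hd
    rcases h.soc _ hdv (by
        calc d * v * d⁻¹ * (d * v * d⁻¹) = d * (v * v) * d⁻¹ := by group
          _ = 1 := by rw [hv2]; group) (fun x hx => by
        rw [← h2, mem_cj] at hx
        have h3 := mem_centralizer_singleton_iff.mp (hT1v hx)
        calc x * (d * v * d⁻¹) = d * (d⁻¹ * x * d * v) * d⁻¹ := by group
          _ = d * (v * (d⁻¹ * x * d)) * d⁻¹ := by rw [h3]
          _ = d * v * d⁻¹ * x := by group) with e | e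
    · exact hv1 (by
        calc v = d⁻¹ * (d * v * d⁻¹) * d := by group
          _ = 1 := by rw [e]; group)
    · exact hvz (by
        calc v = d⁻¹ * (d * v * d⁻¹) * d := by group
          _ = d⁻¹ * (d * z) := by rw [e, hdz]; group
          _ = z := by group)
  have hWV : W = V := by
    refine four W hW4 hWsq hTW (fun hle => ?_) ⟨s, ?_, fun e => ?_⟩
    · have h1 := mem_centralizer_iff.mp (hle htT) v hvW
      apply hz1
      have : z * v = v := by rw [← htv, ← h1]; group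
      simpa using this
    · have hsv : s * v * s⁻¹ = v := by
        rw [mem_centralizer_singleton_iff.mp (hT1v hs)]; group
      rw [mem_normalizer_iff_cj]
      refine Subgroup.eq_of_le_of_card_ge ?_ (by rw [card_cj'])
      rintro _ ⟨x, hx, rfl⟩
      change s * x * s⁻¹ ∈ W
      have e3 : s * (z * v) * s⁻¹ = (s * z * s⁻¹) * (s * v * s⁻¹) := by group
      rcases hx with rfl | rfl | rfl | rfl
      · left; group
      · rw [hsz]; exact hzvW
      · rw [hsv]; exact hvW
      · rw [e3, hsz, hsv, mul_assoc, hv2, mul_one]; exact hzW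
    · apply hv1
      have : z * v = z := by rw [← hsz, e]; group
      simpa using this
  rw [← hWV]; exact hvW

/-- **(Z)** -/
theorem _root_.Cfsg.Agent.OddCyclic.EN.BbDefs.Bb.Z [Finite G] {T V : Subgroup G} {z v : G} (h : Bb T V z)
    (hv : Pt z v) (hvc : v ∈ centralizer ({z} : Set G)) (hvz : v ≠ z)
    (ht : ∀ t ∈ T, t * v * t⁻¹ = v ∨ t * v * t⁻¹ = z * v) : v ∈ V :=
  mem_of_four h.toGeoC h.four hv hvc hvz ht

/-- **(Z)** at the point `g * z * g⁻¹` -/
theorem _root_.Cfsg.Agent.OddCyclic.EN.BbDefs.Bb.Z_conj [Finite G] {T V : Subgroup G} {z v : G} (h : Bb T V z) (g : G)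
    (hv : Pt z v) (hvc : v ∈ centralizer ({g * z * g⁻¹} : Set G)) (hvz : v ≠ g * z * g⁻¹)
    (ht : ∀ t ∈ cj g T, t * v * t⁻¹ = v ∨ t * v * t⁻¹ = g * z * g⁻¹ * v) : v ∈ cj g V := by
  rw [mem_cj]
  refine Bb.Z h ?_ ?_ ?_ fun t h1 => ?_
  · have := hv.conj g⁻¹
    rwa [inv_inv] at this
  · have h1 := mem_centralizer_singleton_iff.mp hvc
    rw [mem_centralizer_singleton_iff]
    calc g⁻¹ * v * g * z = g⁻¹ * (v * (g * z * g⁻¹)) * g := by group
      _ = g⁻¹ * (g * z * g⁻¹ * v) * g := by rw [h1]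
      _ = z * (g⁻¹ * v * g) := by group
  · intro e
    apply hvz
    rw [← e]; group
  · have e1 : t * (g⁻¹ * v * g) * t⁻¹ = g⁻¹ * (g * t * g⁻¹ * v * (g * t * g⁻¹)⁻¹) * g := by group
    rcases ht _ (conj_mem_cj h1) with e | e
    · left; rw [e1, e]
    · right; rw [e1, e]; group

/-! ### the dual -/

section Dual

theorem comm_iff_conj {a b : G} : a * b * a⁻¹ = b ↔ a * b = b * a := by
  rw [mul_inv_eq_iff_eq_mul]

/-- If `K` acts on the elementary abelian group `W` by `w ↦ w` or `z * w`, and `C` contains the elements of `W`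
centralized by `K`, then `K` induces all functionals trivial on `C`. -/
theorem mem_of_forall_comm {W K C : Subgroup G} {z : G} (hab : ∀ a ∈ W, ∀ b ∈ W, a * b = b * a)
    (hsq : ∀ a ∈ W, a * a = 1) (hz : z ∈ W)
    (hK : ∀ k ∈ K, ∀ w ∈ W, k * w * k⁻¹ = w ∨ k * w * k⁻¹ = z * w)
    (hann : ∀ w ∈ W, (∀ k ∈ K, k * w = w * k) → w ∈ C) (s : Set G) (hfin : s.Finite)
    (hs : s ⊆ W) : ∀ w ∈ W, (∀ k ∈ K, (∀ a ∈ s, k * a = a * k) → k * w = w * k) →
      w ∈ closure ((C : Set G) ∪ s) := by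
  induction s, hfin using Set.Finite.induction_on with
  | empty =>
    intro w hw h
    exact subset_closure (Or.inl (hann w hw (fun k hk => h k hk (fun a ha => ha.elim))))
  | @insert a s has hfin ih =>
    intro w hw h
    have hsW : s ⊆ W := fun x hx => hs (Set.mem_insert_of_mem _ hx)
    have haW : a ∈ W := hs (Set.mem_insert _ _)
    have hmono : closure ((C : Set G) ∪ s) ≤ closure ((C : Set G) ∪ insert a s) :=
      closure_mono (Set.union_subset_union_right _ (Set.subset_insert _ _))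
    by_cases hall : ∀ k ∈ K, (∀ a ∈ s, k * a = a * k) → k * w = w * k
    · exact hmono (ih hsW w hw hall)
    push Not at hall
    obtain ⟨k₀, hk₀, hk₀s, hk₀w⟩ := hall
    -- `k₀` moves `w`, so it moves `a`
    have h0w : k₀ * w * k₀⁻¹ = z * w := by
      rcases hK k₀ hk₀ w hw with e | e
      · exact absurd (comm_iff_conj.mp e) hk₀w
      · exact e
    have h0a : k₀ * a * k₀⁻¹ = z * a := by
      rcases hK k₀ hk₀ a haW with e | e
      · exfalso
        apply hk₀w
        refine h k₀ hk₀ (fun b hb => ?_)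
        rcases hb with rfl | hb
        · exact comm_iff_conj.mp e
        · exact hk₀s b hb
      · exact e
    -- `w * a` is centralized by the stabilizer of `s`
    have hwa : w * a ∈ closure ((C : Set G) ∪ s) := by
      refine ih hsW (w * a) (W.mul_mem hw haW) (fun k hk hks => ?_)
      have hzz : z * z = 1 := hsq z hz
      rcases hK k hk a haW with e | e
      · have h1 : k * w = w * k := h k hk (fun b hb => by
          rcases hb with rfl | hb
          · exact comm_iff_conj.mp e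
          · exact hks b hb)
        have h2 := comm_iff_conj.mp e
        rw [← mul_assoc, h1, mul_assoc, h2, ← mul_assoc]
      · -- `k₀⁻¹ * k` centralizes `a`
        have h3 : (k₀⁻¹ * k) * w = w * (k₀⁻¹ * k) := by
          refine h _ (K.mul_mem (K.inv_mem hk₀) hk) (fun b hb => ?_)
          rcases hb with rfl | hb
          · rw [← comm_iff_conj]
            have e1 : k₀⁻¹ * k * b * (k₀⁻¹ * k)⁻¹ = k₀⁻¹ * (k * b * k⁻¹) * k₀ := by group
            rw [e1, e, ← h0a]; group
          · have hk₀b : k₀⁻¹ * b = b * k₀⁻¹ := by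
              have := hk₀s b hb
              calc k₀⁻¹ * b = k₀⁻¹ * (b * k₀) * k₀⁻¹ := by group
                _ = k₀⁻¹ * (k₀ * b) * k₀⁻¹ := by rw [this]
                _ = b * k₀⁻¹ := by group
            rw [mul_assoc, hks b hb, ← mul_assoc, hk₀b, mul_assoc]
        have h4 : k * w * k⁻¹ = z * w := by
          have e1 : k * w * k⁻¹ = k₀ * ((k₀⁻¹ * k) * w * (k₀⁻¹ * k)⁻¹) * k₀⁻¹ := by group
          rw [e1, comm_iff_conj.mpr h3, h0w]
        rw [← comm_iff_conj]
        calc k * (w * a) * k⁻¹ = (k * w * k⁻¹) * (k * a * k⁻¹) := by group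
          _ = (z * w) * (z * a) := by rw [h4, e]
          _ = (z * z) * (w * a) := by
            rw [mul_assoc, ← mul_assoc w z a, hab w hw z hz]; group
          _ = w * a := by rw [hzz, one_mul]
    have h5 : w = (w * a) * a := by rw [mul_assoc, hsq a haW, mul_one]
    rw [h5]
    exact mul_mem (hmono hwa) (subset_closure (Or.inr (Set.mem_insert _ _)))

theorem exists_dual [Finite G] {W K A : Subgroup G} {z : G} (hab : ∀ a ∈ W, ∀ b ∈ W, a * b = b * a)
    (hsq : ∀ a ∈ W, a * a = 1) (hz : z ∈ W)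
    (hK : ∀ k ∈ K, ∀ w ∈ W, k * w * k⁻¹ = w ∨ k * w * k⁻¹ = z * w)
    (hA : A ≤ W) (hann : ∀ w ∈ W, (∀ k ∈ K, k * w = w * k) → w ∈ A) {w : G} (hw : w ∈ W) (hwA : w ∉ A) :
    ∃ k ∈ K, (∀ a ∈ A, k * a = a * k) ∧ k * w * k⁻¹ = z * w := by
  by_contra hcon
  push Not at hcon
  apply hwA
  have h1 : w ∈ closure ((A : Set G) ∪ (A : Set G)) := by
    refine mem_of_forall_comm hab hsq hz hK hann (A : Set G) (Set.toFinite _) hA w hw
      (fun k hk hka => ?_)
    rcases hK k hk w hw with e | e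
    · exact comm_iff_conj.mp e
    · exact absurd e (hcon k hk hka)
  rwa [Set.union_self, closure_eq] at h1

theorem exists_dual_fun [Finite G] {W K : Subgroup G} {z : G} (hab : ∀ a ∈ W, ∀ b ∈ W, a * b = b * a)
    (hsq : ∀ a ∈ W, a * a = 1) (hz : z ∈ W)
    (hK : ∀ k ∈ K, ∀ w ∈ W, k * w * k⁻¹ = w ∨ k * w * k⁻¹ = z * w)
    (f : G → G) (hf : ∀ w ∈ W, f w = 1 ∨ f w = z) (hmul : ∀ a ∈ W, ∀ b ∈ W, f (a * b) = f a * f b)
    (hann : ∀ w ∈ W, (∀ k ∈ K, k * w = w * k) → f w = 1) :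
    ∃ k ∈ K, ∀ w ∈ W, k * w * k⁻¹ = f w * w := by
  have hzz : z * z = 1 := hsq z hz
  let A : Subgroup G :=
    { carrier := {w | w ∈ W ∧ f w = 1}
      mul_mem' := by
        rintro a b ⟨ha, ha1⟩ ⟨hb, hb1⟩
        exact ⟨mul_mem ha hb, by rw [hmul a ha b hb, ha1, hb1, one_mul]⟩
      one_mem' := ⟨one_mem _, hann 1 (one_mem _) fun k _ => by simp⟩
      inv_mem' := by
        rintro a ⟨ha, ha1⟩
        rw [inv_eq_self (hsq a ha)]
        exact ⟨ha, ha1⟩ }
  have hAW : A ≤ W := fun w hw => hw.1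
  by_cases hall : ∀ w ∈ W, w ∈ A
  · refine ⟨1, one_mem _, fun w hw => ?_⟩
    rw [(hall w hw).2]; group
  push Not at hall
  obtain ⟨w, hw, hwA⟩ := hall
  obtain ⟨k, hk, hkA, hkw⟩ := exists_dual hab hsq hz hK hAW (fun w hw h1 => ⟨hw, hann w hw h1⟩) hw hwA
  have hfw : ∀ x ∈ W, x ∉ A → f x = z := fun x hx hxA => (hf x hx).resolve_left fun e => hxA ⟨hx, e⟩
  refine ⟨k, hk, fun x hx => ?_⟩
  by_cases hxA : x ∈ A
  · rw [hxA.2, one_mul]; exact comm_iff_conj.mpr (hkA x hxA)
  · rw [hfw x hx hxA]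
    have h1 : w * x ∈ A := ⟨mul_mem hw hx, by rw [hmul w hw x hx, hfw w hw hwA, hfw x hx hxA, hzz]⟩
    have h2 := comm_iff_conj.mpr (hkA _ h1)
    have h3 : z * w * (k * x * k⁻¹) = w * x := by
      rw [← hkw, ← h2]; group
    calc k * x * k⁻¹ = (z * w) * (z * w * (k * x * k⁻¹)) := by
          have : z * w * (z * w) = 1 := hsq _ (mul_mem hz hw)
          rw [← mul_assoc, this, one_mul]
      _ = z * (w * w) * x := by rw [h3]; group
      _ = z * x := by rw [hsq w hw, mul_one]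

end Dual

section Star

variable {T V L : Subgroup G} {z : G} [Finite G]

theorem o2_le_o2 (h : Star T V z L) : o2 L ≤ o2 (centralizer ({z} : Set G)) := by
  refine Cfsg.Agent.ZN.le_o2 ((Cfsg.Agent.ZN.o2_le L).trans h.L_le) (Cfsg.Agent.ZN.isPGroup_o2 L) ?_
  exact h.L_nor.trans (Cfsg.Agent.ZN.normalizer_le_normalizer_o2 L)

theorem o2_act (h : Star T V z L) {k w : G} (hk : k ∈ o2 L) (hw : w ∈ ws V z) :
    k * w * k⁻¹ = w ∨ k * w * k⁻¹ = z * w := by
  have hzw : z * w = w * z := (h.toGeoC.z_comm (h.toGeoC.ws_le_centralizer hw)).symm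
  rcases h.toGeoC.comm_cases hw (o2_le_o2 h hk) with e | e
  · left; rw [← e]; group
  · right
    have hkz : k * z = z * k := h.toGeoC.z_comm (h.L_le (Cfsg.Agent.ZN.o2_le L hk))
    calc k * w * k⁻¹ = z * (z * (k * w)) * k⁻¹ := by rw [← mul_assoc z z, h.toGeoC.zz, one_mul]
      _ = z * (w * k) * k⁻¹ := by rw [e]
      _ = z * w := by group

theorem ws_sq (h : Star T V z L) {w : G} (hw : w ∈ ws V z) : w * w = 1 := by
  let A : Subgroup G :=
    { carrier := {w | w ∈ ws V z ∧ w * w = 1}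
      mul_mem' := by
        rintro a b ⟨ha, ha1⟩ ⟨hb, hb1⟩
        refine ⟨mul_mem ha hb, ?_⟩
        calc a * b * (a * b) = a * (b * a) * b := by group
          _ = (a * a) * (b * b) := by rw [h.ab b hb a ha]; group
          _ = 1 := by rw [ha1, hb1, one_mul]
      one_mem' := ⟨one_mem _, one_mul 1⟩
      inv_mem' := by
        rintro a ⟨ha, ha1⟩
        refine ⟨inv_mem ha, ?_⟩
        have : a⁻¹ * a⁻¹ = (a * a)⁻¹ := by group
        rw [this, ha1, inv_one] }
  refine (ws_le (U := A) (fun L hL x hx => ⟨le_ws hL hx, ?_⟩) hw).2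
  obtain ⟨c, hc, rfl⟩ := h.toGeoC.exists_of_mem_lines hL
  rw [mem_cj] at hx
  have := h.sq _ hx
  have e : x * x = c * (c⁻¹ * x * c * (c⁻¹ * x * c)) * c⁻¹ := by group
  rw [e, this]; group

/-- `L` centralises `w ∈ ws V z` iff `O₂(L)` does -/
theorem comm_iff (h : Star T V z L) {w : G} (hw : w ∈ ws V z) :
    (∀ l ∈ L, l * w = w * l) ↔ ∀ y ∈ o2 L, y * w = w * y :=
  ⟨fun h1 y hy => h1 y (Cfsg.Agent.ZN.o2_le L hy), h.RED w hw⟩

/-- **the dual of (RED)**, hyperplane form -/
theorem _root_.Cfsg.Agent.OddCyclic.EN.BbDefs.Star.exists_dual (h : Star T V z L) {A : Subgroup G}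
    (hA : A ≤ ws V z) (hC : ∀ w ∈ ws V z, (∀ l ∈ L, l * w = w * l) → w ∈ A) {w : G} (hw : w ∈ ws V z)
    (hwA : w ∉ A) : ∃ y ∈ o2 L, (∀ a ∈ A, y * a = a * y) ∧ y * w * y⁻¹ = z * w :=
  ZDual.exists_dual h.ab (fun _ => ws_sq h) (h.toGeoC.V_le_ws h.z_mem) (fun _ hk _ hw => o2_act h hk hw) hA
    (fun w hw h1 => hC w hw ((comm_iff h hw).mpr h1)) hw hwA

/-- **the dual of (RED)**, functional form -/
theorem _root_.Cfsg.Agent.OddCyclic.EN.BbDefs.Star.exists_dual_fun (h : Star T V z L)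
    (f : G → G) (hf : ∀ w ∈ ws V z, f w = 1 ∨ f w = z)
    (hmul : ∀ a ∈ ws V z, ∀ b ∈ ws V z, f (a * b) = f a * f b)
    (hC : ∀ w ∈ ws V z, (∀ l ∈ L, l * w = w * l) → f w = 1) :
    ∃ y ∈ o2 L, ∀ w ∈ ws V z, y * w * y⁻¹ = f w * w :=
  ZDual.exists_dual_fun h.ab (fun _ => ws_sq h) (h.toGeoC.V_le_ws h.z_mem)
    (fun _ hk _ hw => o2_act h hk hw) f hf hmul
    (fun w hw h1 => hC w hw ((comm_iff h hw).mpr h1))

/-- **the dual of (RED)**, with homomorphisms -/
theorem _root_.Cfsg.Agent.OddCyclic.EN.BbDefs.Star.exists_dual_hom (h : Star T V z L)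
    (f : ws V z →* zpowers z) (hC : ∀ w (hw : w ∈ ws V z), (∀ l ∈ L, l * w = w * l) → f ⟨w, hw⟩ = 1) :
    ∃ y ∈ o2 L, ∀ w (hw : w ∈ ws V z), y * w * y⁻¹ * w⁻¹ = f ⟨w, hw⟩ := by
  classical
  obtain ⟨y, hy, hyw⟩ := Star.exists_dual_fun h (fun w => if hw : w ∈ ws V z then (f ⟨w, hw⟩ : G) else 1)
    (fun w hw => by
      rw [dif_pos hw]
      exact (mem_zpowers_iff_of_mul_self h.toGeoC.zz).mp (f ⟨w, hw⟩).2)
    (fun a ha b hb => by
      rw [dif_pos (mul_mem ha hb), dif_pos ha, dif_pos hb]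
      have : (⟨a * b, mul_mem ha hb⟩ : ws V z) = ⟨a, ha⟩ * ⟨b, hb⟩ := rfl
      rw [this, map_mul]; rfl)
    (fun w hw h1 => by rw [dif_pos hw, hC w hw h1]; rfl)
  refine ⟨y, hy, fun w hw => ?_⟩
  rw [hyw w hw, dif_pos hw, mul_inv_cancel_right]

/-! ### the module `ws V z / ⟨z⟩` -/

variable {M X : Type u} [AddCommGroup M] [Group X] [DistribMulAction X M]

/-- `L` (perfect) centralises `w` iff it fixes the image of `w` in `M` -/
theorem _root_.Cfsg.Agent.OddCyclic.EN.BbDefs.Star.comm_pi_iff (h : Star T V z L) (R : RepM.Rep V z M X) {w : G}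
    (hw : w ∈ ws V z) : (∀ l ∈ L, l * w = w * l) ↔ ∀ l ∈ L, R.rho l • R.pi w = R.pi w := by
  constructor
  · intro h1 l hl
    rw [R.smul_pi l (h.L_le hl) w hw, h1 l hl, mul_inv_cancel_right]
  · intro h1
    have hz2 := h.toGeoC.zz
    have hcase : ∀ l ∈ L, l * w * l⁻¹ = w ∨ l * w * l⁻¹ = z * w := by
      intro l hl
      have h2 := h1 l hl
      rw [R.smul_pi l (h.L_le hl) w hw, R.pi_eq_iff (R.conj_mem (h.L_le hl) hw) hw,
        mem_zpowers_iff_of_mul_self hz2] at h2
      rcases h2 with e | e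
      · left; exact mul_inv_eq_one.mp e
      · right; exact mul_inv_eq_iff_eq_mul.mp e
    have hlz : ∀ l ∈ L, l * z * l⁻¹ = z := fun l hl => by
      rw [h.toGeoC.z_comm (h.L_le hl)]; group
    have key : ⁅L, L⁆ ≤ centralizer ({w} : Set G) := by
      rw [commutator_le]
      intro a ha b hb
      rw [mem_centralizer_singleton_iff, commutatorElement_def, ← comm_iff_conj]
      have e1 : a * b * a⁻¹ * b⁻¹ * w * (a * b * a⁻¹ * b⁻¹)⁻¹ =
          a * (b * (a⁻¹ * (b⁻¹ * w * b⁻¹⁻¹) * a⁻¹⁻¹) * b⁻¹) * a⁻¹ := by group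
      have hz' : ∀ l ∈ L, ∀ u, l * (z * u) * l⁻¹ = z * (l * u * l⁻¹) := by
        intro l hl u
        calc l * (z * u) * l⁻¹ = (l * z * l⁻¹) * (l * u * l⁻¹) := by group
          _ = z * (l * u * l⁻¹) := by rw [hlz l hl]
      have hinv : ∀ l ∈ L, ∀ {ε : G}, l * w * l⁻¹ = ε * w → (ε = 1 ∨ ε = z) → l⁻¹ * w * l⁻¹⁻¹ = ε * w := by
        rintro l hl ε e (rfl | rfl)
        · rw [one_mul] at e ⊢
          calc l⁻¹ * w * l⁻¹⁻¹ = l⁻¹ * (l * w * l⁻¹) * l := by rw [e]; group
            _ = w := by group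
        · have h3 := hz' l⁻¹ (inv_mem hl) (l * w * l⁻¹)
          calc l⁻¹ * w * l⁻¹⁻¹ = l⁻¹ * (ε * (ε * w)) * l⁻¹⁻¹ := by rw [← mul_assoc ε ε, hz2, one_mul]
            _ = l⁻¹ * (ε * (l * w * l⁻¹)) * l⁻¹⁻¹ := by rw [e]
            _ = ε * (l⁻¹ * (l * w * l⁻¹) * l⁻¹⁻¹) := h3
            _ = ε * w := by group
      obtain ⟨α, hα, ea⟩ : ∃ α : G, (α = 1 ∨ α = z) ∧ a * w * a⁻¹ = α * w := by
        rcases hcase a ha with e | e
        · exact ⟨1, Or.inl rfl, by rw [one_mul]; exact e⟩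
        · exact ⟨z, Or.inr rfl, e⟩
      obtain ⟨β, hβ, eb⟩ : ∃ β : G, (β = 1 ∨ β = z) ∧ b * w * b⁻¹ = β * w := by
        rcases hcase b hb with e | e
        · exact ⟨1, Or.inl rfl, by rw [one_mul]; exact e⟩
        · exact ⟨z, Or.inr rfl, e⟩
      have hma : ∀ γ : G, (γ = 1 ∨ γ = z) → ∀ l ∈ L, ∀ u, l * (γ * u) * l⁻¹ = γ * (l * u * l⁻¹) := by
        rintro γ (rfl | rfl) l hl u
        · group
        · exact hz' l hl u
      rw [e1, hinv b hb eb hβ, hma β hβ a⁻¹ (inv_mem ha), hinv a ha ea hα, hma β hβ b hb, hma α hα b hb, eb,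
        hma β hβ a ha, hma α hα a ha, hma β hβ a ha, ea]
      rcases hα with rfl | rfl <;> rcases hβ with rfl | rfl
      · simp
      · rw [one_mul, one_mul, ← mul_assoc, hz2, one_mul]
      · rw [one_mul, one_mul, ← mul_assoc, hz2, one_mul]
      · simp only [← mul_assoc, hz2, one_mul]
    intro l hl
    rw [← h.perf] at hl
    exact mem_centralizer_singleton_iff.mp (key hl)

/-- **the dual of (RED)** in the module, hyperplane form -/
theorem _root_.Cfsg.Agent.OddCyclic.EN.BbDefs.Star.exists_dual_sub (h : Star T V z L) (R : RepM.Rep V z M X)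
    (N : AddSubgroup M) (hN : ∀ m : M, (∀ l ∈ L, R.rho l • m = m) → m ∈ N) {w : G} (hw : w ∈ ws V z)
    (hwN : R.pi w ∉ N) :
    ∃ y ∈ o2 L, (∀ a ∈ ws V z, R.pi a ∈ N → y * a = a * y) ∧ y * w * y⁻¹ = z * w := by
  let A : Subgroup G :=
    { carrier := {w | w ∈ ws V z ∧ R.pi w ∈ N}
      mul_mem' := by
        rintro a b ⟨ha, ha1⟩ ⟨hb, hb1⟩
        refine ⟨mul_mem ha hb, ?_⟩
        rw [R.pi_mul a ha b hb]; exact add_mem ha1 hb1
      one_mem' := ⟨one_mem _, by rw [R.pi_one]; exact zero_mem _⟩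
      inv_mem' := by
        rintro a ⟨ha, ha1⟩
        refine ⟨inv_mem ha, ?_⟩
        rw [R.pi_inv ha]; exact neg_mem ha1 }
  obtain ⟨y, hy, h1, h2⟩ := h.exists_dual (A := A) (fun a ha => ha.1)
    (fun w hw h1 => ⟨hw, hN _ ((h.comm_pi_iff R hw).mp h1)⟩) hw (fun h1 => hwN h1.2)
  exact ⟨y, hy, fun a ha haN => h1 a ⟨ha, haN⟩, h2⟩

open Classical in
/-- **the dual of (RED)** in the module, functional form -/
theorem _root_.Cfsg.Agent.OddCyclic.EN.BbDefs.Star.exists_dual_add (h : Star T V z L) (R : RepM.Rep V z M X)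
    (f : M →+ ZMod 2) (hf : ∀ m : M, (∀ l ∈ L, R.rho l • m = m) → f m = 0) :
    ∃ y ∈ o2 L, ∀ w ∈ ws V z, y * w * y⁻¹ = if f (R.pi w) = 0 then w else z * w := by
  have hz2 := h.toGeoC.zz
  have h01 : ∀ a : ZMod 2, a = 0 ∨ a = 1 := by decide
  obtain ⟨y, hy, hyw⟩ := Star.exists_dual_fun h (fun w => if f (R.pi w) = 0 then 1 else z)
    (fun w _ => by by_cases e : f (R.pi w) = 0 <;> simp [e])
    (fun a ha b hb => by
      have e := R.pi_mul a ha b hb
      have e2 : (1 : ZMod 2) + 1 = 0 := by decide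
      simp only [e, map_add]
      rcases h01 (f (R.pi a)) with ea | ea <;> rcases h01 (f (R.pi b)) with eb | eb <;>
        simp [ea, eb, hz2, e2])
    (fun w hw h1 => if_pos (hf _ ((h.comm_pi_iff R hw).mp h1)))
  refine ⟨y, hy, fun w hw => ?_⟩
  rw [hyw w hw]
  by_cases e : f (R.pi w) = 0 <;> simp [e]

/-! ### `O₂(L)` moves every line through `z` -/

theorem _root_.Cfsg.Agent.OddCyclic.EN.BbDefs.Star.not_o2_le (h : Star T V z L) {l : Subgroup G}
    (hl : l ∈ lines V z) : ¬ o2 L ≤ centralizer (l : Set G) := by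
  obtain ⟨c, hc, rfl⟩ := h.toGeoC.exists_of_mem_lines hl
  intro h1
  apply h.mv
  intro y hy
  have hn := h.L_nor.trans (Cfsg.Agent.ZN.normalizer_le_normalizer_o2 L)
  have h2 : c * y * c⁻¹ ∈ o2 L := Cfsg.Agent.ZN.Block.conj_mem_of_normalizer hn hc hy
  have h3 := mem_centralizer_iff.mp (h1 h2)
  refine mem_centralizer_iff.mpr fun v hv => ?_
  have h4 := h3 (c * v * c⁻¹) (conj_mem_cj hv)
  calc v * y = c⁻¹ * (c * v * c⁻¹ * (c * y * c⁻¹)) * c := by group
    _ = c⁻¹ * (c * y * c⁻¹ * (c * v * c⁻¹)) * c := by rw [h4]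
    _ = y * v := by group

/-- some element of `O₂(L)` interchanges the two points `≠ z` of a line through `z` -/
theorem _root_.Cfsg.Agent.OddCyclic.EN.BbDefs.Star.exists_move (h : Star T V z L) {x : G} (hx : Col V z x) :
    ∃ y ∈ o2 L, y * x * y⁻¹ = z * x := by
  obtain ⟨_, hx1, hzx, l, hl, hxl⟩ := hx
  by_contra hcon
  push Not at hcon
  apply h.not_o2_le hl
  intro y hy
  have hyx : y * x * y⁻¹ = x := (o2_act h hy (le_ws hl hxl)).resolve_right (hcon y hy)
  have hyx' := comm_iff_conj.mp hyx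
  have hyz : y * z = z * y := h.toGeoC.z_comm (h.L_le (Cfsg.Agent.ZN.o2_le L hy))
  obtain ⟨⟨g, rfl⟩, hzl⟩ := hl
  obtain ⟨k, -, -, hg⟩ := (h.toGeoC.conj g).point hzl h.z_ne
  refine mem_centralizer_iff.mpr fun v hv => ?_
  rcases hg.four hzl hxl h.z_ne hx1 hzx hv with rfl | rfl | rfl | rfl
  · simp
  · exact hyz.symm
  · exact hyx'.symm
  · rw [mul_assoc, ← hyx', ← mul_assoc, ← hyz, mul_assoc]

/-- `N(V) ∩ C(z) = O₂(L) C(V)` -/
theorem _root_.Cfsg.Agent.OddCyclic.EN.BbDefs.Star.exists_mul (h : Star T V z L) {g : G}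
    (hg : g ∈ normalizer (V : Set G)) (hgz : g ∈ centralizer ({z} : Set G)) :
    ∃ y ∈ o2 L, y * g ∈ centralizer (V : Set G) := by
  by_cases hgV : g ∈ centralizer (V : Set G)
  · exact ⟨1, one_mem _, by rw [one_mul]; exact hgV⟩
  obtain ⟨x, hx, hx1, hxz⟩ := h.toGeoC.exists_y
  obtain ⟨y, hy, hyx⟩ := h.exists_move (x := x)
    ⟨h.z_ne, hx1, Ne.symm hxz, V, h.toGeoC.V_mem_lines, hx⟩
  refine ⟨y, hy, ?_⟩
  by_contra hcon
  have hyC : y ∈ centralizer ({z} : Set G) := h.L_le (Cfsg.Agent.ZN.o2_le L hy)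
  have hyV : y ∈ normalizer (V : Set G) := h.T_norm (h.toGeoC.o2_le_T (o2_le_o2 h hy))
  have h1 := Line.move h.toGeoC hgz hg hgV hx hx1 hxz
  have h2 := Line.move h.toGeoC (mul_mem hyC hgz) (mul_mem hyV hg) hcon hx hx1 hxz
  have h3 : y * z * y⁻¹ = z := comm_iff_conj.mpr (h.toGeoC.z_comm hyC)
  have h4 : y * g * x * (y * g)⁻¹ = x := by
    calc y * g * x * (y * g)⁻¹ = y * (g * x * g⁻¹) * y⁻¹ := by group
      _ = (y * z * y⁻¹) * (y * x * y⁻¹) := by rw [h1]; group
      _ = x := by rw [h3, hyx, ← mul_assoc, h.toGeoC.zz, one_mul]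
  rw [h4] at h2
  exact h.z_ne (by simpa using h2.symm)

end Star

end Cfsg.Agent.OddCyclic.EN.ZDual
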