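import Mathlib
import Cfsg.Agent.OddCyclic.EN.SevTwo
import Cfsg.Agent.OddCyclic.EN.Shape
import Cfsg.Agent.OddCyclic.EN.ZDual
import Cfsg.Agent.OddCyclic.EN.OneEnd

/-!
# (B-b), types `L₃(2)`, `PGL₂(7)`, `n ≥ 2`: the end

`SevEnd.bTwo`: `F*(C(z)/kq V z) = J ≅ PSL₂(7)`, `n ≥ 2` is impossible.
-/

set_option autoImplicit false
set_option linter.unusedSectionVars false
set_option linter.style.haveILetI false

namespace Cfsg.Agent.OddCyclic.EN.SevEnd

open Subgroup Cfsg Cfsg.Agent.ZN Cfsg.Agent.MinSimple.Geo Cfsg.Agent.OddCyclic.GeoC Cfsg.Agent.OddCyclic.BTwoA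
  Cfsg.Agent.OddCyclic.EN.Line Cfsg.Agent.OddCyclic.EN.Base Cfsg.Agent.MinSimple.SecRep
  Cfsg.Agent.OddCyclic.EN.RepM Cfsg.Agent.OddCyclic.EN.Perm Cfsg.Agent.OddCyclic.EN.SevGrp
  Cfsg.Agent.OddCyclic.EN.SevMod Cfsg.Agent.OddCyclic.EN.SevPt Cfsg.Agent.OddCyclic.EN.BbDefs
  Cfsg.Agent.OddCyclic.EN.Shape

universe u

variable {G : Type u} [Group G] [Finite G] {T V L : Subgroup G} {z : G} {M X : Type u} [AddCommGroup M]
  [Group X] [DistribMulAction X M] {R : Rep V z M X} {J : Subgroup X}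

/-- the image of `T` is a Sylow 2-subgroup of `X` -/
theorem exists_sylow (h : GeoC T V z) (R : Rep V z M X) : ∃ P : Sylow 2 X, (P : Subgroup X) = R.img T := by
  have hX : Finite X := R.finite_right
  haveI : Fact (Nat.Prime 2) := ⟨Nat.prime_two⟩
  have hodd : ¬ 2 ∣ (R.img T).index := by
    intro h2
    apply h.T_syl
    exact h2.trans (Subgroup.index_map_dvd (H := T.subgroupOf (centralizer ({z} : Set G))) (f := R.hom) R.hom_surj)
  have h2 : IsPGroup 2 (R.img T) :=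
    (h.two.comap_of_injective _ (centralizer ({z} : Set G)).subtype_injective).map R.hom
  exact ⟨h2.toSylow hodd, rfl⟩

theorem pf (h : Cfg T V z L R J) : Pf V z J z R := by
  have hab := BbMain.toAb h.star
  have hz : Pt z z := Pt.refl z
  have hX : Finite X := R.finite_right
  have hL : L ≤ centralizer ({z} : Set G) := h.star.L_le
  have hred : ∀ w ∈ ws V z, (∀ k ∈ kq V z, k * w = w * k) → ∀ l ∈ L, l * w = w * l := fun w hw hk =>
    h.star.RED w hw fun y hy => hk y (BbMain.o2L_le_T h.star hy).2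
  refine ⟨?_, ?_, ?_, h.star.k3⟩
  · intro w hw hk j hj
    obtain ⟨l, hl, rfl⟩ := (h.mem j).mp hj
    rw [R.smul_pi l (hL hl) w hw, hred w hw hk l hl, mul_inv_cancel_right]
  · intro v hv hpt hvz
    by_contra hcon
    push Not at hcon
    have h1 := hred v hv hcon
    obtain ⟨g, rfl⟩ := hpt
    refine hvz (h.star.RL g fun l hl => ?_)
    rw [mem_centralizer_singleton_iff]
    exact h1 l hl
  · rintro v hv hpt hvz ⟨P, hP⟩
    haveI : Fact (Nat.Prime 2) := ⟨Nat.prime_two⟩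
    obtain ⟨P0, hP0⟩ := exists_sylow h.star.toGeoC R
    obtain ⟨g, hg⟩ := MulAction.exists_smul_eq X P P0
    obtain ⟨c, hc, hcg⟩ := R.rho_surj g
    have hcz : c * z = z * c := mem_centralizer_singleton_iff.mp hc
    have hv' : c * v * c⁻¹ ∈ ws V z := R.conj_mem hc hv
    have hvC : c * v * c⁻¹ ∈ centralizer ({z} : Set G) := R.W_le hv'
    have hne : c * v * c⁻¹ ≠ z := by
      intro e
      apply hvz
      have e1 : v = c⁻¹ * (c * v * c⁻¹) * c := by group
      rw [e1, e, mul_assoc, ← hcz, inv_mul_cancel_left]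
    have hfix : ∀ t ∈ T, t * (c * v * c⁻¹) * t⁻¹ = c * v * c⁻¹ ∨ t * (c * v * c⁻¹) * t⁻¹ = z * (c * v * c⁻¹) := by
      intro t ht
      have htC := h.star.T_le ht
      rw [← Rep.pi_eq_pi hab hz R (R.conj_mem htC hv') hv', ← R.smul_pi t htC _ hv', ← R.smul_pi c hc v hv, hcg]
      have h1 : R.rho t ∈ (P0 : Subgroup X) := by
        rw [hP0]; exact R.rho_mem_img h.star.T_le ht
      rw [← hg] at h1
      have h2 : (MulAut.conj g)⁻¹ • R.rho t ∈ (P : Subgroup X) := Subgroup.mem_pointwise_smul_iff_inv_smul_mem.mp h1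
      rw [MulAut.smul_def, MulAut.conj_inv_apply] at h2
      have h3 := hP _ h2
      calc R.rho t • g • R.pi v = g • (g⁻¹ * R.rho t * g) • R.pi v := by
            rw [smul_smul, smul_smul]; congr 1; group
        _ = g • R.pi v := by rw [h3]
    have hV := h.star.toBb.Z (hpt.conj c) hvC hne hfix
    have hcol : Col V z (c * v * c⁻¹) := col_of_mem h.star.toGeoC h.star.z_mem hV h.star.z_ne
      (Base.Pt.ne_one h.star.toGeoC (hpt.conj c)) hne.symm
    have h5 := hcol.conj c⁻¹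
    have e1 : c⁻¹ * z * c⁻¹⁻¹ = z := by
      rw [inv_inv, mul_assoc, ← hcz, inv_mul_cancel_left]
    have e2 : c⁻¹ * (c * v * c⁻¹) * c⁻¹⁻¹ = v := by group
    rwa [e1, e2] at h5

theorem sv (h : Cfg T V z L R J) (hB : TypeB J) : Sv J := by
  refine ⟨h.nor, h.simple, ?_, h.cent⟩
  obtain ⟨F, i1, i2, hF, ⟨e⟩⟩ := hB
  rw [Nat.card_congr e.toEquiv]
  have h1 := Cfsg.Agent.ClassicalGeometry.PSL2Basic.card_PSL2_odd F (by rw [hF]; decide)
  rw [hF] at h1
  omega

theorem sit (h : Cfg T V z L R J) (hB : TypeB J) {y : G} (hy : y ∈ V) (hy1 : y ≠ 1) (hyz : y ≠ z) :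
    Sit (hm X M) J (Multiplicative.ofAdd (R.pi y)) := by
  have hab := BbMain.toAb h.star
  have hX : Finite X := R.finite_right
  have hyw : y ∈ ws V z := hab.V_le_ws hy
  refine ⟨sv h hB, sq_mk hab (Pt.refl z) R, ?_, ?_⟩
  · obtain ⟨P0, hP0⟩ := exists_sylow h.star.toGeoC R
    refine ⟨P0, fun g hg => ?_⟩
    have hg' : g ∈ (P0 : Subgroup X) := hg
    rw [hP0, R.mem_img h.star.T_le] at hg'
    obtain ⟨t, ht, rfl⟩ := hg'
    have htC := h.star.T_le ht
    rw [hm_ofAdd]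
    congr 1
    rw [R.smul_pi t htC y hyw, Rep.pi_eq_pi hab (Pt.refl z) R (R.conj_mem htC hyw) hyw]
    exact hab.conj_cases h.star.z_mem hy h.star.z_ne (mem_centralizer_singleton_iff.mp htC) (h.star.T_norm ht)
  · intro g hg e
    refine OneEnd.three_move hab R hy hy1 hyz h.star.f3 (x := g) ?_ ?_ (Multiplicative.ofAdd.injective e)
    · have h3 : g ^ 3 = 1 := by rw [← hg]; exact pow_orderOf_eq_one g
      rw [← h3, pow_succ, pow_two]
    · rintro rfl
      rw [orderOf_one] at hg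
      norm_num at hg

/-- **`bTwo`** of `EN/Final.lean` -/
theorem bTwo (h : Cfg T V z L R J) (hB : TypeB J) {n : ℕ} (hn : 2 ≤ n) (hab : AbN T V z n) : False := by
  obtain ⟨x, y, hx, hw, hc⟩ := hab.crit
  have hcr : Crit V z n x y := ⟨hx, hw, hc⟩
  obtain ⟨g, rfl⟩ := hx
  have h1 := hcr.conj g⁻¹
  have e1 : g⁻¹ * (g * z * g⁻¹) * g⁻¹⁻¹ = z := by group
  rw [e1] at h1
  obtain ⟨g', hg'⟩ := h1.pt' hab.toGeoC
  rw [hg'] at h1
  obtain ⟨v, hv, hv1, hvz⟩ := h.star.toGeoC.exists_y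
  have hp := pf h
  exact Cp.false (⟨hab, h1, hp, hp.cj g', sit h hB hv hv1 hvz⟩ :
    Cp T V z n J (R.pi v) z (g' * z * g'⁻¹) R (cjRep R g')) hn

end Cfsg.Agent.OddCyclic.EN.SevEnd
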