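import Cfsg.Agent.OddCyclic.EN.S7End
import Cfsg.Agent.OddCyclic.EN.S7Thr
import Cfsg.Agent.OddCyclic.EN.SevEnd

/-!
# (B-b), the end theorem for types (B), (B'), `n = 1`: the field `bOne` of `Final.Ends`
-/

set_option autoImplicit false

namespace Cfsg.Agent.OddCyclic.EN.S7B

open Subgroup Cfsg Cfsg.Agent.MinSimple.Geo Cfsg.Agent.OddCyclic.EN.S7One

universe u

/-- from helper561's configuration -/
theorem on {G : Type u} [Group G] [Finite G] {T V L : Subgroup G} {z : G} {M X : Type u} [AddCommGroup M] [Group X]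
    [DistribMulAction X M] [Finite M] [Finite X] {R : RepM.Rep V z M X} {J : Subgroup X} (hc : Shape.Cfg T V z L R J)
    (hb : Shape.TypeB J) {x : G} (hx : x ∈ V) (hx1 : x ≠ 1) (hxz : x ≠ z)
    (hnc : ∃ a ∈ ws V z, ∃ b ∈ ws V x, a * b ≠ b * a) : On T V z x L R J where
  star := hc.star
  amb :=
    { nor := hc.nor
      simple := hc.simple
      card := by
        obtain ⟨F, i1, i2, hF, ⟨e⟩⟩ := hb
        rw [Nat.card_congr e.toEquiv]
        have h1 := Cfsg.Agent.ClassicalGeometry.PSL2Basic.card_PSL2_odd F (by rw [hF]; decide)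
        rw [hF] at h1
        omega
      cent := hc.cent }
  img := hc.mem
  pt := ⟨hx, hx1, hxz⟩
  nc := hnc

/-- the field `bOne` of `Final.Ends`, given (9) -/
theorem bOne_of {G : Type u} [Group G] [Finite G] {T V L : Subgroup G} {z : G} {M X : Type u} [AddCommGroup M]
    [Group X] [DistribMulAction X M] {R : RepM.Rep V z M X} {J : Subgroup X} (hc : Shape.Cfg T V z L R J)
    (hb : Shape.TypeB J) {x : G} (hx : x ∈ V) (hx1 : x ≠ 1) (hxz : x ≠ z)
    (hnc : ∃ a ∈ ws V z, ∃ b ∈ ws V x, a * b ≠ b * a)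
    (H : ∀ (_ : Finite M) (_ : Finite X) (t : X) (w : G), Tw T V z x L R J t w →
      ∀ c ∈ OneGen.cq V z, ∀ g ∈ L, c * g * c⁻¹ * g⁻¹ ∈ ws V z) : False := by
  have hM : Finite M := R.finite_left
  have hX : Finite X := R.finite_right
  obtain ⟨t, w, h⟩ := (on hc hb hx hx1 hxz hnc).exists_tw
  exact h.false_of (H hM hX t w h)

/-- the field `bOne` of `Final.Ends` -/
theorem bOne {G : Type u} [Group G] [Finite G] {T V L : Subgroup G} {z : G} {M X : Type u} [AddCommGroup M]
    [Group X] [DistribMulAction X M] {R : RepM.Rep V z M X} {J : Subgroup X} (hc : Shape.Cfg T V z L R J)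
    (hb : Shape.TypeB J) {x : G} (hx : x ∈ V) (hx1 : x ≠ 1) (hxz : x ≠ z)
    (hnc : ∃ a ∈ ws V z, ∃ b ∈ ws V x, a * b ≠ b * a) : False :=
  bOne_of hc hb hx hx1 hxz hnc fun _ _ _ _ h => h.comm

end Cfsg.Agent.OddCyclic.EN.S7B
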