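import Mathlib
import Cfsg.Agent.OddCyclic.L2Borel
import Cfsg.Agent.GH.L2AutFix

/-!
# Subgroups of a Sylow 2-subgroup of `SL₂(q) ⊴ X ≤ Aut SL₂(q)`, `q` even (8.3 of helper217's (B-b))

`A ≤ B ≤ P`, `P` a 2-group normalising the elementary abelian group `A`, `B ≤ C(A)`, `q ≤ |A|²`, `q |A| ≤ 2 |B|`,
`P ≰ L`: then `A ≤ L` and `(q, |A|) = (4, 2)` or `(16, 4)`.
-/

set_option autoImplicit false
set_option linter.unusedSectionVars false

namespace Cfsg.Agent.OddCyclic.EN.AqNum

open Matrix Subgroup Cfsg.Agent.OddCyclic.T1Sl2 Cfsg.Agent.Lib.AutSL2 Cfsg.Agent.Lib.AutSL2Out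
  Cfsg.Agent.Classification.QDW.TypeHom
open Cfsg.Agent.Lib.SL2Mat (fieldAut)

section act

variable {X : Type*} [Group X] {L : Subgroup X} [L.Normal] {F : Type*} [Field F]

/-- the action of `X` on `L ≅ SL₂(q)` -/
noncomputable def ac (e : SpecialLinearGroup (Fin 2) F ≃* L) : X →* MulAut (SpecialLinearGroup (Fin 2) F) :=
  (MulAut.congr e.symm).toMonoidHom.comp MulAut.conjNormal

theorem e_ac (e : SpecialLinearGroup (Fin 2) F ≃* L) (x : X) (s : SpecialLinearGroup (Fin 2) F) :
    ((e (ac e x s) : L) : X) = x * e s * x⁻¹ := by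
  have h : e (ac e x s) = MulAut.conjNormal x (e s) := by
    change e (e.symm (MulAut.conjNormal x (e.symm.symm s))) = _
    rw [e.apply_symm_apply]; rfl
  rw [h, MulAut.conjNormal_apply]

theorem ac_coe (e : SpecialLinearGroup (Fin 2) F ≃* L) (s : SpecialLinearGroup (Fin 2) F) :
    ac e (e s : X) = MulAut.conj s := by
  ext1 x
  apply e.injective
  apply Subtype.ext
  rw [e_ac, MulAut.conj_apply, map_mul, map_mul, map_inv]; rfl

theorem ac_eq_iff (e : SpecialLinearGroup (Fin 2) F ≃* L) (x y : X) :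
    ac e x = ac e y ↔ ∀ l ∈ L, x * l * x⁻¹ = y * l * y⁻¹ := by
  constructor
  · intro h l hl
    obtain ⟨s, hs⟩ := e.surjective ⟨l, hl⟩
    have h1 := e_ac e x s
    have h2 := e_ac e y s
    rw [hs] at h1 h2
    rw [h] at h1
    exact h1.symm.trans h2
  · intro h
    ext1 s
    apply e.injective
    apply Subtype.ext
    rw [e_ac, e_ac]
    exact h _ (e s).2

end act

section aut

variable {F : Type*} [Field F] [Fintype F]

/-- `|Aut F| < |F|` -/
theorem card_aut_lt : Nat.card (F ≃+* F) < Fintype.card F := by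
  classical
  obtain ⟨g, hg⟩ := IsCyclic.exists_generator (α := Fˣ)
  let f : (F ≃+* F) → Fˣ := fun σ => Units.map σ.toMonoidHom g
  have hf : Function.Injective f := by
    intro σ τ h
    have h1 : σ (g : F) = τ (g : F) := congrArg (fun u : Fˣ => (u : F)) h
    ext a
    by_cases ha : a = 0
    · rw [ha, map_zero, map_zero]
    · obtain ⟨n, hn⟩ := mem_powers_iff_mem_zpowers.mpr (hg (Units.mk0 a ha))
      have hn' : g ^ n = Units.mk0 a ha := hn
      have h2 : a = (g : F) ^ n := by
        rw [← Units.val_pow_eq_pow_val, hn', Units.val_mk0]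
      rw [h2, map_pow, map_pow, h1]
  have h1 := Nat.card_le_card_of_injective f hf
  rw [Nat.card_eq_fintype_card (α := Fˣ), Fintype.card_units] at h1
  have := Fintype.card_pos (α := F)
  omega

end aut

variable {X : Type*} [Group X] [Finite X] {F : Type*} [Field F] [Fintype F] [CharP F 2] {L P A B : Subgroup X}
  [L.Normal] {e : SpecialLinearGroup (Fin 2) F ≃* L}

/-- `X ≤ Aut L`, `L ≅ SL₂(F)`, `P ∩ L` the upper unitriangular group -/
structure Cfg (L P : Subgroup X) [L.Normal] (e : SpecialLinearGroup (Fin 2) F ≃* L) : Prop where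
  four : 4 ≤ Fintype.card F
  cent : ∀ x : X, (∀ l ∈ L, x * l = l * x) → x = 1
  mem : ∀ s : SpecialLinearGroup (Fin 2) F, (e s : X) ∈ P ↔ s ∈ UI F

/-- the field automorphism induced by `x` -/
noncomputable def tp (e : SpecialLinearGroup (Fin 2) F ≃* L) : X →* (F ≃+* F) := typ.comp (ac e)

namespace Cfg

theorem tp_eq_one (h : Cfg L P e) {x : X} : tp e x = 1 ↔ x ∈ L := by
  constructor
  · intro h1
    obtain ⟨s, hs⟩ := (L2Model.inner_iff _).1 h1
    rw [← ac_coe e s] at hs
    have h2 := (ac_eq_iff e _ _).1 hs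
    have h3 : (e s : X)⁻¹ * x = 1 := by
      refine h.cent _ fun l hl => ?_
      have := h2 l hl
      calc (e s : X)⁻¹ * x * l = (e s : X)⁻¹ * (x * l * x⁻¹) * x := by group
        _ = l * ((e s : X)⁻¹ * x) := by rw [this]; group
    rw [← inv_mul_eq_one.mp h3]
    exact (e s).2
  · intro hx
    obtain ⟨s, hs⟩ := e.surjective ⟨x, hx⟩
    have : x = (e s : X) := by rw [hs]
    change typ (ac e x) = 1
    rw [this, ac_coe, L2Model.typ_conj]

theorem ker (h : Cfg L P e) : (tp e).ker = L := by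
  ext x
  rw [MonoidHom.mem_ker, h.tp_eq_one]

theorem mem_inf (h : Cfg L P e) {x : X} (hx : x ∈ P) (hxL : x ∈ L) : ∃ t : F, x = e (up t) := by
  obtain ⟨s, hs⟩ := e.surjective ⟨x, hxL⟩
  have h1 : x = (e s : X) := by rw [hs]
  rw [h1, h.mem] at hx
  exact ⟨s 0 1, by rw [h1, ← eq_up hx]⟩

theorem up_mem_P (h : Cfg L P e) (t : F) : (e (up t) : X) ∈ P := (h.mem _).2 (up_mem t)

theorem up_inj (_ : Cfg L P e) {s t : F} (h : (e (up s) : X) = e (up t)) : s = t :=
  L2Borel.tu_inj (e.injective (Subtype.ext h))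

theorem up_mul_up (_ : Cfg L P e) (s t : F) : (e (up s) : X) * e (up t) = e (up (s + t)) := by
  rw [← up_mul, map_mul]; rfl

theorem up_z (_ : Cfg L P e) : (e (up (0 : F)) : X) = 1 := by rw [up_zero, map_one]; rfl

theorem inf_comm (h : Cfg L P e) {a b : X} (ha : a ∈ P) (haL : a ∈ L) (hb : b ∈ P) (hbL : b ∈ L) :
    a * b = b * a := by
  obtain ⟨s, rfl⟩ := h.mem_inf ha haL
  obtain ⟨t, rfl⟩ := h.mem_inf hb hbL
  rw [h.up_mul_up, h.up_mul_up, add_comm]

theorem card_inf (h : Cfg L P e) : Nat.card ↥(P ⊓ L) = Fintype.card F := by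
  rw [← Nat.card_eq_fintype_card]
  let f : F → ↥(P ⊓ L) := fun t => ⟨e (up t), h.up_mem_P t, (e (up t)).2⟩
  have hf : Function.Bijective f := by
    constructor
    · intro s t hst
      have h1 : ((f s : ↥(P ⊓ L)) : X) = f t := congrArg Subtype.val hst
      exact h.up_inj h1
    · rintro ⟨x, hx, hxL⟩
      obtain ⟨t, rfl⟩ := h.mem_inf hx hxL
      exact ⟨t, rfl⟩
  exact (Nat.card_congr (Equiv.ofBijective f hf)).symm

/-- `x ∈ P` acts semilinearly on `P ∩ L` -/
theorem exists_act (h : Cfg L P e) {x : X} (hx : x ∈ P) :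
    ∃ c : F, c ≠ 0 ∧ ∀ t, x * e (up t) * x⁻¹ = (e (up (c * tp e x t)) : X) := by
  obtain ⟨t, s, hts⟩ := L2Borel.exists_form_UI (α := ac e x) (fun y hy => by
    rw [← h.mem, e_ac]
    exact mul_mem (mul_mem hx ((h.mem y).2 hy)) (inv_mem hx))
  refine ⟨s * s, mul_ne_zero s.ne_zero s.ne_zero, fun a => ?_⟩
  have h1 := L2Borel.form_tu t s (typ (ac e x)) a
  rw [← hts] at h1
  rw [← e_ac, h1]
  rfl

/-- `|A|^m ≤ q` if `x` centralises `A ≤ P ∩ L` and induces a field automorphism of order `m` -/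
theorem card_pow_le (h : Cfg L P e) (hA : A ≤ P ⊓ L) (hne : A ≠ ⊥) {x : X} (hx : x ∈ P)
    (hc : ∀ a ∈ A, x * a = a * x) : Nat.card A ^ orderOf (tp e x) ≤ Fintype.card F := by
  obtain ⟨K, hK, hcard⟩ := GH.L2Aut.exists_fixed_field (tp e x)
  obtain ⟨c, hc0, hact⟩ := h.exists_act hx
  have hfix : ∀ t : F, (e (up t) : X) ∈ A → c * tp e x t = t := by
    intro t ht
    have h1 := hact t
    rw [hc _ ht, mul_inv_cancel_right] at h1
    exact (h.up_inj h1).symm
  obtain ⟨a₀, ha₀⟩ := Subgroup.ne_bot_iff_exists_ne_one.1 hne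
  obtain ⟨t₀, ht₀⟩ := h.mem_inf (hA a₀.2).1 (hA a₀.2).2
  have ht₀0 : t₀ ≠ 0 := by
    rintro rfl
    rw [h.up_z] at ht₀
    exact ha₀ (Subtype.ext ht₀)
  have hf₀ := hfix t₀ (ht₀ ▸ a₀.2)
  have hex : ∀ a : A, ∃ t : F, (a : X) = e (up t) := fun a => h.mem_inf (hA a.2).1 (hA a.2).2
  choose f hf using hex
  have hσ : tp e x t₀ ≠ 0 := fun h0 => ht₀0 ((map_eq_zero (tp e x)).1 h0)
  let g : A → K := fun a => ⟨f a / t₀, by
    rw [hK, map_div₀]
    have h1 := hfix (f a) (hf a ▸ a.2)
    rw [div_eq_div_iff hσ ht₀0]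
    linear_combination (-(tp e x (f a))) * hf₀ + tp e x t₀ * h1⟩
  have hg : Function.Injective g := by
    intro a b hab
    have h1 : f a / t₀ = f b / t₀ := congrArg Subtype.val hab
    rw [div_left_inj' ht₀0] at h1
    apply Subtype.ext
    rw [hf a, hf b, h1]
  have h1 := Nat.card_le_card_of_injective g hg
  rw [← Nat.card_eq_fintype_card, hcard]
  exact Nat.pow_le_pow_left h1 _

/-- `|C_U(x)|² ≤ q` for `x ∈ P ∖ L` -/
theorem card_cent_sq_le (h : Cfg L P e) {x : X} (hx : x ∈ P) (hxL : x ∉ L) :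
    Nat.card ↥(P ⊓ L ⊓ centralizer ({x} : Set X)) ^ 2 ≤ Fintype.card F := by
  obtain ⟨c, hc0, hact⟩ := h.exists_act hx
  have hσ : tp e x ≠ 1 := fun h1 => hxL (h.tp_eq_one.1 h1)
  have h1 := L2Borel.card_fixed_sq_le hσ c
  rw [Nat.card_eq_fintype_card (α := F)] at h1
  refine le_trans (Nat.pow_le_pow_left ?_ 2) h1
  have hex : ∀ a : ↥(P ⊓ L ⊓ centralizer ({x} : Set X)), ∃ t : F, (a : X) = e (up t) :=
    fun a => h.mem_inf a.2.1.1 a.2.1.2
  choose f hf using hex
  have hfix : ∀ a, c * tp e x (f a) = f a := by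
    intro a
    have h2 := hact (f a)
    rw [← hf a, ← mem_centralizer_singleton_iff.1 a.2.2, mul_inv_cancel_right, hf a] at h2
    exact (h.up_inj h2).symm
  refine Nat.card_le_card_of_injective (fun a => (⟨f a, hfix a⟩ : {a : F // c * tp e x a = a})) ?_
  intro a b hab
  have h2 : f a = f b := congrArg Subtype.val hab
  apply Subtype.ext
  rw [hf a, hf b, h2]

/-- `|C| = |C ∩ L| |C L / L|` -/
theorem card_eq (h : Cfg L P e) (C : Subgroup X) :
    Nat.card C = Nat.card ↥(C ⊓ L) * Nat.card (C.map (tp e)) := by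
  have h1 := Subgroup.relIndex_ker C (tp e)
  rw [h.ker] at h1
  rw [← h1, ← Subgroup.card_mul_index (L.subgroupOf C), Subgroup.relIndex]
  congr 1
  refine Nat.card_congr ⟨fun a => ⟨a.1.1, a.1.2, a.2⟩, fun a => ⟨⟨a.1, a.2.1⟩, a.2.2⟩, fun _ => rfl, fun _ => rfl⟩

/-- **(8.3)** -/
theorem main (h : Cfg L P e) (h2 : IsPGroup 2 P) (hPL : ¬ P ≤ L) (hAB : A ≤ B) (hBP : B ≤ P)
    (hsq : ∀ a ∈ A, a * a = 1) (hcomm : ∀ a ∈ A, ∀ b ∈ B, a * b = b * a)
    (hn : ∀ p ∈ P, ∀ a ∈ A, p * a * p⁻¹ ∈ A) (hq : Fintype.card F ≤ Nat.card A ^ 2)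
    (hb : Fintype.card F * Nat.card A ≤ 2 * Nat.card B) :
    A ≤ L ∧ ((Fintype.card F = 4 ∧ Nat.card A = 2) ∨ (Fintype.card F = 16 ∧ Nat.card A = 4 ∧
      P ⊓ centralizer (A : Set X) ≤ B ∧ ∃ τ ∈ P ⊓ centralizer (A : Set X), τ ∉ L ∧ tp e τ * tp e τ = 1)) := by
  have : Fact (Nat.Prime 2) := ⟨Nat.prime_two⟩
  have hq4 := h.four
  have hAP : A ≤ P := hAB.trans hBP
  have hfinG := L2Borel.finite_ringAut (F := F)
  set q := Fintype.card F with hqdef
  have hApos : 0 < Nat.card A := Nat.card_pos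
  have hA2 : 2 ≤ Nat.card A := by
    by_contra hcon
    have h1 : Nat.card A = 1 := by omega
    rw [h1] at hq
    omega
  have hAne : A ≠ ⊥ := by
    rintro rfl
    rw [Subgroup.card_bot] at hA2
    omega
  set C := P ⊓ centralizer (A : Set X) with hC
  have hBC : B ≤ C := le_inf hBP fun b hb => mem_centralizer_iff.2 fun a ha => hcomm a ha b hb
  have hBCc : Nat.card B ≤ Nat.card C := Subgroup.card_le_of_le hBC
  by_cases hAL : A ≤ L
  · refine ⟨hAL, ?_⟩
    have hUC : P ⊓ L ≤ C := le_inf inf_le_left fun u hu => mem_centralizer_iff.2 fun a ha =>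
      h.inf_comm (hAP ha) (hAL ha) hu.1 hu.2
    have hCL : C ⊓ L = P ⊓ L := le_antisymm (inf_le_inf_right _ inf_le_left) (le_inf hUC inf_le_right)
    have hcC := h.card_eq C
    rw [hCL, h.card_inf, ← hqdef] at hcC
    -- a generator of the image
    have hcyc := L2Borel.isCyclic_ringAut (F := F)
    obtain ⟨g, hg⟩ := IsCyclic.exists_generator (α := C.map (tp e))
    obtain ⟨x, hx, hxg⟩ := g.2
    have hord : orderOf (tp e x) = Nat.card (C.map (tp e)) := by
      have h1 : orderOf g = Nat.card (C.map (tp e)) := orderOf_eq_card_of_forall_mem_zpowers hg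
      rw [← h1, ← Subgroup.orderOf_coe, hxg]
    set m := orderOf (tp e x) with hm
    rw [← hord] at hcC
    have hxP : x ∈ P := hx.1
    have hxc : ∀ a ∈ A, x * a = a * x := fun a ha => (mem_centralizer_iff.1 hx.2 a ha).symm
    have h3 := h.card_pow_le (le_inf hAP hAL) hAne hxP hxc
    rw [← hqdef, ← hm] at h3
    have h4 : Nat.card A ≤ 2 * m := by
      have : q * Nat.card A ≤ q * (2 * m) := by
        calc q * Nat.card A ≤ 2 * Nat.card B := hb
          _ ≤ 2 * Nat.card C := Nat.mul_le_mul_left _ hBCc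
          _ = q * (2 * m) := by rw [hcC]; ring
      exact Nat.le_of_mul_le_mul_left this (by omega)
    -- `m` is a power of two
    obtain ⟨k, hk⟩ := h2 ⟨x, hxP⟩
    have hmk : m ∣ 2 ^ k := by
      rw [hm]
      apply orderOf_dvd_of_pow_eq_one
      rw [← map_pow, show x ^ 2 ^ k = 1 from congrArg Subtype.val hk, map_one]
    obtain ⟨j, hj, hmj⟩ := (Nat.dvd_prime_pow Nat.prime_two).1 hmk
    rcases Nat.lt_or_ge j 1 with hj0 | hj1
    · -- `m = 1`
      exfalso
      have hj0 : j = 0 := by omega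
      rw [hj0, pow_zero] at hmj
      have hA : Nat.card A = 2 := by omega
      obtain ⟨y, hy, hyL⟩ := Set.not_subset.1 hPL
      have hyC : y ∈ C := by
        refine ⟨hy, mem_centralizer_iff.2 fun a ha => ?_⟩
        by_cases ha1 : a = 1
        · rw [ha1, one_mul, mul_one]
        have h5 := hn y hy a ha
        have h6 : y * a * y⁻¹ ≠ 1 := fun e1 => ha1 (by
          have : a = y⁻¹ * (y * a * y⁻¹) * y := by group
          rw [this, e1]; group)
        have h7 : y * a * y⁻¹ = a := by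
          by_contra hne
          have h8 : ({1, a, y * a * y⁻¹} : Set X) ⊆ A := by
            rintro _ (rfl | rfl | rfl)
            · exact one_mem _
            · exact ha
            · exact h5
          have h9 := Set.ncard_le_ncard h8 (Set.toFinite _)
          have h10 : (A : Set X).ncard = 2 := hA
          rw [h10, Set.ncard_insert_of_notMem, Set.ncard_pair (Ne.symm hne)] at h9
          · omega
          · rintro (e1 | e1)
            · exact ha1 e1.symm
            · exact h6 e1.symm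
        rw [mul_inv_eq_iff_eq_mul] at h7
        exact h7.symm
      have h11 : tp e y ∈ C.map (tp e) := ⟨y, hyC, rfl⟩
      have h12 : Nat.card (C.map (tp e)) = 1 := by rw [← hord, hmj]
      rw [Subgroup.card_eq_one] at h12
      rw [h12, mem_bot] at h11
      exact hyL (h.tp_eq_one.1 h11)
    · rcases Nat.lt_or_ge 1 j with hj2 | hj2
      · -- `m ≥ 4`
        exfalso
        have h5 : 4 ≤ m := by
          rw [hmj]
          calc 4 = 2 ^ 2 := by norm_num
            _ ≤ 2 ^ j := Nat.pow_le_pow_right (by norm_num) hj2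
        have h6 : Nat.card A ^ 4 ≤ Nat.card A ^ 2 :=
          (Nat.pow_le_pow_right hApos h5).trans (h3.trans hq)
        have h7 := (Nat.pow_le_pow_iff_right (by omega : 1 < Nat.card A)).1 h6
        omega
      · have hj' : j = 1 := by omega
        rw [hj', pow_one] at hmj
        rw [hmj] at h3 h4 hcC
        have h5 : q = Nat.card A ^ 2 := le_antisymm hq h3
        have h6 : Nat.card A ≠ 3 := by
          intro h7
          obtain ⟨i, hi⟩ := (IsPGroup.iff_card (p := 2)).1 (h2.to_le hAP)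
          rw [h7] at hi
          rcases Nat.lt_or_ge i 2 with hi2 | hi2
          · interval_cases i <;> omega
          · have : 2 ^ 2 ≤ 2 ^ i := Nat.pow_le_pow_right (by norm_num) hi2
            omega
        have h7 : Nat.card A = 2 ∨ Nat.card A = 4 := by omega
        rcases h7 with h7 | h7
        · left
          exact ⟨by rw [h5, h7]; norm_num, h7⟩
        · right
          have h8 : q = 16 := by rw [h5, h7]; norm_num
          refine ⟨h8, h7, ?_, x, hx, ?_, ?_⟩
          · have h9 : Nat.card C ≤ Nat.card B := by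
              rw [hcC, h8]
              rw [h8, h7] at hb
              omega
            exact (eq_of_le_of_card_ge hBC h9).symm.le
          · intro hxL
            have h9 := h.tp_eq_one.2 hxL
            rw [← orderOf_eq_one_iff] at h9
            omega
          · have h9 := pow_orderOf_eq_one (tp e x)
            rw [← hm, hmj, pow_two] at h9
            exact h9
  · -- `A ≰ L`
    exfalso
    obtain ⟨t, ht, htL⟩ := Set.not_subset.1 hAL
    have htP := hAP ht
    set N := P ⊓ L ⊓ centralizer ({t} : Set X) with hN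
    have h3 := h.card_cent_sq_le htP htL
    rw [← hN, ← hqdef] at h3
    have hNpos : 0 < Nat.card N := Nat.card_pos
    have hAN : A ⊓ L ≤ N := fun a ha => ⟨⟨hAP ha.1, ha.2⟩, mem_centralizer_singleton_iff.2
      (hcomm a ha.1 t (hAB ht))⟩
    -- `|U| ≤ |C_U(t)| |A ∩ L|`
    have h4 : q ≤ Nat.card N * Nat.card ↥(A ⊓ L) := by
      let f : ↥(P ⊓ L) →* ↥(A ⊓ L) :=
        { toFun := fun u => ⟨t * (u * t⁻¹ * u⁻¹), by
            refine ⟨mul_mem ht (hn _ u.2.1 _ (inv_mem ht)), ?_⟩
            have e1 : (t * (u : X) * t⁻¹) * (u : X)⁻¹ = t * ((u : X) * t⁻¹ * (u : X)⁻¹) := by group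
            have e2 : (t * (u : X) * t⁻¹) * (u : X)⁻¹ ∈ L :=
              mul_mem (Subgroup.Normal.conj_mem inferInstance _ u.2.2 t) (inv_mem u.2.2)
            rw [e1] at e2
            exact e2⟩
          map_one' := Subtype.ext (by simp)
          map_mul' := by
            rintro ⟨u, hu⟩ ⟨v, hv⟩
            apply Subtype.ext
            change t * (u * v * t⁻¹ * (u * v)⁻¹) = t * (u * t⁻¹ * u⁻¹) * (t * (v * t⁻¹ * v⁻¹))
            have e1 : t * v * t⁻¹ ∈ L := Subgroup.Normal.conj_mem inferInstance _ hv.2 t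
            have e2 : t * v * t⁻¹ ∈ P := mul_mem (mul_mem htP hv.1) (inv_mem htP)
            have e3 := h.inf_comm (inv_mem hu.1) (inv_mem hu.2) e2 e1
            calc t * (u * v * t⁻¹ * (u * v)⁻¹) = (t * u * t⁻¹) * ((t * v * t⁻¹) * (v⁻¹ * u⁻¹)) := by group
              _ = (t * u * t⁻¹) * ((t * v * t⁻¹) * (u⁻¹ * v⁻¹)) := by
                rw [h.inf_comm (inv_mem hv.1) (inv_mem hv.2) (inv_mem hu.1) (inv_mem hu.2)]
              _ = (t * u * t⁻¹) * ((t * v * t⁻¹) * u⁻¹) * v⁻¹ := by group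
              _ = (t * u * t⁻¹) * (u⁻¹ * (t * v * t⁻¹)) * v⁻¹ := by rw [e3]
              _ = t * (u * t⁻¹ * u⁻¹) * (t * (v * t⁻¹ * v⁻¹)) := by group }
      have h5 : Nat.card ↥(P ⊓ L) = Nat.card f.ker * Nat.card f.range := by
        rw [← Subgroup.index_ker f, Subgroup.card_mul_index]
      have h6 : Nat.card f.range ≤ Nat.card ↥(A ⊓ L) := Subgroup.card_le_card_group _
      have h7 : Nat.card f.ker ≤ Nat.card N := by
        have hk : ∀ u : f.ker, (u.1 : X) ∈ centralizer ({t} : Set X) := by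
          intro u
          rw [mem_centralizer_singleton_iff]
          have e1 : t * ((u.1 : X) * t⁻¹ * (u.1 : X)⁻¹) = 1 := congrArg Subtype.val (MonoidHom.mem_ker.1 u.2)
          calc (u.1 : X) * t = (t * ((u.1 : X) * t⁻¹ * (u.1 : X)⁻¹))⁻¹ * (t * u.1) := by group
            _ = t * u.1 := by rw [e1, inv_one, one_mul]
        let g : f.ker → N := fun u => ⟨u.1.1, u.1.2, hk u⟩
        refine Nat.card_le_card_of_injective g ?_
        intro u v huv
        have h8 : ((g u : N) : X) = g v := congrArg Subtype.val huv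
        exact Subtype.ext (Subtype.ext h8)
      rw [hqdef, ← h.card_inf, h5]
      exact Nat.mul_le_mul h7 h6
    have h5 : Nat.card ↥(A ⊓ L) ≤ Nat.card N := Subgroup.card_le_of_le hAN
    have h6 : Nat.card ↥(A ⊓ L) = Nat.card N := by
      refine le_antisymm h5 ?_
      by_contra hlt
      push Not at hlt
      have h7 : Nat.card N * Nat.card ↥(A ⊓ L) < Nat.card N * Nat.card N := Nat.mul_lt_mul_of_pos_left hlt hNpos
      have h8 : Nat.card N ^ 2 = Nat.card N * Nat.card N := pow_two _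
      omega
    have h7 : q = Nat.card N ^ 2 := le_antisymm (h4.trans (by rw [h6, pow_two])) h3
    -- `|A| ≥ 2 |N|`
    have h8 : 2 * Nat.card N ≤ Nat.card A := by
      have h9 : Nat.card A = Nat.card ↥(A ⊓ L) * Nat.card (A.map (tp e)) := h.card_eq A
      have h10 : 2 ≤ Nat.card (A.map (tp e)) := by
        by_contra hcon
        have h11 : 0 < Nat.card (A.map (tp e)) := Nat.card_pos
        have h12 : Nat.card (A.map (tp e)) = 1 := by omega
        rw [Subgroup.card_eq_one] at h12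
        have h13 : tp e t ∈ A.map (tp e) := ⟨t, ht, rfl⟩
        rw [h12, mem_bot] at h13
        exact htL (h.tp_eq_one.1 h13)
      rw [h9, h6, mul_comm]
      exact Nat.mul_le_mul_left _ h10
    -- `|C| ≤ |N| (q - 1)`
    have h9 : Nat.card C < Nat.card N * q := by
      rw [h.card_eq C]
      have h10 : Nat.card ↥(C ⊓ L) ≤ Nat.card N := by
        refine Subgroup.card_le_of_le fun c hc => ⟨⟨hc.1.1, hc.2⟩, mem_centralizer_singleton_iff.2 ?_⟩
        exact (mem_centralizer_iff.1 hc.1.2 t ht).symm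
      have h11 : Nat.card (C.map (tp e)) ≤ Nat.card (F ≃+* F) := Subgroup.card_le_card_group _
      have h12 := card_aut_lt (F := F)
      calc Nat.card ↥(C ⊓ L) * Nat.card (C.map (tp e)) ≤ Nat.card N * Nat.card (C.map (tp e)) :=
            Nat.mul_le_mul_right _ h10
        _ < Nat.card N * q := Nat.mul_lt_mul_of_pos_left (h11.trans_lt h12) hNpos
    have h10 : q * (2 * Nat.card N) ≤ 2 * Nat.card C :=
      (Nat.mul_le_mul_left _ h8).trans (hb.trans (Nat.mul_le_mul_left _ hBCc))
    have h11 : q * (2 * Nat.card N) = 2 * (Nat.card N * q) := by ring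
    omega

end Cfg

end Cfsg.Agent.OddCyclic.EN.AqNum
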