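import Mathlib
import Cfsg.Agent.OddCyclic.EN.AqNum
import Cfsg.Agent.OddCyclic.FFBasic

/-!
# `SL₂(q) ⊴ X`: the case `q = 16` of (8.3) (helper217's (B-b))

`τ ∈ P ∖ L` centralises `A ≤ P ∩ L`, `|A| = 4`, `q = 16`; `[[m, a], b] ∈ {0, λ}` for `a ∈ A`, `b ∈ C_P(A)`, and no element of
order 3 fixes `λ`: impossible.
-/

set_option autoImplicit false
set_option linter.unusedSectionVars false

namespace Cfsg.Agent.OddCyclic.EN.AqNum

open Matrix Subgroup Cfsg.Agent.OddCyclic.T1Sl2 Cfsg.Agent.Lib.AutSL2 Cfsg.Agent.Lib.AutSL2Out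
  Cfsg.Agent.Classification.QDW.TypeHom
open Cfsg.Agent.Lib.SL2Mat (fieldAut)

section sl2

variable {F : Type*} [Field F] [Fintype F] [CharP F 2]

/-- the lower unitriangular group and one upper unitriangular element generate `SL₂(F)` -/
theorem eq_top_of_lo (K : Subgroup (SpecialLinearGroup (Fin 2) F)) (h1 : ∀ t, lo t ∈ K) {t₀ : F} (h0 : t₀ ≠ 0)
    (h2 : up t₀ ∈ K) : K = ⊤ := by
  have h2' : (2 : F) = 0 := CharTwo.two_eq_zero
  refine closure_top K (fun t => ?_) h1
  have e : up t = (up t₀ * lo t₀⁻¹ * up t₀) * lo (t * (t₀⁻¹ * t₀⁻¹)) * (up t₀ * lo t₀⁻¹ * up t₀)⁻¹ := by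
    rw [eq_mul_inv_iff_mul_eq]
    apply ext2 <;>
      simp only [mul00, mul01, mul10, mul11, up00, up01, up10, up11, lo00, lo01, lo10, lo11] <;> field_simp <;>
      ring_nf
    · linear_combination (-(t₀ * t)) * h2'
    · linear_combination t * h2'
    · linear_combination (-t) * h2'
  rw [e]
  exact mul_mem (mul_mem (mul_mem (mul_mem h2 (h1 _)) h2) (h1 _)) (inv_mem (mul_mem (mul_mem h2 (h1 _)) h2))

/-- `SL₂(q)` is perfect -/
theorem hom_trivial (h4 : 4 ≤ Fintype.card F) {B : Type*} [CommGroup B]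
    (f : SpecialLinearGroup (Fin 2) F →* B) (s : SpecialLinearGroup (Fin 2) F) : f s = 1 := by
  have hs := FFBasic.isSimpleGroup_sl2 (F := F) h4
  have h1 : f.ker.Normal := inferInstance
  rcases h1.eq_bot_or_eq_top with h2 | h2
  · exfalso
    have h3 : up (1 : F) = 1 := by
      refine L2Model.eq_one_of_central fun x => ?_
      rw [MonoidHom.ker_eq_bot_iff] at h2
      apply h2
      rw [map_mul, map_mul, mul_comm]
    have h4 : up (1 : F) 0 1 = 0 := by rw [h3, one01]
    rw [up01] at h4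
    exact one_ne_zero h4
  · rw [← MonoidHom.mem_ker, h2]; trivial

end sl2

variable {X : Type*} [Group X] [Finite X] {F : Type*} [Field F] [Fintype F] [CharP F 2] {L P A B : Subgroup X}
  [L.Normal] {e : SpecialLinearGroup (Fin 2) F ≃* L} {M : Type*} [AddCommGroup M] [DistribMulAction X M]

/-- the fixed points of a set -/
def fp (M : Type*) [AddCommGroup M] [DistribMulAction X M] (H : Set X) : AddSubgroup M where
  carrier := {m | ∀ x ∈ H, x • m = m}
  add_mem' := by
    intro a b ha hb x hx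
    rw [smul_add, ha x hx, hb x hx]
  zero_mem' := fun x _ => smul_zero x
  neg_mem' := by
    intro a ha x hx
    rw [smul_neg, ha x hx]

theorem mem_fp {H : Set X} {m : M} : m ∈ fp M H ↔ ∀ x ∈ H, x • m = m := Iff.rfl

/-- if `L` fixes `m` modulo `C_M(L)` then `L` fixes `m` -/
theorem fix_of_mod (h4 : 4 ≤ Fintype.card F) (e : SpecialLinearGroup (Fin 2) F ≃* L) {m : M}
    (hm : ∀ l ∈ L, l • m - m ∈ fp M (L : Set X)) : m ∈ fp M (L : Set X) := by
  let f : SpecialLinearGroup (Fin 2) F →* Multiplicative M :=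
    { toFun := fun s => Multiplicative.ofAdd ((e s : X) • m - m)
      map_one' := by
        rw [map_one]
        change Multiplicative.ofAdd ((1 : X) • m - m) = 1
        rw [one_smul, sub_self]; rfl
      map_mul' := by
        intro s t
        rw [map_mul, ← ofAdd_add]
        congr 1
        change ((e s : X) * (e t : X)) • m - m = _
        have h1 := hm _ (e t).2 _ (e s).2
        rw [smul_sub] at h1
        rw [mul_smul]
        calc (e s : X) • (e t : X) • m - m = ((e s : X) • (e t : X) • m - (e s : X) • m) + ((e s : X) • m - m) := by abel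
          _ = _ := by rw [h1]; abel }
  intro l hl
  obtain ⟨s, hs⟩ := e.surjective ⟨l, hl⟩
  have h1 := hom_trivial h4 f s
  have h2 : (e s : X) • m - m = 0 := h1
  rw [hs, sub_eq_zero] at h2
  exact h2

/-- the elements needed for `q = 16` -/
theorem exists_elements {σ : F ≃+* F} (h16 : Fintype.card F = 16) (hσ : σ * σ = 1) (hσ1 : σ ≠ 1) :
    ∃ r₃ r₅ : Fˣ, orderOf r₃ = 3 ∧ σ r₃ = r₃ ∧ orderOf r₅ = 5 ∧ σ r₅ = ((r₅⁻¹ : Fˣ) : F) := by
  have hcF : Nat.card F = 16 := by rw [Nat.card_eq_fintype_card, h16]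
  obtain ⟨K, hK, hcard⟩ := GH.L2Aut.exists_fixed_field σ
  have hord : orderOf σ = 2 := orderOf_eq_prime (by rw [pow_two, hσ]) hσ1
  rw [hord, hcF] at hcard
  have hKc : Nat.card K = 4 := by
    have h1 : Nat.card K ^ 2 = 4 ^ 2 := by rw [← hcard]; norm_num
    exact Nat.pow_left_injective (by norm_num) h1
  have hfinK : Finite K := Nat.finite_of_card_ne_zero (by rw [hKc]; norm_num)
  have : Fintype K := Fintype.ofFinite K
  classical
  have hKu : Nat.card Kˣ = 3 := by
    rw [Nat.card_eq_fintype_card, Fintype.card_units, ← Nat.card_eq_fintype_card, hKc]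
  have hFu : Nat.card Fˣ = 15 := by
    rw [Nat.card_eq_fintype_card, Fintype.card_units, h16]
  have : Fact (Nat.Prime 3) := ⟨by norm_num⟩
  have : Fact (Nat.Prime 5) := ⟨by norm_num⟩
  obtain ⟨k, hk⟩ := exists_prime_orderOf_dvd_card' (G := Kˣ) 3 (by rw [hKu])
  obtain ⟨r, hr⟩ := exists_prime_orderOf_dvd_card' (G := Fˣ) 5 (by rw [hFu]; norm_num)
  refine ⟨Units.map K.subtype k, r, ?_, ?_, hr, ?_⟩
  · rw [orderOf_injective (Units.map (K.subtype : K →* F)) (Units.map_injective K.subtype_injective), hk]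
  · exact (hK _).1 (k : K).2
  · -- the norm of `r`
    have hr5 : (r : F) ^ 5 = 1 := by
      rw [← Units.val_pow_eq_pow_val, ← hr, pow_orderOf_eq_one, Units.val_one]
    have hr0 : (r : F) ≠ 0 := r.ne_zero
    have hσr0 : σ r ≠ 0 := fun h0 => hr0 ((map_eq_zero σ).1 h0)
    have hn : (r : F) * σ r ∈ K := by
      rw [hK, map_mul]
      have : σ (σ r) = r := RingEquiv.congr_fun hσ _
      rw [this, mul_comm]
    have hn3 : ((r : F) * σ r) ^ 3 = 1 := by
      have h1 : (⟨(r : F) * σ r, hn⟩ : K) ≠ 0 := fun h0 => mul_ne_zero hr0 hσr0 (congrArg Subtype.val h0)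
      have h2 : (Units.mk0 _ h1) ^ 3 = 1 := by rw [← hKu]; exact pow_card_eq_one'
      have h3 : ((⟨(r : F) * σ r, hn⟩ : K)) ^ 3 = 1 := by
        have := congrArg (fun u : Kˣ => (u : K)) h2
        rwa [Units.val_pow_eq_pow_val, Units.val_mk0, Units.val_one] at this
      exact congrArg Subtype.val h3
    have hn5 : ((r : F) * σ r) ^ 5 = 1 := by
      rw [mul_pow, hr5, ← map_pow, hr5, map_one, mul_one]
    have hn1 : (r : F) * σ r = 1 := by
      calc (r : F) * σ r = (((r : F) * σ r) ^ 3) ^ 2 / ((r : F) * σ r) ^ 5 := by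
            rw [hn5, div_one]
            have : ((r : F) * σ r) ^ 3 ^ 1 = 1 := by rw [pow_one, hn3]
            rw [← pow_mul]
            calc (r : F) * σ r = ((r : F) * σ r) ^ 5 * ((r : F) * σ r) := by rw [hn5, one_mul]
              _ = ((r : F) * σ r) ^ (3 * 2) := by ring
        _ = 1 := by rw [hn3, hn5]; norm_num
    rw [Units.val_inv_eq_inv_val]
    field_simp
    rw [mul_comm]
    exact hn1

/-- **`q = 16` is impossible** -/
theorem false_of_sixteen [Finite M] (h : Cfg L P e) (faithful : ∀ x : X, (∀ m : M, x • m = m) → x = 1)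
    (two : ∀ m : M, m + m = 0)
    (h16 : Fintype.card F = 16) (hAP : A ≤ P) (hAL : A ≤ L) (hA : Nat.card A = 4) {τ : X}
    (hτ : τ ∈ P ⊓ centralizer (A : Set X)) (hτL : τ ∉ L) (hτ2 : tp e τ * tp e τ = 1) (lam : M)
    (hD : ∀ a ∈ A, ∀ m : M, ∀ b ∈ P ⊓ centralizer (A : Set X), b • (a • m - m) - (a • m - m) = 0 ∨
      b • (a • m - m) - (a • m - m) = lam)
    (f3 : ∀ x : X, orderOf x = 3 → x • lam ≠ lam) : False := by
  have h4 : 4 ≤ Fintype.card F := h.four
  -- normalise `τ`
  obtain ⟨t₁, s, hts⟩ := L2Borel.exists_form_UI (α := ac e τ) (fun y hy => by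
    rw [← h.mem, e_ac]
    exact mul_mem (mul_mem hτ.1 ((h.mem y).2 hy)) (inv_mem hτ.1))
  have hUc : ∀ t : F, (e (up t) : X) ∈ P ⊓ centralizer (A : Set X) := fun t =>
    ⟨h.up_mem_P t, mem_centralizer_iff.2 fun a ha => h.inf_comm (hAP ha) (hAL ha) (h.up_mem_P t) (e (up t)).2⟩
  obtain ⟨σ, hσ⟩ : ∃ σ, σ = tp e τ := ⟨_, rfl⟩
  have hσ1 : σ ≠ 1 := by
    rw [hσ]; exact fun h1 => hτL (h.tp_eq_one.1 h1)
  rw [← hσ] at hτ2
  obtain ⟨y, hy⟩ : ∃ y, y = (e (up t₁) : X)⁻¹ * τ := ⟨_, rfl⟩
  have hyC : y ∈ P ⊓ centralizer (A : Set X) := by rw [hy]; exact mul_mem (inv_mem (hUc t₁)) hτ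
  have hac : ac e y = MulAut.conj (dg s) * fieldAut σ := by
    rw [hy, map_mul, map_inv, ac_coe, hts, map_mul, hσ]
    change (MulAut.conj (up t₁))⁻¹ * (MulAut.conj (up t₁) * MulAut.conj (dg s) * fieldAut (typ (ac e τ))) = _
    rw [mul_assoc, inv_mul_cancel_left]; rfl
  have hyK : ∀ r : Fˣ, y * e (dg r) * y⁻¹ = (e (dg (Units.map σ.toMonoidHom r)) : X) := by
    intro r
    rw [← e_ac, hac, L2Borel.form_td]
  obtain ⟨r₃, r₅, ho3, hr3, ho5, hr5⟩ := exists_elements h16 hτ2 hσ1
  have hr3' : Units.map σ.toMonoidHom r₃ = r₃ := Units.ext hr3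
  have hr5' : Units.map σ.toMonoidHom r₅ = r₅⁻¹ := Units.ext hr5
  -- the elements `k₃`, `k₅`
  have hKU : ∀ (r : Fˣ) (t : F), (e (dg r) : X) * e (up t) * (e (dg r) : X)⁻¹ = e (up (r * r * t)) := by
    intro r t
    have h1 := L2Borel.td_conj_tu r t
    have h2 := congrArg (fun x => (e x : X)) h1
    simp only [map_mul, map_inv] at h2
    exact h2
  have hord : ∀ r : Fˣ, orderOf (e (dg r) : X) = orderOf r := by
    intro r
    rw [Subgroup.orderOf_coe, MulEquiv.orderOf_eq e, ← dgHom_apply, orderOf_injective _ dgHom_injective]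
  have hKinv : ∀ r : Fˣ, (e (dg r⁻¹) : X) = (e (dg r) : X)⁻¹ := by
    intro r
    rw [← dgHom_apply, ← dgHom_apply, map_inv, map_inv]; rfl
  have hKU' : ∀ (r : Fˣ) (t : F), (e (dg r) : X)⁻¹ * e (up t) * (e (dg r) : X) =
      e (up (((r⁻¹ : Fˣ) : F) * ((r⁻¹ : Fˣ) : F) * t)) := by
    intro r t
    have h1 := hKU r⁻¹ t
    rw [hKinv, inv_inv] at h1
    exact h1
  obtain ⟨k, hk⟩ : ∃ k, k = (e (dg r₃) : X) := ⟨_, rfl⟩
  have hko : orderOf k⁻¹ = 3 := by rw [orderOf_inv, hk, hord, ho3]
  have hyk : k⁻¹ * y * k = y := by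
    have h1 := hyK r₃
    rw [hr3', ← hk, mul_inv_eq_iff_eq_mul] at h1
    rw [mul_assoc, h1, inv_mul_cancel_left]
  have hyL : y ∉ L := by
    intro h1
    apply hτL
    have : τ = e (up t₁) * y := by rw [hy, mul_inv_cancel_left]
    rw [this]
    exact mul_mem (e (up t₁)).2 h1
  have hAN : A = P ⊓ L ⊓ centralizer ({y} : Set X) := by
    have h1 := h.card_cent_sq_le hyC.1 hyL
    rw [h16] at h1
    have h2 : Nat.card ↥(P ⊓ L ⊓ centralizer ({y} : Set X)) ≤ 4 := by
      by_contra hcon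
      push Not at hcon
      have h3 : 5 ^ 2 ≤ Nat.card ↥(P ⊓ L ⊓ centralizer ({y} : Set X)) ^ 2 := Nat.pow_le_pow_left hcon 2
      omega
    refine eq_of_le_of_card_ge (fun a ha => ⟨⟨hAP ha, hAL ha⟩, mem_centralizer_singleton_iff.2
      (mem_centralizer_iff.1 hyC.2 a ha)⟩) ?_
    rw [hA]; exact h2
  have hkA : ∀ a ∈ A, k⁻¹ * a * k ∈ A := by
    intro a ha
    have hmem : ∀ x, x ∈ A ↔ x ∈ P ⊓ L ⊓ centralizer ({y} : Set X) := fun x => by rw [← hAN]
    obtain ⟨⟨h1, h2⟩, h3⟩ := (hmem a).1 ha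
    obtain ⟨t, rfl⟩ := h.mem_inf h1 h2
    refine (hmem _).2 ?_
    have h5 : k⁻¹ * (e (up t) : X) * k ∈ P ⊓ L := by
      rw [hk, hKU']
      exact ⟨h.up_mem_P _, (e _).2⟩
    have h3 : (e (up t) : X) * y = y * (e (up t) : X) := mem_centralizer_singleton_iff.1 h3
    refine ⟨h5, mem_centralizer_singleton_iff.2 ?_⟩
    calc k⁻¹ * (e (up t) : X) * k * y = k⁻¹ * (e (up t) : X) * k * (k⁻¹ * y * k) := by rw [hyk]
      _ = k⁻¹ * ((e (up t) : X) * y) * k := by group
      _ = k⁻¹ * (y * (e (up t) : X)) * k := by rw [h3]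
      _ = (k⁻¹ * y * k) * (k⁻¹ * (e (up t) : X) * k) := by group
      _ = y * (k⁻¹ * (e (up t) : X) * k) := by rw [hyk]
  -- (R1)
  have hlam : lam ≠ 0 := fun h0 => f3 k⁻¹ hko (by rw [h0, smul_zero])
  have R1 : ∀ a ∈ A, ∀ m : M, ∀ b ∈ P ⊓ centralizer (A : Set X), k⁻¹ * b * k ∈ P ⊓ centralizer (A : Set X) →
      b • (a • m - m) = a • m - m := by
    intro a ha m b hb hb'
    rcases hD a ha m b hb with h1 | h1
    · exact sub_eq_zero.1 h1
    · exfalso
      have e1 : (k⁻¹ * a * k) • (k⁻¹ • m) - k⁻¹ • m = k⁻¹ • (a • m - m) := by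
        rw [smul_sub, smul_smul, smul_smul]
        congr 2; group
      have gen : ∀ n : M, (k⁻¹ * b * k) • (k⁻¹ • n) = k⁻¹ • (b • n) := fun n => by
        rw [smul_smul, smul_smul]; congr 1; group
      have e2 : (k⁻¹ * b * k) • ((k⁻¹ * a * k) • (k⁻¹ • m) - k⁻¹ • m) - ((k⁻¹ * a * k) • (k⁻¹ • m) - k⁻¹ • m) =
          k⁻¹ • lam := by
        rw [e1, gen, ← smul_sub, h1]
      rcases hD _ (hkA a ha) (k⁻¹ • m) _ hb' with h2 | h2
      · rw [e2, smul_eq_zero_iff_eq] at h2
        exact hlam h2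
      · rw [e2] at h2
        exact f3 k⁻¹ hko h2
  have R1U : ∀ a ∈ A, ∀ m : M, ∀ t : F, (e (up t) : X) • (a • m - m) = a • m - m := fun a ha m t =>
    R1 a ha m _ (hUc t) (by rw [hk, hKU']; exact hUc _)
  have R1y : ∀ a ∈ A, ∀ m : M, y • (a • m - m) = a • m - m := fun a ha m =>
    R1 a ha m y hyC (by rw [hyk]; exact hyC)
  -- (R2)
  obtain ⟨t₀, ht₀, ht₀0⟩ : ∃ t₀ : F, (e (up t₀) : X) ∈ A ∧ t₀ ≠ 0 := by
    have hne : A ≠ ⊥ := by
      rintro rfl
      rw [Subgroup.card_bot] at hA
      omega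
    obtain ⟨a, ha⟩ := Subgroup.ne_bot_iff_exists_ne_one.1 hne
    obtain ⟨t, ht⟩ := h.mem_inf (hAP a.2) (hAL a.2)
    refine ⟨t, ht ▸ a.2, ?_⟩
    rintro rfl
    rw [h.up_z] at ht
    exact ha (Subtype.ext ht)
  have R2 : ∀ (u t : F) (m : M), (e (up u) : X) • ((e (up t) : X) • m - m) = (e (up t) : X) • m - m := by
    intro u t m
    by_cases ht : t = 0
    · rw [ht, h.up_z, one_smul, sub_self, smul_zero]
    obtain ⟨r, hr⟩ := T1Sl2.exists_sqrt (t / t₀)
    have hr0 : r ≠ 0 := by
      rintro rfl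
      rw [mul_zero] at hr
      exact div_ne_zero ht ht₀0 hr.symm
    have e1 := hKU (Units.mk0 r hr0) t₀
    rw [Units.val_mk0, hr, div_mul_cancel₀ _ ht₀0] at e1
    have e3 := hKU' (Units.mk0 r hr0) u
    obtain ⟨K, hK⟩ : ∃ K, K = (e (dg (Units.mk0 r hr0)) : X) := ⟨_, rfl⟩
    rw [← hK] at e1 e3
    have e2 : (e (up t) : X) • m - m = K • ((e (up t₀) : X) • (K⁻¹ • m) - K⁻¹ • m) := by
      rw [smul_sub, smul_smul, smul_smul, smul_smul, mul_inv_cancel, one_smul, e1]
    rw [e2, smul_smul]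
    have e4 : (e (up u) : X) * K = K * (K⁻¹ * (e (up u) : X) * K) := by group
    rw [e4, e3, mul_smul, R1U _ ht₀]
  -- the fixed points
  set CU : AddSubgroup M := fp M (Set.range fun t : F => (e (up t) : X)) with hCU
  set CV : AddSubgroup M := fp M (Set.range fun t : F => (e (lo t) : X)) with hCV
  set Z : AddSubgroup M := fp M (L : Set X) with hZ
  have mCU : ∀ m, m ∈ CU ↔ ∀ t : F, (e (up t) : X) • m = m := fun m =>
    ⟨fun hm t => hm _ ⟨t, rfl⟩, fun hm => by rintro _ ⟨t, rfl⟩; exact hm t⟩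
  have mCV : ∀ m, m ∈ CV ↔ ∀ t : F, (e (lo t) : X) • m = m := fun m =>
    ⟨fun hm t => hm _ ⟨t, rfl⟩, fun hm => by rintro _ ⟨t, rfl⟩; exact hm t⟩
  have hZU : Z ≤ CU := fun m hm => (mCU m).2 fun t => hm _ (e _).2
  have hZV : Z ≤ CV := fun m hm => (mCV m).2 fun t => hm _ (e _).2
  obtain ⟨w, hw⟩ : ∃ w, w = (e (ww F) : X) := ⟨_, rfl⟩
  have hwu : ∀ t : F, w⁻¹ * (e (lo t) : X) * w = e (up t) := by
    intro t
    have h1 : (ww F)⁻¹ * lo t * ww F = up t := by
      rw [mul_assoc, inv_mul_eq_iff_eq_mul]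
      apply ext2 <;> simp [mul00, mul01, mul10, mul11]
    have h2 := congrArg (fun x => (e x : X)) h1
    simp only [map_mul, map_inv] at h2
    rw [hw]; exact h2
  have hwl : ∀ t : F, w⁻¹ * (e (up t) : X) * w = e (lo t) := by
    intro t
    have h1 : (ww F)⁻¹ * up t * ww F = lo t := by
      rw [mul_assoc, inv_mul_eq_iff_eq_mul]
      apply ext2 <;> simp [mul00, mul01, mul10, mul11]
    have h2 := congrArg (fun x => (e x : X)) h1
    simp only [map_mul, map_inv] at h2
    rw [hw]; exact h2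
  have hwCV : ∀ m, w⁻¹ • m ∈ CU ↔ m ∈ CV := by
    intro m
    rw [mCU, mCV]
    refine forall_congr' fun t => ?_
    rw [← hwu, smul_smul]
    have : w⁻¹ * (e (lo t) : X) * w * w⁻¹ = w⁻¹ * e (lo t) := by group
    rw [this, mul_smul, smul_left_cancel_iff]
  have hcard : Nat.card CV = Nat.card CU := by
    refine Nat.card_congr ⟨fun m => ⟨w⁻¹ • (m : M), (hwCV m).2 m.2⟩,
      fun m => ⟨w • (m : M), (hwCV _).1 (by rw [inv_smul_smul]; exact m.2)⟩, fun m => ?_, fun m => ?_⟩
    · exact Subtype.ext (smul_inv_smul w (m : M))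
    · exact Subtype.ext (inv_smul_smul w (m : M))
  have claimA : ∀ n ∈ CV, (e (up t₀) : X) • n - n ∈ Z → n ∈ Z := by
    intro n hn hn2
    let K : Subgroup (SpecialLinearGroup (Fin 2) F) :=
      { carrier := {s | (e s : X) • n - n ∈ Z}
        mul_mem' := by
          intro a b ha hb
          change ((e (a * b) : L) : X) • n - n ∈ Z
          change (e a : X) • n - n ∈ Z at ha
          change (e b : X) • n - n ∈ Z at hb
          have h1 := hb _ (e a).2
          have h2 : ((e (a * b) : L) : X) • n = (e a : X) • ((e b : X) • n) := by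
            rw [map_mul, smul_smul]; rfl
          have h3 : ((e (a * b) : L) : X) • n - n = (e a : X) • ((e b : X) • n - n) + ((e a : X) • n - n) := by
            rw [h2, smul_sub]; abel
          rw [h3, h1]
          exact add_mem hb ha
        one_mem' := by
          change ((e 1 : L) : X) • n - n ∈ Z
          rw [map_one]
          change (1 : X) • n - n ∈ Z
          rw [one_smul, sub_self]; exact zero_mem _
        inv_mem' := by
          intro a ha
          change ((e a⁻¹ : L) : X) • n - n ∈ Z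
          change (e a : X) • n - n ∈ Z at ha
          have h1 := ha _ (e a⁻¹).2
          rw [smul_sub, smul_smul] at h1
          have h2 : ((e a⁻¹ : L) : X) * (e a : X) = 1 := by rw [map_inv]; exact inv_mul_cancel _
          rw [h2, one_smul] at h1
          have h3 : ((e a⁻¹ : L) : X) • n - n = - ((e a : X) • n - n) := by rw [← h1]; abel
          rw [h3]; exact neg_mem ha }
    have hK : K = ⊤ := eq_top_of_lo K (fun t => by
      change (e (lo t) : X) • n - n ∈ Z
      rw [(mCV n).1 hn t, sub_self]; exact zero_mem _) ht₀0 hn2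
    refine fix_of_mod h4 e fun l hl => ?_
    obtain ⟨s, hs⟩ := e.surjective ⟨l, hl⟩
    have h1 : s ∈ K := by rw [hK]; trivial
    have h2 : (e s : X) • n - n ∈ Z := h1
    rw [hs] at h2
    exact h2
  have claimB : ∀ n ∈ CU, ∃ n' : M, ∃ c ∈ Z, n = ((e (up t₀) : X) • n' - n') + c := by
    let ψ : CV →+ CU :=
      { toFun := fun n => ⟨(e (up t₀) : X) • (n : M) - n, (mCU _).2 fun t => R2 t t₀ n⟩
        map_zero' := Subtype.ext (by simp)
        map_add' := fun a b => Subtype.ext (by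
          change (e (up t₀) : X) • ((a : M) + b) - (a + b) = ((e (up t₀) : X) • (a : M) - a) + ((e (up t₀) : X) • (b : M) - b)
          rw [smul_add]; abel) }
    let φ : CV →+ (CU ⧸ Z.addSubgroupOf CU) := (QuotientAddGroup.mk' _).comp ψ
    have hker : φ.ker = Z.addSubgroupOf CV := by
      ext n
      rw [AddMonoidHom.mem_ker, AddSubgroup.mem_addSubgroupOf]
      change (QuotientAddGroup.mk (ψ n) : CU ⧸ Z.addSubgroupOf CU) = 0 ↔ _
      rw [QuotientAddGroup.eq_zero_iff, AddSubgroup.mem_addSubgroupOf]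
      constructor
      · exact fun h1 => claimA n n.2 h1
      · intro h1
        change (e (up t₀) : X) • (n : M) - n ∈ Z
        rw [h1 _ (e _).2, sub_self]; exact zero_mem _
    have hsurj : Function.Surjective φ := by
      have h1 := AddSubgroup.card_eq_card_quotient_mul_card_addSubgroup φ.ker
      rw [Nat.card_congr (QuotientAddGroup.quotientKerEquivRange φ).toEquiv, hker] at h1
      have h2 := AddSubgroup.card_eq_card_quotient_mul_card_addSubgroup (Z.addSubgroupOf CU)
      have h3 : Nat.card (Z.addSubgroupOf CV) = Nat.card Z :=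
        Nat.card_congr (AddSubgroup.addSubgroupOfEquivOfLe hZV).toEquiv
      have h5 : Nat.card (Z.addSubgroupOf CU) = Nat.card Z :=
        Nat.card_congr (AddSubgroup.addSubgroupOfEquivOfLe hZU).toEquiv
      rw [h3, hcard, h2, h5] at h1
      have h6 := Nat.eq_of_mul_eq_mul_right (Nat.card_pos (α := Z)) h1
      have h7 : φ.range = ⊤ := AddSubgroup.eq_top_of_card_eq _ h6.symm
      exact AddMonoidHom.range_eq_top.1 h7
    intro n hn
    obtain ⟨n', hn'⟩ := hsurj (QuotientAddGroup.mk ⟨n, hn⟩)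
    have h1 : (QuotientAddGroup.mk (ψ n') : CU ⧸ Z.addSubgroupOf CU) = QuotientAddGroup.mk ⟨n, hn⟩ := hn'
    rw [QuotientAddGroup.eq, AddSubgroup.mem_addSubgroupOf] at h1
    refine ⟨n', _, h1, ?_⟩
    change n = ((e (up t₀) : X) • (n' : M) - n') + (-((e (up t₀) : X) • (n' : M) - n') + n)
    abel
  -- (R3)
  obtain ⟨v, hv⟩ : ∃ v, v = (e (dg r₅) : X) := ⟨_, rfl⟩
  have hv5 : v ^ 5 = 1 := by rw [← ho5, ← hord, ← hv, pow_orderOf_eq_one]
  have hvy : y * v * y⁻¹ = v⁻¹ := by
    have h1 := hyK r₅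
    rw [hr5', hKinv, ← hv] at h1
    exact h1
  have hfix2 : ∀ m : M, v • v • m = m → v • m = m := by
    intro m hm
    have h1 : v • m = v ^ 5 • (v • m) := by rw [hv5, one_smul]
    have h2 : v ^ 5 • (v • m) = v • v • v • v • v • v • m := by
      rw [pow_succ, pow_succ, pow_succ, pow_succ, pow_one]
      simp only [mul_smul]
    rw [h1, h2, hm, hm, hm]
  have hvL : v ∈ L := by rw [hv]; exact (e _).2
  have R3 : ∀ m ∈ CU, v • m = m := by
    have key : ∀ m : M, v • ((e (up t₀) : X) • m - m) = (e (up t₀) : X) • m - m := by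
      intro m
      obtain ⟨n, hn⟩ : ∃ n, n = (e (up t₀) : X) • m - m := ⟨_, rfl⟩
      rw [← hn]
      have hyn : y • n = n := by rw [hn]; exact R1y _ ht₀ m
      have hvn : v • n ∈ CU := by
        rw [mCU]
        intro t
        have e1 := hKU' r₅ t
        rw [← hv] at e1
        have e2 : (e (up t) : X) * v = v * (v⁻¹ * (e (up t) : X) * v) := by group
        rw [smul_smul, e2, e1, mul_smul, hn, R2]
      obtain ⟨n', c, hc, h1⟩ := claimB _ hvn
      have h2 : y • (v • n) = v⁻¹ • n := by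
        have e1 : y * v = v⁻¹ * y := by rw [← hvy]; group
        rw [smul_smul, e1, mul_smul, hyn]
      have h3 : y • (v • n) = ((e (up t₀) : X) • n' - n') + y • c := by rw [h1, smul_add, R1y _ ht₀]
      have hyc : y • c ∈ Z := by
        intro l hl
        have e1 : l * y = y * (y⁻¹ * l * y) := by group
        rw [smul_smul, e1, mul_smul, hc _ (by
          have := (inferInstance : L.Normal).conj_mem l hl y⁻¹
          rwa [inv_inv] at this)]
      have h4 : v⁻¹ • n - v • n = y • c - c := by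
        rw [← h2, h3, h1]; abel
      have h5 : y • c - c ∈ Z := sub_mem hyc hc
      have h6 : n - v • v • n = y • c - c := by
        have e1 : v • (v⁻¹ • n - v • n) = y • c - c := by rw [h4]; exact h5 v hvL
        rw [smul_sub, smul_inv_smul] at e1
        exact e1
      obtain ⟨d, hd⟩ : ∃ d, d = y • c - c := ⟨_, rfl⟩
      rw [← hd] at h6 h5
      have hvd : v • d = d := h5 v hvL
      have h7 : v • v • n = n - d := by rw [← h6]; abel
      have h8 : v • v • v • v • n = n := by
        rw [h7, smul_sub, smul_sub, hvd, hvd, h7]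
        have := two d
        calc n - d - d = n - (d + d) := by abel
          _ = n := by rw [this, sub_zero]
      have h9 : v • n = v • v • v • v • v • n := by rw [h8]
      have h10 : v • v • v • v • v • n = n := by
        have e1 : v ^ 5 • n = v • v • v • v • v • n := by
          rw [pow_succ, pow_succ, pow_succ, pow_succ, pow_one]
          simp only [mul_smul]
        rw [← e1, hv5, one_smul]
      rw [h9, h10]
    intro m hm
    obtain ⟨n', c, hc, h1⟩ := claimB m hm
    rw [h1, smul_add, key, hc v hvL]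
  have R4 : ∀ m ∈ CV, v • m = m := by
    intro m hm
    have h1 := R3 _ ((hwCV m).2 hm)
    have hwv : w⁻¹ * v * w = v⁻¹ := by
      have e1 : (ww F)⁻¹ * dg r₅ * ww F = dg r₅⁻¹ := by
        rw [mul_assoc, inv_mul_eq_iff_eq_mul]
        apply ext2 <;> simp [mul00, mul01, mul10, mul11]
      have e2 := congrArg (fun x => (e x : X)) e1
      simp only [map_mul, map_inv] at e2
      rw [hKinv] at e2
      rw [hw, hv]; exact e2
    have h2 : v⁻¹ • (w⁻¹ • m) = w⁻¹ • (v • m) := by
      rw [smul_smul, smul_smul, ← hwv]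
      congr 1; group
    have h3 : v⁻¹ • (w⁻¹ • m) = w⁻¹ • m := by
      rw [inv_smul_eq_iff, h1]
    rw [h2, smul_left_cancel_iff] at h3
    exact h3
  -- conclusion
  have hfinal : ∀ s : SpecialLinearGroup (Fin 2) F, ∀ m : M, v • ((e s : X) • m - m) = (e s : X) • m - m := by
    let K : Subgroup (SpecialLinearGroup (Fin 2) F) :=
      { carrier := {s | ∀ m : M, v • ((e s : X) • m - m) = (e s : X) • m - m}
        mul_mem' := by
          intro a b ha hb m
          have h2 : ((e (a * b) : L) : X) • m = (e a : X) • ((e b : X) • m) := by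
            rw [map_mul, smul_smul]; rfl
          have h3 : ((e (a * b) : L) : X) • m - m = ((e a : X) • ((e b : X) • m) - (e b : X) • m) + ((e b : X) • m - m) := by
            rw [h2]; abel
          rw [h3, smul_add, ha, hb]
        one_mem' := by
          intro m
          rw [map_one]
          change v • ((1 : X) • m - m) = (1 : X) • m - m
          rw [one_smul, sub_self, smul_zero]
        inv_mem' := by
          intro a ha m
          have h1 := ha (((e a⁻¹ : L) : X) • m)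
          have h2 : (e a : X) * ((e a⁻¹ : L) : X) = 1 := by rw [map_inv]; exact mul_inv_cancel _
          rw [smul_smul (e a : X), h2, one_smul] at h1
          have h3 : ((e a⁻¹ : L) : X) • m - m = -(m - ((e a⁻¹ : L) : X) • m) := by abel
          rw [h3, smul_neg, h1] }
    have hK : K = ⊤ := closure_top K (fun t m => R3 _ ((mCU _).2 fun u => R2 u t m)) (fun t m => by
      refine R4 _ ((hwCV _).1 ((mCU _).2 fun u => ?_))
      have e1 : w⁻¹ • ((e (lo t) : X) • m - m) = (e (up t) : X) • (w⁻¹ • m) - w⁻¹ • m := by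
        rw [smul_sub, ← hwu, smul_smul, smul_smul]
        congr 2; group
      rw [e1, R2])
    intro s
    have h1 : s ∈ K := by rw [hK]; trivial
    exact h1
  have hv1 : v = 1 := by
    refine faithful v fun m => hfix2 m ?_
    have h1 := hfinal (dg r₅) m
    rw [← hv, smul_sub] at h1
    have h2 : v • v • m = (v • m - m) + v • m := by rw [← h1]; abel
    have h3 := two (v • m)
    rw [h2]
    calc v • m - m + v • m = (v • m + v • m) - m := by abel
      _ = -m := by rw [h3, zero_sub]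
      _ = m := by rw [neg_eq_iff_add_eq_zero]; exact two m
  have h5 : orderOf v = 5 := by rw [hv, hord, ho5]
  rw [hv1, orderOf_one] at h5
  omega

end Cfsg.Agent.OddCyclic.EN.AqNum
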