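import Cfsg.Agent.OddCyclic.EmpF.Cyc
import Cfsg.Agent.OddCyclic.RedFam
import Cfsg.Agent.OddCyclic.RedFFDefs
import Cfsg.Agent.SmallSimple.SylowCount
import Cfsg.Agent.S0144

/-!
# (F3): group theoretic lemmas

* `solvable_of_23`; `eq_top_of_small`: perfect subgroups of simple groups of order 60, 168;
* `lin_comm`: the stabiliser in `SL₂(q)` of a vector of a natural module has a derived group of order a power of 2;
* `outB`: `L ≤ H` perfect, 3 divides `|L|`, `L` has no proper normal subgroup of the form `L ∩ N`, `N ⊴ H`, which is not a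
  2-group.  If `L` fixes `v` then `L` fixes `⟨v^H⟩` (`Out ρ A`, an offender).
-/

set_option autoImplicit false
set_option linter.unusedSectionVars false

namespace Cfsg.Agent.OddCyclic.EN.FThree

open Subgroup Cfsg
open Cfsg.Agent.OddCyclic.T1Module Cfsg.Agent.OddCyclic.T1Defs Cfsg.Agent.OddCyclic.T1Sl2
  Cfsg.Agent.OddCyclic.FFBasic Cfsg.Agent.OddCyclic.FFRed Cfsg.Agent.OddCyclic.FFSl2
  Cfsg.Agent.OddCyclic.RedFFDefs Cfsg.Agent.OddCyclic.RedFam
open scoped commutatorElement

theorem eq_bot_of_perfect {G : Type*} [Group G] {P : Subgroup G} (hp : ⁅P, P⁆ = P) (hs : Group.IsSolvable P) :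
    P = ⊥ := by
  by_contra hne
  have : Nontrivial P := (Subgroup.nontrivial_iff_ne_bot P).2 hne
  have h1 := Group.IsSolvable.commutator_lt_top_of_nontrivial P
  apply h1.ne
  apply Subgroup.map_injective P.subtype_injective
  rw [commutator_def, Subgroup.map_commutator, ← MonoidHom.range_eq_map, Subgroup.range_subtype, hp]

theorem solvable_of_23 {L : Type*} [Group L] [Finite L] (h : ∀ x : L, ∃ i j : ℕ, x ^ (2 ^ i * 3 ^ j) = 1) :
    Group.IsSolvable L := by
  have key : ∀ p : ℕ, p.Prime → p ∣ Nat.card L → p = 2 ∨ p = 3 := by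
    intro p hp hd
    have : Fact p.Prime := ⟨hp⟩
    obtain ⟨x, hx⟩ := exists_prime_orderOf_dvd_card' (G := L) p hd
    obtain ⟨i, j, hij⟩ := h x
    have h1 := orderOf_dvd_of_pow_eq_one hij
    rw [hx] at h1
    rcases (Nat.Prime.dvd_mul hp).1 h1 with h2 | h2
    · left; exact (Nat.prime_dvd_prime_iff_eq hp Nat.prime_two).1 (hp.dvd_of_dvd_pow h2)
    · right; exact (Nat.prime_dvd_prime_iff_eq hp Nat.prime_three).1 (hp.dvd_of_dvd_pow h2)
  have hpos : 0 < Nat.card L := Nat.card_pos
  obtain ⟨a, m, hm, ham⟩ := Nat.exists_eq_pow_mul_and_not_dvd hpos.ne' 2 (by norm_num)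
  have hm0 : m ≠ 0 := by rintro rfl; rw [mul_zero] at ham; omega
  obtain ⟨b, k, hk, hbk⟩ := Nat.exists_eq_pow_mul_and_not_dvd hm0 3 (by norm_num)
  have hk1 : k = 1 := by
    by_contra hk1
    obtain ⟨p, hp, hpk⟩ := Nat.exists_prime_and_dvd hk1
    have h1 : p ∣ Nat.card L := by
      rw [ham, hbk]
      exact (hpk.mul_left _).mul_left _
    rcases key p hp h1 with rfl | rfl
    · exact hm (by rw [hbk]; exact hpk.mul_left _)
    · exact hk hpk
  rw [hk1, mul_one] at hbk
  exact S0144.result 2 3 a b Nat.prime_two Nat.prime_three (by rw [ham, hbk])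

theorem form_of_small : ∀ n < 34, (n ∣ 60 ∧ n < 13 ∨ n ∣ 168) → n = 0 ∨
    ∃ p ∈ [2, 3], ∃ q ∈ [3, 5, 7], ∃ a < 4, ∃ b < 2, n = p ^ a * q ^ b := by
  decide +kernel

theorem eq_top_of_small {L : Type*} [Group L] [Finite L] (hs : IsSimpleGroup L)
    (hc : Nat.card L = 60 ∨ Nat.card L = 168) {P : Subgroup L} (hP : ⁅P, P⁆ = P) (hP1 : P ≠ ⊥) : P = ⊤ := by
  by_contra hne
  have h1 := SmallSimple.SylowCount.card_dvd_factorial_index P hne
  have h2 := P.card_mul_index
  have h3 : 5 ≤ P.index := by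
    by_contra hcon
    have h4 : P.index ≤ 4 := by omega
    have h5 := Nat.factorial_le h4
    have h6 := Nat.le_of_dvd (Nat.factorial_pos _) h1
    have h7 : Nat.factorial 4 = 24 := rfl
    omega
  have h4 : Nat.card P < 34 := by
    by_contra hcon
    have h5 : 34 * 5 ≤ Nat.card P * P.index := Nat.mul_le_mul (by omega) h3
    omega
  have h5 : Nat.card P ∣ 60 ∧ Nat.card P < 13 ∨ Nat.card P ∣ 168 := by
    rcases hc with hc | hc
    · left
      refine ⟨by rw [← hc, ← h2]; exact dvd_mul_right _ _, ?_⟩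
      by_contra hcon
      have h5 : 13 * 5 ≤ Nat.card P * P.index := Nat.mul_le_mul (by omega) h3
      omega
    · right; rw [← hc, ← h2]; exact dvd_mul_right _ _
  rcases form_of_small _ h4 h5 with h6 | ⟨p, hp, q, hq, a, -, b, -, hab⟩
  · exact (Nat.card_pos (α := P)).ne' h6
  · have hp' : p.Prime := by
      fin_cases hp
      · exact Nat.prime_two
      · exact Nat.prime_three
    have hq' : q.Prime := by
      fin_cases hq
      · exact Nat.prime_three
      · exact Nat.prime_five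
      · norm_num
    exact hP1 (eq_bot_of_perfect hP (S0144.result p q a b hp' hq' hab))

theorem perfect_of_simple {H : Type*} [Group H] {N : Subgroup H} (hs : IsSimpleGroup N)
    (hab : ∃ x ∈ N, ∃ y ∈ N, x * y ≠ y * x) : ⁅N, N⁆ = N := by
  have h1 : (commutator N).map N.subtype = ⁅N, N⁆ := by
    rw [commutator_def, Subgroup.map_commutator, ← MonoidHom.range_eq_map, Subgroup.range_subtype]
  rcases hs.eq_bot_or_eq_top_of_normal (commutator N) inferInstance with h2 | h2
  · exfalso
    obtain ⟨x, hx, y, hy, hne⟩ := hab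
    apply hne
    have h3 : ⁅x, y⁆ ∈ ⁅N, N⁆ := Subgroup.commutator_mem_commutator hx hy
    rw [← h1, h2, Subgroup.map_bot, Subgroup.mem_bot, commutatorElement_eq_one_iff_mul_comm] at h3
    exact h3
  · rw [← h1, h2, ← MonoidHom.range_eq_map, Subgroup.range_subtype]

/-- perfect subgroups of normal simple subgroups of order 60, 168 -/
theorem le_of_small {H : Type*} [Group H] [Finite H] {L P : Subgroup H} (hs : IsSimpleGroup L)
    (hc : Nat.card L = 60 ∨ Nat.card L = 168) (hPL : P ≤ L) (hP : ⁅P, P⁆ = P) (hP1 : P ≠ ⊥) : L ≤ P := by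
  have h1 : (P.subgroupOf L).map L.subtype = P := by rw [Subgroup.subgroupOf_map_subtype, inf_eq_left.2 hPL]
  have h2 : P.subgroupOf L = ⊤ := by
    refine eq_top_of_small hs hc ?_ ?_
    · apply Subgroup.map_injective L.subtype_injective
      rw [Subgroup.map_commutator, h1, hP]
    · intro h0
      apply hP1
      rw [← h1, h0, Subgroup.map_bot]
  exact Subgroup.subgroupOf_eq_top.1 h2

section lin

variable {F : Type*} [Field F] [Fintype F] [CharP F 2] {V : Type*} [CommGroup V] [Finite V]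
  {ρ : Matrix.SpecialLinearGroup (Fin 2) F →* MulAut V}

theorem lin_comm (h : IsNat ρ) {v : V} (hv : ∃ g, ρ g v ≠ v) :
    ∃ U : Sylow 2 (Matrix.SpecialLinearGroup (Fin 2) F), ∀ x y, ρ x v = v → ρ y v = v →
      x * y * x⁻¹ * y⁻¹ ∈ (U : Subgroup (Matrix.SpecialLinearGroup (Fin 2) F)) := by
  obtain ⟨U, hU⟩ := h.cover v
  have key : ∀ s, ρ s v = v → s • U = U := by
    intro s hs
    by_contra hne
    obtain ⟨g, hg⟩ := hv
    have h1 : v ∈ CS ρ ((s • U : Sylow 2 _) : Subgroup _) := by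
      have := smul_mem_CS ρ U s hU
      rwa [hs] at this
    have h2 : g ∈ stb ρ v := by
      have h3 : ((s • U : Sylow 2 (Matrix.SpecialLinearGroup (Fin 2) F)) : Subgroup _) ⊔ (U : Subgroup _) ≤ stb ρ v :=
        sup_le (mem_CS_iff.1 h1) (mem_CS_iff.1 hU)
      rw [sylow_sup hne] at h3
      exact h3 (Subgroup.mem_top g)
    exact hg h2
  obtain ⟨g, hg⟩ := exists_smul_SU U
  have key2 : ∀ s, ρ s v = v → (g⁻¹ * s * g) 1 0 = 0 := by
    intro s hs
    rw [← smul_SU_eq, mul_smul, mul_smul, hg, key s hs, ← hg, inv_smul_smul]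
  refine ⟨U, fun x y hx hy => ?_⟩
  have hx' := key2 x hx
  have hy' := key2 y hy
  set x' := g⁻¹ * x * g with hx1
  set y' := g⁻¹ * y * g with hy1
  have h1 : x' * y' * x'⁻¹ * y'⁻¹ ∈ T1Sl2.SU F := by
    rw [mem_SU]
    have dx := T1Sl2.det x'
    have dy := T1Sl2.det y'
    rw [hx', mul_zero, sub_zero] at dx
    rw [hy', mul_zero, sub_zero] at dy
    constructor
    · simp only [mul00, mul01, mul10, mul11, inv00, inv01, inv10, inv11, hx', hy']
      linear_combination (y' 0 0 * y' 1 1) * dx + dy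
    · simp only [mul00, mul01, mul10, mul11, inv00, inv01, inv10, inv11, hx', hy']
      ring
  have h2 := conj_mem_smul (g := g) h1
  rw [hg] at h2
  have e : g * (x' * y' * x'⁻¹ * y'⁻¹) * g⁻¹ = x * y * x⁻¹ * y⁻¹ := by rw [hx1, hy1]; group
  rwa [e] at h2

end lin

theorem nonempty_alt {X : Type*} [Group X] {K : Subgroup X} (e : K ≃* Equiv.Perm (Fin 5)) :
    Nonempty (alternatingGroup (Fin 5) ≃*
      (((alternatingGroup (Fin 5)).comap e.toMonoidHom).map K.subtype : Subgroup X)) := by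
  have h1 : ((alternatingGroup (Fin 5)).comap e.toMonoidHom).map e.toMonoidHom = alternatingGroup (Fin 5) :=
    map_comap_eq_self_of_surjective e.surjective _
  have e1 : (alternatingGroup (Fin 5)).comap e.toMonoidHom ≃* alternatingGroup (Fin 5) :=
    (Subgroup.equivMapOfInjective _ e.toMonoidHom e.injective).trans (MulEquiv.subgroupCongr h1)
  have e2 : (alternatingGroup (Fin 5)).comap e.toMonoidHom ≃*
      (((alternatingGroup (Fin 5)).comap e.toMonoidHom).map K.subtype : Subgroup X) :=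
    Subgroup.equivMapOfInjective _ K.subtype K.subtype_injective
  exact ⟨e1.symm.trans e2⟩

universe u

section outB

variable {H V : Type u} [Group H] [Finite H] [CommGroup V] [Finite V] {ρ : H →* MulAut V}

theorem outLin_two {L P A : Subgroup H} (hV : ∀ v : V, v * v = 1) {F : Type} [Field F] [Fintype F] [CharP F 2]
    (h4 : 4 ≤ Fintype.card F) (e : L ≃* Matrix.SpecialLinearGroup (Fin 2) F) (hAL : A ≤ L)
    (hcA : Nat.card A = Fintype.card F) (hiA : (CS ρ A).index = Fintype.card F) (hPL : P ≤ L) (hP : ⁅P, P⁆ = P)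
    {v : V} (hv : ∀ x ∈ P, ρ x v = v) (hv1 : ∃ l ∈ L, ρ l v ≠ v) : IsPGroup 2 P := by
  have hf : Fact (Nat.Prime 2) := ⟨Nat.prime_two⟩
  set j : Matrix.SpecialLinearGroup (Fin 2) F →* H := L.subtype.comp e.symm.toMonoidHom with hj
  have hj1 : ∀ (x : H) (hx : x ∈ L), j (e ⟨x, hx⟩) = x := by
    intro x hx
    change ((e.symm (e ⟨x, hx⟩) : L) : H) = x
    rw [e.symm_apply_apply]
  set σ : Matrix.SpecialLinearGroup (Fin 2) F →* MulAut V := ρ.comp j with hσ
  -- the Sylow 2-subgroup
  have hA2 : IsPGroup 2 A := by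
    obtain ⟨n, -, hn⟩ := T1Sl2.card_pow F
    exact IsPGroup.of_card (n := n) (by rw [hcA, hn])
  have hjinj : Function.Injective j := L.subtype_injective.comp e.symm.injective
  have hA' : IsPGroup 2 (A.comap j) := hA2.comap_of_injective j hjinj
  obtain ⟨U₀, hU₀⟩ := hA'.exists_le_sylow
  have hcA' : Nat.card (A.comap j) = Nat.card A := by
    have h1 : (A.comap j).map j = A := by
      apply le_antisymm (Subgroup.map_comap_le _ _)
      intro a ha
      exact ⟨e ⟨a, hAL ha⟩, by rw [SetLike.mem_coe, Subgroup.mem_comap, hj1]; exact ha, hj1 a _⟩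
    conv_rhs => rw [← h1]
    exact (Subgroup.card_map_of_injective hjinj).symm
  have hU₁ : A.comap j = (U₀ : Subgroup _) := by
    apply Subgroup.eq_of_le_of_card_ge hU₀
    rw [hcA', hcA]
    exact (card_sylow U₀).le
  have h1 : CS ρ A ≤ CS σ (U₀ : Subgroup _) := by
    intro w hw b hb
    rw [← hU₁] at hb
    exact hw (j b) hb
  have hnat : IsNat σ := by
    refine isNat_of h4 hV ?_ U₀ ?_
    · obtain ⟨l, hl, hlv⟩ := hv1
      exact ⟨e ⟨l, hl⟩, v, by rw [hσ, MonoidHom.comp_apply, hj1]; exact hlv⟩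
    · rw [← hiA]
      exact index_le_of_le h1
  obtain ⟨U, hU⟩ := lin_comm hnat (v := v) (by
    obtain ⟨l, hl, hlv⟩ := hv1
    exact ⟨e ⟨l, hl⟩, by rw [hσ, MonoidHom.comp_apply, hj1]; exact hlv⟩)
  have h2 : P ≤ (U : Subgroup _).map j := by
    rw [← hP, Subgroup.commutator_le]
    intro x hx y hy
    refine ⟨_, hU (e ⟨x, hPL hx⟩) (e ⟨y, hPL hy⟩) ?_ ?_, ?_⟩
    · rw [hσ, MonoidHom.comp_apply, hj1]; exact hv x hx
    · rw [hσ, MonoidHom.comp_apply, hj1]; exact hv y hy
    · rw [map_mul, map_mul, map_mul, map_inv, map_inv, hj1, hj1]; rfl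
  exact (U.isPGroup'.map j).to_le h2

theorem outB (hV : ∀ v : V, v * v = 1) (hc : OddCyc H) {A : Subgroup H} (hA : Out ρ A) {L : Subgroup H}
    (hL : ⁅L, L⁆ = L) (h3 : 3 ∣ Nat.card L)
    (hmax : ∀ N : Subgroup H, N.Normal → L ≤ N ∨ ∀ x ∈ L ⊓ N, ∃ k : ℕ, x ^ 2 ^ k = 1) {v : V}
    (hv : ∀ l ∈ L, ρ l v = v) : ∀ g : H, ∀ l ∈ L, ρ l (ρ g v) = ρ g v := by
  have hf : Fact (Nat.Prime 3) := ⟨Nat.prime_three⟩
  obtain ⟨⟨x, hxL⟩, hx⟩ := exists_prime_orderOf_dvd_card' (G := L) 3 h3
  rw [Subgroup.orderOf_mk] at hx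
  have hx3 : x ^ 3 = 1 := by rw [← hx]; exact pow_orderOf_eq_one x
  have hno : ¬ ∃ k : ℕ, x ^ 2 ^ k = 1 := by
    rintro ⟨k, hk⟩
    have h1 := orderOf_dvd_of_pow_eq_one hk
    rw [hx] at h1
    have := (Nat.prime_dvd_prime_iff_eq Nat.prime_three Nat.prime_two).1 (Nat.prime_three.dvd_of_dvd_pow h1)
    omega
  have hLb : L ≠ ⊥ := by
    intro h0
    rw [h0, Subgroup.card_bot] at h3
    omega
  -- a perfect normal subgroup of order divisible by 3 contains `L`
  have key : ∀ N : Subgroup H, N.Normal → ⁅N, N⁆ = N → 3 ∣ Nat.card N → L ≤ N := by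
    intro N hN hNp hN3
    rcases hmax N hN with h1 | h1
    · exact h1
    · exfalso
      apply hno
      exact h1 x ⟨hxL, EmpF.mem_of_perfect hc hN hNp Nat.prime_three (by norm_num) hN3 ⟨1, by rw [pow_one]; exact hx3⟩⟩
  -- a normal subgroup over `L` fixing `v`
  have key2 : ∀ N : Subgroup H, N.Normal → L ≤ N → (∀ n ∈ N, ρ n v = v) →
      ∀ g : H, ∀ l ∈ L, ρ l (ρ g v) = ρ g v := by
    intro N hN hLN hNv g l hl
    have h1 : g⁻¹ * l * g ∈ N := by
      have := hN.conj_mem l (hLN hl) g⁻¹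
      rwa [inv_inv] at this
    have h2 := hNv _ h1
    have h3 : ρ g (ρ (g⁻¹ * l * g) v) = ρ l (ρ g v) := by
      rw [← MulAut.mul_apply, ← MulAut.mul_apply, ← map_mul, ← map_mul]
      congr 2
      group
    rw [← h3, h2]
  -- order 60, 168
  have small : ∀ N : Subgroup H, N.Normal → IsSimpleGroup N → (Nat.card N = 60 ∨ Nat.card N = 168) →
      ∀ g : H, ∀ l ∈ L, ρ l (ρ g v) = ρ g v := by
    intro N hN hs hcN
    have h1 : ∃ a ∈ N, ∃ b ∈ N, a * b ≠ b * a := by
      by_contra hcon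
      push Not at hcon
      have h2 : (Nat.card N).Prime := by
        have h3 : ∀ a b : N, a * b = b * a := fun a b => Subtype.ext (hcon a a.2 b b.2)
        let _ : CommGroup N := { (inferInstance : Group N) with mul_comm := h3 }
        exact IsSimpleGroup.prime_card
      rcases hcN with h3 | h3 <;> rw [h3] at h2 <;> revert h2 <;> norm_num
    have h2 := key N hN (perfect_of_simple hs h1) (by rcases hcN with h3 | h3 <;> rw [h3] <;> norm_num)
    have h3 := le_of_small hs hcN h2 hL hLb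
    exact key2 N hN h2 fun n hn => hv n (h3 hn)
  rcases hA with hA | hA | hA | hA
  · -- `S₃`
    exfalso
    obtain ⟨y, hy, hyn, -, -, -, hi⟩ := hA
    have hs : S3 ρ y := ⟨hy, hyn, hi⟩
    have h1 : x ∈ zpowers y := hs.mem hV hc ⟨1, by rw [pow_one]; exact hx3⟩
    rcases hmax _ hyn with h2 | h2
    · apply hLb
      have h3 : ⁅L, L⁆ = ⊥ := by
        rw [Subgroup.commutator_eq_bot_iff_le_centralizer]
        intro a ha
        rw [mem_centralizer_iff]
        intro b hb
        obtain ⟨i, hi⟩ := mem_zpowers_iff.1 (h2 ha)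
        obtain ⟨j, hj⟩ := mem_zpowers_iff.1 (h2 hb)
        rw [← hi, ← hj, ← zpow_add, ← zpow_add, add_comm]
      rw [← hL, h3]
    · exact hno (h2 x ⟨hxL, h1⟩)
  · -- `SL₂(q)`
    obtain ⟨N, hN, hAN, F, i1, i2, i3, h4, ⟨e⟩, hcA, hiN, hiA, -⟩ := hA
    have hsN : IsSimpleGroup N := by
      have := isSimpleGroup_sl2 h4
      exact MulEquiv.isSimpleGroup e
    have h6 : 3 ∣ Nat.card N := by
      rw [Nat.card_congr e.toEquiv, T1Sl2.card_sl2]
      have h7 : (Fintype.card F) % 3 = 1 ∨ (Fintype.card F) % 3 = 2 := by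
        obtain ⟨n, -, hn⟩ := T1Sl2.card_pow F
        have h8 : ¬ 3 ∣ Fintype.card F := by
          rw [hn]
          intro h9
          have := (Nat.prime_dvd_prime_iff_eq Nat.prime_three Nat.prime_two).1 (Nat.prime_three.dvd_of_dvd_pow h9)
          omega
        omega
      rcases h7 with h7 | h7
      · have : 3 ∣ Fintype.card F - 1 := by omega
        exact this.mul_left _
      · have : 3 ∣ Fintype.card F + 1 := by omega
        exact (this.mul_right _).mul_right _
    have hNp : ⁅N, N⁆ = N := by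
      refine perfect_of_simple hsN ?_
      by_contra hcon
      push Not at hcon
      have h8 : Subgroup.center (Matrix.SpecialLinearGroup (Fin 2) F) = ⊤ := by
        rw [eq_top_iff]
        intro s _
        rw [Subgroup.mem_center_iff]
        intro t
        apply e.symm.injective
        rw [map_mul, map_mul]
        exact Subtype.ext (hcon _ (e.symm t).2 _ (e.symm s).2)
      rw [center_sl2] at h8
      have h9 : Nontrivial (Matrix.SpecialLinearGroup (Fin 2) F) := (isSimpleGroup_sl2 h4).toNontrivial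
      exact bot_ne_top h8
    have hLN := key N hN hNp h6
    by_cases hv1 : ∃ l ∈ N, ρ l v ≠ v
    · exfalso
      have h7 := outLin_two hV h4 e hAN hcA hiA hLN hL hv hv1
      obtain ⟨k, hk⟩ := h7 ⟨x, hxL⟩
      exact hno ⟨k, congrArg Subtype.val hk⟩
    · push Not at hv1
      exact key2 N hN hLN hv1
  · -- `S₅`
    obtain ⟨K, -, e, hN, -, -⟩ := hA
    obtain ⟨f⟩ := nonempty_alt e
    have h1 : Nat.card (((alternatingGroup (Fin 5)).comap e.toMonoidHom).map K.subtype : Subgroup H) = 60 := by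
      rw [← Nat.card_congr f.toEquiv]
      have h1 := nat_card_alternatingGroup (α := Fin 5)
      rw [Nat.card_eq_fintype_card (α := Fin 5), Fintype.card_fin] at h1
      rw [h1]; rfl
    have hs : IsSimpleGroup (((alternatingGroup (Fin 5)).comap e.toMonoidHom).map K.subtype : Subgroup H) := by
      have := alternatingGroup.isSimpleGroup_five
      exact f.symm.isSimpleGroup
    exact small _ hN hs (Or.inl h1)
  · obtain ⟨N, hN, -, hs, hcN⟩ := hA
    exact small _ hN hs (Or.inr hcN)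

end outB

end Cfsg.Agent.OddCyclic.EN.FThree
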