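import Cfsg.Agent.OddCyclic.EN.FThreeA
import Cfsg.Agent.OddCyclic.EN.Bb
import Cfsg.Agent.OddCyclic.RedAct
import Cfsg.Agent.OddCyclic.FFSec

/-!
# (F3): `C(a) ≤ C(z)` for an involution `a ∈ T` centralised by `L*`, `[a, T] = ⟨z⟩`

Section 1.8 of blueprints/S0342-Bb-helper217.md.
-/

set_option autoImplicit false
set_option linter.unusedSectionVars false

namespace Cfsg.Agent.OddCyclic.EN.FThree

open Subgroup Cfsg Cfsg.Agent.ZN Cfsg.Agent.ZN.ChoiceBase Cfsg.Agent.OddCyclic.EN.BbDefs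
open Cfsg.Agent.MinSimple.VModule (le_normalizer_o2 normalizer_le_normalizer_zc)
open Cfsg.Agent.OddCyclic.T1Module Cfsg.Agent.OddCyclic.T1Defs Cfsg.Agent.OddCyclic.RedTy
open Cfsg.Agent.OddCyclic.RedX (mod Loc)
open scoped commutatorElement

universe u

variable {G : Type u} [Group G]

/-! ### part (A) -/

/-- `⟨z^N⟩` is normalised by `N` -/
theorem le_normalizer_vx (N : Subgroup G) (z : G) : N ≤ normalizer (vx N z : Set G) := by
  have key : ∀ g ∈ N, ∀ x ∈ vx N z, g * x * g⁻¹ ∈ vx N z := by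
    intro g hg x hx
    have h1 : vx N z ≤ (vx N z).comap (MulAut.conj g).toMonoidHom := by
      unfold vx
      rw [closure_le]
      rintro _ ⟨y, hy, rfl⟩
      apply Subgroup.subset_closure
      exact ⟨g * y, mul_mem hg hy, by
        change g * (y * z * y⁻¹) * g⁻¹ = _
        group⟩
    exact h1 hx
  intro g hg
  rw [mem_normalizer_iff]
  intro x
  refine ⟨key g hg x, fun hx => ?_⟩
  have h1 := key g⁻¹ (inv_mem hg) _ hx
  have e : g⁻¹ * (g * x * g⁻¹) * g⁻¹⁻¹ = x := by group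
  rwa [e] at h1

theorem conj_mem_centralizer {W : Subgroup G} {g x : G} (hg : g ∈ normalizer (W : Set G))
    (hx : x ∈ centralizer (W : Set G)) : g * x * g⁻¹ ∈ centralizer (W : Set G) := by
  have h1 : g ∈ normalizer ((centralizer (W : Set G) : Subgroup G) : Set G) := by
    rw [mem_normalizer_iff_cj, cj_centralizer, cj_eq_of_mem_normalizer hg]
  exact (mem_normalizer_iff.1 h1 x).1 hx

theorem partA [Finite G] {L X Y N W V : Subgroup G} {z : G} (hs : IsStar L) (hLX : L ≤ X)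
    (hLz : L ≤ centralizer ({z} : Set G)) (hzY : z ∈ Y) (hXY : X ≤ normalizer (Y : Set G))
    (hX : X ≤ (X ⊓ centralizer (Y : Set G)) ⊔ (X ⊓ N)) (hVW : V ≤ W) (hNW : N ≤ normalizer (W : Set G))
    (h23 : ∀ c ∈ N, c ∈ centralizer ({z} : Set G) → ∃ i j : ℕ, c ^ (2 ^ i * 3 ^ j) ∈ centralizer (W : Set G))
    (f3 : ∀ g ∈ centralizer (V : Set G), orderOf g ≠ 3) : L ≤ centralizer (Y : Set G) := by
  by_contra hLY
  have hf : Fact (Nat.Prime 3) := ⟨Nat.prime_three⟩
  set K : Subgroup G := X ⊓ centralizer (Y : Set G) with hK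
  set M : Subgroup G := X ⊓ N ⊓ centralizer ({z} : Set G) ⊓ centralizer (W : Set G) with hM
  have hKz : ∀ k ∈ K, k * z = z * k := fun k hk => ((mem_centralizer_iff.1 hk.2) z hzY).symm
  have hKc : ∀ x ∈ X, ∀ k ∈ K, x * k * x⁻¹ ∈ K := fun x hx k hk =>
    mem_inf.2 ⟨mul_mem (mul_mem hx hk.1) (inv_mem hx), conj_mem_centralizer (hXY hx) hk.2⟩
  have hXK : X ≤ normalizer (K : Set G) := Cfsg.Agent.ZN.Block.le_normalizer_of_forall fun x hx k hk => hKc x hx k hk
  -- decomposition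
  have hdec : ∀ x ∈ X, ∃ k ∈ K, ∃ n ∈ X ⊓ N, x = k * n := by
    intro x hx
    have h1 := hX hx
    rw [← SetLike.mem_coe, coe_mul_of_right_le_normalizer_left _ _ (inf_le_left.trans hXK)] at h1
    obtain ⟨k, hk, n, hn, hkn⟩ := h1
    exact ⟨k, hk, n, hn, hkn.symm⟩
  have hdecL : ∀ l ∈ L, ∃ k ∈ K, ∃ n ∈ X ⊓ N, n * z = z * n ∧ l = k * n := by
    intro l hl
    obtain ⟨k, hk, n, hn, e⟩ := hdec l (hLX hl)
    refine ⟨k, hk, n, hn, ?_, e⟩
    have h1 : l * z = z * l := mem_centralizer_singleton_iff.1 (hLz hl)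
    have h2 := hKz k hk
    rw [e] at h1
    calc n * z = k⁻¹ * (k * n * z) := by group
      _ = k⁻¹ * (z * k) * n := by rw [h1]; group
      _ = z * n := by rw [← h2]; group
  -- `K M`
  have hMX : M ≤ X := inf_le_left.trans (inf_le_left.trans inf_le_left)
  have hKM : ∀ x : G, x ∈ K ⊔ M ↔ ∃ k ∈ K, ∃ m ∈ M, x = k * m := by
    intro x
    rw [← SetLike.mem_coe, coe_mul_of_right_le_normalizer_left _ _ (hMX.trans hXK)]
    constructor
    · rintro ⟨k, hk, m, hm, e⟩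
      exact ⟨k, hk, m, hm, e.symm⟩
    · rintro ⟨k, hk, m, hm, e⟩
      exact ⟨k, hk, m, hm, e.symm⟩
  have hMn : ∀ n ∈ X ⊓ N, n * z = z * n → ∀ m ∈ M, n * m * n⁻¹ ∈ M := by
    intro n hn hnz m hm
    refine mem_inf.2 ⟨mem_inf.2 ⟨mul_mem (mul_mem hn hm.1.1) (inv_mem hn), ?_⟩, conj_mem_centralizer (hNW hn.2) hm.2⟩
    exact mul_mem (mul_mem (mem_centralizer_singleton_iff.2 hnz) hm.1.2)
      (inv_mem (mem_centralizer_singleton_iff.2 hnz))
  have hLKM : L ≤ normalizer ((L ⊓ (K ⊔ M) : Subgroup G) : Set G) := by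
    refine Cfsg.Agent.ZN.Block.le_normalizer_of_forall fun l hl x hx => ?_
    refine mem_inf.2 ⟨mul_mem (mul_mem hl hx.1) (inv_mem hl), ?_⟩
    obtain ⟨k, hk, n, hn, hnz, e⟩ := hdecL l hl
    obtain ⟨k', hk', m, hm, e'⟩ := (hKM x).1 hx.2
    have h1 : n * x * n⁻¹ ∈ K ⊔ M := by
      rw [hKM]
      refine ⟨_, hKc n hn.1 k' hk', _, hMn n hn hnz m hm, ?_⟩
      rw [e']; group
    have h2 : l * x * l⁻¹ = k * (n * x * n⁻¹) * k⁻¹ := by rw [e]; group
    rw [h2]
    exact mul_mem (mul_mem (mem_sup_left hk) h1) (inv_mem (mem_sup_left hk))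
  have hLK : L ≤ normalizer ((L ⊓ K : Subgroup G) : Set G) := by
    refine Cfsg.Agent.ZN.Block.le_normalizer_of_forall fun l hl x hx => ?_
    exact mem_inf.2 ⟨mul_mem (mul_mem hl hx.1) (inv_mem hl), hKc l (hLX hl) x hx.2⟩
  -- `L ∩ K` is a 2-group
  have hD : IsPGroup 2 (L ⊓ K : Subgroup G) := by
    rcases hs.max _ inf_le_left hLK with h1 | h1
    · exact absurd ((inf_eq_left.1 h1).trans inf_le_right) hLY
    · exact h1
  rcases hs.max _ inf_le_left hLKM with h1 | h1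
  · -- an element of order 3
    have hLKM' : L ≤ K ⊔ M := inf_eq_left.1 h1
    obtain ⟨⟨l, hl⟩, hlo⟩ := exists_prime_orderOf_dvd_card' (G := L) 3 hs.three
    rw [Subgroup.orderOf_mk] at hlo
    obtain ⟨k, hk, m, hm, e⟩ := (hKM l).1 (hLKM' hl)
    have hlK : l ∉ K := by
      intro h2
      obtain ⟨j, hj⟩ := hD ⟨l, hl, h2⟩
      have h3 := orderOf_dvd_of_pow_eq_one (congrArg Subtype.val hj)
      change orderOf l ∣ 2 ^ j at h3
      rw [hlo] at h3
      have := (Nat.prime_dvd_prime_iff_eq Nat.prime_three Nat.prime_two).1 (Nat.prime_three.dvd_of_dvd_pow h3)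
      omega
    have hmK : m ∉ K := fun h2 => hlK (by rw [e]; exact mul_mem hk h2)
    have hmX : m ∈ X := hMX hm
    have hm3 : m ^ 3 ∈ K := by
      have h2 : l ^ 3 = 1 := by rw [← hlo]; exact pow_orderOf_eq_one l
      have h3 : m ^ 3 = ((k * (m * k * m⁻¹) * (m ^ 2 * k * (m ^ 2)⁻¹)))⁻¹ * l ^ 3 := by
        rw [e, pow_succ (k * m), pow_two (k * m)]; group
      rw [h3, h2, mul_one]
      exact inv_mem (mul_mem (mul_mem hk (hKc m hmX k hk)) (hKc _ (pow_mem hmX 2) k hk))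
    have h3 : 3 ∣ orderOf m := by
      by_contra h3
      apply hmK
      have h4 : Nat.Coprime (orderOf m) 3 := ((Nat.Prime.coprime_iff_not_dvd Nat.prime_three).2 h3).symm
      have h5 := exists_pow_eq_self_of_coprime h4.symm
      obtain ⟨i, hi⟩ := h5
      rw [← hi]
      exact pow_mem hm3 i
    obtain ⟨c, hc⟩ := h3
    have hc0 : c ≠ 0 := by
      rintro rfl
      rw [mul_zero] at hc
      exact (orderOf_pos m).ne' hc
    refine f3 (m ^ c) (pow_mem (centralizer_le hVW hm.2) c) ?_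
    rw [orderOf_pow_of_dvd hc0 ⟨3, by rw [hc]; ring⟩, hc]
    exact Nat.mul_div_cancel _ (Nat.pos_of_ne_zero hc0)
  · -- `L` is a `{2, 3}`-group
    have h2 : ∀ l : L, ∃ i j : ℕ, l ^ (2 ^ i * 3 ^ j) = 1 := by
      rintro ⟨l, hl⟩
      obtain ⟨k, hk, n, hn, hnz, e⟩ := hdecL l hl
      obtain ⟨i, j, hij⟩ := h23 n hn.2 (mem_centralizer_singleton_iff.2 hnz)
      have hnM : n ^ (2 ^ i * 3 ^ j) ∈ M :=
        ⟨⟨pow_mem hn _, pow_mem (mem_centralizer_singleton_iff.2 hnz) _⟩, hij⟩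
      have h5 : ∀ m : ℕ, l ^ m * (n ^ m)⁻¹ ∈ K := by
        intro m
        induction m with
        | zero => simp
        | succ m ih =>
          have e' : l ^ (m + 1) * (n ^ (m + 1))⁻¹ = (l ^ m * (n ^ m)⁻¹) * (n ^ m * k * (n ^ m)⁻¹) := by
            rw [pow_succ l, pow_succ n]
            nth_rw 2 [e]
            group
          rw [e']
          exact mul_mem ih (hKc _ (pow_mem hn.1 m) k hk)
      have h6 : l ^ (2 ^ i * 3 ^ j) ∈ K ⊔ M := by
        have h7 : l ^ (2 ^ i * 3 ^ j) = (l ^ (2 ^ i * 3 ^ j) * (n ^ (2 ^ i * 3 ^ j))⁻¹) * n ^ (2 ^ i * 3 ^ j) := by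
          group
        rw [h7]
        exact mul_mem (mem_sup_left (h5 _)) (mem_sup_right hnM)
      obtain ⟨s, hs'⟩ := h1 ⟨l ^ (2 ^ i * 3 ^ j), pow_mem hl _, h6⟩
      refine ⟨i + s, j, ?_⟩
      have h8 := congrArg Subtype.val hs'
      change (l ^ (2 ^ i * 3 ^ j)) ^ 2 ^ s = 1 at h8
      apply Subtype.ext
      change l ^ (2 ^ (i + s) * 3 ^ j) = 1
      rw [← h8, ← pow_mul]
      congr 1
      rw [pow_add]; ring
    have h3 := eq_bot_of_perfect hs.perf (solvable_of_23 h2)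
    have h4 := hs.three
    rw [h3, Subgroup.card_bot] at h4
    omega

/-! ### part (B) -/

theorem partB [Finite G] {L X T Y : Subgroup G} {z : G} (hc : OddCyc G) (sec : CompStart.SecZero G) (hXt : X ≠ ⊤)
    (hs : IsStar L) (hLX : L ≤ X) (hLz : L ≤ centralizer ({z} : Set G)) (hY : YC X T Y) (hzY : z ∈ Y)
    (hJ : ¬ jj T ≤ centralizer (Y : Set G)) : ∀ x ∈ X, L ≤ centralizer ({x * z * x⁻¹} : Set G) := by
  have hf : Fact (Nat.Prime 3) := ⟨Nat.prime_three⟩
  by_cases hLY : L ≤ centralizer (Y : Set G)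
  · intro x hx l hl
    have h1 : x * z * x⁻¹ ∈ Y := RedAct.YC.conj hY hx hzY
    rw [mem_centralizer_singleton_iff]
    exact (mem_centralizer_iff.1 (hLY hl) _ h1).symm
  obtain ⟨H, W, i1, i2, i3, i4, ρ, π, ι, d⟩ := RedAct.exists_ad hY
  -- an offender
  obtain ⟨A, hA, hAY⟩ : ∃ A ∈ AA T, ¬ A ≤ centralizer (Y : Set G) := by
    by_contra hcon
    push Not at hcon
    apply hJ
    rw [jj_eq]
    exact sSup_le hcon
  have hAX : A ≤ X := hA.2.1.trans hY.TX
  have hBO := d.bo hY hA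
  have hA1 := d.im_ne_bot hAX hAY
  have hH : OddCyc H := T1Structure.oddCyc_of_surjective
    (T1Structure.oddCyc_of_injective hc X.subtype X.subtype_injective) π d.surj
  have hout := FFSec.ffc hc sec hXt π d.surj W d.sq ρ d.inj
    (fun D hD hD2 => d.core hY (RedAct.AD.isPGroup_im hY) (d.not_dvd_index hY) hD hD2) _ hBO hA1
  obtain ⟨v, hv⟩ := d.ex z hzY
  -- `L ∩ C(Y)` is a 2-group
  have hD : IsPGroup 2 (L ⊓ centralizer (Y : Set G) : Subgroup G) := by
    rcases hs.max (L ⊓ centralizer (Y : Set G)) inf_le_left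
      (Cfsg.Agent.ZN.Block.le_normalizer_of_forall fun l hl x hx =>
        mem_inf.2 ⟨mul_mem (mul_mem hl hx.1) (inv_mem hl), conj_mem_centralizer (hY.nor (hLX hl)) hx.2⟩) with h1 | h1
    · exact absurd (inf_eq_left.1 h1) hLY
    · exact h1
  have key := outB d.sq hH hout (L := RedAct.im π L) (v := v) ?_ ?_ ?_ ?_
  · intro x hx l hl
    have h1 := key (π ⟨x, hx⟩) _ (RedAct.mem_im hl (hLX hl))
    rw [d.fix_iff, d.act, hv] at h1
    rw [mem_centralizer_singleton_iff]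
    exact h1
  · -- perfect
    have h1 : (L.subgroupOf X).map X.subtype = L := by rw [Subgroup.subgroupOf_map_subtype, inf_eq_left.2 hLX]
    have h2 : ⁅L.subgroupOf X, L.subgroupOf X⁆ = L.subgroupOf X := by
      apply Subgroup.map_injective X.subtype_injective
      rw [Subgroup.map_commutator, h1, hs.perf]
    change ⁅(L.subgroupOf X).map π, (L.subgroupOf X).map π⁆ = (L.subgroupOf X).map π
    rw [← Subgroup.map_commutator, h2]
  · -- order divisible by 3
    obtain ⟨⟨l, hl⟩, hlo⟩ := exists_prime_orderOf_dvd_card' (G := L) 3 hs.three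
    rw [Subgroup.orderOf_mk] at hlo
    have h1 : orderOf (π ⟨l, hLX hl⟩) = 3 := by
      apply orderOf_eq_prime
      · rw [← map_pow]
        have : (⟨l, hLX hl⟩ : X) ^ 3 = 1 := Subtype.ext (by
          change l ^ 3 = 1
          rw [← hlo]; exact pow_orderOf_eq_one l)
        rw [this, map_one]
      · intro h1
        rw [d.ker] at h1
        obtain ⟨j, hj⟩ := hD ⟨l, hl, h1⟩
        have h3 := orderOf_dvd_of_pow_eq_one (congrArg Subtype.val hj)
        change orderOf l ∣ 2 ^ j at h3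
        rw [hlo] at h3
        have := (Nat.prime_dvd_prime_iff_eq Nat.prime_three Nat.prime_two).1 (Nat.prime_three.dvd_of_dvd_pow h3)
        omega
    rw [← h1]
    have h2 := orderOf_dvd_natCard (⟨π ⟨l, hLX hl⟩, RedAct.mem_im hl (hLX hl)⟩ : RedAct.im π L)
    rwa [Subgroup.orderOf_mk] at h2
  · intro N hN
    rcases hs.max (L ⊓ RedAct.pre π N) inf_le_left
      (Cfsg.Agent.ZN.Block.le_normalizer_of_forall fun l hl x hx =>
        mem_inf.2 ⟨mul_mem (mul_mem hl hx.1) (inv_mem hl),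
          (mem_normalizer_iff.1 (RedAct.pre_norm hN (hLX hl)) x).1 hx.2⟩) with h1 | h1
    · left
      rintro _ ⟨l, hl, rfl⟩
      exact (RedAct.mem_pre l.2).1 ((inf_eq_left.1 h1) hl)
    · right
      rintro _ ⟨⟨l, hl, rfl⟩, hlN⟩
      obtain ⟨k, hk⟩ := h1 ⟨l, hl, (RedAct.mem_pre l.2).2 hlN⟩
      refine ⟨k, ?_⟩
      have h2 := congrArg Subtype.val hk
      change (l : G) ^ 2 ^ k = 1 at h2
      have h3 : l ^ 2 ^ k = 1 := Subtype.ext h2
      rw [← map_pow, h3, map_one]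
  · rintro _ ⟨l, hl, rfl⟩
    rw [d.fix_iff, hv]
    exact mem_centralizer_singleton_iff.1 (hLz hl)

end Cfsg.Agent.OddCyclic.EN.FThree
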