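import Mathlib

/-!
# The F-trick

`F = D N₀` abelian, normalised by `B`, `D` normalised by `N`.  If a conjugate `gFg⁻¹` centralising `D` satisfies
`[N₀, gFg⁻¹] ≤ ⟨z⟩`, and conjugates with the same `z` commute, then all `gFg⁻¹`, `g ∈ ⟨B, N⟩`, commute.
-/

set_option autoImplicit false

namespace Cfsg.Agent.OddCyclic.EN.FTrick

open Subgroup

universe u

variable {G : Type u} [Group G]

/-- words in `B N B N ⋯ B` -/
inductive Wd (B N : Subgroup G) : ℕ → G → Prop
  | zero {b : G} (hb : b ∈ B) : Wd B N 0 b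
  | succ {k : ℕ} {b n g : G} (hb : b ∈ B) (hn : n ∈ N) (hg : Wd B N k g) : Wd B N (k + 1) (b * n * g)

variable {B N : Subgroup G}

theorem Wd.mul_left {k : ℕ} {g c : G} (hc : c ∈ B) (h : Wd B N k g) : Wd B N k (c * g) := by
  cases h with
  | zero hb => exact Wd.zero (mul_mem hc hb)
  | @succ k b n g hb hn hg =>
    have e : c * (b * n * g) = (c * b) * n * g := by group
    rw [e]
    exact Wd.succ (mul_mem hc hb) hn hg

theorem Wd.mul {j k : ℕ} {g g' : G} (h : Wd B N j g) (h' : Wd B N k g') : Wd B N (j + k) (g * g') := by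
  induction h with
  | zero hb => rw [Nat.zero_add]; exact h'.mul_left hb
  | @succ j b n g hb hn _ ih =>
    have e : b * n * g * g' = b * n * (g * g') := by group
    rw [e, show j + 1 + k = (j + k) + 1 by omega]
    exact Wd.succ hb hn ih

theorem Wd.inv {k : ℕ} {g : G} (h : Wd B N k g) : Wd B N k g⁻¹ := by
  induction h with
  | zero hb => exact Wd.zero (inv_mem hb)
  | @succ k b n g hb hn _ ih =>
    have e : (b * n * g)⁻¹ = g⁻¹ * (1 * n⁻¹ * b⁻¹) := by group
    rw [e]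
    exact ih.mul (Wd.succ (one_mem _) (inv_mem hn) (Wd.zero (inv_mem hb)))

theorem exists_wd {g : G} (hg : g ∈ B ⊔ N) : ∃ k, Wd B N k g := by
  rw [sup_eq_closure] at hg
  induction hg using closure_induction with
  | mem x hx =>
    rcases hx with hx | hx
    · exact ⟨0, Wd.zero hx⟩
    · refine ⟨1, ?_⟩
      have := Wd.succ (one_mem B) hx (Wd.zero (N := N) (one_mem B))
      rwa [one_mul, mul_one] at this
  | one => exact ⟨0, Wd.zero (one_mem _)⟩
  | mul x y _ _ hx hy =>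
    obtain ⟨j, hj⟩ := hx
    obtain ⟨k, hk⟩ := hy
    exact ⟨j + k, hj.mul hk⟩
  | inv x _ hx =>
    obtain ⟨j, hj⟩ := hx
    exact ⟨j, hj.inv⟩

theorem mem_zpowers_two {z c : G} (hzz : z * z = 1) : c ∈ zpowers z ↔ c = 1 ∨ c = z := by
  constructor
  · rintro ⟨n, rfl⟩
    change z ^ n = 1 ∨ z ^ n = z
    rcases Int.even_or_odd n with ⟨k, rfl⟩ | ⟨k, rfl⟩
    · left
      rw [← two_mul, zpow_mul, zpow_two, hzz, one_zpow]
    · right
      rw [zpow_add, zpow_mul, zpow_two, hzz, one_zpow, one_mul, zpow_one]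
  · rintro (rfl | rfl)
    · exact one_mem _
    · exact mem_zpowers _

theorem main {F D N0 : Subgroup G} {z : G} (hzz : z * z = 1)
    (hB : ∀ b ∈ B, ∀ x ∈ F, b * x * b⁻¹ ∈ F) (hBz : ∀ b ∈ B, b * z * b⁻¹ = z)
    (hN : ∀ n ∈ N, ∀ d ∈ D, n⁻¹ * d * n ∈ D) (hDF : D ≤ F)
    (hF : ∀ f ∈ F, ∃ d ∈ D, ∃ n0 ∈ N0, f = d * n0) (hzF : ∀ x ∈ F, x * z = z * x)
    (hab : ∀ x ∈ F, ∀ y ∈ F, x * y = y * x)
    (hk : ∀ g : G, (∀ d ∈ D, ∀ x ∈ F, d * (g * x * g⁻¹) = (g * x * g⁻¹) * d) →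
      ∀ n0 ∈ N0, ∀ x ∈ F, n0 * (g * x * g⁻¹) * n0⁻¹ * (g * x * g⁻¹)⁻¹ ∈ zpowers z)
    (hz : ∀ g : G, g * z * g⁻¹ = z → ∀ x ∈ F, ∀ y ∈ F, x * (g * y * g⁻¹) = (g * y * g⁻¹) * x) :
    ∀ g ∈ B ⊔ N, ∀ x ∈ F, ∀ y ∈ F, x * (g * y * g⁻¹) = (g * y * g⁻¹) * x := by
  have key : ∀ k : ℕ, ∀ g : G, Wd B N k g → ∀ x ∈ F, ∀ y ∈ F, x * (g * y * g⁻¹) = (g * y * g⁻¹) * x := by
    intro k
    induction k with
    | zero =>
      intro g hg x hx y hy
      cases hg with
      | zero hb => exact hab x hx _ (hB _ hb y hy)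
    | succ k ih =>
      -- the commutators lie in `⟨z⟩`
      have h1 : ∀ g : G, Wd B N (k + 1) g → ∀ x ∈ F, ∀ y ∈ F,
          x * (g * y * g⁻¹) * x⁻¹ * (g * y * g⁻¹)⁻¹ ∈ zpowers z := by
        intro g hg x hx y hy
        cases hg with
        | @succ k b n g hb hn hg =>
          have h2 : ∀ d ∈ D, ∀ w ∈ F, d * ((n * g) * w * (n * g)⁻¹) = ((n * g) * w * (n * g)⁻¹) * d := by
            intro d hd w hw
            have h3 := ih g hg (n⁻¹ * d * n) (hDF (hN n hn d hd)) w hw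
            calc d * ((n * g) * w * (n * g)⁻¹) = n * ((n⁻¹ * d * n) * (g * w * g⁻¹)) * n⁻¹ := by group
              _ = n * ((g * w * g⁻¹) * (n⁻¹ * d * n)) * n⁻¹ := by rw [h3]
              _ = ((n * g) * w * (n * g)⁻¹) * d := by group
          have h4 := hk (n * g) h2
          have hx' : b⁻¹ * x * b ∈ F := by
            have := hB b⁻¹ (inv_mem hb) x hx
            rwa [inv_inv] at this
          obtain ⟨d, hd, n0, hn0, hdn⟩ := hF _ hx'
          set s : G := (n * g) * y * (n * g)⁻¹ with hs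
          have h5 := h4 n0 hn0 y hy
          have h6 := h2 d hd y hy
          rw [← hs] at h5 h6
          have h7 : d * n0 * s * (d * n0)⁻¹ * s⁻¹ ∈ zpowers z := by
            have h8 : d * (n0 * s * n0⁻¹ * s⁻¹) * d⁻¹ ∈ zpowers z := by
              rw [mem_zpowers_two hzz] at h5 ⊢
              rcases h5 with h5 | h5
              · left; rw [h5]; group
              · right; rw [h5, hzF d (hDF hd)]; group
            have e : d * n0 * s * (d * n0)⁻¹ * s⁻¹ = (d * (n0 * s * n0⁻¹ * s⁻¹) * d⁻¹) * (d * s * d⁻¹ * s⁻¹) := by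
              group
            rw [e, h6, show s * d * d⁻¹ * s⁻¹ = 1 by group, mul_one]
            exact h8
          rw [← hdn] at h7
          have e : x * ((b * n * g) * y * (b * n * g)⁻¹) * x⁻¹ * ((b * n * g) * y * (b * n * g)⁻¹)⁻¹ =
              b * ((b⁻¹ * x * b) * s * (b⁻¹ * x * b)⁻¹ * s⁻¹) * b⁻¹ := by rw [hs]; group
          rw [e]
          rw [mem_zpowers_two hzz] at h7 ⊢
          rcases h7 with h7 | h7
          · left; rw [h7]; group
          · right; rw [h7, hBz b hb]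
      intro g hg x hx y hy
      by_cases hgz : g * z * g⁻¹ = z
      · exact hz g hgz x hx y hy
      · have h2 := h1 g hg x hx y hy
        have h3 := h1 g⁻¹ hg.inv y hy x hx
        rw [mem_zpowers_two hzz] at h2 h3
        rw [inv_inv] at h3
        have e : x * (g * y * g⁻¹) * x⁻¹ * (g * y * g⁻¹)⁻¹ =
            g * (y * (g⁻¹ * x * g) * y⁻¹ * (g⁻¹ * x * g)⁻¹)⁻¹ * g⁻¹ := by group
        have h4 : x * (g * y * g⁻¹) * x⁻¹ * (g * y * g⁻¹)⁻¹ = 1 := by
          rcases h2 with h2 | h2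
          · exact h2
          · rcases h3 with h3 | h3
            · rw [e, h3]; group
            · exfalso
              apply hgz
              rw [e, h3] at h2
              have hinv : z⁻¹ = z := inv_eq_of_mul_eq_one_left hzz
              rwa [hinv] at h2
        calc x * (g * y * g⁻¹) = (x * (g * y * g⁻¹) * x⁻¹ * (g * y * g⁻¹)⁻¹) * ((g * y * g⁻¹) * x) := by group
          _ = (g * y * g⁻¹) * x := by rw [h4, one_mul]
  intro g hg
  obtain ⟨k, hk'⟩ := exists_wd hg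
  exact key k g hk'

end Cfsg.Agent.OddCyclic.EN.FTrick
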