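import Mathlib
import Cfsg.Agent.OddCyclic.FFBasic
import Cfsg.Agent.OddCyclic.EN.PiComp

/-!
# 3.4 (b) of helper217's blueprint S0342-Bb: a normal subgroup of order 5 in the pi-frame

* `inv_five`: an involution `a` inverting `y` of order 5, `|V : C_V(a)| ≤ 4`: `[V, a] ≤ [V, y]` and
  `C_{[V,y]}(a) ≤ [V, a]`;
* `Five h L y`: `L = ⟨y⟩` normal of order 5 in `X`, `λ^X = λ^L`;
* `Five.comm_mem`, `Five.exists_comm`, `Five.l5`: `λ_5 ∈ [M, y]`, fixed by `Tb`, nonzero.
-/

set_option autoImplicit false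
set_option linter.unusedSectionVars false

namespace Cfsg.Agent.OddCyclic.EN.FitB

open Subgroup Cfsg Cfsg.Agent.OddCyclic.FFBasic

universe u

/-! ### `inv_five` -/

section mulaut

variable {X V : Type*} [Group X] [CommGroup V] {ρ : X →* MulAut V}

theorem inv_five [Finite V] (hV : ∀ v : V, v * v = 1) {a y : X} (ha : a * a = 1) (hy : orderOf y = 5)
    (hay : a * y * a⁻¹ = y⁻¹) (hne : ∃ v, ρ y v ≠ v) (hi : (fx ρ a).index ≤ 4) :
    (∀ v, cm ρ a v ∈ (cm ρ y).range) ∧ ∀ n ∈ (cm ρ y).range, ρ a n = n → ∃ v, cm ρ a v = n := by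
  obtain ⟨d, hd0, hd, hd5⟩ := prim hV Nat.prime_five (by norm_num) hy hne
  have hodd : Odd (orderOf y) := by rw [hy]; decide
  have h16 : 16 ≤ (fx ρ y).index := by
    rw [hd]
    have : 4 ≤ d := by
      by_contra hcon
      have h4 : d < 4 := by omega
      interval_cases d <;> norm_num at hd5
    calc 16 = 2 ^ 4 := by norm_num
      _ ≤ 2 ^ d := Nat.pow_le_pow_right (by norm_num) this
  set N := (cm ρ y).range with hN
  have hNc : Nat.card N = (fx ρ y).index := card_range_cm ρ y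
  set F := fx ρ a with hF
  set F' := fx ρ (y * a * y⁻¹) with hF'
  have hF'i : F'.index ≤ 4 := by rw [hF', index_fx_conj]; exact hi
  have hbot : (F ⊓ F') ⊓ N = ⊥ := by
    rw [eq_bot_iff]
    rintro v ⟨⟨h1, h2⟩, h3⟩
    rw [mem_bot]
    refine eq_one_of_fix hV hodd h3 ?_
    have e1 : y * a * y⁻¹ = y * y * a := by
      have h3 : a * y⁻¹ = y * a := by
        calc a * y⁻¹ = (a * y * a⁻¹)⁻¹ * a := by group
          _ = y * a := by rw [hay, inv_inv]
      rw [mul_assoc, h3, mul_assoc]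
    have h4 : v ∈ fx ρ (y * y * a) := by rw [← e1]; exact h2
    have h5 := fx_mul ρ h4 (fx_inv ρ h1)
    rw [mul_inv_cancel_right] at h5
    exact fx_of_sq ρ hodd h5
  have hrel : (F ⊓ F').relIndex N = Nat.card N := by
    rw [← Subgroup.inf_relIndex_right, hbot, Subgroup.relIndex_bot_left]
  have h1 : F.relIndex N ≤ F.index := Nat.le_of_dvd (Nat.pos_of_ne_zero Subgroup.index_ne_zero_of_finite)
    (Subgroup.relIndex_dvd_index_of_normal F N)
  have h1' : F'.relIndex N ≤ F'.index := Nat.le_of_dvd (Nat.pos_of_ne_zero Subgroup.index_ne_zero_of_finite)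
    (Subgroup.relIndex_dvd_index_of_normal F' N)
  have h2 : (F ⊓ F').relIndex N ≤ F.relIndex N * F'.relIndex N := Subgroup.relIndex_inf_le
  rw [hrel, hNc] at h2
  have h4 : F.relIndex N = 4 := by
    have : F.relIndex N ≤ 4 := h1.trans hi
    have : F'.relIndex N ≤ 4 := h1'.trans hF'i
    nlinarith
  have h4' : F'.relIndex N ≤ 4 := h1'.trans hF'i
  have hNc' : Nat.card N ≤ 16 := by
    rw [hNc]
    calc _ ≤ _ := h2
      _ ≤ 4 * 4 := Nat.mul_le_mul h4.le h4'
  set f : N →* V := (cm ρ a).comp N.subtype with hf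
  have hfk : f.ker = F.subgroupOf N := by
    ext v
    rw [MonoidHom.mem_ker, mem_subgroupOf, hF, ← ker_cm, MonoidHom.mem_ker]; rfl
  have hfr : Nat.card f.range = 4 := by
    rw [← Subgroup.index_ker, hfk]; exact h4
  have hfle : f.range ≤ (cm ρ a).range := by
    rintro _ ⟨n, rfl⟩; exact ⟨n, rfl⟩
  have hfeq : f.range = (cm ρ a).range := by
    refine eq_of_le_of_card_ge hfle ?_
    rw [hfr, card_range_cm]; exact hi
  have hst : ∀ n ∈ N, cm ρ a n ∈ N := fun n hn => mul_mem (apply_mem_range_of_inv ρ hay hn) (inv_mem hn)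
  refine ⟨fun v => ?_, fun n hn hfix => ?_⟩
  · have : cm ρ a v ∈ f.range := by rw [hfeq]; exact ⟨v, rfl⟩
    obtain ⟨n, hn⟩ := this
    rw [← hn]
    exact hst n n.2
  · have haa : ∀ v : V, ρ a (ρ a v) = v := by
      intro v
      rw [← MulAut.mul_apply, ← map_mul, ha, map_one]; rfl
    have hle : f.range ≤ N ⊓ F := by
      rintro _ ⟨n, rfl⟩
      refine ⟨hst n n.2, ?_⟩
      change ρ a (cm ρ a (n : V)) = cm ρ a (n : V)
      rw [cm_apply, map_mul, map_inv, haa]
      have e1 : ∀ v : V, v⁻¹ = v := fun v => inv_eq_of_mul_eq_one_left (hV v)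
      rw [e1, e1, mul_comm]
    have hc : Nat.card ↥(N ⊓ F) ≤ 4 := by
      have h5 := (F.subgroupOf N).card_mul_index
      have h6 : Nat.card (F.subgroupOf N) = Nat.card ↥(N ⊓ F) := by
        rw [← Nat.card_congr (Subgroup.subgroupOfEquivOfLe (inf_le_left : N ⊓ F ≤ N)).toEquiv,
          inf_comm, Subgroup.inf_subgroupOf_right]
      rw [h6] at h5
      change _ * F.relIndex N = _ at h5
      rw [h4] at h5
      omega
    have heq : f.range = N ⊓ F := eq_of_le_of_card_ge hle (by rw [hfr]; exact hc)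
    have : n ∈ f.range := by rw [heq]; exact ⟨hn, hfix⟩
    obtain ⟨m, hm⟩ := this
    exact ⟨m, hm⟩

end mulaut

/-! ### the additive form -/

section add

variable {M X : Type u} [AddCommGroup M] [Group X] [DistribMulAction X M]

variable (M X) in
/-- the multiplicative form of a module -/
def rh : X →* MulAut (Multiplicative M) where
  toFun g :=
    { toFun := fun m => Multiplicative.ofAdd (g • m.toAdd)
      invFun := fun m => Multiplicative.ofAdd (g⁻¹ • m.toAdd)
      left_inv := fun m => by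
        apply Multiplicative.toAdd.injective
        change g⁻¹ • g • m.toAdd = m.toAdd
        rw [inv_smul_smul]
      right_inv := fun m => by
        apply Multiplicative.toAdd.injective
        change g • g⁻¹ • m.toAdd = m.toAdd
        rw [smul_inv_smul]
      map_mul' := fun m m' => by
        apply Multiplicative.toAdd.injective
        change g • (m.toAdd + m'.toAdd) = g • m.toAdd + g • m'.toAdd
        rw [smul_add] }
  map_one' := by
    ext m
    apply Multiplicative.toAdd.injective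
    change (1 : X) • m.toAdd = m.toAdd
    rw [one_smul]
  map_mul' g h := by
    ext m
    apply Multiplicative.toAdd.injective
    change (g * h) • m.toAdd = g • h • m.toAdd
    rw [mul_smul]

theorem rh_apply (g : X) (m : M) : rh M X g (Multiplicative.ofAdd m) = Multiplicative.ofAdd (g • m) := rfl

theorem rh_eq_iff (g : X) (m : M) : rh M X g (Multiplicative.ofAdd m) = Multiplicative.ofAdd m ↔ g • m = m := by
  rw [rh_apply]
  exact Multiplicative.ofAdd.injective.eq_iff

theorem cm_rh (g : X) (m : M) : cm (rh M X) g (Multiplicative.ofAdd m) = Multiplicative.ofAdd (g • m - m) := by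
  rw [cm_apply, rh_apply, ← ofAdd_neg, ← ofAdd_add, sub_eq_add_neg]

theorem index_fx_le [Finite M] {A : Subgroup X} {a : X} (ha : a ∈ A) {n : ℕ}
    (h : Nat.card M ≤ n * Nat.card (EO.Fit.fx A (⊤ : AddSubgroup M))) : (fx (rh M X) a).index ≤ n := by
  have h1 := (fx (rh M X) a).card_mul_index
  have h2 : Nat.card (Multiplicative M) = Nat.card M := rfl
  have h3 : Nat.card (EO.Fit.fx A (⊤ : AddSubgroup M)) ≤ Nat.card (fx (rh M X) a) := by
    refine Nat.card_le_card_of_injective
      (fun m : EO.Fit.fx A (⊤ : AddSubgroup M) => (⟨Multiplicative.ofAdd m.1, ?_⟩ : fx (rh M X) a)) ?_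
    · rw [mem_fx, rh_eq_iff]; exact m.2.2 a ha
    · intro m m' hmm
      have h6 := congrArg Subtype.val hmm
      exact Subtype.ext (Multiplicative.ofAdd.injective h6)
  have h4 : 0 < Nat.card (fx (rh M X) a) := Nat.card_pos
  have h5 : Nat.card M ≤ n * Nat.card (fx (rh M X) a) := h.trans (Nat.mul_le_mul_left _ h3)
  rw [← h2, ← h1, mul_comm] at h5
  exact Nat.le_of_mul_le_mul_right h5 h4

/-- `inv_five`, additive form -/
theorem add_five [Finite M] (h2 : ∀ m : M, m + m = 0) {a y : X} (ha : a * a = 1) (hy : orderOf y = 5)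
    (hay : a * y * a⁻¹ = y⁻¹) (hne : ∃ m : M, y • m ≠ m) (hi : (fx (rh M X) a).index ≤ 4) :
    (∀ m : M, ∃ n : M, a • m - m = y • n - n) ∧
      ∀ n : M, a • (y • n - n) = y • n - n → ∃ m : M, a • m - m = y • n - n := by
  obtain ⟨h3, h4⟩ := inv_five (ρ := rh M X) (fun v => congrArg Multiplicative.ofAdd (h2 v.toAdd)) ha hy hay
    (by
      obtain ⟨m, hm⟩ := hne
      exact ⟨Multiplicative.ofAdd m, fun e => hm ((rh_eq_iff _ _).mp e)⟩) hi
  refine ⟨fun m => ?_, fun n hn => ?_⟩
  · obtain ⟨v, hv⟩ := h3 (Multiplicative.ofAdd m)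
    refine ⟨v.toAdd, ?_⟩
    rw [cm_rh] at hv
    have h5 := cm_rh y v.toAdd
    rw [ofAdd_toAdd] at h5
    rw [h5] at hv
    exact (Multiplicative.ofAdd.injective hv).symm
  · obtain ⟨v, hv⟩ := h4 (Multiplicative.ofAdd (y • n - n)) ⟨Multiplicative.ofAdd n, cm_rh _ _⟩
      ((rh_eq_iff _ _).mpr hn)
    refine ⟨v.toAdd, ?_⟩
    have h5 := cm_rh a v.toAdd
    rw [ofAdd_toAdd] at h5
    rw [h5] at hv
    exact Multiplicative.ofAdd.injective hv

end add

/-! ### the frame -/

section frame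

variable {M X : Type u} [AddCommGroup M] [Group X] [DistribMulAction X M] {lam : M} {Tb A A' : Subgroup X}

/-- `L = ⟨y⟩` is normal of order 5 in `X`, `λ^X = λ^L` -/
structure Five (M X : Type u) [AddCommGroup M] [Group X] [DistribMulAction X M] (lam : M) (Tb A A' L : Subgroup X)
    (y : X) : Prop extends Pi.Out M X lam Tb A A' where
  nrm : L.Normal
  yL : y ∈ L
  gen : L ≤ zpowers y
  five : orderOf y = 5
  cov : ∀ x : X, ∃ l ∈ L, x • lam = l • lam

namespace Five

variable {L : Subgroup X} {y : X}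

theorem exists_ne_one {B : Subgroup X} (hB : B ≠ ⊥) : ∃ a ∈ B, a ≠ 1 := by
  by_contra hcon
  push Not at hcon
  exact hB ((eq_bot_iff_forall B).mpr hcon)

theorem pow5 (h : Five M X lam Tb A A' L y) : y ^ 5 = 1 := by
  rw [← h.five]; exact pow_orderOf_eq_one y

theorem y_ne (h : Five M X lam Tb A A' L y) : y ≠ 1 := by
  intro e
  have := h.five
  rw [e, orderOf_one] at this
  norm_num at this

/-- `y^i = 1` for `0 < i < 5` is impossible -/
theorem pow_ne (h : Five M X lam Tb A A' L y) {i : ℕ} (hi : 0 < i) (hi5 : i < 5) : y ^ i ≠ 1 := by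
  intro e
  have h1 := orderOf_dvd_of_pow_eq_one e
  rw [h.five] at h1
  exact absurd (Nat.le_of_dvd hi h1) (by omega)

theorem comm (h : Five M X lam Tb A A' L y) {c : X} (hc : c * y = y * c) : ∀ l ∈ L, l * c = c * l := by
  intro l hl
  obtain ⟨k, rfl⟩ := h.gen hl
  exact ((show Commute c y from hc).zpow_right k).symm.eq

theorem mv (h : Five M X lam Tb A A' L y) : y • lam ≠ lam := fun e =>
  h.y_ne (h.toOut.eq_one_of_comm h.cov (h.comm rfl) e)

theorem exists_pow (h : Five M X lam Tb A A' L y) (t : X) : ∃ k < 5, t * y * t⁻¹ = y ^ k := by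
  have h1 : t * y * t⁻¹ ∈ zpowers y := h.gen (h.nrm.conj_mem y h.yL t)
  have := h.fin
  obtain ⟨k, hk⟩ := (mem_powers_iff_mem_zpowers (x := y)).mpr h1
  refine ⟨k % 5, Nat.mod_lt _ (by norm_num), ?_⟩
  rw [← hk]
  change y ^ k = y ^ (k % 5)
  rw [← h.five, pow_mod_orderOf]

theorem exists_pow' (h : Five M X lam Tb A A' L y) (t : X) : ∃ k, 0 < k ∧ k < 5 ∧ t * y * t⁻¹ = y ^ k := by
  obtain ⟨k, hk, e⟩ := h.exists_pow t
  refine ⟨k, Nat.pos_of_ne_zero ?_, hk, e⟩
  rintro rfl
  rw [pow_zero] at e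
  by_contra hcon
  exact EN.Base.conj_ne_one h.y_ne e

/-- an involution fixing `λ` inverts `y` -/
theorem inverts (h : Five M X lam Tb A A' L y) {a : X} (ha : a * a = 1) (ha1 : a ≠ 1) (hal : a • lam = lam) :
    a * y * a⁻¹ = y⁻¹ := by
  obtain ⟨k, hk0, hk5, e⟩ := h.exists_pow' a
  have e2 : y = (y ^ k) ^ k := by
    calc y = (a * a) * y * (a * a)⁻¹ := by rw [ha]; group
      _ = a * (a * y * a⁻¹) * a⁻¹ := by group
      _ = a * y ^ k * a⁻¹ := by rw [e]
      _ = (a * y * a⁻¹) ^ k := by rw [conj_pow]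
      _ = (y ^ k) ^ k := by rw [e]
  have h5 := h.pow5
  have e3 : y⁻¹ = y ^ 4 := by
    rw [inv_eq_iff_mul_eq_one, ← pow_succ']; exact h5
  interval_cases k
  · exfalso
    rw [pow_one, mul_inv_eq_iff_eq_mul] at e
    exact ha1 (h.toOut.eq_one_of_comm h.cov (h.comm e) hal)
  · exfalso
    rw [← pow_mul] at e2
    apply h.pow_ne (i := 3) (by norm_num) (by norm_num)
    have : y * y ^ 3 = y * 1 := by rw [← pow_succ', mul_one]; exact e2.symm
    exact mul_left_cancel this
  · exfalso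
    rw [← pow_mul] at e2
    apply h.pow_ne (i := 3) (by norm_num) (by norm_num)
    have e4 : y ^ (3 * 3) = y ^ 4 := by
      calc y ^ (3 * 3) = y ^ 5 * y ^ 4 := by rw [← pow_add]
        _ = y ^ 4 := by rw [h5, one_mul]
    rw [e4] at e2
    have : y * y ^ 3 = y * 1 := by rw [← pow_succ', mul_one]; exact e2.symm
    exact mul_left_cancel this
  · rw [e, e3]

/-- two involutions fixing `λ` coincide -/
theorem eq_of_inv (h : Five M X lam Tb A A' L y) {a b : X} (ha : a * a = 1) (ha1 : a ≠ 1) (hal : a • lam = lam)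
    (hb : b * b = 1) (hb1 : b ≠ 1) (hbl : b • lam = lam) : a = b := by
  have h1 := h.inverts ha ha1 hal
  have h2 := h.inverts hb hb1 hbl
  have h3 : (a * b) * y = y * (a * b) := by
    calc (a * b) * y = a * (b * y * b⁻¹) * b := by group
      _ = (a * y⁻¹ * a⁻¹) * a * b := by rw [h2]; group
      _ = (a * y * a⁻¹)⁻¹ * a * b := by group
      _ = y * (a * b) := by rw [h1]; group
  have h4 : a * b = 1 := h.toOut.eq_one_of_comm h.cov (h.comm h3) (by rw [mul_smul, hbl, hal])
  have h5 : a = b⁻¹ := eq_inv_of_mul_eq_one_left h4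
  rw [h5]
  exact inv_eq_of_mul_eq_one_left hb

/-- a subgroup of involutions of `Tb` has order at most 2 -/
theorem card_le_two (h : Five M X lam Tb A A' L y) {B : Subgroup X} (hB : ∀ a ∈ B, a * a = 1)
    (hBl : ∀ a ∈ B, a • lam = lam) : Nat.card B ≤ 2 := by
  classical
  have := h.fin
  by_cases hb : B = ⊥
  · rw [hb, card_bot]; norm_num
  · obtain ⟨a, ha, ha1⟩ := exists_ne_one hb
    have h1 : Set.ncard (B : Set X) ≤ Set.ncard ({1, a} : Set X) := by
      refine Set.ncard_le_ncard (fun b hb => ?_) (Set.toFinite _)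
      by_cases hb1 : b = 1
      · exact Or.inl hb1
      · exact Or.inr (h.eq_of_inv (hB b hb) hb1 (hBl b hb) (hB a ha) ha1 (hBl a ha))
    rw [Set.ncard_pair (Ne.symm ha1)] at h1
    exact h1

theorem fixA (h : Five M X lam Tb A A' L y) : ∀ a ∈ A, a • lam = lam := fun _ ha => h.toOut.Tb_fix (h.le ha)

theorem fixA' (h : Five M X lam Tb A A' L y) : ∀ a ∈ A', a • lam = lam := fun _ ha => h.toOut.Tb_fix (h.le' ha)

theorem cardA (h : Five M X lam Tb A A' L y) : Nat.card A ≤ 2 := h.card_le_two h.sq h.fixA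

theorem cardA' (h : Five M X lam Tb A A' L y) : Nat.card A' ≤ 2 := h.card_le_two h.sq' h.fixA'

theorem card_mul (h : Five M X lam Tb A A' L y) : Nat.card A * Nat.card A' ≤ 4 :=
  (Nat.mul_le_mul h.cardA h.cardA').trans (by norm_num)

theorem idxA (h : Five M X lam Tb A A' L y) {a : X} (ha : a ∈ A) : (fx (rh M X) a).index ≤ 4 := by
  have := h.finM
  exact (index_fx_le ha h.card).trans h.card_mul

theorem idxA' (h : Five M X lam Tb A A' L y) {a : X} (ha : a ∈ A') : (fx (rh M X) a).index ≤ 4 := by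
  have := h.finM
  exact (index_fx_le ha h.card').trans h.card_mul

theorem mv' (h : Five M X lam Tb A A' L y) : ∃ m : M, y • m ≠ m := ⟨lam, h.mv⟩

/-- **`A' ≠ 1`** -/
theorem exists_A' (h : Five M X lam Tb A A' L y) : ∃ a ∈ A', a ≠ 1 := by
  have := h.fin
  have := h.finM
  by_contra hcon
  push Not at hcon
  have hb : A' = ⊥ := (eq_bot_iff_forall A').mpr hcon
  obtain ⟨a, ha, ha1⟩ := exists_ne_one h.hne
  have h1 : (fx (rh M X) a).index ≤ 2 := by
    refine (index_fx_le ha h.card).trans ?_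
    rw [hb, card_bot, mul_one]; exact h.cardA
  have hV : ∀ v : Multiplicative M, v * v = 1 := fun v => congrArg Multiplicative.ofAdd (h.two v.toAdd)
  obtain ⟨d, hd0, hd, hd5⟩ := prim (ρ := rh M X) hV Nat.prime_five (by norm_num) h.five
    ⟨Multiplicative.ofAdd lam, fun e => h.mv ((rh_eq_iff _ _).mp e)⟩
  have h2 := half' (rh M X) (a := a) (y := y) (by rw [h.five]; decide) (h.inverts (h.sq a ha) ha1 (h.fixA a ha))
  have h3 : (fx (rh M X) y).index ≤ 2 ^ 2 := h2.trans (Nat.pow_le_pow_left h1 2)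
  rw [hd] at h3
  have h4 : d ≤ 2 := (Nat.pow_le_pow_iff_right (by norm_num)).mp h3
  interval_cases d <;> norm_num at hd5

/-- **(c1)** `[M, A] ≤ [M, y]` -/
theorem comm_mem (h : Five M X lam Tb A A' L y) {a : X} (ha : a ∈ A) (m : M) : ∃ n : M, a • m - m = y • n - n := by
  have := h.finM
  by_cases ha1 : a = 1
  · exact ⟨0, by rw [ha1, one_smul, smul_zero, sub_self, sub_self]⟩
  · exact (add_five h.two (h.sq a ha) h.five (h.inverts (h.sq a ha) ha1 (h.fixA a ha)) h.mv' (h.idxA ha)).1 m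

/-- **(c2)** `C_{[M,y]}(a) ≤ [M, a]` for `a ∈ A'`, `a ≠ 1` -/
theorem exists_comm (h : Five M X lam Tb A A' L y) {a : X} (ha : a ∈ A') (ha1 : a ≠ 1) {n : M}
    (hn : a • (y • n - n) = y • n - n) : ∃ m : M, a • m - m = y • n - n := by
  have := h.finM
  exact (add_five h.two (h.sq' a ha) h.five (h.inverts (h.sq' a ha) ha1 (h.fixA' a ha)) h.mv' (h.idxA' ha)).2 n hn

/-- `λ_5` -/
def l5 (y : X) (lam : M) : M := y • lam + y ^ 2 • lam + y ^ 3 • lam + y ^ 4 • lam

theorem l5_fix (h : Five M X lam Tb A A' L y) {t : X} (ht : t ∈ Tb) : t • l5 y lam = l5 y lam := by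
  obtain ⟨k, hk0, hk5, e⟩ := h.exists_pow' t
  have htl := h.toOut.Tb_fix ht
  have h5 := h.pow5
  have key : ∀ i : ℕ, t • y ^ i • lam = y ^ (k * i) • lam := by
    intro i
    calc t • y ^ i • lam = (t * y ^ i * t⁻¹) • t • lam := by
          rw [smul_smul, smul_smul]; congr 1; group
      _ = (t * y * t⁻¹) ^ i • lam := by rw [conj_pow, htl]
      _ = y ^ (k * i) • lam := by rw [e, pow_mul]
  have k1 : t • y • lam = y ^ k • lam := by
    have := key 1
    rwa [pow_one, mul_one] at this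
  have hm : ∀ n : ℕ, y ^ n = y ^ (n % 5) := fun n => by
    conv_lhs => rw [← pow_mod_orderOf, h.five]
  unfold l5
  rw [smul_add, smul_add, smul_add, k1, key, key, key]
  interval_cases k
  · simp only [pow_one, one_mul]
  · rw [hm (2 * 3), hm (2 * 4)]
    norm_num
    abel
  · rw [hm (3 * 2), hm (3 * 3), hm (3 * 4)]
    norm_num
    abel
  · rw [hm (4 * 2), hm (4 * 3), hm (4 * 4)]
    norm_num
    abel

/-- `λ_5 ∈ [M, y]` -/
theorem l5_mem (h : Five M X lam Tb A A' L y) : ∃ n : M, l5 y lam = y • n - n := by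
  -- `n = y² λ + y³ λ ...`
  have h5 := h.pow5
  have h2 := h.two
  have hneg : ∀ m : M, -m = m := fun m => neg_eq_of_add_eq_zero_left (h2 m)
  have e1 : y • y • lam = y ^ 2 • lam := by rw [smul_smul, ← pow_two]
  have e2 : y • y ^ 2 • lam = y ^ 3 • lam := by rw [smul_smul, ← pow_succ']
  have e3 : y • y ^ 3 • lam = y ^ 4 • lam := by rw [smul_smul, ← pow_succ']
  refine ⟨y • lam + y ^ 3 • lam, ?_⟩
  rw [sub_eq_add_neg, hneg, smul_add, e1, e3]
  unfold l5
  abel

/-- `λ_5 ≠ 0` -/
theorem l5_ne (h : Five M X lam Tb A A' L y) : l5 y lam ≠ 0 := by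
  intro e
  have h5 := h.pow5
  have e1 : y • y • lam = y ^ 2 • lam := by rw [smul_smul, ← pow_two]
  have e2 : y • y ^ 2 • lam = y ^ 3 • lam := by rw [smul_smul, ← pow_succ']
  have e3 : y • y ^ 3 • lam = y ^ 4 • lam := by rw [smul_smul, ← pow_succ']
  have e4 : y • y ^ 4 • lam = lam := by rw [smul_smul, ← pow_succ', h5, one_smul]
  have h6 : y • l5 y lam = 0 := by rw [e, smul_zero]
  unfold l5 at e h6
  rw [smul_add, smul_add, smul_add, e1, e2, e3, e4] at h6
  apply h.mv
  have h7 : (y • lam + y ^ 2 • lam + y ^ 3 • lam + y ^ 4 • lam) -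
      (y ^ 2 • lam + y ^ 3 • lam + y ^ 4 • lam + lam) = 0 := by rw [e, h6, sub_zero]
  have h8 : y • lam - lam = 0 := by rw [← h7]; abel
  exact sub_eq_zero.mp h8

end Five

end frame

end Cfsg.Agent.OddCyclic.EN.FitB
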