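import Cfsg.Agent.OddCyclic.EN.FitFull
import Cfsg.Agent.OddCyclic.EN.FitB
import Cfsg.Agent.SmallSimple.S1000.PSLFacts

/-!
# (B-b), 3.4: `|F(X)| = 5` and a component `PSL₂(7)`
-/

set_option autoImplicit false
set_option linter.unusedSectionVars false
set_option linter.style.haveILetI false

namespace Cfsg.Agent.OddCyclic.EN.FitFive

open Subgroup Cfsg Cfsg.Agent.ZN Cfsg.Agent.MinSimple.Geo Cfsg.Agent.OddCyclic.GeoC
  Cfsg.Agent.MinSimple.SecRep Cfsg.Agent.OddCyclic.EN.Pi Cfsg.Agent.OddCyclic.EN.BbDefs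
open Cfsg.Agent.OddCyclic.EN.PiTri (pr)

universe u

/-- 3.4 (a) -/
def FitA : Prop := ∀ {M X : Type u} [AddCommGroup M] [Group X] [DistribMulAction X M] {lam : M}
    {Tb A A' : Subgroup X}, Out M X lam Tb A A' → ∀ {L O : Subgroup X}, L.Normal → O.Normal → IsSimpleGroup L →
    Nat.card L = 168 → Nat.card O = 5 → (∀ x : X, (∀ l ∈ L, x * l = l * x) → (∀ o ∈ O, x * o = o * x) → x ∈ O) →
    (∀ x : X, orderOf x = 3 → x • lam ≠ lam) → ∀ j ∈ L, ∀ o ∈ O, j • (o • lam - lam) = o • lam - lam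

/-- **3.4** -/
theorem false_of (hA : FitA.{u}) {G : Type u} [Group G] [Finite G] {T V L : Subgroup G} {z : G}
    {M X : Type u} [AddCommGroup M] [Group X] [DistribMulAction X M] (h : Star T V z L) (R : RepM.Rep V z M X)
    {J : Subgroup X} (hJ : J.Normal) (hs : IsSimpleGroup J) (hLJ : ∀ j, j ∈ J ↔ ∃ l ∈ L, R.rho l = j)
    (h7 : ∃ (F : Type) (_ : Field F) (_ : Fintype F), Fintype.card F = 7 ∧
      Nonempty (J ≃* Matrix.ProjectiveSpecialLinearGroup (Fin 2) F))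
    {O : Subgroup X} (hO : O.Normal) (hO5 : Nat.card O = 5)
    (gen : ∀ x : X, (∀ j ∈ J, x * j = j * x) → (∀ o ∈ O, x * o = o * x) → x ∈ O) : False := by
  obtain ⟨y, hy, hy1, hyz⟩ := h.toGeoC.exists_y
  have hOne : O ≠ ⊥ := by
    rintro rfl
    rw [card_bot] at hO5
    omega
  have hF := PiTri.of_pGroup h.toBb R hO hOne (r := 5) (by norm_num) le_rfl
    (IsPGroup.of_card (n := 1) (by rw [hO5, pow_one]))
  obtain ⟨g, ho, hf3⟩ := FitFull.exists_out hF R hy hy1 hyz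
  obtain ⟨F, j1, j2, hF7, ⟨e⟩⟩ := h7
  have hc : Nat.card J = 168 := by
    rw [Nat.card_congr e.toEquiv]
    exact Cfsg.Agent.SmallSimple.PSLFacts.card_psl_two_seven hF7
  exact FitB.false h R hO hO5 hy hy1 hyz fun l hl o ho' =>
    hA ho hJ hO hs hc hO5 gen (hf3 h.f3) _ ((hLJ _).mpr ⟨l, hl, rfl⟩) o ho'

end Cfsg.Agent.OddCyclic.EN.FitFive
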