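import Cfsg.Agent.OddCyclic.EN.PiTri

/-!
# (B-b), 3.4: the pi-frame of the full centralizer `C(z)`

`full`: `Fr T V C(z) z`; `exists_out`: the pi-lemma for `X = C(z) / kq V z` on `M = ws V z / ⟨z⟩`.
-/

set_option autoImplicit false
set_option linter.unusedSectionVars false
set_option linter.style.haveILetI false

namespace Cfsg.Agent.OddCyclic.EN.FitFull

open Subgroup Cfsg Cfsg.Agent.ZN Cfsg.Agent.MinSimple.Geo Cfsg.Agent.OddCyclic.GeoC
  Cfsg.Agent.MinSimple.SecRep Cfsg.Agent.OddCyclic.EN.Pi Cfsg.Agent.OddCyclic.EN.BbDefs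
open Cfsg.Agent.OddCyclic.EN.PiTri (pr)

universe u

variable {G : Type u} [Group G] [Finite G] {T V R : Subgroup G} {z : G}
variable {M X : Type u} [AddCommGroup M] [Group X] [DistribMulAction X M]

/-- `⟨V^C(z)⟩ = ws V z` -/
theorem wp_eq (h : GeoC T V z) : wp V (centralizer ({z} : Set G)) = ws V z := by
  refine le_antisymm (wp_le fun c hc => le_ws (h.cj_mem_lines hc)) (ws_le fun L hL => ?_)
  obtain ⟨c, hc, rfl⟩ := h.exists_of_mem_lines hL
  exact cj_le_wp hc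

/-- a pi-frame is a pi-frame for each larger `P` -/
theorem full {P Q : Subgroup G} (h : Fr T V P z) (hPQ : P ≤ Q) (hQ : Q ≤ centralizer ({z} : Set G)) :
    Fr T V Q z where
  geo := h.geo
  ab := h.ab
  T_le := h.T_le.trans hPQ
  P_le := hQ
  inf_le := h.inf_le.trans hPQ
  core := fun U hU h1 h2 => h.core U hU h1 (hPQ.trans h2)

/-- **the pi-lemma for `C(z)`** -/
theorem exists_out {P : Subgroup G} (h : Fr T V P z) (Rp : RepM.Rep V z M X) {y : G} (hy : y ∈ V) (hy1 : y ≠ 1)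
    (hyz : y ≠ z) : ∃ g : G, Out M X (Rp.pi y) (Rp.img T) (Rp.img (cj g (ws V z))) (Rp.img (cj g⁻¹ (ws V z))) ∧
      ((∀ g ∈ centralizer (V : Set G), orderOf g ≠ 3) → ∀ x : X, orderOf x = 3 → x • Rp.pi y ≠ Rp.pi y) := by
  have hF : Fr T V (centralizer ({z} : Set G)) z := full h h.P_le le_rfl
  have e := wp_eq h.geo
  obtain ⟨R', h1, h2⟩ : ∃ R' : Pair.Rep V (centralizer ({z} : Set G)) z M X, R'.pi = Rp.pi ∧ R'.rho = Rp.rho := by
    unfold Pair.Rep
    rw [e]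
    exact ⟨Rp, rfl, rfl⟩
  have h3 : ∀ U : Subgroup G, R'.img U = Rp.img U := by
    intro U
    ext a
    constructor
    · rintro ⟨c, hc, rfl⟩
      exact ⟨c, hc, (congrFun h2 (c : G)).symm⟩
    · rintro ⟨c, hc, rfl⟩
      exact ⟨c, hc, congrFun h2 (c : G)⟩
  obtain ⟨g, hg, -, -, ho⟩ := hF.exists_out R' hy hy1 hyz
  rw [h3, h3, h3, h1, e] at ho
  refine ⟨g, ho, fun f3 x hx => ?_⟩
  rw [← h1]
  exact PiTri.orderOf_ne_three hF R' hy hy1 hyz f3 hx

end Cfsg.Agent.OddCyclic.EN.FitFull
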