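import Cfsg.Agent.OddCyclic.BTwoLin.Socle
import Cfsg.Agent.OddCyclic.FFPsl
import Cfsg.Agent.OddCyclic.Eq.Prim
import Cfsg.Agent.OddCyclic.Eq.ModP

/-!
# S0342, (B-b), section 3 of helper217's blueprint, (3.3): the group `L₂(p)`, `p ≥ 7` prime

`X` acts faithfully on an elementary abelian 2-group `V`, `L ≅ L₂(p)` normal in `X`, `C_X(L) = 1`, `A ≠ 1` elementary
abelian with `|V : C_V(A)| ≤ |A|²`.

* `sq_of_fx`: `x` commutes with the involution `a` and `C_V(a) ≤ C_V(x)`: `x² = 1`;
* `no_four`: `C_V(a) ≤ C_V(b)` for `a ∈ A ∩ L`, `b ∈ A` different from `1, a`: `p ≤ 7`;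
* `outer`: `a ∉ L` has `|V : C_V(a)| > 4`.
-/

set_option autoImplicit false
set_option linter.unusedSectionVars false
set_option linter.unusedSimpArgs false

namespace Cfsg.Agent.OddCyclic.EN.ListP

open Matrix Cfsg.Agent.Lib.SL2Mat Cfsg.Agent.OddCyclic.T1Module Cfsg.Agent.OddCyclic.FFBasic
  Cfsg.Agent.OddCyclic.FFRed Cfsg.Agent.OddCyclic.FFSl2 Cfsg.Agent.OddCyclic.FFPslMat Cfsg.Agent.OddCyclic.PGLTorus
  Cfsg.Agent.OddCyclic.T1Defs Cfsg.Agent.OddCyclic.FFPsl Cfsg.Agent.OddCyclic.BTwoLin.Socle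

section general

variable {H : Type*} [Group H] {V : Type*} [CommGroup V] {ρ : H →* MulAut V}

/-- `x` commutes with the involution `a` and is trivial on `C_V(a)`: `x ^ 2` is trivial on `V` -/
theorem sq_of_fx (hV : ∀ v : V, v * v = 1) {a x : H} (ha : a * a = 1) (hx : x * a = a * x)
    (h : fx ρ a ≤ fx ρ x) (v : V) : ρ (x * x) v = v := by
  have hinv : ∀ v : V, v⁻¹ = v := fun v => inv_eq_of_mul_eq_one_left (hV v)
  have haa : ∀ v : V, ρ a (ρ a v) = v := by
    intro v
    rw [← MulAut.mul_apply, ← map_mul, ha, map_one]; rfl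
  -- `[v, a]` is fixed by `a`
  have h1 : ρ a v * v ∈ fx ρ a := by
    rw [mem_fx, map_mul, haa, mul_comm]
  have h2 : ρ x (ρ a v * v) = ρ a v * v := h h1
  have hxa : ρ x (ρ a v) = ρ a (ρ x v) := by
    rw [← MulAut.mul_apply, ← MulAut.mul_apply, ← map_mul, ← map_mul, hx]
  -- `[v, x]` is fixed by `a`
  have h3 : ρ x v * v ∈ fx ρ a := by
    rw [mem_fx, map_mul, ← hxa]
    rw [map_mul] at h2
    have h4 : ρ x (ρ a v) = ρ a v * v * (ρ x v)⁻¹ := by rw [← h2, mul_inv_cancel_right]
    rw [h4, hinv]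
    calc ρ a v * v * ρ x v * ρ a v = (ρ a v * ρ a v) * (ρ x v * v) := by
          rw [mul_right_comm (ρ a v * v) (ρ x v) (ρ a v), mul_right_comm (ρ a v) v (ρ a v), mul_assoc, mul_comm v]
      _ = ρ x v * v := by rw [hV, one_mul]
  have h5 : ρ x (ρ x v * v) = ρ x v * v := h h3
  rw [map_mul] at h5
  have h6 : ρ x (ρ x v) = ρ x v * v * (ρ x v)⁻¹ := by rw [← h5, mul_inv_cancel_right]
  rw [map_mul, MulAut.mul_apply, h6, mul_right_comm, mul_inv_cancel, one_mul]

end general

variable {H : Type*} [Group H] [Finite H] {V : Type*} [CommGroup V] [Finite V] {ρ : H →* MulAut V}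
variable {L A : Subgroup H} [L.Normal] {F : Type*} [Field F] [Finite F] (R : Cfsg.Agent.GH.L2Aut.Rep F L)

local notation "ψ" => (MulAut.conjNormal (H := L))

theorem prime_dvd_672 {p : ℕ} (hp : p.Prime) (h : p ∣ 672) : p ≤ 7 := by
  have h1 : (672 : ℕ) = 2 ^ 5 * (3 * 7) := by norm_num
  rw [h1] at h
  rcases hp.dvd_mul.1 h with h2 | h2
  · have := (Nat.prime_dvd_prime_iff_eq hp Nat.prime_two).1 (hp.dvd_of_dvd_pow h2); omega
  · rcases hp.dvd_mul.1 h2 with h3 | h3
    · have := (Nat.prime_dvd_prime_iff_eq hp Nat.prime_three).1 h3; omega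
    · have := (Nat.prime_dvd_prime_iff_eq hp (by norm_num : Nat.Prime 7)).1 h3; omega

include R in
/-- a four-group with the same fixed points as one of its elements -/
theorem no_four (hV : ∀ v : V, v * v = 1) (hinj : ∀ x : H, (∀ v, ρ x v = v) → x = 1) (h : Fa L A)
    (hF : (Nat.card F).Prime) (h11 : 11 ≤ Nat.card F) {a b : H} (ha : a ∈ A) (haL : a ∈ L) (ha1 : a ≠ 1)
    (hb : b ∈ A) (hb1 : b ≠ 1) (hba : b ≠ a) (hfix : fx ρ a ≤ fx ρ b) : False := by
  have hch := charP hF
  have hne : ∀ n : ℕ, (n : F) = 0 → Nat.card F ∣ n := fun n h0 => (CharP.cast_eq_zero_iff F (Nat.card F) n).1 h0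
  have h5F : (5 : F) ≠ 0 := by
    intro h0
    have := Nat.le_of_dvd (by norm_num) (hne 5 (by exact_mod_cast h0))
    omega
  have h672 : (672 : F) ≠ 0 := by
    intro h0
    have := prime_dvd_672 hF (hne 672 (by exact_mod_cast h0))
    omega
  obtain ⟨J, hJ⟩ := R.surj ⟨a, haL⟩
  have hψa : R.gl (Matrix.SpecialLinearGroup.toGL J) = ψ a := by
    rw [← R.conj_π, hJ]
    ext l
    rw [MulAut.conjNormal_apply]
    rfl
  have htr := trace_of_sq R (g := Matrix.SpecialLinearGroup.toGL J) (by rw [hψa]; exact psi_ne h ha ha1)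
    (by rw [hψa]; exact psi_sq h ha)
  obtain ⟨δ, hδ0, hδ⟩ := exists_mat R h hF hb hb1
  have hab : a * b ≠ 1 := by
    intro h2
    apply hba
    rw [eq_inv_of_mul_eq_one_right h2]
    exact inv_eq_of_mul_eq_one_left (h.sq a ha)
  have hor := orth R h ha hb hab hψa hδ
  -- entries
  have hd := det_eq J
  have htr' : ent J 0 0 + ent J 1 1 = 0 := by
    rw [Matrix.trace_fin_two] at htr
    exact htr
  have e11 : ent J 1 1 = - ent J 0 0 := by linear_combination htr'
  have hjj : ent J 0 0 * ent J 0 0 + ent J 0 1 * ent J 1 0 = -1 := by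
    rw [e11] at hd
    linear_combination -hd
  have hdet : ((3 + 4 * ent J 0 0) / 5) * ((3 - 4 * ent J 0 0) / 5) - (4 * ent J 0 1 / 5) * (4 * ent J 1 0 / 5) = 1 := by
    field_simp
    linear_combination (-16) * hjj
  set x : Matrix.SpecialLinearGroup (Fin 2) F :=
    mk ((3 + 4 * ent J 0 0) / 5) (4 * ent J 0 1 / 5) (4 * ent J 1 0 / 5) ((3 - 4 * ent J 0 0) / 5) hdet with hx
  -- `x` commutes with `J`
  have hxJ : x * J = J * x := by
    refine ext_ent ?_ ?_ ?_ ?_
    · rw [ent_mul, ent_mul]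
      simp only [hx, mk_00, mk_01, mk_10, mk_11]
      ring
    · rw [ent_mul, ent_mul]
      simp only [hx, mk_00, mk_01, mk_10, mk_11, e11]
      field_simp
      ring
    · rw [ent_mul, ent_mul]
      simp only [hx, mk_00, mk_01, mk_10, mk_11, e11]
      field_simp
      ring
    · rw [ent_mul, ent_mul]
      simp only [hx, mk_00, mk_01, mk_10, mk_11]
      ring
  set c : H := ((R.π x : L) : H) with hc
  have hca : c * a = a * c := by
    have h1 : R.π x * R.π J = R.π J * R.π x := by rw [← map_mul, hxJ, map_mul]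
    rw [hJ] at h1
    exact congrArg Subtype.val h1
  -- `b` inverts `c`
  have hbc : b * c * b⁻¹ = c⁻¹ := by
    have h4 := gl_inv R hδ0 (x := x) (by
      have t1 : δ.1 1 1 = - δ.1 0 0 := by
        rw [Matrix.trace_fin_two] at hδ0
        linear_combination hδ0
      have t2 : ent J 0 0 * δ.1 0 0 + ent J 0 1 * δ.1 1 0 + (ent J 1 0 * δ.1 0 1 + ent J 1 1 * δ.1 1 1) = 0 := by
        have := hor
        rw [Matrix.trace_fin_two, Matrix.mul_apply, Matrix.mul_apply, Fin.sum_univ_two, Fin.sum_univ_two] at this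
        exact this
      rw [Matrix.trace_fin_two, Matrix.mul_apply, Matrix.mul_apply, Fin.sum_univ_two, Fin.sum_univ_two]
      show δ.1 0 0 * ((3 + 4 * ent J 0 0) / 5) + δ.1 0 1 * (4 * ent J 1 0 / 5) +
        (δ.1 1 0 * (4 * ent J 0 1 / 5) + δ.1 1 1 * ((3 - 4 * ent J 0 0) / 5)) = 0
      rw [e11, t1] at t2
      rw [t1]
      field_simp
      linear_combination 4 * t2)
    rw [hδ] at h4
    exact conj_of_psi h4
  -- `c ^ 2` is trivial on `C_V(a)`
  have hc2 : fx ρ a ≤ fx ρ (c * c) := by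
    intro v hv
    rw [mem_fx]
    have hbb : b⁻¹ = b := inv_eq_of_mul_eq_one_left (h.sq b hb)
    have e : c * c = (c * b * c⁻¹) * b := by
      calc c * c = c * (c⁻¹)⁻¹ := by rw [inv_inv]
        _ = c * (b * c * b⁻¹)⁻¹ := by rw [hbc]
        _ = c * b * c⁻¹ * b⁻¹ := by group
        _ = _ := by rw [hbb]
    have hfc : ρ c⁻¹ v ∈ fx ρ a := by
      rw [mem_fx]
      have e2 : a * c⁻¹ = c⁻¹ * a := by
        calc a * c⁻¹ = c⁻¹ * (c * a) * c⁻¹ := by group
          _ = c⁻¹ * (a * c) * c⁻¹ := by rw [hca]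
          _ = c⁻¹ * a := by group
      rw [← MulAut.mul_apply, ← map_mul, e2, map_mul, MulAut.mul_apply]
      rw [show ρ a v = v from hv]
    have h1 : ρ b v = v := hfix hv
    have h2 : ρ b (ρ c⁻¹ v) = ρ c⁻¹ v := hfix hfc
    rw [e, map_mul, map_mul, map_mul, MulAut.mul_apply, MulAut.mul_apply, MulAut.mul_apply, h1, h2,
      ← MulAut.mul_apply, ← map_mul, mul_inv_cancel, map_one]
    rfl
  have hc4 : c * c * (c * c) = 1 := by
    apply hinj
    apply sq_of_fx hV (h.sq a ha) _ hc2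
    calc c * c * a = c * (c * a) := by group
      _ = c * (a * c) := by rw [hca]
      _ = (c * a) * c := by group
      _ = (a * c) * c := by rw [hca]
      _ = a * (c * c) := by group
  have hx4 : x * x * (x * x) = 1 ∨ x * x * (x * x) = -1 := by
    rw [← R.ker, map_mul, map_mul]
    exact Subtype.ext hc4
  -- entries of `x ^ 4`
  have q00 : ent (x * x) 0 0 = (-7 + 24 * ent J 0 0) / 25 := by
    rw [ent_mul]
    simp only [hx, mk_00, mk_01, mk_10, mk_11]
    have h25 : (25 : F) ≠ 0 := by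
      have : (25 : F) = 5 * 5 := by norm_num
      rw [this]; exact mul_ne_zero h5F h5F
    field_simp
    linear_combination 400 * hjj
  have q01 : ent (x * x) 0 1 = (24 * ent J 0 1) / 25 := by
    rw [ent_mul]
    simp only [hx, mk_00, mk_01, mk_10, mk_11]
    have h25 : (25 : F) ≠ 0 := by
      have : (25 : F) = 5 * 5 := by norm_num
      rw [this]; exact mul_ne_zero h5F h5F
    field_simp
    ring
  have q10 : ent (x * x) 1 0 = (24 * ent J 1 0) / 25 := by
    rw [ent_mul]
    simp only [hx, mk_00, mk_01, mk_10, mk_11]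
    have h25 : (25 : F) ≠ 0 := by
      have : (25 : F) = 5 * 5 := by norm_num
      rw [this]; exact mul_ne_zero h5F h5F
    field_simp
    ring
  have q11 : ent (x * x) 1 1 = (-7 - 24 * ent J 0 0) / 25 := by
    rw [ent_mul]
    simp only [hx, mk_00, mk_01, mk_10, mk_11]
    have h25 : (25 : F) ≠ 0 := by
      have : (25 : F) = 5 * 5 := by norm_num
      rw [this]; exact mul_ne_zero h5F h5F
    field_simp
    linear_combination 400 * hjj
  have h25 : (25 : F) ≠ 0 := by
    have : (25 : F) = 5 * 5 := by norm_num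
    rw [this]; exact mul_ne_zero h5F h5F
  have r01 : ent (x * x * (x * x)) 0 1 = -(336 * ent J 0 1) / 625 := by
    rw [ent_mul, q00, q01, q11]
    have h625 : (625 : F) ≠ 0 := by
      have : (625 : F) = 25 * 25 := by norm_num
      rw [this]; exact mul_ne_zero h25 h25
    field_simp
    ring
  have r10 : ent (x * x * (x * x)) 1 0 = -(336 * ent J 1 0) / 625 := by
    rw [ent_mul, q00, q10, q11]
    have h625 : (625 : F) ≠ 0 := by
      have : (625 : F) = 25 * 25 := by norm_num
      rw [this]; exact mul_ne_zero h25 h25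
    field_simp
    ring
  have r0011 : ent (x * x * (x * x)) 0 0 - ent (x * x * (x * x)) 1 1 = -(672 * ent J 0 0) / 625 := by
    rw [ent_mul (x * x) (x * x) 0 0, ent_mul (x * x) (x * x) 1 1, q00, q01, q10, q11]
    have h625 : (625 : F) ≠ 0 := by
      have : (625 : F) = 25 * 25 := by norm_num
      rw [this]; exact mul_ne_zero h25 h25
    field_simp
    ring
  have s1 : ent (x * x * (x * x)) 0 1 = 0 ∧ ent (x * x * (x * x)) 1 0 = 0 ∧
      ent (x * x * (x * x)) 0 0 - ent (x * x * (x * x)) 1 1 = 0 := by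
    rcases hx4 with h4 | h4 <;> rw [h4]
    · refine ⟨ent_one_01, ent_one_10, ?_⟩
      rw [ent_one_00, ent_one_11, sub_self]
    · refine ⟨?_, ?_, ?_⟩
      · show -(0 : F) = 0
        exact neg_zero
      · show -(0 : F) = 0
        exact neg_zero
      · show -(1 : F) - -1 = 0
        ring
  have h625 : (625 : F) ≠ 0 := by
    have : (625 : F) = 25 * 25 := by norm_num
    rw [this]; exact mul_ne_zero h25 h25
  have h336 : (336 : F) ≠ 0 := by
    intro h0
    apply h672
    have : (672 : F) = 2 * 336 := by norm_num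
    rw [this, h0, mul_zero]
  rw [r01, r10, r0011] at s1
  obtain ⟨s1, s2, s3⟩ := s1
  have t1 : ent J 0 1 = 0 := by
    rcases div_eq_zero_iff.1 s1 with h0 | h0
    · exact (mul_eq_zero.1 (neg_eq_zero.1 h0)).resolve_left h336
    · exact absurd h0 h625
  have t3 : ent J 0 0 = 0 := by
    rcases div_eq_zero_iff.1 s3 with h0 | h0
    · exact (mul_eq_zero.1 (neg_eq_zero.1 h0)).resolve_left h672
    · exact absurd h0 h625
  rw [t1, t3, zero_mul, zero_mul, add_zero] at hjj
  have : (1 : F) = 0 := by linear_combination hjj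
  exact one_ne_zero this

/-! ### outer involutions -/

/-- `y` of order 9 and `y ^ 3` acts nontrivially: `|V : C_V(y)| ≥ 2 ^ 6` -/
theorem nine (hV : ∀ v : V, v * v = 1) {y : H} (hy : orderOf y = 9) (hne : ∃ v, ρ (y ^ 3) v ≠ v) :
    16 < (fx ρ y).index := by
  by_contra hcon
  push Not at hcon
  have o3 : orderOf (y ^ 3) = 3 := by rw [orderOf_pow, hy]; norm_num
  obtain ⟨d, hd, h1, h2⟩ := prim (ρ := ρ) hV Nat.prime_three (by norm_num) o3 hne
  have hle : fx ρ y ≤ fx ρ (y ^ 3) := fun v hv => fx_pow ρ hv 3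
  have h3 : (fx ρ (y ^ 3)).index ≤ 16 := (index_le_of_le hle).trans hcon
  have hodd3 : Odd (orderOf (y ^ 3)) := by rw [o3]; decide
  -- `y` acts on `[V, y ^ 3]` without fixed points
  have hfin : Finite (Subgroup.zpowers y) :=
    Nat.finite_of_card_ne_zero (by rw [Nat.card_zpowers, hy]; norm_num)
  have h := card_dvd_sub_one (K := V) (D := Subgroup.zpowers y)
    (ρ.comp (Subgroup.zpowers y).subtype) (cm ρ (y ^ 3)).range ?_ ?_
  · rw [Nat.card_zpowers, hy, card_range_cm, h1] at h
    rw [h1] at h3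
    have h4 : d ≤ 4 := by
      have : (2 : ℕ) ^ d ≤ 2 ^ 4 := h3
      exact (Nat.pow_le_pow_iff_right (by norm_num)).1 this
    interval_cases d <;> norm_num at h
  · rintro ⟨d, hd⟩ c hc
    obtain ⟨n, rfl⟩ := Subgroup.mem_zpowers_iff.1 hd
    exact apply_mem_range ρ (z := y ^ n) (((Commute.refl y).pow_right 3).zpow_left n).eq hc
  · rintro ⟨e, he⟩ c hc hc1 hfix
    by_contra hne1
    have he1 : e ≠ 1 := fun h => hne1 (Subtype.ext h)
    have hfix' : c ∈ fx ρ e := hfix
    -- a power of `e` is `y ^ 3` or its inverse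
    have hfo : IsOfFinOrder y := orderOf_pos_iff.1 (by rw [hy]; norm_num)
    obtain ⟨n, hn⟩ := (hfo.mem_powers_iff_mem_zpowers.2 he)
    have hn' : y ^ n = e := hn
    have hn9 : n % 9 ≠ 0 := by
      intro h0
      apply he1
      rw [← hn', ← pow_mod_orderOf, hy, h0, pow_zero]
    have key : ∀ j < 9, j ≠ 0 → ∃ k < 9, (j * k) % 9 = 3 := by decide
    obtain ⟨k, -, hk⟩ := key (n % 9) (Nat.mod_lt _ (by norm_num)) hn9
    have h5 : e ^ k = y ^ 3 := by
      rw [← hn', ← pow_mul, ← pow_mod_orderOf, hy]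
      congr 1
      rw [← hk, Nat.mod_mul_mod]
    apply hc1
    apply eq_one_of_fix hV hodd3 hc
    have h6 := fx_pow ρ hfix' k
    rwa [h5] at h6

/-- an element of order 9 inverted by `a` if `|F| = 17` -/
theorem exists_nine (hF : Nat.card F = 17) {a : H} {γ : GL (Fin 2) F} (hγ0 : γ.1.trace = 0) (hγ : R.gl γ = ψ a) :
    ∃ y ∈ L, orderOf y = 9 ∧ a * y * a⁻¹ = y⁻¹ := by
  have hpr : (Nat.card F).Prime := by rw [hF]; norm_num
  have hch := charP hpr
  rw [hF] at hch
  have h17 : (17 : F) = 0 := by exact_mod_cast CharP.cast_eq_zero F 17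
  have h3F : (3 : F) ≠ 0 := three_ne hpr (by rw [hF]; norm_num)
  obtain ⟨x, hx, hx'⟩ := inv_exists R.two hγ0 (det_ne γ) 7
  have hd := det_eq x
  have e11 : ent x 1 1 = 7 - ent x 0 0 := by linear_combination hx
  -- `-x ^ 3` has trace one
  have htr : ent (-(x * x * x)) 0 0 + ent (-(x * x * x)) 1 1 = 1 := by
    show -(ent (x * x * x) 0 0) + -(ent (x * x * x) 1 1) = 1
    rw [ent_mul (x * x) x 0 0, ent_mul (x * x) x 1 1, ent_mul x x 0 0, ent_mul x x 0 1, ent_mul x x 1 0,
      ent_mul x x 1 1, e11]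
    rw [e11] at hd
    linear_combination 21 * hd + (-19) * h17
  obtain ⟨h1, h2⟩ := order_three_one R h3F htr
  have hneg : R.π (-(x * x * x)) = R.π x ^ 3 := by
    rw [R.π_neg, map_mul, map_mul, pow_succ, pow_two]
  rw [hneg] at h1 h2
  have ho : orderOf (R.π x) = 9 := by
    have h3 : R.π x ^ 3 ^ 2 = 1 := by
      rw [show (3 : ℕ) ^ 2 = 3 * 3 by norm_num, pow_mul, h1]
    have : Fact (Nat.Prime 3) := ⟨Nat.prime_three⟩
    have h4 := orderOf_eq_prime_pow (p := 3) (n := 1) (x := R.π x) (by rwa [pow_one]) h3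
    rw [h4]; norm_num
  refine ⟨R.π x, (R.π x).2, ?_, ?_⟩
  · rw [Subgroup.orderOf_coe, ho]
  · have h4 := gl_inv R hγ0 hx'
    rw [hγ] at h4
    exact conj_of_psi h4

include R in
/-- `a ∉ L` has `|V : C_V(a)| > 4` -/
theorem outer (hV : ∀ v : V, v * v = 1) (hinj : ∀ x : H, (∀ v, ρ x v = v) → x = 1) (hc : OddCyc H)
    (hC : Subgroup.centralizer (L : Set H) = ⊥) (h : Fa L A)
    (hF : (Nat.card F).Prime) (h7 : 7 ≤ Nat.card F) {a : H} (ha : a ∈ A) (haL : a ∉ L) : 4 < (fx ρ a).index := by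
  by_contra hcon
  push Not at hcon
  have ha1 : a ≠ 1 := fun h1 => haL (h1 ▸ one_mem L)
  have hne : ∀ y : H, y ≠ 1 → ∃ v, ρ y v ≠ v := by
    intro y hy
    by_contra hc'
    push Not at hc'
    exact hy (hinj y hc')
  have h3F : (3 : F) ≠ 0 := three_ne hF h7
  obtain ⟨γ, hγ0, hγ⟩ := exists_mat R h hF ha ha1
  have hnd : ¬ IsSquare γ.1.det := by
    intro hs
    apply haL
    obtain ⟨y, hy⟩ := R.gl_mem_inn.2 hs
    rw [hγ] at hy
    exact Eq.Prim.mem_of_inner hC hy.symm
  -- not split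
  have hns : ¬ IsSquare (-γ.1.det) := by
    rintro ⟨s, hs⟩
    obtain ⟨u, hu1, hup, hui⟩ := split_inv R hγ0 hs.symm
    have hch := charP hF
    have hfact : Fact (Nat.card F).Prime := ⟨hF⟩
    have h1 := hup (Nat.card F) (CharP.cast_eq_zero F (Nat.card F))
    have h2 : orderOf ((R.π u : L) : H) = Nat.card F := by
      rw [Subgroup.orderOf_coe]
      exact orderOf_eq_prime (by rw [← map_pow, h1, map_one]) hu1
    rw [hγ] at hui
    have h3 := conj_of_psi hui
    have h4 : ((R.π u : L) : H) ≠ 1 := fun h => hu1 (Subtype.ext h)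
    rcases (small hV (h.sq a ha) hF (by omega) h2 (hne _ h4) h3 hcon).1 with h5 | h5 <;> omega
  have hm1 : IsSquare (-1 : F) := by
    obtain ⟨s, hs⟩ := Cfsg.Agent.GH.L2Aut.isSquare_mul_of_not hns hnd
    refine ⟨s / γ.1.det, ?_⟩
    have hd := det_ne γ
    field_simp
    linear_combination hs
  obtain ⟨y, hyL, hy3, hay⟩ := exists_three R h3F hγ0 hγ
  have hiy : (fx ρ y).index ≤ 16 := (half' ρ (by rw [hy3]; decide) hay).trans (Nat.pow_le_pow_left hcon 2)
  have hall : ∀ z : H, orderOf z = 3 → (fx ρ z).index ≤ 16 := fun z hz => by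
    rw [← index_eq_of_orderOf ρ hc Nat.prime_three (by norm_num) hy3 hz]; exact hiy
  -- the transvection is a product of two elements of order three
  have hdz : (0 : F) * 1 - (-(1 / 2)) * 2 = 1 := by
    have h2F := R.two
    field_simp; ring
  have hdz' : (-1 : F) * 2 - (-(3 / 2)) * 2 = 1 := by
    have h2F := R.two
    field_simp; ring
  have h2F := R.two
  let z : Matrix.SpecialLinearGroup (Fin 2) F := mk 0 (-(1 / 2)) 2 1 hdz
  let z' : Matrix.SpecialLinearGroup (Fin 2) F := mk (-1) (-(3 / 2)) 2 2 hdz'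
  have hz : orderOf ((R.π z : L) : H) = 3 := orderOf_three R h3F (by simp only [z, mk_00, mk_11]; ring)
  have hz' : orderOf ((R.π z' : L) : H) = 3 := orderOf_three R h3F (by simp only [z', mk_00, mk_11]; ring)
  have hzz : z * z' = -up 1 := by
    refine ext_ent ?_ ?_ ?_ ?_
    · rw [ent_mul]; show 0 * (-1) + (-(1 / 2)) * 2 = -(1 : F); field_simp; ring
    · rw [ent_mul]; show 0 * (-(3 / 2)) + (-(1 / 2)) * 2 = -(1 : F); field_simp; ring
    · rw [ent_mul]; show 2 * (-1) + 1 * 2 = -(0 : F); ring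
    · rw [ent_mul]; show 2 * (-(3 / 2)) + 1 * 2 = -(1 : F); field_simp; ring
  have hu : ((R.π (up 1) : L) : H) = (R.π z : L) * (R.π z' : L) := by
    rw [← Subgroup.coe_mul, ← map_mul, hzz, R.π_neg]
  have hiu : (fx ρ ((R.π (up 1) : L) : H)).index ≤ 2 ^ 8 := by
    rw [hu]
    have h16 : (fx ρ ((R.π z : L) : H)).index * (fx ρ ((R.π z' : L) : H)).index ≤ 16 * 16 :=
      Nat.mul_le_mul (hall _ hz) (hall _ hz')
    have := index_mul_le ρ ((R.π z : L) : H) ((R.π z' : L) : H)
    omega
  have hou := orderOf_u R hF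
  have hune : ((R.π (up 1) : L) : H) ≠ 1 := by
    intro h1
    rw [h1, orderOf_one] at hou
    omega
  obtain ⟨d, hd, hd1, hd2⟩ := prim (ρ := ρ) hV hF (by omega) hou (hne _ hune)
  have hd8 : d ≤ 8 := by
    rw [hd1] at hiu
    exact (Nat.pow_le_pow_iff_right (by norm_num)).1 hiu
  have := Fintype.ofFinite F
  have h4 := FiniteField.isSquare_neg_one_iff.1 hm1
  rw [← Nat.card_eq_fintype_card] at h4
  have hF17 : Nat.card F = 17 := by
    clear hiu hd1 hou h3F hune
    have hpr := hF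
    have hcases : Nat.card F = 3 ∨ Nat.card F = 5 ∨ Nat.card F = 7 ∨ Nat.card F = 17 ∨ Nat.card F = 31 ∨
        Nat.card F = 127 := by
      generalize Nat.card F = n at *
      have hk : ∀ {a b : ℕ}, n ∣ a * b → n ∣ a ∨ n ∣ b := fun h => (Nat.Prime.dvd_mul hpr).1 h
      have he : ∀ {q : ℕ}, q.Prime → n ∣ q → n = q := fun hq h => (Nat.prime_dvd_prime_iff_eq hpr hq).1 h
      interval_cases d
      · have := Nat.le_of_dvd (by norm_num) hd2; omega
      · have := he (q := 3) (by norm_num) hd2; omega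
      · have := he (q := 7) (by norm_num) hd2; omega
      · rcases hk (a := 3) (b := 5) hd2 with h | h
        · have := he (q := 3) (by norm_num) h; omega
        · have := he (q := 5) (by norm_num) h; omega
      · have := he (q := 31) (by norm_num) hd2; omega
      · rcases hk (a := 3 * 3) (b := 7) hd2 with h | h
        · rcases hk h with h | h <;> (have := he (q := 3) (by norm_num) h; omega)
        · have := he (q := 7) (by norm_num) h; omega
      · have := he (q := 127) (by norm_num) hd2; omega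
      · rcases hk (a := 3 * 5) (b := 17) hd2 with h | h
        · rcases hk h with h | h
          · have := he (q := 3) (by norm_num) h; omega
          · have := he (q := 5) (by norm_num) h; omega
        · have := he (q := 17) (by norm_num) h; omega
    rcases hcases with h | h | h | h | h | h <;> rw [h] at h4 h7 ⊢ <;> omega
  obtain ⟨y9, hy9L, hy9, hay9⟩ := exists_nine R hF17 hγ0 hγ
  have h9 := nine (ρ := ρ) hV hy9 (hne _ (by
    intro h1
    have := orderOf_dvd_of_pow_eq_one h1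
    rw [hy9] at this
    norm_num at this))
  have h10 := (half' ρ (by rw [hy9]; decide) hay9).trans (Nat.pow_le_pow_left hcon 2)
  omega

/-! ### the main statement -/

include R in
/-- **(3.3)**: `p = 7` -/
theorem seven (hV : ∀ v : V, v * v = 1) (hinj : ∀ x : H, (∀ v, ρ x v = v) → x = 1) (hc : OddCyc H)
    (hC : Subgroup.centralizer (L : Set H) = ⊥) (hsq : ∀ a ∈ A, a * a = 1) (hA : A ≠ ⊥)
    (hi : (CS ρ A).index ≤ Nat.card A ^ 2) (hF : (Nat.card F).Prime) (h7 : 7 ≤ Nat.card F) : Nat.card F = 7 := by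
  by_contra hne7
  have h11 : 11 ≤ Nat.card F := by
    by_contra hcon
    push Not at hcon
    have hpr := hF
    generalize Nat.card F = n at *
    interval_cases n <;> first | omega | (revert hpr; norm_num)
  have h : Fa L A := ⟨hsq, fun a ha hl => by
    have : a ∈ Subgroup.centralizer (L : Set H) := Subgroup.mem_centralizer_iff.2 fun l hl' => (hl l hl').symm
    rw [hC] at this
    exact this⟩
  have hA4 := card_le_four R h hF
  have hne : ∀ y : H, y ≠ 1 → ∃ v, ρ y v ≠ v := by
    intro y hy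
    by_contra hc'
    push Not at hc'
    exact hy (hinj y hc')
  have hle : ∀ {a}, a ∈ A → (fx ρ a).index ≤ (CS ρ A).index := fun ha => index_le_of_le (CS_le_fx ha)
  have h16 : (CS ρ A).index ≤ 16 := hi.trans (Nat.pow_le_pow_left hA4 2)
  -- all involutions of `L` are conjugate
  have hconj : ∀ a ∈ L, a * a = 1 → a ≠ 1 → ∀ t ∈ L, t * t = 1 → t ≠ 1 → (fx ρ t).index = (fx ρ a).index := by
    intro a haL haa ha1 t htL htt ht1
    obtain ⟨g, hg⟩ := Cfsg.Agent.Lib.PSL2Torus.conj_inv_hom R.π R.two R.surj R.ker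
      (t := (⟨a, haL⟩ : L)) (u := ⟨t, htL⟩) (fun h1 => ha1 (congrArg Subtype.val h1)) (Subtype.ext haa)
      (fun h1 => ht1 (congrArg Subtype.val h1)) (Subtype.ext htt)
    have hgt : (g : H) * a * (g : H)⁻¹ = t := congrArg Subtype.val hg
    rw [← hgt, index_fx_conj]
  by_cases hAL : ∃ a ∈ A, a ∈ L ∧ a ≠ 1
  · obtain ⟨a, ha, haL, ha1⟩ := hAL
    by_cases h8 : (fx ρ a).index ≤ 8
    · exact Eq.ModP.false_of R hV hF h11 (fun y _ hy1 => hne y hy1) fun t htL htt ht1 => by
        rw [hconj a haL (hsq a ha) ha1 t htL htt ht1]; exact h8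
    · push Not at h8
      obtain ⟨d, hd⟩ := index_pow hV (fx ρ a)
      have h16a := (hle ha).trans h16
      have hd4 : (fx ρ a).index = 16 := by
        rw [hd] at h8 h16a ⊢
        have h1 : 3 < d := by
          have : (2 : ℕ) ^ 3 < 2 ^ d := h8
          exact (Nat.pow_lt_pow_iff_right (by norm_num)).1 this
        have h2 : d ≤ 4 := by
          have : (2 : ℕ) ^ d ≤ 2 ^ 4 := h16a
          exact (Nat.pow_le_pow_iff_right (by norm_num)).1 this
        have : d = 4 := by omega
        rw [this]; norm_num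
      have heq : CS ρ A = fx ρ a := eq_of_index_le (CS_le_fx ha) (by rw [hd4]; exact h16)
      -- `|A| = 4`
      have h4 : 2 < Nat.card A := by
        by_contra hcon
        push Not at hcon
        have := hi.trans (Nat.pow_le_pow_left hcon 2)
        rw [heq, hd4] at this
        norm_num at this
      obtain ⟨b, hb, hb1, hba⟩ : ∃ b ∈ A, b ≠ 1 ∧ b ≠ a := by
        by_contra hcon
        push Not at hcon
        have := card_le_two_of (B := A) (a := a) fun b hb => by
          by_cases hb1 : b = 1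
          · exact Or.inl hb1
          · exact Or.inr (hcon b hb hb1)
        omega
      exact no_four R hV hinj h hF h11 ha haL ha1 hb hb1 hba (fun v hv => by
        rw [← heq] at hv
        exact hv b hb)
  · push Not at hAL
    obtain ⟨⟨a, ha⟩, ha1'⟩ := Subgroup.ne_bot_iff_exists_ne_one.1 hA
    have ha1 : a ≠ 1 := fun h => ha1' (Subtype.ext h)
    have haL : a ∉ L := fun h1 => ha1 (hAL a ha h1)
    -- `|A| = 2`
    have hA2 : ∀ b ∈ A, b = 1 ∨ b = a := by
      intro b hb
      by_contra hcon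
      push Not at hcon
      have hbL : b ∉ L := fun h1 => hcon.1 (hAL b hb h1)
      obtain ⟨γ, hγ0, hγ⟩ := exists_mat R h hF ha ha1
      obtain ⟨δ, hδ0, hδ⟩ := exists_mat R h hF hb hcon.1
      have hnsq : ∀ {x : H} {γ : GL (Fin 2) F}, x ∉ L → R.gl γ = ψ x → ¬ IsSquare γ.1.det := by
        intro x γ hxL hγ hs
        apply hxL
        obtain ⟨y, hy⟩ := R.gl_mem_inn.2 hs
        rw [hγ] at hy
        exact Eq.Prim.mem_of_inner hC hy.symm
      have hsqr : IsSquare (γ * δ).1.det := by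
        rw [Units.val_mul, Matrix.det_mul]
        exact Cfsg.Agent.GH.L2Aut.isSquare_mul_of_not (hnsq haL hγ) (hnsq hbL hδ)
      obtain ⟨y, hy⟩ := R.gl_mem_inn.2 hsqr
      rw [map_mul, hγ, hδ, ← map_mul] at hy
      have habL : a * b ∈ L := Eq.Prim.mem_of_inner hC hy.symm
      have hab1 := hAL (a * b) (mul_mem ha hb) habL
      apply hcon.2
      rw [eq_inv_of_mul_eq_one_right hab1]
      exact inv_eq_of_mul_eq_one_left (hsq a ha)
    have hcard := card_le_two_of hA2
    have h4 : (fx ρ a).index ≤ 4 := (hle ha).trans (hi.trans (Nat.pow_le_pow_left hcard 2))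
    have h5 := outer R hV hinj hc hC h hF h7 ha haL
    omega

end Cfsg.Agent.OddCyclic.EN.ListP
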