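import Mathlib
import Cfsg.Agent.OddCyclic.T1Sl2

/-!
# The natural `ΓL₂(F)`-module with a radical: definition and algebra

`NatC F L e a b`: `X` acts faithfully on `M`, `L ⊴ X`, `e : SL₂(F) ≃* L`, `C_X(L) = 1`; `(a, b) : M → F × F` are additive
coordinates of `M / C_M(L)`, natural for `L`, semilinear for `X`.
-/

set_option autoImplicit false
set_option linter.unusedSectionVars false

namespace Cfsg.Agent.OddCyclic.EN.Nat

open Matrix Subgroup
open Cfsg.Agent.OddCyclic.T1Sl2

universe u v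

variable {X : Type u} {M : Type v} [Group X] [AddCommGroup M] [DistribMulAction X M]

/-- `M / C_M(L)` is the natural module for `L = SL₂(F)`, and `X ≤ ΓL₂(F)`. -/
structure NatC (F : Type) [Field F] [Fintype F] [CharP F 2] (L : Subgroup X)
    (e : SpecialLinearGroup (Fin 2) F ≃* L) (a b : M →+ F) : Prop where
  nrm : L.Normal
  cent : ∀ x : X, (∀ g ∈ L, x * g = g * x) → x = 1
  ker : ∀ m : M, a m = 0 → b m = 0 → ∀ g ∈ L, g • m = m
  surj : ∀ x y : F, ∃ m : M, a m = x ∧ b m = y
  act : ∀ (g : SpecialLinearGroup (Fin 2) F) (m : M),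
    a ((e g : X) • m) = g 0 0 * a m + g 0 1 * b m ∧ b ((e g : X) • m) = g 1 0 * a m + g 1 1 * b m
  semi : ∀ x : X, ∃ (σ : F ≃+* F) (g : SpecialLinearGroup (Fin 2) F), ∀ m : M,
    a (x • m) = g 0 0 * σ (a m) + g 0 1 * σ (b m) ∧ b (x • m) = g 1 0 * σ (a m) + g 1 1 * σ (b m)

namespace NatC

variable {F : Type} [Field F] [Fintype F] [CharP F 2] {L : Subgroup X} {e : SpecialLinearGroup (Fin 2) F ≃* L}
  {a b : M →+ F}

/-- the radical is exactly the kernel of the coordinates -/
theorem ker_iff (h : NatC F L e a b) {m : M} : (∀ g ∈ L, g • m = m) ↔ a m = 0 ∧ b m = 0 := by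
  constructor
  · intro hm
    have h1 := (h.act (up 1) m).1
    have h2 := (h.act (lo 1) m).2
    rw [hm _ (e (up 1)).2] at h1
    rw [hm _ (e (lo 1)).2] at h2
    simp only [up00, up01, lo10, lo11, one_mul] at h1 h2
    constructor
    · simpa using h2
    · simpa using h1
  · rintro ⟨h1, h2⟩
    exact h.ker m h1 h2

/-- an element of `L` acting trivially on the coordinates is trivial -/
theorem eq_one_of_mem (h : NatC F L e a b) {x : X} (hx : x ∈ L) (hm : ∀ m : M, a (x • m) = a m ∧ b (x • m) = b m) :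
    x = 1 := by
  obtain ⟨g, hg⟩ := e.surjective ⟨x, hx⟩
  have hx' : (e g : X) = x := by rw [hg]
  have key : g = 1 := by
    obtain ⟨m1, h1, h2⟩ := h.surj 1 0
    obtain ⟨m2, h3, h4⟩ := h.surj 0 1
    have e1 := h.act g m1
    have e2 := h.act g m2
    rw [hx', (hm m1).1, (hm m1).2, h1, h2] at e1
    rw [hx', (hm m2).1, (hm m2).2, h3, h4] at e2
    simp only [mul_one, mul_zero, add_zero, zero_add] at e1 e2
    apply ext2
    · rw [← e1.1]; simp
    · rw [← e2.1]; simp
    · rw [← e1.2]; simp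
    · rw [← e2.2]; simp
  rw [← hx', key, map_one]
  rfl

/-- `X` is faithful on `M / C_M(L)` -/
theorem eq_one (h : NatC F L e a b) {x : X} (hm : ∀ m : M, a (x • m) = a m ∧ b (x • m) = b m) : x = 1 := by
  have hinv : ∀ m : M, a (x⁻¹ • m) = a m ∧ b (x⁻¹ • m) = b m := by
    intro m
    have := hm (x⁻¹ • m)
    rw [smul_inv_smul] at this
    exact ⟨this.1.symm, this.2.symm⟩
  refine h.cent x fun g hg => ?_
  have hmem : x * g * x⁻¹ * g⁻¹ ∈ L := mul_mem (h.nrm.conj_mem g hg x) (inv_mem hg)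
  obtain ⟨k, hk⟩ := e.surjective ⟨g, hg⟩
  have hk' : (e k : X) = g := by rw [hk]
  have hk2 : ((e k⁻¹ : L) : X) = g⁻¹ := by rw [map_inv, hk]; rfl
  have h1 : x * g * x⁻¹ * g⁻¹ = 1 := by
    refine h.eq_one_of_mem hmem fun m => ?_
    have e1 : (x * g * x⁻¹ * g⁻¹) • m = x • (g • (x⁻¹ • (g⁻¹ • m))) := by simp [mul_smul]
    have e3 := h.act k (x⁻¹ • (g⁻¹ • m))
    have e4 := h.act k (g⁻¹ • m)
    rw [hk'] at e3 e4
    rw [smul_inv_smul] at e4
    rw [e1, (hm _).1, (hm _).2, e3.1, e3.2, (hinv _).1, (hinv _).2, e4.1, e4.2]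
    exact ⟨rfl, rfl⟩
  calc x * g = (x * g * x⁻¹ * g⁻¹) * (g * x) := by group
    _ = g * x := by rw [h1, one_mul]

/-- the pointwise stabiliser of the `F`-point `b = 0` is the root group -/
theorem mem_up_of_fix (h : NatC F L e a b) {x : X}
    (hx : ∀ m : M, b m = 0 → a (x • m) = a m ∧ b (x • m) = 0) : ∃ t : F, x = e (up t) := by
  obtain ⟨σ, g, hg⟩ := h.semi x
  have h1 : ∀ t : F, g 0 0 * σ t = t ∧ g 1 0 * σ t = 0 := by
    intro t
    obtain ⟨m, hm1, hm2⟩ := h.surj t 0
    have e1 := hg m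
    have e2 := hx m hm2
    rw [e1.1, e1.2, hm1, hm2, map_zero, mul_zero, mul_zero, add_zero, add_zero] at e2
    exact e2
  have h00 : g 0 0 = 1 := by have := (h1 1).1; rwa [map_one, mul_one] at this
  have h10 : g 1 0 = 0 := by have := (h1 1).2; rwa [map_one, mul_one] at this
  have hσ : ∀ t, σ t = t := fun t => by have := (h1 t).1; rwa [h00, one_mul] at this
  have h11 : g 1 1 = 1 := by have := det g; rw [h00, h10] at this; simpa using this
  refine ⟨g 0 1, ?_⟩
  have key : (e (up (g 0 1)) : X)⁻¹ * x = 1 := by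
    refine h.eq_one fun m => ?_
    have hm := hg m
    rw [hσ, hσ, h00, h10, h11, zero_mul, one_mul, one_mul, zero_add] at hm
    have e1 : ((e (up (g 0 1)) : X)⁻¹ * x) • m = ((e (up (-(g 0 1))) : L) : X) • (x • m) := by
      rw [mul_smul]
      congr 1
      rw [← Subgroup.coe_inv, ← map_inv]
      congr 2
      rw [inv_eq_iff_mul_eq_one, up_mul, add_neg_cancel, up_zero]
    have e2 := h.act (up (-(g 0 1))) (x • m)
    rw [e1, e2.1, e2.2, hm.1, hm.2]
    simp
  rw [inv_mul_eq_one] at key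
  exact key.symm

/-- the action of a root element -/
theorem up_act (h : NatC F L e a b) (t : F) (m : M) :
    a ((e (up t) : X) • m) = a m + t * b m ∧ b ((e (up t) : X) • m) = b m := by
  have := h.act (up t) m
  simpa using this

theorem dg_act (h : NatC F L e a b) (s : Fˣ) (m : M) :
    a ((e (dg s) : X) • m) = s * a m ∧ b ((e (dg s) : X) • m) = (s⁻¹ : Fˣ) * b m := by
  have := h.act (dg s) m
  simpa using this

/-- `C_M(u)` for a root element `u ≠ 1` is `b = 0` (`M` of exponent 2) -/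
theorem up_fix (h : NatC F L e a b) (h2 : ∀ m : M, m + m = 0) {t : F} (ht : t ≠ 0) {m : M} :
    (e (up t) : X) • m = m ↔ b m = 0 := by
  constructor
  · intro hm
    have := (h.up_act t m).1
    rw [hm] at this
    have h3 : t * b m = 0 := by simpa using this
    rcases mul_eq_zero.mp h3 with h4 | h4
    · exact absurd h4 ht
    · exact h4
  · intro hm
    obtain ⟨n, hn1, hn2⟩ := h.surj 0 (t⁻¹ * a m)
    set u : X := (e (up t) : X) with hu
    have huu : u * u = 1 := by
      rw [hu, ← Subgroup.coe_mul, ← map_mul, up_mul, CharTwo.add_self_eq_zero, up_zero, map_one]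
      rfl
    have e1 := h.up_act t n
    rw [hn1, hn2, zero_add, ← mul_assoc, mul_inv_cancel₀ ht, one_mul] at e1
    -- `m = (u n + n) + r`
    set r : M := m - (u • n + n) with hr
    have hra : a r = 0 := by
      rw [hr, map_sub, map_add, e1.1, hn1, add_zero, sub_self]
    have hrb : b r = 0 := by
      rw [hr, map_sub, map_add, e1.2, hn2, hm, CharTwo.add_self_eq_zero, sub_self]
    have hur : u • r = r := h.ker r hra hrb u (e (up t)).2
    have hm' : m = (u • n + n) + r := by rw [hr]; abel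
    rw [hm', smul_add, smul_add, ← mul_smul, huu, one_smul, hur]
    abel

/-- the image of `u - 1` covers the point `b = 0` -/
theorem exists_comm (h : NatC F L e a b) {t : F} (ht : t ≠ 0) {m : M} (hm : b m = 0) :
    ∃ n : M, a ((e (up t) : X) • n - n - m) = 0 ∧ b ((e (up t) : X) • n - n - m) = 0 := by
  obtain ⟨n, hn1, hn2⟩ := h.surj 0 (t⁻¹ * a m)
  have e1 := h.up_act t n
  rw [hn1, hn2, zero_add, ← mul_assoc, mul_inv_cancel₀ ht, one_mul] at e1
  refine ⟨n, ?_, ?_⟩
  · rw [map_sub, map_sub, e1.1, hn1]; simp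
  · rw [map_sub, map_sub, e1.2, hn2, hm]; simp

/-- `X` preserves the radical -/
theorem rad_smul (h : NatC F L e a b) {m : M} (ha : a m = 0) (hb : b m = 0) (x : X) :
    a (x • m) = 0 ∧ b (x • m) = 0 := by
  obtain ⟨σ, g, hg⟩ := h.semi x
  have := hg m
  rw [ha, hb, map_zero, mul_zero, mul_zero, mul_zero, mul_zero, add_zero] at this
  exact this

/-- `x` preserves the `F`-point `b = 0` -/
def Bor (b : M →+ F) (x : X) : Prop := ∀ m : M, b (x • m) = 0 ↔ b m = 0

theorem bor_of_semi {σ : F ≃+* F} {g : SpecialLinearGroup (Fin 2) F} {x : X}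
    (hg : ∀ m : M, a (x • m) = g 0 0 * σ (a m) + g 0 1 * σ (b m) ∧ b (x • m) = g 1 0 * σ (a m) + g 1 1 * σ (b m))
    (h10 : g 1 0 = 0) : Bor b x := by
  intro m
  have h11 : g 1 1 ≠ 0 := by
    intro e
    have := det g
    rw [h10, e] at this
    simp at this
  rw [(hg m).2, h10, zero_mul, zero_add]
  constructor
  · intro h
    rcases mul_eq_zero.mp h with h | h
    · exact absurd h h11
    · exact σ.map_eq_zero_iff.mp h
  · intro h; rw [h, map_zero, mul_zero]

/-- an element mapping a nonzero vector of the point `b = 0` into the point preserves the point -/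
theorem bor_of_smul (h : NatC F L e a b) {x : X} {m : M} (hm : b m = 0) (ha : a m ≠ 0) (hx : b (x • m) = 0) :
    Bor b x := by
  obtain ⟨σ, g, hg⟩ := h.semi x
  refine bor_of_semi hg ?_
  have := (hg m).2
  rw [hx, hm, map_zero, mul_zero, add_zero] at this
  rcases mul_eq_zero.mp this.symm with h1 | h1
  · exact h1
  · exact absurd (σ.map_eq_zero_iff.mp h1) ha

theorem Bor.inv {x : X} (h : Bor b x) : Bor b x⁻¹ := fun m => by
  have := h (x⁻¹ • m)
  rw [smul_inv_smul] at this
  exact this.symm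

theorem Bor.mul {x y : X} (hx : Bor b x) (hy : Bor b y) : Bor b (x * y) := fun m => by
  rw [mul_smul, hx, hy]

/-- the root group is normalised by the stabiliser of the point -/
theorem conj_up (h : NatC F L e a b) (h2 : ∀ m : M, m + m = 0) {x : X} (hx : Bor b x) (t : F) :
    ∃ t' : F, x * (e (up t) : X) * x⁻¹ = e (up t') := by
  refine h.mem_up_of_fix fun m hm => ?_
  have h1 : b (x⁻¹ • m) = 0 := (hx.inv m).mpr hm
  have h3 : (e (up t) : X) • (x⁻¹ • m) = x⁻¹ • m := by
    by_cases ht : t = 0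
    · rw [ht, up_zero, map_one]; exact one_smul _ _
    · exact (h.up_fix h2 ht).mpr h1
  rw [mul_smul, mul_smul, h3, smul_inv_smul]
  exact ⟨rfl, hm⟩

/-- `C_X(U) ≤ U` -/
theorem cent_up (h : NatC F L e a b) {x : X} (hx : ∀ t : F, x * (e (up t) : X) = (e (up t) : X) * x) :
    ∃ t : F, x = e (up t) := by
  obtain ⟨σ, g, hg⟩ := h.semi x
  have key : ∀ (t : F) (m : M), a (x • ((e (up t) : X) • m)) = a ((e (up t) : X) • (x • m)) ∧
      b (x • ((e (up t) : X) • m)) = b ((e (up t) : X) • (x • m)) := by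
    intro t m
    rw [← mul_smul, ← mul_smul, hx t]
    exact ⟨rfl, rfl⟩
  obtain ⟨m, hm1, hm2⟩ := h.surj 0 1
  have k : ∀ t : F, g 0 0 * σ t + g 0 1 = g 0 1 + t * g 1 1 ∧ g 1 0 * σ t + g 1 1 = g 1 1 := by
    intro t
    have h1 := key t m
    rw [(hg _).1, (hg _).2, (h.up_act t _).1, (h.up_act t _).2, (h.up_act t _).1, (h.up_act t _).2,
      (hg m).1, (hg m).2, hm1, hm2, map_zero, map_one, map_add, map_mul, map_one, map_zero] at h1
    simpa using h1
  have h10 : g 1 0 = 0 := by
    have := (k 1).2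
    rw [map_one, mul_one] at this
    simpa using this
  have h3 : ∀ t, g 0 0 * σ t = t * g 1 1 := by
    intro t
    have := (k t).1
    rw [add_comm (g 0 1)] at this
    exact add_right_cancel this
  have h00 : g 0 0 = g 1 1 := by have := h3 1; rwa [map_one, mul_one, one_mul] at this
  have hd : g 0 0 * g 0 0 = 1 := by have := det g; rw [h10, ← h00] at this; simpa using this
  have h1 : g 0 0 = 1 := by
    have h4 : (g 0 0 - 1) * (g 0 0 - 1) = 0 := by
      have : (g 0 0 - 1) * (g 0 0 - 1) = g 0 0 * g 0 0 - (g 0 0 + g 0 0) + 1 := by ring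
      rw [this, hd, CharTwo.add_self_eq_zero, sub_zero, CharTwo.add_self_eq_zero]
    have h5 := mul_self_eq_zero.mp h4
    exact sub_eq_zero.mp h5
  refine h.mem_up_of_fix fun n hn => ?_
  have h6 := h3 (a n)
  rw [← h00, h1, one_mul, mul_one] at h6
  rw [(hg n).1, (hg n).2, hn, h10, h1, h6]
  simp

end NatC

end Cfsg.Agent.OddCyclic.EN.Nat
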