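import Cfsg.Agent.OddCyclic.BTwoLin.Three

/-!
# (f3) for a four-group `{1, p, q, pq}`

`not_three`: `Q` a 2-group normalised by `C(p)`, `Q` moves `q` inside `{q, pq}`, some element centralises `q` and moves
`p` to `pq`: no element of order 3 in `C(p) ∩ C(q)`.
-/

set_option autoImplicit false
set_option linter.dupNamespace false
set_option linter.unusedSectionVars false

namespace Cfsg.Agent.OddCyclic.EN.NotThreeG

open Subgroup Cfsg Cfsg.Agent.OddCyclic.BTwoLin.Three
open Cfsg.Agent.OddCyclic.T1Defs (OddCyc)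
open Cfsg.Agent.ZN.Block (conj_mem_of_normalizer conj_mem_of_normalizer' le_normalizer_of_forall
  mem_normalizer_of)

variable {G : Type*} [Group G] {p q : G}

/-- the four-group -/
def four (p q : G) (hpp : p * p = 1) (hqq : q * q = 1) (hpq : p * q = q * p) : Subgroup G where
  carrier := {v | v = 1 ∨ v = p ∨ v = q ∨ v = p * q}
  mul_mem' := by
    have h1 : q * (p * q) = p := by rw [← mul_assoc, ← hpq, mul_assoc, hqq, mul_one]
    have h2 : p * (p * q) = q := by rw [← mul_assoc, hpp, one_mul]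
    have h3 : p * q * p = q := by rw [hpq, mul_assoc, hpp, mul_one]
    have h4 : p * q * q = p := by rw [mul_assoc, hqq, mul_one]
    have h5 : p * q * (p * q) = 1 := by rw [← mul_assoc, h3, hqq]
    rintro a b (rfl | rfl | rfl | rfl) (rfl | rfl | rfl | rfl)
    · simp
    · simp
    · simp
    · simp
    · simp
    · left; exact hpp
    · right; right; right; rfl
    · right; right; left; exact h2
    · simp
    · right; right; right; exact hpq.symm
    · left; exact hqq
    · right; left; exact h1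
    · simp
    · right; right; left; exact h3
    · right; left; exact h4
    · left; exact h5
  one_mem' := Or.inl rfl
  inv_mem' := by
    have h3 : p * q * p = q := by rw [hpq, mul_assoc, hpp, mul_one]
    have h5 : p * q * (p * q) = 1 := by rw [← mul_assoc, h3, hqq]
    rintro a (rfl | rfl | rfl | rfl)
    · simp
    · right; left; exact inv_eq_of_mul_eq_one_right hpp
    · right; right; left; exact inv_eq_of_mul_eq_one_right hqq
    · right; right; right; exact inv_eq_of_mul_eq_one_right h5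

variable [Finite G]

theorem not_three (hc : OddCyc G) (hpp : p * p = 1) (hqq : q * q = 1) (hpq : p * q = q * p) (hp1 : p ≠ 1)
    (hq1 : q ≠ 1) (hne : p ≠ q) {Q : Subgroup G} (hQ : IsPGroup 2 Q) (hQC : Q ≤ centralizer ({p} : Set G))
    (hQn : centralizer ({p} : Set G) ≤ normalizer (Q : Set G))
    (hQq : ∀ s ∈ Q, s * q * s⁻¹ = q ∨ s * q * s⁻¹ = p * q) {w0 : G} (hw0 : w0 ∈ Q) (hw0q : w0 * q * w0⁻¹ = p * q)
    {w : G} (hwq : w * q = q * w) (hwp : w * p * w⁻¹ = p * q) {x : G} (hxp : x * p = p * x) (hxq : x * q = q * x) :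
    orderOf x ≠ 3 := by
  intro ho
  obtain ⟨V, hVd⟩ : ∃ V : Subgroup G, V = four p q hpp hqq hpq := ⟨_, rfl⟩
  have hV : ∀ v, v ∈ V ↔ (v = 1 ∨ v = p ∨ v = q ∨ v = p * q) := fun v => by rw [hVd]; exact Iff.rfl
  have hpV : p ∈ V := (hV p).2 (Or.inr (Or.inl rfl))
  have hqV : q ∈ V := (hV q).2 (Or.inr (Or.inr (Or.inl rfl)))
  have hpq1 : p * q ≠ 1 := fun e => hne (by
    have := inv_eq_of_mul_eq_one_right e
    rw [← this]; exact (inv_eq_of_mul_eq_one_right hpp).symm)
  have hpqp : p * q ≠ p := fun e => hq1 (mul_left_cancel (e.trans (mul_one p).symm))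
  have hpqq : p * q ≠ q := fun e => hp1 (mul_right_cancel (e.trans (one_mul q).symm))
  have hx3 : x ^ 3 = 1 := by rw [← ho]; exact pow_orderOf_eq_one x
  have hxC : x ∈ centralizer ({p} : Set G) := mem_centralizer_singleton_iff.2 hxp
  -- commutation facts
  have hcent : ∀ {g : G}, g * p * g⁻¹ = p → g * q * g⁻¹ = q → g ∈ centralizer (V : Set G) := by
    intro g h1 h2
    have h3 : g * p = p * g := mul_inv_eq_iff_eq_mul.1 h1
    have h4 : g * q = q * g := mul_inv_eq_iff_eq_mul.1 h2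
    refine mem_centralizer_iff.mpr fun v hv => ?_
    rcases (hV v).1 hv with rfl | rfl | rfl | rfl
    · simp
    · exact h3.symm
    · exact h4.symm
    · rw [mul_assoc, ← h4, ← mul_assoc, ← h3, mul_assoc]
  have hnorm : ∀ {g : G}, g * p * g⁻¹ ∈ V → g * q * g⁻¹ ∈ V → g ∈ normalizer (V : Set G) := by
    intro g h1 h2
    have h3 : V ≤ V.comap (MulAut.conj g).toMonoidHom := by
      intro v hv
      rw [mem_comap]
      change g * v * g⁻¹ ∈ V
      rcases (hV v).1 hv with rfl | rfl | rfl | rfl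
      · simp
      · exact h1
      · exact h2
      · rw [cj_mul' (a := g) (v := p) (w := q) rfl rfl]; exact mul_mem h1 h2
    have h4 : V.map (MulAut.conj g).toMonoidHom ≤ V := map_le_iff_le_comap.2 h3
    have h5 : V.map (MulAut.conj g).toMonoidHom = V := by
      refine eq_of_le_of_card_ge h4 ?_
      rw [Subgroup.card_map_of_injective (MulAut.conj g).injective]
    rw [mem_normalizer_iff]
    intro v
    constructor
    · intro hv; exact h3 hv
    · intro hv
      have h6 : g * v * g⁻¹ ∈ V.map (MulAut.conj g).toMonoidHom := by rw [h5]; exact hv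
      obtain ⟨u, hu, hue⟩ := h6
      have h7 : g * u * g⁻¹ = g * v * g⁻¹ := hue
      have h8 : u = v := mul_left_cancel (mul_right_cancel h7)
      rw [← h8]; exact hu
  have hw0C := mem_centralizer_singleton_iff.1 (hQC hw0)
  have f1 : w0 * p * w0⁻¹ = p := mul_inv_eq_iff_eq_mul.2 hw0C
  have f2 : w0 * q * w0⁻¹ = p * q := hw0q
  have f3 : w0 * (p * q) * w0⁻¹ = q := by rw [cj_mul' f1 f2, ← mul_assoc, hpp, one_mul]
  have g1 : w * q * w⁻¹ = q := mul_inv_eq_iff_eq_mul.2 hwq
  have g3 : w * (p * q) * w⁻¹ = p := by rw [cj_mul' hwp g1, mul_assoc, hqq, mul_one]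
  -- an element interchanging `p` and `q`
  obtain ⟨w1, e1, e2⟩ : ∃ w1 : G, w1 * p * w1⁻¹ = q ∧ w1 * q * w1⁻¹ = p := by
    refine ⟨w0 * w * w0⁻¹, ?_, ?_⟩
    · exact cj_mul (cj_inv f1) (cj_mul hwp f3)
    · exact cj_mul (cj_inv f3) (cj_mul g3 f1)
  have hpqV : p * q ∈ V := mul_mem hpV hqV
  obtain ⟨s, hsQ, hsK, hsx⟩ := exists_fixed (Q := Q) (K := Q ⊓ centralizer (V : Set G)) hQ inf_le_left (by
      rw [relIndex_eq_two_iff]
      refine ⟨w0, hw0, fun b hb => ?_⟩
      have hb1 : b * p * b⁻¹ = p := mul_inv_eq_iff_eq_mul.2 (mem_centralizer_singleton_iff.1 (hQC hb))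
      rcases hQq b hb with hb2 | hb2
      · right
        refine ⟨⟨hb, hcent hb1 hb2⟩, fun h1 => hpqq ?_⟩
        have h2 := mem_centralizer_iff.1 h1.2 q hqV
        have h3 : (b * w0) * q * (b * w0)⁻¹ = q := by rw [← h2]; group
        have hb3 : b * (p * q) * b⁻¹ = p * q := by rw [cj_mul' hb1 hb2]
        exact (cj_mul (b := w0) (a := b) f2 hb3).symm.trans h3
      · left
        refine ⟨⟨mul_mem hb hw0, hcent (cj_mul f1 hb1) (cj_mul f2 ?_)⟩, fun h1 => hpqq ?_⟩
        · rw [cj_mul' hb1 hb2, ← mul_assoc, hpp, one_mul]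
        · have h2 := mem_centralizer_iff.1 h1.2 q hqV
          have h3 : b * q * b⁻¹ = q := by rw [← h2]; group
          exact hb2.symm.trans h3) hx3
    (fun g hg => conj_mem_of_normalizer hQn hxC hg)
    (fun g hg hg' => Subgroup.mem_inf.2 ⟨hg, by
      have e : g = x⁻¹ * (x * g * x⁻¹) * x := by group
      have hx' : x ∈ centralizer (V : Set G) :=
        hcent (mul_inv_eq_iff_eq_mul.2 hxp) (mul_inv_eq_iff_eq_mul.2 hxq)
      rw [e]
      exact mul_mem (mul_mem (inv_mem hx') hg'.2) hx'⟩)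
  have s1 : s * p * s⁻¹ = p := mul_inv_eq_iff_eq_mul.2 (mem_centralizer_singleton_iff.1 (hQC hsQ))
  have s2 : s * q * s⁻¹ = p * q := by
    rcases hQq s hsQ with e | e
    · exact absurd ⟨hsQ, hcent s1 e⟩ hsK
    · exact e
  have y1 : (w0 * w1) * p * (w0 * w1)⁻¹ = p * q := cj_mul e1 f2
  have y2 : (w0 * w1) * q * (w0 * w1)⁻¹ = p := cj_mul e2 f1
  have hyN : w0 * w1 ∈ normalizer (V : Set G) := hnorm (by rw [y1]; exact hpqV) (by rw [y2]; exact hpV)
  have hsN : s ∈ normalizer (V : Set G) := hnorm (by rw [s1]; exact hpV) (by rw [s2]; exact hpqV)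
  have hxN : x ∈ normalizer (V : Set G) := hnorm (by rw [hxp, mul_inv_cancel_right]; exact hpV)
    (by rw [hxq, mul_inv_cancel_right]; exact hqV)
  have y3 : (w0 * w1) * (p * q) * (w0 * w1)⁻¹ = q := by
    rw [cj_mul' y1 y2, hpq, mul_assoc, hpp, mul_one]
  have s3 : s * (p * q) * s⁻¹ = q := by
    rw [cj_mul' s1 s2, ← mul_assoc, hpp, one_mul]
  set φ := V.normalizerMonoidHom with hφ
  have hker : ∀ g : normalizer (V : Set G), φ g = 1 ↔ (g : G) ∈ centralizer (V : Set G) := by
    intro g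
    rw [← MonoidHom.mem_ker, hφ, normalizerMonoidHom_ker, mem_subgroupOf]
  have hφeq : ∀ a b : normalizer (V : Set G), (a : G) * p * (a : G)⁻¹ = b * p * (b : G)⁻¹ →
      (a : G) * q * (a : G)⁻¹ = b * q * (b : G)⁻¹ → φ a = φ b := by
    intro a b h1 h2
    have h3 : φ (b⁻¹ * a) = 1 := by
      rw [hker]
      refine hcent ?_ ?_
      · exact cj_mul (b := (a : G)) (a := (b : G)⁻¹) h1 (cj_inv rfl)
      · exact cj_mul (b := (a : G)) (a := (b : G)⁻¹) h2 (cj_inv rfl)
    rw [map_mul, map_inv, inv_mul_eq_one] at h3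
    exact h3.symm
  have hone : ∀ g : normalizer (V : Set G), (g : G) * (g : G) ∈ centralizer (V : Set G) →
      (∃ k : ℕ, g ^ 3 ^ k = 1) → φ g = 1 := by
    rintro g hg ⟨k, hk⟩
    have h1 : φ g ^ 2 = 1 := by
      rw [pow_two, ← map_mul, hker]; exact hg
    have h2 : φ g ^ 3 ^ k = 1 := by rw [← map_pow, hk, map_one]
    have h3 : orderOf (φ g) ∣ Nat.gcd 2 (3 ^ k) := Nat.dvd_gcd (orderOf_dvd_of_pow_eq_one h1) (orderOf_dvd_of_pow_eq_one h2)
    have h4 : Nat.gcd 2 (3 ^ k) = 1 := Nat.Coprime.pow_right k (by norm_num)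
    rw [h4, Nat.dvd_one] at h3
    exact orderOf_eq_one_iff.1 h3
  refine false_of_comm (CompBasic.oddCyc_subgroup hc (normalizer (V : Set G)) : OddCyc (normalizer (V : Set G))) φ
    (x := ⟨x, hxN⟩) (s := ⟨s, hsN⟩) (y₀ := ⟨w0 * w1, hyN⟩) ?_ ?_ ?_ ?_ ?_ ?_
  · rw [← Subgroup.orderOf_coe]; exact ho
  · exact Subtype.ext hsx
  · rw [← map_mul, ← map_mul, ← map_one φ]
    refine hφeq _ _ ?_ ?_
    · exact (cj_mul (a := w0 * w1 * (w0 * w1)) (b := w0 * w1) y1 (cj_mul y3 y2)).trans (by simp)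
    · exact (cj_mul (a := w0 * w1 * (w0 * w1)) (b := w0 * w1) y2 (cj_mul y1 y3)).trans (by simp)
  · intro h1
    rw [hker] at h1
    have h2 := mem_centralizer_iff.1 h1 p hpV
    have h3 : w0 * w1 * p * (w0 * w1)⁻¹ = p := mul_inv_eq_iff_eq_mul.2 h2.symm
    exact hpqp (y1.symm.trans h3)
  · rw [← map_mul, ← map_inv, ← map_mul, ← map_inv]
    refine hφeq _ _ ?_ ?_
    · refine (cj_mul (a := s * (w0 * w1)) (b := s⁻¹) (cj_inv s1) (cj_mul y1 s3)).trans ?_
      exact (cj_inv y2).symm
    · refine (cj_mul (a := s * (w0 * w1)) (b := s⁻¹) (cj_inv s3) (cj_mul y3 s2)).trans ?_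
      exact (cj_inv y3).symm
  · intro g hg
    have hgN : (g : G) ∈ normalizer (V : Set G) := g.2
    have hgz : (g : G) * p * (g : G)⁻¹ ∈ V := (mem_normalizer_iff.mp hgN p).mp hpV
    have hgq : (g : G) * q * (g : G)⁻¹ ∈ V := (mem_normalizer_iff.mp hgN q).mp hqV
    have hinj : ∀ {a b : G}, (g : G) * a * (g : G)⁻¹ = g * b * (g : G)⁻¹ → a = b := by
      intro a b e
      exact mul_left_cancel (mul_right_cancel e)
    have hz1 : (g : G) * p * (g : G)⁻¹ ≠ 1 := fun e => hp1 (hinj (by rw [e]; group))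
    have hq1' : (g : G) * q * (g : G)⁻¹ ≠ 1 := fun e => hq1 (hinj (by rw [e]; group))
    rcases (hV _).1 hgz with e | e | e | e
    · exact absurd e hz1
    · -- fixes `p`
      rcases (hV _).1 hgq with e' | e' | e' | e'
      · exact absurd e' hq1'
      · exact absurd (hinj (e.trans e'.symm)) hne
      · have h1 : φ g = 1 := (hker g).2 (hcent e e')
        rw [h1]; exact one_mem _
      · have h1 : φ g = 1 := hone g (hcent (cj_mul e e) (cj_mul e' (by
          rw [cj_mul' e e', ← mul_assoc, hpp, one_mul]))) hg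
        rw [h1]; exact one_mem _
    · rcases (hV _).1 hgq with e' | e' | e' | e'
      · exact absurd e' hq1'
      · have h1 : φ g = 1 := hone g (hcent (cj_mul e e') (cj_mul e' e)) hg
        rw [h1]; exact one_mem _
      · exact absurd (hinj (e.trans e'.symm)) hne
      · have h1 : φ g = φ (⟨w0 * w1, hyN⟩⁻¹) := by
          refine hφeq _ _ ?_ ?_
          · rw [e]; exact (cj_inv y2).symm
          · rw [e']; exact (cj_inv y3).symm
        rw [h1, map_inv]; exact inv_mem (mem_zpowers _)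
    · rcases (hV _).1 hgq with e' | e' | e' | e'
      · exact absurd e' hq1'
      · have h1 : φ g = φ (⟨w0 * w1, hyN⟩) := by
          refine hφeq _ _ ?_ ?_
          · rw [e]; exact y1.symm
          · rw [e']; exact y2.symm
        rw [h1]; exact mem_zpowers _
      · have h1 : φ g = 1 := by
          refine hone g (hcent (cj_mul e ?_) (cj_mul e' e')) hg
          rw [cj_mul' e e', mul_assoc, hqq, mul_one]
        rw [h1]; exact one_mem _
      · exact absurd (hinj (e.trans e'.symm)) hne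

end Cfsg.Agent.OddCyclic.EN.NotThreeG
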