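import Mathlib
import Cfsg.Agent.OddCyclic.EN.OneGen
import Cfsg.Agent.OddCyclic.EN.OneEnd

/-!
# `n = 1`, type (A_4): `C(z)/kq V z ≅ S₅` (8.5 - 8.7 of helper217's blueprint S0342-Bb, part III)

* `exists_of_even`: the image of `Ls` is `A₅`;
* `dv_index`: `|Q : {k ∈ Q | [k, v] ∈ ws V z}| ≤ 8` for `v ∈ ws V x`;
* `comm_cq`: `[C_Q(W), Ls] ≤ W`;
* `le_ws`: (TR) `ws V x ∩ C(ws V z) ≤ ws V z`;
* `cent`: `C_M(A₅) = 0`.
-/

set_option autoImplicit false
set_option linter.unusedSectionVars false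
set_option linter.style.haveILetI false

namespace Cfsg.Agent.OddCyclic.EN.OneFour

open Subgroup Cfsg Cfsg.Agent.ZN Cfsg.Agent.MinSimple.Geo Cfsg.Agent.OddCyclic.GeoC Cfsg.Agent.OddCyclic.BTwoA
  Cfsg.Agent.OddCyclic.EN.Line Cfsg.Agent.OddCyclic.EN.Base Cfsg.Agent.OddCyclic.EN.RepM
  Cfsg.Agent.MinSimple.SecRep Cfsg.Agent.OddCyclic.EN.OneCount Cfsg.Agent.OddCyclic.EN.BbDefs
  Cfsg.Agent.OddCyclic.EN.OneGen
open Cfsg.Agent.ZN.Block (conj_mem_of_normalizer conj_mem_of_normalizer' le_normalizer_of_forall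
  mem_normalizer_of)
open Cfsg.Agent.OddCyclic.GamPerm (S5 O3 K4)
open Equiv (Perm)
open scoped commutatorElement

universe u

variable {G : Type u} [Group G] [Finite G] {T V Ls : Subgroup G} {z x : G} {M X : Type u} [AddCommGroup M] [Group X]
  [DistribMulAction X M]

/-! ### `S₅` -/

theorem exists_five : ∀ t : S5, t * t = 1 → Perm.sign t = 1 → t ≠ 1 → ∃ c : S5, Perm.sign c = 1 ∧
    (t * (c * t * c⁻¹)) ^ 5 = 1 ∧ t * (c * t * c⁻¹) ≠ 1 := by
  decide +kernel

theorem five_move : ∀ y : S5, y ^ 5 = 1 → y ≠ 1 → ∀ j : Fin 5, y j ≠ j := by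
  decide +kernel

theorem rn (H K : Subgroup G) : H.relIndex K ≠ 0 := Subgroup.index_ne_zero_of_finite

/-- at most two cosets -/
theorem relIndex_le_two {H K : Subgroup G} (hH : ∀ a ∈ K, ∀ b ∈ K, a ∉ H → b ∉ H → a⁻¹ * b ∈ H) :
    H.relIndex K ≤ 2 := by
  by_cases hle : K ≤ H
  · rw [relIndex_eq_one.mpr hle]; norm_num
  obtain ⟨b, hb, hbH⟩ := Set.not_subset.mp hle
  have hs : Function.Surjective (fun i : Fin 2 => if i = 0 then (QuotientGroup.mk (1 : K) : K ⧸ H.subgroupOf K)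
      else QuotientGroup.mk (⟨b, hb⟩ : K)) := by
    intro q
    obtain ⟨k, rfl⟩ := QuotientGroup.mk_surjective q
    by_cases hk : (k : G) ∈ H
    · refine ⟨0, ?_⟩
      simp only [if_true]
      rw [QuotientGroup.eq, mem_subgroupOf]
      simpa using hk
    · refine ⟨1, ?_⟩
      simp only [one_ne_zero, if_false]
      rw [QuotientGroup.eq, mem_subgroupOf]
      exact hH b hb k k.2 hbH hk
  have h1 := Nat.card_le_card_of_surjective _ hs
  rw [Nat.card_fin] at h1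
  exact h1

/-! ### the image of `Ls` -/

/-- the image of `Ls` is perfect -/
theorem sign_rho (hL : LsD V Ls z) (R : Rep V z M X) (e : X ≃* S5) {g : G} (hg : g ∈ Ls) :
    Perm.sign (e (R.rho g)) = 1 := by
  let K : Subgroup G :=
    { carrier := {g | g ∈ centralizer ({z} : Set G) ∧ Perm.sign (e (R.rho g)) = 1}
      mul_mem' := by
        rintro a b ⟨ha, ha1⟩ ⟨hb, hb1⟩
        exact ⟨mul_mem ha hb, by rw [R.rho_mul a ha b hb, map_mul, map_mul, ha1, hb1, one_mul]⟩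
      one_mem' := ⟨one_mem _, by rw [R.rho_one, map_one, map_one]⟩
      inv_mem' := by
        rintro a ⟨ha, ha1⟩
        exact ⟨inv_mem ha, by rw [R.rho_inv ha, map_inv, map_inv, ha1, inv_one]⟩ }
  have hle : ⁅Ls, Ls⁆ ≤ K := by
    rw [commutator_le]
    intro g hg g' hg'
    have h1 := hL.le hg
    have h2 := hL.le hg'
    refine ⟨?_, ?_⟩
    · rw [commutatorElement_def]
      exact mul_mem (mul_mem (mul_mem h1 h2) (inv_mem h1)) (inv_mem h2)
    · rw [commutatorElement_def, R.rho_mul _ (mul_mem (mul_mem h1 h2) (inv_mem h1)) _ (inv_mem h2),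
        R.rho_mul _ (mul_mem h1 h2) _ (inv_mem h1), R.rho_mul _ h1 _ h2, R.rho_inv h1, R.rho_inv h2]
      simp only [map_mul, map_inv]
      rw [mul_comm (Perm.sign (e (R.rho g))), mul_inv_cancel_right, mul_inv_cancel]
  rw [← hL.perf] at hg
  exact (hle hg).2

/-- `Ls` covers `A₅` -/
theorem exists_of_even (hL : LsD V Ls z) (R : Rep V z M X) (e : X ≃* S5) {y : X} (hy : Perm.sign (e y) = 1) :
    ∃ g ∈ Ls, R.rho g = y := by
  have hev : ∀ g ∈ Ls, Perm.sign (e (R.rho g)) = 1 := fun g hg => sign_rho hL R e hg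
  -- the image as a subgroup of `A₅`
  have hfX : Finite X := R.finite_right
  let N : Subgroup S5 := (R.img Ls).map e.toMonoidHom
  have hNle : N ≤ alternatingGroup (Fin 5) := by
    rintro _ ⟨g, hg, rfl⟩
    obtain ⟨c, hc, rfl⟩ := (R.mem_img hL.le).mp hg
    exact (Perm.mem_alternatingGroup).mpr (hev c hc)
  have hNn : N.Normal := by
    constructor
    rintro _ ⟨g, hg, rfl⟩ p
    obtain ⟨c, hc, rfl⟩ := (R.mem_img hL.le).mp hg
    obtain ⟨d, hd, hd2⟩ := R.rho_surj (e.symm p)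
    refine ⟨R.rho (d * c * d⁻¹), R.rho_mem_img hL.le (conj_mem_of_normalizer hL.norm hd hc), ?_⟩
    change e (R.rho (d * c * d⁻¹)) = p * e (R.rho c) * p⁻¹
    rw [R.rho_conj hd (hL.le hc), map_mul, map_mul, map_inv, hd2, e.apply_symm_apply]
  have hs : IsSimpleGroup (alternatingGroup (Fin 5)) := alternatingGroup.isSimpleGroup (by simp)
  have hn' : (N.subgroupOf (alternatingGroup (Fin 5))).Normal := hNn.subgroupOf _
  rcases hs.eq_bot_or_eq_top_of_normal _ hn' with e1 | e1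
  · exfalso
    apply hL.nt
    intro g hg
    rw [← Rep.rho_eq_one R (hL.le hg)]
    have h1 : e (R.rho g) ∈ N := ⟨R.rho g, R.rho_mem_img hL.le hg, rfl⟩
    have h2 : (⟨e (R.rho g), hNle h1⟩ : alternatingGroup (Fin 5)) ∈ N.subgroupOf (alternatingGroup (Fin 5)) := h1
    rw [e1, mem_bot] at h2
    have h3 : e (R.rho g) = 1 := congrArg Subtype.val h2
    exact e.injective (by rw [h3, map_one])
  · have h1 : (⟨e y, Perm.mem_alternatingGroup.mpr hy⟩ : alternatingGroup (Fin 5)) ∈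
        N.subgroupOf (alternatingGroup (Fin 5)) := by rw [e1]; exact mem_top _
    obtain ⟨g, hg, hg2⟩ := h1
    obtain ⟨c, hc, rfl⟩ := (R.mem_img hL.le).mp hg
    exact ⟨c, hc, e.injective hg2⟩

/-! ### counting -/

/-- `|P : P ∩ kq V z| ≤ 8` for 2-subgroups of `C(z)` -/
theorem relIndex_kq_le (R : Rep V z M X) (e : X ≃* S5) {P : Subgroup G} (hP : IsPGroup 2 P)
    (hPC : P ≤ centralizer ({z} : Set G)) : (kq V z).relIndex P ≤ 8 := by
  have hfX : Finite X := R.finite_right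
  let f : P →* X := R.hom.comp (Subgroup.inclusion hPC)
  have hker : f.ker = (kq V z).subgroupOf P := by
    ext k
    rw [MonoidHom.mem_ker, mem_subgroupOf]
    exact Rep.rho_eq_one R (hPC k.2)
  have h1 : (kq V z).relIndex P = Nat.card f.range := by
    rw [← Subgroup.index_ker, hker]; rfl
  have h2 : IsPGroup 2 f.range := by
    have := hP.of_surjective f.rangeRestrict f.rangeRestrict_surjective
    exact this
  obtain ⟨k, hk⟩ := IsPGroup.iff_card.mp h2
  have hX : Nat.card X = 120 := by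
    rw [Nat.card_congr e.toEquiv, Nat.card_eq_fintype_card, Fintype.card_perm, Fintype.card_fin]; rfl
  have h3 : 2 ^ k ∣ 120 := by
    rw [← hk, ← hX]; exact Subgroup.card_subgroup_dvd_card _
  rw [h1, hk]
  have h4 : k ≤ 3 := by
    by_contra hcon
    have h5 : (2 : ℕ) ^ 4 ∣ 2 ^ k := pow_dvd_pow 2 (by omega)
    have h6 := h5.trans h3
    omega
  calc 2 ^ k ≤ 2 ^ 3 := Nat.pow_le_pow_right (by norm_num) h4
    _ = 8 := by norm_num

theorem relIndex_kq_le' (R : Rep V z M X) (e : X ≃* S5) {p : G} (hp : Pt z p) {P : Subgroup G} (hP : IsPGroup 2 P)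
    (hPC : P ≤ centralizer ({p} : Set G)) : (kq V p).relIndex P ≤ 8 := by
  obtain ⟨g, rfl⟩ := hp
  have h1 : P = cj g (cj g⁻¹ P) := (cj_cj_inv g P).symm
  rw [← Base.cj_kq, h1, relIndex_cj]
  refine relIndex_kq_le R e ?_ ?_
  · exact hP.map _
  · have h2 := cj_mono (g := g⁻¹) hPC
    rw [cj_centralizer_singleton] at h2
    have e3 : g⁻¹ * (g * z * g⁻¹) * g⁻¹⁻¹ = z := by group
    rwa [e3] at h2

/-- `|Q : {k ∈ Q | [k, v] ∈ ws V z}| ≤ 8` -/
theorem dv_index (h : Ab T V z) (R : Rep V z M X) (e : X ≃* S5) (hx : x ∈ V) (hx1 : x ≠ 1)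
    (hne : ¬ ws V z ≤ kq V x) {v : G} (hv : v ∈ ws V x) :
    (dv (o2 (centralizer ({z} : Set G))) (ws V z) v).relIndex (o2 (centralizer ({z} : Set G))) ≤ 8 := by
  set Q := o2 (centralizer ({z} : Set G)) with hQ
  have hQC : Q ≤ centralizer ({z} : Set G) := o2_le _
  have hW : centralizer ({z} : Set G) ≤ normalizer ((ws V z : Subgroup G) : Set G) :=
    Cfsg.Agent.MinSimple.Geo.centralizer_le_normalizer_ws V z
  have hQkq : Q ≤ kq V z := o2_le_kq h.toGeoC
  have hxp : Pt z x := pt_of_mem h.toGeoC hx hx1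
  have hxW : x ∈ ws V z := h.V_le_ws hx
  have hvC : v ∈ centralizer ({z} : Set G) := by
    have := h.ws_le_centralizer_V hx hx1 hv
    rw [mem_centralizer_singleton_iff]
    exact (mem_centralizer_iff.mp this z h.z_mem).symm
  set P := Q ⊓ centralizer ({x} : Set G) with hPdef
  have hP2 : IsPGroup 2 P := (isPGroup_o2 _).to_le inf_le_left
  set E := dv Q (ws V z) v with hE
  have hEQ : E ≤ Q := dv_le _ _ _
  have hzx : zpowers x ≤ ws V z := zpowers_le.mpr hxW
  have h1 : P ⊓ kq V x ≤ E ⊓ P := by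
    rintro k ⟨hk, hk2⟩
    refine ⟨⟨hk.1, hW (hQC hk.1), hzx ?_⟩, hk⟩
    exact (mem_kq'.mp hk2).2.1 v hv
  have hWP : ws V z ≤ E ⊓ P := by
    intro w hw
    have hwQ : w ∈ Q := h.toGeoC.ws_le_o2 hw
    refine ⟨⟨hwQ, hW (hQC hwQ), ?_⟩, hwQ, ?_⟩
    · have e1 : w * v * w⁻¹ * v⁻¹ = w * (v * w⁻¹ * v⁻¹) := by group
      rw [e1]
      exact mul_mem hw (conj_mem_of_normalizer hW hvC (inv_mem hw))
    · exact mem_centralizer_singleton_iff.mpr (h.ab w hw x hxW)
  have h2 : (P ⊓ kq V x).relIndex (E ⊓ P) * (E ⊓ P).relIndex P = (P ⊓ kq V x).relIndex P :=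
    relIndex_mul_relIndex _ _ _ h1 inf_le_right
  have h3 : (P ⊓ kq V x).relIndex P ≤ 8 := by
    rw [inf_relIndex_left]
    exact relIndex_kq_le' R e hxp hP2 inf_le_right
  have h4 : 2 ≤ (P ⊓ kq V x).relIndex (E ⊓ P) := by
    have h5 : (P ⊓ kq V x).relIndex (E ⊓ P) ≠ 1 := by
      rw [Ne, relIndex_eq_one]
      intro hle
      exact hne (hWP.trans (hle.trans inf_le_right))
    have h6 : (P ⊓ kq V x).relIndex (E ⊓ P) ≠ 0 := (rn _ _)
    omega
  have h5 : (E ⊓ P).relIndex P ≤ 4 := by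
    by_contra hcon
    have h6 : 5 ≤ (E ⊓ P).relIndex P := by omega
    have h7 := Nat.mul_le_mul h4 h6
    omega
  have h6 : P.relIndex Q ≤ 2 := by
    refine relIndex_le_two fun a ha b hb haP hbP => mem_inf.mpr ⟨mul_mem (inv_mem ha) hb, ?_⟩
    have key : ∀ c ∈ Q, c ∉ P → c * x * c⁻¹ = z * x := by
      intro c hc hcP
      rcases kq_ws h.toGeoC (hQkq hc) hxW with e1 | e1
      · exfalso
        apply hcP
        refine mem_inf.mpr ⟨hc, ?_⟩
        rw [mem_centralizer_singleton_iff]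
        calc c * x = c * x * c⁻¹ * c := by group
          _ = x * c := by rw [e1]
      · exact e1
    have e1 := key a ha haP
    have e2 := key b hb hbP
    rw [mem_centralizer_singleton_iff]
    have e3 : a⁻¹ * (z * x) * a = x := by rw [← e1]; group
    calc a⁻¹ * b * x = a⁻¹ * (b * x * b⁻¹) * b := by group
      _ = (a⁻¹ * (z * x) * a) * (a⁻¹ * b) := by rw [e2]; group
      _ = x * (a⁻¹ * b) := by rw [e3]
  have h7 : (E ⊓ P).relIndex P * P.relIndex Q = (E ⊓ P).relIndex Q :=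
    relIndex_mul_relIndex _ _ _ inf_le_right inf_le_left
  calc E.relIndex Q ≤ (E ⊓ P).relIndex Q := relIndex_le_of_le_left inf_le_left (rn _ _)
    _ = (E ⊓ P).relIndex P * P.relIndex Q := h7.symm
    _ ≤ 4 * 2 := Nat.mul_le_mul h5 h6
    _ = 8 := by norm_num

/-- a power of `u` of 5-power order with the same image -/
theorem exists_pow (R : Rep V z M X) {u : G} (hu : u ∈ centralizer ({z} : Set G)) (h5 : R.rho u ^ 5 = 1) :
    ∃ n j : ℕ, (u ^ n) ^ 5 ^ j = 1 ∧ R.rho (u ^ n) = R.rho u := by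
  have hpos : 0 < orderOf u := orderOf_pos u
  obtain ⟨j, m, hm, e⟩ := Nat.exists_eq_pow_mul_and_not_dvd hpos.ne' 5 (by norm_num)
  have hcop : Nat.Coprime (5 ^ 1) m := Nat.Coprime.pow_left 1 ((Nat.Prime.coprime_iff_not_dvd (by norm_num)).mpr hm)
  obtain ⟨n, hn1, hn2⟩ := Nat.chineseRemainder hcop 1 0
  refine ⟨n, j, ?_, ?_⟩
  · rw [← pow_mul, ← orderOf_dvd_iff_pow_eq_one, e, mul_comm n]
    exact Nat.mul_dvd_mul_left _ (Nat.modEq_zero_iff_dvd.mp hn2)
  · rw [R.rho_pow hu]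
    have h1 : R.rho u ^ n = R.rho u ^ 1 := by
      rw [pow_eq_pow_iff_modEq]
      refine hn1.of_dvd (orderOf_dvd_of_pow_eq_one ?_)
      rw [pow_one]; exact h5
    rw [h1, pow_one]

/-- the hypotheses of type (A_4), `n = 1` -/
structure Hyp (T V Ls : Subgroup G) (z x : G) (R : Rep V z M X) (e : X ≃* S5) (t : X) : Prop extends Ab T V z where
  ls : LsD V Ls z
  f3 : F3 T Ls z
  x_mem : x ∈ V
  x_ne : x ≠ 1
  x_nz : x ≠ z
  t2 : t * t = 1
  t1 : t ≠ 1
  te : Perm.sign (e t) = 1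
  /-- `t` is central in the image of `T` -/
  htT : ∀ c ∈ T, t * R.rho c = R.rho c * t
  /-- the image of `ws V x` is `{1, t}` -/
  img : ∀ v ∈ ws V x, R.rho v = 1 ∨ R.rho v = t
  ne : ∃ v ∈ ws V x, R.rho v = t

namespace Hyp

variable {R : Rep V z M X} {e : X ≃* S5} {t : X}

theorem x_pt (h : Hyp T V Ls z x R e t) : Pt z x := pt_of_mem h.toGeoC h.x_mem h.x_ne

theorem ws_le_C (h : Hyp T V Ls z x R e t) : ws V x ≤ centralizer ({z} : Set G) := by
  intro v hv
  have := h.toAb.ws_le_centralizer_V h.x_mem h.x_ne hv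
  rw [mem_centralizer_singleton_iff]
  exact (mem_centralizer_iff.mp this z h.z_mem).symm

/-- an element of `N(V)` interchanging `z` and `x` -/
theorem exists_swp (h : Hyp T V Ls z x R e t) : ∃ w ∈ normalizer (V : Set G), w * z * w⁻¹ = x ∧ w * x * w⁻¹ = z := by
  obtain ⟨w, hw, h1, h2⟩ := h.toAb.exists_move h.z_mem h.x_mem h.z_ne h.x_ne (Ne.symm h.x_nz)
  have hr1 : z * x ≠ 1 := fun e => h.x_nz (by
    have := mul_eq_one_iff_eq_inv.mp e
    rw [h.inv_eq h.x_mem] at this; exact this.symm)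
  exact ⟨w, ll_le_normalizer h.toAb (kq_le_ll (mul_mem h.z_mem h.x_mem) hr1 hw), h1, h2⟩

/-- the dual of `ne` -/
theorem not_le_kq (h : Hyp T V Ls z x R e t) : ¬ ws V z ≤ kq V x := by
  intro hle
  obtain ⟨w, _, h1, h2⟩ := h.exists_swp
  have h3 := cj_mono (g := w) hle
  rw [cj_ws, h1, Base.cj_kq, h2] at h3
  obtain ⟨v, hv, hvt⟩ := h.ne
  apply h.t1
  rw [← hvt, Rep.rho_eq_one R (h.ws_le_C hv)]
  exact h3 hv

/-- the dual of `img` -/
theorem img' (h : Hyp T V Ls z x R e t) {a b : G} (ha : a ∈ ws V z) (hb : b ∈ ws V z) (hak : a ∉ kq V x)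
    (hbk : b ∉ kq V x) : a⁻¹ * b ∈ kq V x := by
  obtain ⟨w, _, h1, h2⟩ := h.exists_swp
  have key : ∀ c ∈ ws V z, c ∉ kq V x → w * c * w⁻¹ ∈ ws V x ∧ R.rho (w * c * w⁻¹) = t := by
    intro c hc hck
    have h3 : w * c * w⁻¹ ∈ ws V x := by
      rw [← h1, ← cj_ws]; exact conj_mem_cj hc
    refine ⟨h3, ?_⟩
    rcases h.img _ h3 with e1 | e1
    · exfalso
      apply hck
      rw [Rep.rho_eq_one R (h.ws_le_C h3)] at e1
      have h4 : w * c * w⁻¹ ∈ cj w (kq V x) := by rw [Base.cj_kq, h2]; exact e1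
      rw [mem_cj] at h4
      have e5 : w⁻¹ * (w * c * w⁻¹) * w = c := by group
      rwa [e5] at h4
    · exact e1
  obtain ⟨a1, a2⟩ := key a ha hak
  obtain ⟨b1, b2⟩ := key b hb hbk
  have h5 : w * (a⁻¹ * b) * w⁻¹ ∈ cj w (kq V x) := by
    rw [Base.cj_kq, h2]
    have e6 : w * (a⁻¹ * b) * w⁻¹ = (w * a * w⁻¹)⁻¹ * (w * b * w⁻¹) := by group
    have h7 := mul_mem (inv_mem (h.ws_le_C a1)) (h.ws_le_C b1)
    rw [e6, ← Rep.rho_eq_one R h7, R.rho_mul _ (inv_mem (h.ws_le_C a1)) _ (h.ws_le_C b1), R.rho_inv (h.ws_le_C a1),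
      a2, b2, inv_mul_cancel]
  rw [mem_cj] at h5
  have e5 : w⁻¹ * (w * (a⁻¹ * b) * w⁻¹) * w = a⁻¹ * b := by group
  rwa [e5] at h5

/-- a conjugate `s` of `t` under `Ls` with `ts` of order 5, and an element of `Ls` over `ts` -/
theorem exists_u (h : Hyp T V Ls z x R e t) : ∃ v ∈ ws V x, R.rho v = t ∧ ∃ g ∈ Ls,
    v * (g * v * g⁻¹) ∈ Ls ∧ (t * (R.rho g * t * (R.rho g)⁻¹)) ^ 5 = 1 ∧ t * (R.rho g * t * (R.rho g)⁻¹) ≠ 1 ∧
    R.rho (v * (g * v * g⁻¹)) = t * (R.rho g * t * (R.rho g)⁻¹) := by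
  obtain ⟨v, hv, hvt⟩ := h.ne
  obtain ⟨c, hc1, hc2, hc3⟩ := exists_five (e t) (by rw [← map_mul, h.t2, map_one]) h.te
    (fun e1 => h.t1 (e.injective (by rw [e1, map_one])))
  obtain ⟨g, hg, hgc⟩ := exists_of_even h.ls R e (y := e.symm c) (by rw [e.apply_symm_apply]; exact hc1)
  have hvC := h.ws_le_C hv
  have hgC := h.ls.le hg
  have hvv : v * v = 1 := Base.ws_sq h.toAb h.x_pt hv
  have hvi : v⁻¹ = v := inv_eq_self hvv
  refine ⟨v, hv, hvt, g, hg, ?_, ?_, ?_, ?_⟩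
  · have e1 : v * (g * v * g⁻¹) = (v * g * v⁻¹) * g⁻¹ := by rw [hvi]; group
    rw [e1]
    exact mul_mem (conj_mem_of_normalizer h.ls.norm hvC hg) (inv_mem hg)
  · apply e.injective
    rw [hgc, map_pow, map_mul, map_mul, map_mul, map_inv, e.apply_symm_apply, map_one]
    exact hc2
  · intro e1
    apply hc3
    have e2 := congrArg e e1
    rw [hgc, map_mul, map_mul, map_mul, map_inv, e.apply_symm_apply, map_one] at e2
    exact e2
  · rw [R.rho_mul v hvC _ (mul_mem (mul_mem hgC hvC) (inv_mem hgC)), R.rho_conj hgC hvC, hvt]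

/-- an element of order 5 moves `λ` -/
theorem smul_ne (h : Hyp T V Ls z x R e t) {y : X} (hy : y ^ 5 = 1) (hy1 : y ≠ 1) : y • R.pi x ≠ R.pi x := by
  intro hfix
  have hzp : Pt z z := Pt.refl z
  have hxW : x ∈ ws V z := h.V_le_ws h.x_mem
  obtain ⟨i, hi⟩ := OneMod.k4_of_even (e t) (by rw [← map_mul, h.t2, map_one]) h.te
  let H : Subgroup S5 := (MulAction.stabilizer X (R.pi x)).map e.toMonoidHom
  have hK : ∀ g, K4 i g → g ∈ H := by
    intro g hg
    have h1 : e.symm g * t = t * e.symm g := by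
      apply e.injective
      rw [map_mul, map_mul, e.apply_symm_apply]
      exact OneMod.k4_comm i (e t) hi g hg
    obtain ⟨c, hc, hc2⟩ := OneEnd.comm_le_img h.toAb R e h.t2 h.t1 h.te h.htT h1
    refine ⟨e.symm g, ?_, e.apply_symm_apply g⟩
    rw [SetLike.mem_coe, MulAction.mem_stabilizer_iff, ← hc2]
    have hcz := h.T_le hc
    rw [R.smul_pi c hcz x hxW, Rep.pi_eq_pi h.toAb hzp R (R.conj_mem hcz hxW) hxW]
    exact h.conj_cases h.z_mem h.x_mem h.z_ne (mem_centralizer_singleton_iff.mp hcz) (h.T_norm hc)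
  have hyH : e y ∈ H := ⟨y, hfix, rfl⟩
  have hmv := five_move (e y) (by rw [← map_pow, hy, map_one]) (fun e1 => hy1 (e.injective (by rw [e1, map_one]))) i
  have hall : ∀ g : X, Perm.sign (e g) = 1 → g • R.pi x = R.pi x := by
    intro g hg
    obtain ⟨g', hg', hgg⟩ := OneMod.gen hK hyH hmv hg
    have e1 : g' = g := e.injective hgg
    rw [← e1]; exact hg'
  -- `A₅` is trivial on `M`
  let N : AddSubgroup M :=
    { carrier := {m | ∀ g : X, Perm.sign (e g) = 1 → g • m = m}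
      add_mem' := by
        intro a b ha hb g hg
        rw [smul_add, ha g hg, hb g hg]
      zero_mem' := fun g _ => smul_zero g
      neg_mem' := by
        intro a ha g hg
        rw [smul_neg, ha g hg] }
  have hcol : Col V z x := col_of_mem h.toGeoC h.z_mem h.x_mem h.z_ne h.x_ne (Ne.symm h.x_nz)
  have hN : N = ⊤ := by
    refine Rep.eq_top_of_line h.toAb hzp R hcol N fun g => ?_
    intro g' hg'
    have h1 : (g⁻¹ * g' * g) • R.pi x = R.pi x := hall _ (by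
      rw [map_mul, map_mul, map_mul, map_mul, hg', mul_one, map_inv, map_inv, inv_mul_cancel])
    calc g' • g • R.pi x = g • (g⁻¹ * g' * g) • R.pi x := by
          rw [smul_smul, smul_smul]; congr 1; group
      _ = g • R.pi x := by rw [h1]
  apply h.t1
  apply R.faithful
  intro m
  have hm : m ∈ N := by rw [hN]; trivial
  exact hm t h.te

/-- **`[C_Q(W), Ls] ≤ W`** (8.5) -/
theorem comm_cq (h : Hyp T V Ls z x R e t) : ∀ c ∈ cq V z, ∀ g ∈ Ls, c * g * c⁻¹ * g⁻¹ ∈ ws V z := by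
  set Q := o2 (centralizer ({z} : Set G)) with hQ
  have hQC : Q ≤ centralizer ({z} : Set G) := o2_le _
  have hW : centralizer ({z} : Set G) ≤ normalizer ((ws V z : Subgroup G) : Set G) :=
    Cfsg.Agent.MinSimple.Geo.centralizer_le_normalizer_ws V z
  obtain ⟨v, hv, hvt, g, hg, huL, hu5, hu1, hρu⟩ := h.exists_u
  have hvC := h.ws_le_C hv
  have hgC := h.ls.le hg
  obtain ⟨u, hu⟩ : ∃ u, u = v * (g * v * g⁻¹) := ⟨_, rfl⟩
  rw [← hu] at huL hρu
  have huC := h.ls.le huL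
  obtain ⟨n, j, hy, hρy⟩ := exists_pow R huC (by rw [hρu]; exact hu5)
  obtain ⟨y, hyd⟩ : ∃ y, y = u ^ n := ⟨_, rfl⟩
  rw [← hyd] at hy hρy
  have hyL : y ∈ Ls := by rw [hyd]; exact pow_mem huL n
  have hyC := h.ls.le hyL
  -- the index of `dv Q W y`
  have h8 := dv_index h.toAb R e h.x_mem h.x_ne h.not_le_kq hv
  have h8' : (dv Q (ws V z) (g * v * g⁻¹)).relIndex Q ≤ 8 := by
    rw [relIndex_cj_dv (le_normalizer_o2 _ hgC) (hW hgC)]; exact h8
  have h64 : (dv Q (ws V z) y).relIndex Q ≤ 64 := by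
    have h1 : dv Q (ws V z) v ⊓ dv Q (ws V z) (g * v * g⁻¹) ≤ dv Q (ws V z) y := by
      refine (inf_le_dv (hW hvC)).trans ?_
      rw [hyd, ← hu]
      exact le_dv_pow (hW huC) n
    calc (dv Q (ws V z) y).relIndex Q
        ≤ (dv Q (ws V z) v ⊓ dv Q (ws V z) (g * v * g⁻¹)).relIndex Q := relIndex_le_of_le_left h1 (rn _ _)
      _ ≤ (dv Q (ws V z) v).relIndex Q * (dv Q (ws V z) (g * v * g⁻¹)).relIndex Q := relIndex_inf_le
      _ ≤ 8 * 8 := Nat.mul_le_mul h8 h8'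
      _ = 64 := by norm_num
  have hQ2 : IsPGroup 2 Q := isPGroup_o2 _
  have hcqQ : cq V z ≤ Q := inf_le_left
  have hcqn := centralizer_le_normalizer_cq V z
  have hWcq := ws_le_cq h.toAb
  -- `y ∉ kq V z`
  have hρy1 : R.rho y ≠ 1 := by rw [hρy, hρu]; exact hu1
  have hyk : y ∉ kq V z := fun hk => hρy1 ((Rep.rho_eq_one R hyC).mpr hk)
  have hρy5 : R.rho y ^ 5 = 1 := by rw [hρy, hρu]; exact hu5
  have hρyy : R.rho y * R.rho y ≠ 1 := by
    intro e1
    apply hρy1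
    have e2 : R.rho y ^ 5 = (R.rho y * R.rho y) * (R.rho y * R.rho y) * R.rho y := by
      simp only [pow_succ, pow_zero, one_mul, mul_assoc]
    rw [e2, e1, one_mul, one_mul] at hρy5
    exact hρy5
  have hA := relIndex_dv_five hQ2 hcqQ (hQC.trans hcqn) (le_normalizer_o2 _ hyC) (hcqn hyC) hy
  have hB := relIndex_dv_five (hQ2.to_le hcqQ) hWcq ((hcqQ.trans hQC).trans hW) (hcqn hyC) (hW hyC) hy
  rcases hA with hA | hA
  · exact absurd hA (not_le_dv h.toAb h.ls R hyL hρyy)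
  rcases hB with hB | hB
  · exact comm_mem_ws h.toAb h.ls hyL hyk fun c hc => (hB hc).2.2
  exfalso
  set D := dv Q (cq V z) y with hD
  set E := dv Q (ws V z) y with hE
  have hED : E ≤ D := fun k hk => ⟨hk.1, hcqn (hQC hk.1), hWcq hk.2.2⟩
  have hcD : cq V z ≤ D := by
    intro k hk
    refine ⟨hcqQ hk, hcqn (hQC (hcqQ hk)), ?_⟩
    have e1 : k * y * k⁻¹ * y⁻¹ = k * (y * k⁻¹ * y⁻¹) := by group
    rw [e1]
    exact mul_mem hk (conj_mem_of_normalizer hcqn hyC (inv_mem hk))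
  have h1 : E ⊓ cq V z = dv (cq V z) (ws V z) y := by
    ext k
    constructor
    · rintro ⟨h1, h2⟩
      exact ⟨h2, h1.2.1, h1.2.2⟩
    · rintro ⟨h1, h2, h3⟩
      exact ⟨⟨hcqQ h1, h2, h3⟩, h1⟩
  have h2 : 16 ≤ E.relIndex D := by
    calc 16 ≤ (dv (cq V z) (ws V z) y).relIndex (cq V z) := hB
      _ = E.relIndex (cq V z) := by rw [← h1, inf_relIndex_right]
      _ ≤ E.relIndex D := relIndex_le_of_le_right hcD (rn _ _)
  have h3 : E.relIndex D * D.relIndex Q = E.relIndex Q := relIndex_mul_relIndex _ _ _ hED (dv_le _ _ _)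
  have h4 := Nat.mul_le_mul h2 hA
  omega

theorem smul_dd (h : Hyp T V Ls z x R e t) {d : G} (hd : d ∈ dd V) : t • R.pi d = R.pi d := by
  obtain ⟨v, hv, hvt⟩ := h.ne
  have hdW : d ∈ ws V z := h.toAb.dd_le_ws h.z_mem h.z_ne hd
  have hdx : d ∈ ws V x := h.toAb.dd_le_ws h.x_mem h.x_ne hd
  rw [← hvt, R.smul_pi v (h.ws_le_C hv) d hdW, Base.ws_comm h.toAb h.x_pt hv hdx, mul_inv_cancel_right]

/-- **(TR)**: `ws V x ∩ C(ws V z) ≤ ws V z` (8.7) -/
theorem le_ws (h : Hyp T V Ls z x R e t) : ws V x ⊓ centralizer (ws V z : Set G) ≤ ws V z := by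
  rintro b ⟨hb, hbc⟩
  by_contra hbW
  have hzp : Pt z z := Pt.refl z
  have hxW : x ∈ ws V z := h.V_le_ws h.x_mem
  have hzW : z ∈ ws V z := h.V_le_ws h.z_mem
  have two := Rep.two h.toAb hzp R
  have hF : ws V x ⊓ centralizer (ws V z : Set G) ≤ o2 (centralizer ({z} : Set G)) := by
    have h1 : centralizer (ws V z : Set G) ≤
        normalizer ((ws V x ⊓ centralizer (ws V z : Set G) : Subgroup G) : Set G) := by
      refine le_normalizer_of_forall fun c hc y hy => mem_inf.mpr ⟨?_, ?_⟩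
      · have hcx : c ∈ centralizer ({x} : Set G) := by
          rw [mem_centralizer_singleton_iff]
          exact (mem_centralizer_iff.mp hc x hxW).symm
        exact conj_mem_of_normalizer (Cfsg.Agent.MinSimple.Geo.centralizer_le_normalizer_ws V x) hcx hy.1
      · exact mul_mem (mul_mem hc hy.2) (inv_mem hc)
    have h2 : ws V x ⊓ centralizer (ws V z : Set G) ≤ o2 (centralizer (ws V z : Set G)) :=
      le_o2 inf_le_right ((ws_isPGroup h.toAb h.x_pt).to_le inf_le_left) h1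
    have hzc : centralizer (ws V z : Set G) ≤ centralizer ({z} : Set G) := by
      intro c hc
      rw [mem_centralizer_singleton_iff]
      exact (mem_centralizer_iff.mp hc z hzW).symm
    have h3 : o2 (centralizer (ws V z : Set G)) ≤ o2 (centralizer ({z} : Set G)) :=
      le_o2 ((o2_le _).trans hzc) (isPGroup_o2 _)
        ((centralizer_le_normalizer_cws V z).trans (normalizer_le_normalizer_o2 _))
    exact h2.trans h3
  have hbcq : b ∈ cq V z := ⟨hF ⟨hb, hbc⟩, hbc⟩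
  obtain ⟨β, hβ⟩ := exists_beta h.toAb h.ls R h.x_mem h.x_ne h.x_nz hb hbc hbW (fun g hg => h.comm_cq b hbcq g hg)
  obtain ⟨v, hv, hvt, g, hg, huL, hu5, hu1, hρu⟩ := h.exists_u
  have hconj : ∀ c ∈ Ls, ∀ k ∈ Ls ⊓ o2 (centralizer ({z} : Set G)),
      c * k * c⁻¹ ∈ Ls ⊓ o2 (centralizer ({z} : Set G)) := fun c hc k hk =>
    ⟨conj_mem_of_normalizer h.ls.norm (h.ls.le hc) hk.1, conj_mem_of_normalizer (le_normalizer_o2 _) (h.ls.le hc) hk.2⟩
  have hNinv : ∀ c ∈ Ls, ∀ m ∈ hβ.rg two, R.rho c • m ∈ hβ.rg two := by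
    rintro c hc _ ⟨k, hk, rfl⟩
    rw [hβ.conj c hc k hk]
    exact ⟨_, hconj c hc k hk, rfl⟩
  obtain ⟨v', hv', hv't⟩ := exists_of_even h.ls R e h.te
  obtain ⟨δ, hδ⟩ : ∃ δ : M, ∀ m ∈ hβ.rg two, t • m = m ∨ t • m = m + δ := by
    by_cases hk0 : ∃ k0 ∈ Ls ⊓ o2 (centralizer ({z} : Set G)), k0 * x ≠ x * k0
    · obtain ⟨k0, hk0, hk0x⟩ := hk0
      refine ⟨t • β k0 + β k0, ?_⟩
      rintro _ ⟨k, hk, rfl⟩
      by_cases hkx : k * x = x * k
      · left
        obtain ⟨d, hd, he⟩ := (hβ.iff k hk).mpr hkx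
        rw [← he]; exact h.smul_dd hd
      · right
        have hk1 : k0⁻¹ * k ∈ Ls ⊓ o2 (centralizer ({z} : Set G)) :=
          Subgroup.mul_mem _ (Subgroup.inv_mem _ hk0) hk
        have hmv : ∀ c ∈ Ls ⊓ o2 (centralizer ({z} : Set G)), c * x ≠ x * c → c * x * c⁻¹ = z * x := by
          intro c hc hcx
          rcases kq_ws h.toGeoC (o2_le_kq h.toGeoC hc.2) hxW with e1 | e1
          · exfalso
            apply hcx
            calc c * x = c * x * c⁻¹ * c := by group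
              _ = x * c := by rw [e1]
          · exact e1
        have e1 := hmv k0 hk0 hk0x
        have e2 := hmv k hk hkx
        have e3 : k0⁻¹ * (z * x) * k0 = x := by rw [← e1]; group
        have hk1x : k0⁻¹ * k * x = x * (k0⁻¹ * k) := by
          calc k0⁻¹ * k * x = k0⁻¹ * (k * x * k⁻¹) * k := by group
            _ = (k0⁻¹ * (z * x) * k0) * (k0⁻¹ * k) := by rw [e2]; group
            _ = x * (k0⁻¹ * k) := by rw [e3]
        have e4 : β k = β k0 + β (k0⁻¹ * k) := by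
          rw [← hβ.add k0 hk0 _ hk1]; congr 1; group
        obtain ⟨d, hd, he⟩ := (hβ.iff _ hk1).mpr hk1x
        rw [e4, smul_add, ← he, h.smul_dd hd]
        calc t • β k0 + R.pi d = t • β k0 + R.pi d + (β k0 + β k0) := by rw [two, add_zero]
          _ = β k0 + R.pi d + (t • β k0 + β k0) := by abel
    · push Not at hk0
      refine ⟨0, ?_⟩
      rintro _ ⟨k, hk, rfl⟩
      left
      obtain ⟨d, hd, he⟩ := (hβ.iff k hk).mpr (hk0 k hk)
      rw [← he]; exact h.smul_dd hd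
  have ht : ∀ m ∈ hβ.rg two, t • m ∈ hβ.rg two ∧ (t • m = m ∨ t • m = m + δ) := by
    intro m hm
    refine ⟨?_, hδ m hm⟩
    rw [← hv't]; exact hNinv v' hv' m hm
  have hgC := h.ls.le hg
  have hs : ∀ m ∈ hβ.rg two, (R.rho g * t * (R.rho g)⁻¹) • m ∈ hβ.rg two ∧
      ((R.rho g * t * (R.rho g)⁻¹) • m = m ∨ (R.rho g * t * (R.rho g)⁻¹) • m = m + R.rho g • δ) := by
    intro m hm
    have h1 : (R.rho g)⁻¹ • m ∈ hβ.rg two := by
      rw [← R.rho_inv hgC]; exact hNinv _ (inv_mem hg) m hm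
    obtain ⟨h2, h3⟩ := ht _ h1
    have e1 : (R.rho g * t * (R.rho g)⁻¹) • m = R.rho g • t • (R.rho g)⁻¹ • m := by
      rw [mul_smul, mul_smul]
    rw [e1]
    refine ⟨hNinv g hg _ h2, ?_⟩
    rcases h3 with e2 | e2
    · left; rw [e2, smul_inv_smul]
    · right; rw [e2, smul_add, smul_inv_smul]
  have key := five_trivial two hu5 ht hs
  have hfix := hβ.fix_of_trivial h.toAb h.ls h.x_mem huL (fun k hk => by
    rw [hρu]; exact key _ ⟨k, hk, rfl⟩) _ huL
  rw [hρu] at hfix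
  obtain ⟨w, hw⟩ : ∃ w, w = t * (R.rho g * t * (R.rho g)⁻¹) := ⟨_, rfl⟩
  rw [← hw] at hfix hu5 hu1
  apply h.smul_ne hu5 hu1
  -- `w² λ = λ`
  have e1 : w • R.pi x = w⁻¹ • R.pi x := by
    rw [smul_add, smul_inv_smul, add_comm] at hfix
    exact add_left_cancel hfix
  have e2 : w ^ 2 • R.pi x = R.pi x := by
    rw [pow_two, mul_smul, e1, smul_inv_smul]
  have e3 : w ^ 6 = w := by rw [pow_succ, hu5, one_mul]
  have e4 : w ^ 6 = w ^ 2 * (w ^ 2 * w ^ 2) := by group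
  calc w • R.pi x = w ^ 6 • R.pi x := by rw [e3]
    _ = R.pi x := by rw [e4, mul_smul, mul_smul, e2, e2, e2]

/-- `C_W(W') ≤ dd V` -/
theorem inf_le_dd' (h : Hyp T V Ls z x R e t) : ws V z ⊓ centralizer (ws V x : Set G) ≤ dd V := by
  intro c hc
  obtain ⟨hc, hcc⟩ := mem_inf.mp hc
  rw [← h.toAb.inf_eq_dd h.z_mem h.z_ne h.x_mem h.x_ne (Ne.symm h.x_nz)]
  refine mem_inf.mpr ⟨hc, ?_⟩
  obtain ⟨w, _, h1, h2⟩ := h.exists_swp
  have h3 : w⁻¹ * c * w ∈ ws V x := by
    rw [← h2, ← cj_ws, mem_cj] at hc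
    exact hc
  have h4 : w⁻¹ * c * w ∈ centralizer (ws V z : Set G) := by
    rw [mem_centralizer_iff] at hcc ⊢
    intro y hy
    have h5 : w * y * w⁻¹ ∈ ws V x := by
      rw [← h1, ← cj_ws]; exact conj_mem_cj hy
    have h6 := hcc _ h5
    calc y * (w⁻¹ * c * w) = w⁻¹ * (w * y * w⁻¹ * c) * w := by group
      _ = w⁻¹ * (c * (w * y * w⁻¹)) * w := by rw [h6]
      _ = w⁻¹ * c * w * y := by group
  have h5 := h.le_ws ⟨h3, h4⟩
  rw [← h1, ← cj_ws, mem_cj]
  exact h5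

/-- `|W : C_W(W')| ≤ 4` -/
theorem index_le (h : Hyp T V Ls z x R e t) :
    (ws V z ⊓ centralizer (ws V x : Set G)).relIndex (ws V z) ≤ 4 := by
  obtain ⟨T', h'⟩ := h.toAb.point h.x_mem h.x_ne
  have hxx : x ∈ ws V x := self_mem_ws h.toGeoC h.x_pt
  have hF : ws V z ⊓ centralizer (ws V x : Set G) ≤ ws V z ⊓ kq V x := by
    rintro c ⟨hc, hcc⟩
    have hcc' := mem_centralizer_iff.mp hcc
    refine ⟨hc, ?_, ?_, ?_⟩
    · rw [mem_centralizer_singleton_iff]; exact (hcc' x hxx).symm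
    · intro w hw
      rw [← hcc' w hw, mul_inv_cancel_right, mul_inv_cancel]
      exact one_mem _
    · intro w hw
      have e1 : c⁻¹ * w * c * w⁻¹ = c⁻¹ * (w * c) * w⁻¹ := by group
      rw [e1, hcc' w hw]
      have e2 : c⁻¹ * (c * w) * w⁻¹ = 1 := by group
      rw [e2]; exact one_mem _
  have h1 : (ws V z ⊓ kq V x).relIndex (ws V z) ≤ 2 := by
    refine relIndex_le_two fun a ha b hb haA hbA => mem_inf.mpr ⟨mul_mem (inv_mem ha) hb, ?_⟩
    exact h.img' ha hb (fun hk => haA ⟨ha, hk⟩) (fun hk => hbA ⟨hb, hk⟩)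
  obtain ⟨v0, hv0, hv0t⟩ := h.ne
  -- `W ∩ kq V x` commutes with `W' ∩ kq V z`
  have hcomm : ∀ a ∈ ws V z ⊓ kq V x, ∀ v ∈ ws V x, v ∈ kq V z → a * v = v * a := by
    intro a ha v hv hvk
    have e1 := kq_ws h'.toGeoC ha.2 hv
    have e2 := kq_ws h.toGeoC hvk ha.1
    rcases e1 with e1 | e1
    · calc a * v = a * v * a⁻¹ * a := by group
        _ = v * a := by rw [e1]
    · exfalso
      have e3 : a * v = x * v * a := by
        calc a * v = a * v * a⁻¹ * a := by group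
          _ = x * v * a := by rw [e1]
      rcases e2 with e2 | e2
      · have e4 : v * a = a * v := by
          calc v * a = v * a * v⁻¹ * v := by group
            _ = a * v := by rw [e2]
        rw [mul_assoc, e4] at e3
        exact h.x_ne (mul_eq_right.mp e3.symm)
      · have e4 : v * a = z * a * v := by
          calc v * a = v * a * v⁻¹ * v := by group
            _ = z * a * v := by rw [e2]
        have e5 : a * v = x * z * (a * v) := by
          calc a * v = x * (v * a) := by rw [e3]; group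
            _ = x * z * (a * v) := by rw [e4]; group
        have e6 : x * z = 1 := mul_eq_right.mp e5.symm
        apply h.x_nz
        rw [mul_eq_one_iff_eq_inv.mp e6, h.inv_eq h.z_mem]
  have hgen : ∀ a ∈ ws V z ⊓ kq V x, a * v0 = v0 * a → a ∈ ws V z ⊓ centralizer (ws V x : Set G) := by
    intro a ha hav
    refine ⟨ha.1, mem_centralizer_iff.mpr fun v hv => ?_⟩
    rcases h.img v hv with e1 | e1
    · exact (hcomm a ha v hv ((Rep.rho_eq_one R (h.ws_le_C hv)).mp e1)).symm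
    · have h2 : v0⁻¹ * v ∈ ws V x := mul_mem (inv_mem hv0) hv
      have h3 : v0⁻¹ * v ∈ kq V z := by
        rw [← Rep.rho_eq_one R (h.ws_le_C h2), R.rho_mul _ (inv_mem (h.ws_le_C hv0)) _ (h.ws_le_C hv),
          R.rho_inv (h.ws_le_C hv0), hv0t, e1, inv_mul_cancel]
      have h4 := hcomm a ha _ h2 h3
      calc v * a = v0 * ((v0⁻¹ * v) * a) := by group
        _ = (v0 * a) * (v0⁻¹ * v) := by rw [← h4]; group
        _ = a * v := by rw [← hav]; group
  have h2 : (ws V z ⊓ centralizer (ws V x : Set G)).relIndex (ws V z ⊓ kq V x) ≤ 2 := by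
    refine relIndex_le_two fun a ha b hb haF hbF => ?_
    have key : ∀ c ∈ ws V z ⊓ kq V x, c ∉ ws V z ⊓ centralizer (ws V x : Set G) → c * v0 * c⁻¹ = x * v0 := by
      intro c hc hcF
      rcases kq_ws h'.toGeoC hc.2 hv0 with e1 | e1
      · exfalso
        apply hcF
        apply hgen c hc
        calc c * v0 = c * v0 * c⁻¹ * c := by group
          _ = v0 * c := by rw [e1]
      · exact e1
    have e1 := key a ha haF
    have e2 := key b hb hbF
    apply hgen _ (Subgroup.mul_mem _ (Subgroup.inv_mem _ ha) hb)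
    have e3 : a⁻¹ * (x * v0) * a = v0 := by rw [← e1]; group
    calc a⁻¹ * b * v0 = a⁻¹ * (b * v0 * b⁻¹) * b := by group
      _ = (a⁻¹ * (x * v0) * a) * (a⁻¹ * b) := by rw [e2]; group
      _ = v0 * (a⁻¹ * b) := by rw [e3]
  have h3 : (ws V z ⊓ centralizer (ws V x : Set G)).relIndex (ws V z ⊓ kq V x) *
      (ws V z ⊓ kq V x).relIndex (ws V z) = (ws V z ⊓ centralizer (ws V x : Set G)).relIndex (ws V z) :=
    relIndex_mul_relIndex _ _ _ hF inf_le_left
  rw [← h3]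
  calc _ ≤ 2 * 2 := Nat.mul_le_mul h2 h1
    _ = 4 := by norm_num

/-- `C_M(t)` is the image of `dd V` -/
theorem mem_dd_of_smul (h : Hyp T V Ls z x R e t) {w : G} (hw : w ∈ ws V z) (hwt : t • R.pi w = R.pi w) :
    w ∈ dd V := by
  have hzp : Pt z z := Pt.refl z
  have two := Rep.two h.toAb hzp R
  let P : Subgroup G :=
    { carrier := {w | w ∈ ws V z ∧ t • R.pi w = R.pi w}
      mul_mem' := by
        rintro a b ⟨ha, ha1⟩ ⟨hb, hb1⟩
        exact ⟨mul_mem ha hb, by rw [R.pi_mul a ha b hb, smul_add, ha1, hb1]⟩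
      one_mem' := ⟨one_mem _, by rw [R.pi_one, smul_zero]⟩
      inv_mem' := by
        rintro a ⟨ha, ha1⟩
        exact ⟨inv_mem ha, by rw [R.pi_inv ha, smul_neg, ha1]⟩ }
  have hPW : P ≤ ws V z := fun a ha => ha.1
  have hFP : ws V z ⊓ centralizer (ws V x : Set G) ≤ P := fun c hc => ⟨hc.1, h.smul_dd (h.inf_le_dd' hc)⟩
  have h1 : (ws V z ⊓ centralizer (ws V x : Set G)).relIndex P * P.relIndex (ws V z) =
      (ws V z ⊓ centralizer (ws V x : Set G)).relIndex (ws V z) := relIndex_mul_relIndex _ _ _ hFP hPW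
  have h2 := h.index_le
  have h3 : 3 ≤ P.relIndex (ws V z) := by
    by_contra hcon
    have h0 : P.relIndex (ws V z) ≠ 0 := (rn _ _)
    obtain ⟨v, hv, hvt, g, hg, huL, hu5, hu1, hρu⟩ := h.exists_u
    have hδ : ∃ δ : M, ∀ m : M, t • m = m ∨ t • m = m + δ := by
      by_cases hle : ws V z ≤ P
      · refine ⟨0, fun m => Or.inl ?_⟩
        obtain ⟨a, ha, rfl⟩ := R.pi_surj m
        exact (hle ha).2
      · obtain ⟨a0, ha0, ha0P⟩ := Set.not_subset.mp hle
        have h4 : (P.subgroupOf (ws V z)).index = 2 := by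
          have h5 : P.relIndex (ws V z) ≠ 1 := by rw [Ne, relIndex_eq_one]; exact hle
          change P.relIndex (ws V z) = 2
          omega
        refine ⟨t • R.pi a0 + R.pi a0, fun m => ?_⟩
        obtain ⟨a, ha, rfl⟩ := R.pi_surj m
        by_cases haP : a ∈ P
        · exact Or.inl haP.2
        · right
          have h5 := mul_mem_iff_of_index_two h4 (a := (⟨a0⁻¹, inv_mem ha0⟩ : ws V z)) (b := ⟨a, ha⟩)
          have h6 : a0⁻¹ * a ∈ P := by
            refine h5.mpr ⟨fun h7 => ?_, fun h7 => absurd h7 haP⟩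
            exact absurd (inv_mem_iff.mp h7) ha0P
          have e1 : R.pi a = R.pi a0 + R.pi (a0⁻¹ * a) := by
            rw [← R.pi_mul a0 ha0 _ (mul_mem (inv_mem ha0) ha)]; congr 1; group
          rw [e1, smul_add, h6.2]
          calc t • R.pi a0 + R.pi (a0⁻¹ * a) = t • R.pi a0 + R.pi (a0⁻¹ * a) + (R.pi a0 + R.pi a0) := by
                rw [two, add_zero]
            _ = R.pi a0 + R.pi (a0⁻¹ * a) + (t • R.pi a0 + R.pi a0) := by abel
    obtain ⟨δ, hδ⟩ := hδ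
    apply hu1
    apply R.faithful
    intro m
    refine five_trivial two hu5 (N := ⊤) (δ := δ) (ε := R.rho g • δ) (fun m _ => ⟨trivial, hδ m⟩) (fun m _ => ⟨trivial, ?_⟩)
      m trivial
    have e1 : (R.rho g * t * (R.rho g)⁻¹) • m = R.rho g • t • (R.rho g)⁻¹ • m := by
      rw [mul_smul, mul_smul]
    rw [e1]
    rcases hδ ((R.rho g)⁻¹ • m) with e2 | e2
    · left; rw [e2, smul_inv_smul]
    · right; rw [e2, smul_add, smul_inv_smul]
  have h4 : (ws V z ⊓ centralizer (ws V x : Set G)).relIndex P = 1 := by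
    have h5 : (ws V z ⊓ centralizer (ws V x : Set G)).relIndex P ≠ 0 := (rn _ _)
    by_contra hne
    have h6 : 2 ≤ (ws V z ⊓ centralizer (ws V x : Set G)).relIndex P := by omega
    have h7 := Nat.mul_le_mul h6 h3
    omega
  rw [relIndex_eq_one] at h4
  exact h.inf_le_dd' (h4 ⟨hw, hwt⟩)

/-- **`C_M(A₅) = 0`** -/
theorem cent (h : Hyp T V Ls z x R e t) (m : M) (hm : ∀ y : X, Perm.sign (e y) = 1 → y • m = m) : m = 0 := by
  obtain ⟨w, hw, rfl⟩ := R.pi_surj m
  exact fixed_dd h.toAb h.ls R h.f3 (h.mem_dd_of_smul hw (hm t h.te)) fun g hg => hm _ (sign_rho h.ls R e hg)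

end Hyp

/-- **the end of (A_4), `n = 1`** -/
theorem false {R : Rep V z M X} {e : X ≃* S5} {t : X} (h : Hyp T V Ls z x R e t)
    (idx : Nat.card M ≤ 4 * Nat.card {m : M // t • m = m}) (mem : ∃ m : M, R.pi x = t • m + m)
    (f3 : ∀ g ∈ centralizer (V : Set G), orderOf g ≠ 3) : False :=
  OneEnd.false h.toAb R e h.x_mem h.x_ne h.x_nz h.t2 h.t1 h.te h.htT idx mem h.cent f3

end Cfsg.Agent.OddCyclic.EN.OneFour
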