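import Mathlib
import Cfsg.Agent.OddCyclic.EN.OneStar
import Cfsg.Agent.OddCyclic.EN.AqSixteen

/-!
# (E1), `ws V z` abelian, `n = 1`, `SL₂(q) ⊴ X`: `q = 4`, `|A| = 2` (8.1, 8.3 of helper217's (B-b))
-/

set_option autoImplicit false
set_option linter.unusedSectionVars false

namespace Cfsg.Agent.OddCyclic.EN.OneQ

open Matrix Subgroup Cfsg Cfsg.Agent.ZN Cfsg.Agent.MinSimple.Geo Cfsg.Agent.OddCyclic.GeoC Cfsg.Agent.OddCyclic.BTwoA
  Cfsg.Agent.OddCyclic.EN.Line Cfsg.Agent.OddCyclic.EN.Base Cfsg.Agent.MinSimple.SecRep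
  Cfsg.Agent.OddCyclic.EN.RepM Cfsg.Agent.OddCyclic.EN.OneStar Cfsg.Agent.OddCyclic.EN.AqNum
open Cfsg.Agent.OddCyclic.T1Sl2 (up UI SU up01 one01 mem_smul exists_smul_SU mem_SU)
open Cfsg.Agent.OddCyclic.BTwoB (kq_le centralizer_le_normalizer_kq)
open Cfsg.Agent.OddCyclic.EO.Fit (fx mem_fx)
open Cfsg.Agent.ZN.Block (conj_mem_of_normalizer conj_mem_of_normalizer' le_normalizer_of_forall
  mem_normalizer_of)

section module

variable {X : Type*} [Group X] {M : Type*} [AddCommGroup M] [DistribMulAction X M]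

/-- the action on `Multiplicative M` -/
def hm (X M : Type*) [Group X] [AddCommGroup M] [DistribMulAction X M] : X →* MulAut (Multiplicative M) where
  toFun x :=
    { toFun := fun m => Multiplicative.ofAdd (x • m.toAdd)
      invFun := fun m => Multiplicative.ofAdd (x⁻¹ • m.toAdd)
      left_inv := fun m => by
        change Multiplicative.ofAdd (x⁻¹ • x • m.toAdd) = m
        rw [inv_smul_smul]; rfl
      right_inv := fun m => by
        change Multiplicative.ofAdd (x • x⁻¹ • m.toAdd) = m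
        rw [smul_inv_smul]; rfl
      map_mul' := fun a b => by
        change Multiplicative.ofAdd (x • (a.toAdd + b.toAdd)) = _
        rw [smul_add]; rfl }
  map_one' := by
    ext m
    change Multiplicative.ofAdd ((1 : X) • m.toAdd) = m
    rw [one_smul]; rfl
  map_mul' x y := by
    ext m
    change Multiplicative.ofAdd ((x * y) • m.toAdd) = Multiplicative.ofAdd (x • y • m.toAdd)
    rw [mul_smul]

theorem hm_apply (x : X) (m : M) : hm X M x (Multiplicative.ofAdd m) = Multiplicative.ofAdd (x • m) := rfl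

variable {F : Type*} [Field F] [Fintype F] [CharP F 2] {L : Subgroup X}

/-- `q |C_M(a)| ≤ |M|` for an involution `a ∈ L ≅ SL₂(q)` -/
theorem card_ge [Finite M] (h4 : 4 ≤ Fintype.card F) (e : SpecialLinearGroup (Fin 2) F ≃* L)
    (two : ∀ m : M, m + m = 0) (hne : ∃ l ∈ L, ∃ m : M, l • m ≠ m) {a : X} (ha : a ∈ L) (ha2 : a * a = 1)
    (ha1 : a ≠ 1) : Fintype.card F * Nat.card {m : M // a • m = m} ≤ Nat.card M := by
  let ρ : SpecialLinearGroup (Fin 2) F →* MulAut (Multiplicative M) :=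
    (hm X M).comp (L.subtype.comp e.toMonoidHom)
  obtain ⟨s, hs⟩ := e.surjective ⟨a, ha⟩
  have hsa : (e s : X) = a := by rw [hs]
  have h1 := FFBasic.sl2_index (F := F) (V := Multiplicative M) h4 (fun v => two v.toAdd) ρ (by
    obtain ⟨l, hl, m, hlm⟩ := hne
    obtain ⟨g, hg⟩ := e.surjective ⟨l, hl⟩
    refine ⟨g, Multiplicative.ofAdd m, ?_⟩
    change Multiplicative.ofAdd ((e g : X) • m) ≠ Multiplicative.ofAdd m
    rw [hg]; exact fun h => hlm h) (a := s)
    (by apply e.injective; apply Subtype.ext; rw [map_mul, map_one]; change (e s : X) * e s = 1; rw [hsa, ha2])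
    (by rintro rfl; rw [map_one] at hsa; exact ha1 hsa.symm)
  have h2 : Nat.card (FFBasic.fx ρ s) = Nat.card {m : M // a • m = m} := by
    refine Nat.card_congr ⟨fun m => ⟨m.1.toAdd, ?_⟩, fun m => ⟨Multiplicative.ofAdd m.1, ?_⟩, fun _ => rfl, fun _ => rfl⟩
    · have h3 : (e s : X) • (m.1.toAdd) = m.1.toAdd := m.2
      rwa [hsa] at h3
    · change Multiplicative.ofAdd ((e s : X) • m.1) = Multiplicative.ofAdd m.1
      rw [hsa, m.2]
  have h3 := Subgroup.card_mul_index (FFBasic.fx ρ s)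
  have h4 : Nat.card (Multiplicative M) = Nat.card M := rfl
  rw [h2, h4] at h3
  rw [← h3, mul_comm]
  exact Nat.mul_le_mul_left _ h1

/-- coordinates such that `P ∩ L` is the upper unitriangular group -/
theorem exists_cfg [Finite X] [L.Normal] (h4 : 4 ≤ Fintype.card F) (e : SpecialLinearGroup (Fin 2) F ≃* L)
    (hcent : ∀ x : X, (∀ l ∈ L, x * l = l * x) → x = 1) {P : Subgroup X} (hP : IsPGroup 2 P)
    (hi : ¬ 2 ∣ P.index) : ∃ e' : SpecialLinearGroup (Fin 2) F ≃* L, Cfg L P e' := by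
  have : Fact (Nat.Prime 2) := ⟨Nat.prime_two⟩
  have h1 : P.relIndex L ∣ P.index := by
    have e1 := Subgroup.relIndex_mul_relIndex (P ⊓ L) L (P ⊔ L) inf_le_right le_sup_right
    have e2 := Subgroup.relIndex_mul_relIndex (P ⊓ L) P (P ⊔ L) inf_le_left le_sup_left
    rw [Subgroup.inf_relIndex_right, Subgroup.relIndex_sup_right] at e1
    rw [Subgroup.inf_relIndex_left] at e2
    have hr : 0 < L.relIndex P := Nat.pos_of_ne_zero (Subgroup.index_ne_zero_of_finite (H := L.subgroupOf P))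
    have e3 : P.relIndex L = P.relIndex (P ⊔ L) := by
      rw [← e1, mul_comm] at e2
      exact (Nat.eq_of_mul_eq_mul_right hr e2).symm
    rw [e3, ← Subgroup.relIndex_mul_index (le_sup_left : P ≤ P ⊔ L)]
    exact Dvd.intro _ rfl
  have h2 : ¬ 2 ∣ (P.subgroupOf L).index := fun h => hi (h.trans h1)
  have h3 : ((P.subgroupOf L).comap e.toMonoidHom).index = (P.subgroupOf L).index :=
    Subgroup.index_comap_of_surjective _ e.surjective
  have h5 : IsPGroup 2 ((P.subgroupOf L).comap e.toMonoidHom) :=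
    (hP.comap_of_injective L.subtype L.subtype_injective).comap_of_injective e.toMonoidHom e.injective
  obtain ⟨g, hg⟩ := exists_smul_SU (h5.toSylow (by rw [h3]; exact h2))
  refine ⟨(MulAut.conj g).trans e, h4, hcent, fun s => ?_⟩
  have h6 : (((MulAut.conj g).trans e s : L) : X) = e (g * s * g⁻¹) := rfl
  have h7 : (e (g * s * g⁻¹) : X) ∈ P ↔ g * s * g⁻¹ ∈ h5.toSylow (by rw [h3]; exact h2) := Iff.rfl
  rw [h6, h7, ← hg, mem_smul]
  have h8 : g⁻¹ * (g * s * g⁻¹) * g = s := by group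
  rw [h8]; rfl

end module

universe u

variable {G : Type u} [Group G] [Finite G] {T V : Subgroup G} {z x : G}
  {M X : Type u} [AddCommGroup M] [Group X] [DistribMulAction X M]

/-- `kq V z` acts on `ws V z` as an elementary abelian 2-group -/
theorem kq_conj_comm (h : Ab T V z) {a b w : G} (ha : a ∈ kq V z) (hb : b ∈ kq V z) (hw : w ∈ ws V z) :
    a * (b * w * b⁻¹) * a⁻¹ = b * (a * w * a⁻¹) * b⁻¹ := by
  have haz : a * z = z * a := mem_centralizer_singleton_iff.1 (kq_le V z ha)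
  have hbz : b * z = z * b := mem_centralizer_singleton_iff.1 (kq_le V z hb)
  have e1 : a * (z * w) * a⁻¹ = z * (a * w * a⁻¹) := by
    calc a * (z * w) * a⁻¹ = (a * z) * w * a⁻¹ := by group
      _ = z * (a * w * a⁻¹) := by rw [haz]; group
  have e2 : b * (z * w) * b⁻¹ = z * (b * w * b⁻¹) := by
    calc b * (z * w) * b⁻¹ = (b * z) * w * b⁻¹ := by group
      _ = z * (b * w * b⁻¹) := by rw [hbz]; group
  rcases kq_ws h.toGeoC ha hw with h1 | h1 <;> rcases kq_ws h.toGeoC hb hw with h2 | h2 <;> rw [h1, h2]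
  · exact h1
  · rw [e1, h1]
  · rw [h1, e2, h2]
  · rw [e1, e2, h1, h2]

theorem mem_cent_of {V : Subgroup G} {z c : G} (hc : ∀ w ∈ ws V z, c * w * c⁻¹ = w) :
    c ∈ centralizer (ws V z : Set G) := by
  rw [mem_centralizer_iff]
  intro w hw
  have h1 := hc w hw
  rw [mul_inv_eq_iff_eq_mul] at h1
  exact h1.symm

/-- commutators of elements of `kq V z` centralise `ws V z` -/
theorem comm_cent (h : Ab T V z) {a b : G} (ha : a ∈ kq V z) (hb : b ∈ kq V z) :
    a * b * a⁻¹ * b⁻¹ ∈ centralizer (ws V z : Set G) := by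
  refine mem_cent_of fun w hw => ?_
  have hn : ∀ k ∈ kq V z, ∀ w ∈ ws V z, k * w * k⁻¹ ∈ ws V z := fun k hk w hw =>
    conj_mem_of_normalizer (Cfsg.Agent.MinSimple.Geo.centralizer_le_normalizer_ws V z) (kq_le V z hk) hw
  have h1 := kq_conj_comm h ha hb (hn _ (inv_mem ha) _ (hn _ (inv_mem hb) w hw))
  have e1 : a * b * a⁻¹ * b⁻¹ * w * (a * b * a⁻¹ * b⁻¹)⁻¹ =
      a * (b * (a⁻¹ * (b⁻¹ * w * b⁻¹⁻¹) * a⁻¹⁻¹) * b⁻¹) * a⁻¹ := by group
  rw [e1, h1]; group

theorem sq_cent (h : Ab T V z) {a : G} (ha : a ∈ kq V z) : a * a ∈ centralizer (ws V z : Set G) := by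
  refine mem_cent_of fun w hw => ?_
  have haz : a * z = z * a := mem_centralizer_singleton_iff.1 (kq_le V z ha)
  have e1 : a * a * w * (a * a)⁻¹ = a * (a * w * a⁻¹) * a⁻¹ := by group
  rw [e1]
  rcases kq_ws h.toGeoC ha hw with h1 | h1
  · rw [h1, h1]
  · rw [h1]
    calc a * (z * w) * a⁻¹ = (a * z) * w * a⁻¹ := by group
      _ = z * (a * w * a⁻¹) := by rw [haz]; group
      _ = w := by rw [h1, ← mul_assoc, h.zz, one_mul]

theorem o2_le_kq (h : Ab T V z) : o2 (centralizer ({z} : Set G)) ≤ kq V z := by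
  intro y hy
  refine ⟨o2_le _ hy, fun w hw => ?_, fun w hw => ?_⟩
  · have h1 := inv_mem (h.toGeoC.comm_mem hw hy)
    have e : (w * y * w⁻¹ * y⁻¹)⁻¹ = y * w * y⁻¹ * w⁻¹ := by group
    rwa [e] at h1
  · have h1 := inv_mem (h.toGeoC.comm_mem hw (inv_mem hy))
    have e : (w * y⁻¹ * w⁻¹ * y⁻¹⁻¹)⁻¹ = y⁻¹ * w * y * w⁻¹ := by group
    rwa [e] at h1

variable {F : Type*} [Field F] [Fintype F] [CharP F 2] {L : Subgroup X}

/-- `L` does not act trivially -/
theorem exists_ne (R : Rep V z M X) (e : SpecialLinearGroup (Fin 2) F ≃* L) : ∃ l ∈ L, ∃ m : M, l • m ≠ m := by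
  by_contra hcon
  push Not at hcon
  have h1 : (e (up 1) : X) = 1 := R.faithful _ fun m => hcon _ (e _).2 m
  have h2 : up (1 : F) = 1 := by
    apply e.injective
    rw [map_one]; exact Subtype.ext h1
  have h3 : up (1 : F) 0 1 = 0 := by rw [h2, one01]
  rw [up01] at h3
  exact one_ne_zero h3

/-- **the lower bound** `q ≤ |O₂(C(z)) : dq V z x|` -/
theorem le_relIndex (h : Ab T V z) (hx : Pt2 V z x) (R : Rep V z M X) (h4 : 4 ≤ Fintype.card F)
    (hL : L.Normal) (e : SpecialLinearGroup (Fin 2) F ≃* L)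
    (hred : ∀ w ∈ ws V z, (∀ y ∈ o2 (centralizer ({z} : Set G)), y * w = w * y) → ∀ l ∈ L, l • R.pi w = R.pi w)
    {t : G} (ht : t ∈ ws V x) (htL : R.rho t ∈ L) (ht1 : R.rho t ≠ 1) :
    Fintype.card F ≤ (dq V z x).relIndex (o2 (centralizer ({z} : Set G))) := by
  have hfX : Finite X := R.finite_right
  set C := centralizer ({z} : Set G) with hC
  set Q := o2 C with hQ
  set W := ws V z with hW
  have hWn : C ≤ normalizer (W : Set G) := Cfsg.Agent.MinSimple.Geo.centralizer_le_normalizer_ws V z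
  have hWQ : W ≤ Q := h.toGeoC.ws_le_o2
  have hWW : W ≤ centralizer (W : Set G) := fun a ha => mem_centralizer_iff.2 fun b hb => h.ab b hb a ha
  have hQk : Q ≤ kq V z := o2_le_kq h
  have hcn : C ≤ normalizer ((centralizer (W : Set G) : Subgroup G) : Set G) := by
    refine le_normalizer_of_forall fun m hm c hc => ?_
    rw [mem_centralizer_iff] at hc ⊢
    intro v hv
    have h3 := hc _ (conj_mem_of_normalizer' hWn hm hv)
    calc v * (m * c * m⁻¹) = m * (m⁻¹ * v * m * c) * m⁻¹ := by group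
      _ = m * (c * (m⁻¹ * v * m)) * m⁻¹ := by rw [h3]
      _ = m * c * m⁻¹ * v := by group
  set Z₂ := Q ⊓ centralizer (W : Set G) with hZ₂
  obtain ⟨M₂, X₂, _, _, _, ⟨S₂⟩⟩ := exists_sec (C := C) (W := Q) (Z := Z₂) (o2_le C) (le_normalizer_o2 C) inf_le_left
    (le_normalizer_of_forall fun m hm c hc => mem_inf.2 ⟨conj_mem_of_normalizer (le_normalizer_o2 C) hm (mem_inf.1 hc).1,
      conj_mem_of_normalizer hcn hm (mem_inf.1 hc).2⟩)
    (fun a ha b hb => mem_inf.2 ⟨mul_mem (mul_mem (mul_mem ha hb) (inv_mem ha)) (inv_mem hb),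
      comm_cent h (hQk ha) (hQk hb)⟩)
  have hM₂ : Finite M₂ := S₂.finite_left
  -- the homomorphism `X → X₂`
  have hker : ∀ c ∈ C, R.rho c = 1 → S₂.rho c = 1 := by
    intro c hc h1
    have hck : c ∈ kq V z := (Rep.rho_eq_one R hc).1 h1
    rw [S₂.rho_eq_one_iff hc]
    intro y hy
    refine mem_inf.2 ⟨mul_mem (conj_mem_of_normalizer (le_normalizer_o2 C) hc hy) (inv_mem hy), ?_⟩
    exact comm_cent h hck (hQk hy)
  obtain ⟨φ, hφ⟩ : ∃ φ : X →* X₂, ∀ c ∈ C, φ (R.rho c) = S₂.rho c := by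
    let φ := MonoidHom.liftOfSurjective R.hom R.hom_surj ⟨S₂.hom, fun c hc => by
      rw [MonoidHom.mem_ker] at hc ⊢
      exact hker c c.2 hc⟩
    refine ⟨φ, fun c hc => ?_⟩
    have h1 := MonoidHom.liftOfRightInverse_comp_apply R.hom _ (Function.rightInverse_surjInv R.hom_surj)
      ⟨S₂.hom, fun c hc => by
        rw [MonoidHom.mem_ker] at hc ⊢
        exact hker c c.2 hc⟩ ⟨c, hc⟩
    exact h1
  let ρ : SpecialLinearGroup (Fin 2) F →* MulAut (Multiplicative M₂) :=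
    (hm X₂ M₂).comp (φ.comp (L.subtype.comp e.toMonoidHom))
  have two : ∀ m : M₂, m + m = 0 := by
    intro m
    obtain ⟨y, hy, rfl⟩ := S₂.pi_surj m
    rw [← S₂.pi_mul y hy y hy, S₂.pi_eq_zero _ (mul_mem hy hy)]
    exact mem_inf.2 ⟨mul_mem hy hy, sq_cent h (hQk hy)⟩
  -- nontriviality
  have hnt : ∃ g v, ρ g v ≠ v := by
    by_contra hcon
    push Not at hcon
    have h1 : ∀ c ∈ C, R.rho c ∈ L → ∀ y ∈ Q, c * y * c⁻¹ * y⁻¹ ∈ centralizer (W : Set G) := by
      intro c hc hcL y hy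
      obtain ⟨g, hg⟩ := e.surjective ⟨_, hcL⟩
      have h2 : Multiplicative.ofAdd (φ (e g : X) • S₂.pi y) = Multiplicative.ofAdd (S₂.pi y) :=
        hcon g (Multiplicative.ofAdd (S₂.pi y))
      have h3 : φ (e g : X) • S₂.pi y = S₂.pi y := h2
      rw [hg] at h3
      change φ (R.rho c) • S₂.pi y = S₂.pi y at h3
      rw [hφ c hc, S₂.smul_pi c hc y hy, S₂.pi_eq_iff (S₂.conj_mem hc hy) hy] at h3
      exact (mem_inf.1 h3).2
    have h2 : ∀ m : M, m ∈ fp M (L : Set X) := by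
      intro m
      refine fix_of_mod h4 e fun l hl => ?_
      obtain ⟨w, hw, rfl⟩ := R.pi_surj m
      obtain ⟨c, hc, rfl⟩ := R.rho_surj l
      have hcw : c * w * c⁻¹ ∈ W := R.conj_mem hc hw
      have e1 : R.rho c • R.pi w - R.pi w = R.pi (c * w * c⁻¹ * w⁻¹) := by
        rw [R.smul_pi c hc w hw, R.pi_mul _ hcw _ (inv_mem hw), R.pi_inv hw, sub_eq_add_neg]
      rw [e1]
      refine hred _ (mul_mem hcw (inv_mem hw)) fun y hy => ?_
      have hcz : c * z = z * c := mem_centralizer_singleton_iff.1 hc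
      have hcz' : c * z * c⁻¹ = z := by rw [hcz]; group
      -- `y (c w c⁻¹) y⁻¹ = c (y w y⁻¹) c⁻¹`
      have h3 := h1 c⁻¹ (inv_mem hc) (by rw [R.rho_inv hc]; exact inv_mem hl) y hy
      have hyw : y * w * y⁻¹ ∈ W := conj_mem_of_normalizer hWn (o2_le C hy) hw
      have h5 := mem_centralizer_iff.1 h3 _ hyw
      have e2 : y * (c * w * c⁻¹) * y⁻¹ = c * (y * w * y⁻¹) * c⁻¹ := by
        have e3 : (c⁻¹ * y * c⁻¹⁻¹ * y⁻¹) * (y * w * y⁻¹) * (c⁻¹ * y * c⁻¹⁻¹ * y⁻¹)⁻¹ = y * w * y⁻¹ := by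
          rw [← h5]; group
        calc y * (c * w * c⁻¹) * y⁻¹ =
            c * ((c⁻¹ * y * c⁻¹⁻¹ * y⁻¹) * (y * w * y⁻¹) * (c⁻¹ * y * c⁻¹⁻¹ * y⁻¹)⁻¹) * c⁻¹ := by group
          _ = _ := by rw [e3]
      have e4 : y * (c * w * c⁻¹ * w⁻¹) * y⁻¹ = c * w * c⁻¹ * w⁻¹ := by
        have e5 : y * (c * w * c⁻¹ * w⁻¹) * y⁻¹ = (y * (c * w * c⁻¹) * y⁻¹) * (y * w * y⁻¹)⁻¹ := by group
        rw [e5, e2]
        rcases kq_ws h.toGeoC (hQk hy) hw with h6 | h6
        · rw [h6]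
        · rw [h6]
          have hzw : z * w = w * z := h.ab z (h.V_le_ws h.z_mem) w hw
          calc c * (z * w) * c⁻¹ * (z * w)⁻¹ = (c * z * c⁻¹) * (c * w * c⁻¹) * (z * w)⁻¹ := by group
            _ = z * (c * w * c⁻¹) * (w * z)⁻¹ := by rw [hcz', hzw]
            _ = z * (c * w * c⁻¹) * z⁻¹ * w⁻¹ := by group
            _ = (c * w * c⁻¹) * z * z⁻¹ * w⁻¹ := by rw [h.ab z (h.V_le_ws h.z_mem) _ hcw]
            _ = c * w * c⁻¹ * w⁻¹ := by group
      rw [mul_inv_eq_iff_eq_mul] at e4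
      exact e4
    obtain ⟨l, hl, m, hm⟩ := exists_ne R e
    exact hm (h2 m l hl)
  have htC : t ∈ C := wx_le_cz h hx ht
  obtain ⟨s, hs⟩ := e.surjective ⟨_, htL⟩
  have hst : (e s : X) = R.rho t := by rw [hs]
  have h1 := FFBasic.sl2_index (F := F) (V := Multiplicative M₂) h4 (fun v => two v.toAdd) ρ hnt (a := s)
    (by
      apply e.injective; apply Subtype.ext; rw [map_mul, map_one]
      change (e s : X) * e s = 1
      rw [hst, ← R.rho_mul t htC t htC, Base.ws_sq h (ptx h hx) ht, R.rho_one])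
    (by rintro rfl; rw [map_one] at hst; exact ht1 hst.symm)
  refine h1.trans ?_
  let π : Q →* Multiplicative M₂ :=
    { toFun := fun y => Multiplicative.ofAdd (S₂.pi y)
      map_one' := by
        change Multiplicative.ofAdd (S₂.pi 1) = 1
        rw [S₂.pi_one]; rfl
      map_mul' := fun a b => by
        change Multiplicative.ofAdd (S₂.pi (a * b)) = _
        rw [S₂.pi_mul a a.2 b b.2]; rfl }
  have hπ : Function.Surjective π := by
    intro m
    obtain ⟨y, hy, hym⟩ := S₂.pi_surj m.toAdd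
    exact ⟨⟨y, hy⟩, congrArg Multiplicative.ofAdd hym⟩
  rw [← Subgroup.index_comap_of_surjective (FFBasic.fx ρ s) hπ]
  have hle : (dq V z x).subgroupOf Q ≤ (FFBasic.fx ρ s).comap π := by
    rintro ⟨y, hy⟩ hyd
    rw [mem_subgroupOf] at hyd
    change Multiplicative.ofAdd (φ (e s : X) • S₂.pi y) = Multiplicative.ofAdd (S₂.pi y)
    congr 1
    rw [hst, hφ t htC, S₂.smul_pi t htC y hy, S₂.pi_eq_iff (S₂.conj_mem htC hy) hy]
    refine mem_inf.2 ⟨mul_mem (S₂.conj_mem htC hy) (inv_mem hy), ?_⟩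
    have h2 := inv_mem (hyd.2 t ht)
    have e1 : (y * t * y⁻¹ * t⁻¹)⁻¹ = t * y * t⁻¹ * y⁻¹ := by group
    rw [e1] at h2
    exact hWW h2
  exact Nat.le_of_dvd (Nat.pos_of_ne_zero Subgroup.index_ne_zero_of_finite) (Subgroup.index_dvd_of_le hle)

/-- `R̄ = R.img T` is a Sylow 2-subgroup of `X` -/
theorem img_T (h : Ab T V z) (R : Rep V z M X) : IsPGroup 2 (R.img T) ∧ ¬ 2 ∣ (R.img T).index := by
  constructor
  · rintro ⟨a, ha⟩
    obtain ⟨t, ht, rfl⟩ := (R.mem_img h.T_le).mp ha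
    obtain ⟨k, hk⟩ := h.two ⟨t, ht⟩
    refine ⟨k, Subtype.ext ?_⟩
    change R.rho t ^ 2 ^ k = 1
    rw [← R.rho_pow (h.T_le ht), show t ^ 2 ^ k = 1 from congrArg Subtype.val hk, R.rho_one]
  · intro h1
    exact h.T_syl (h1.trans (Subgroup.index_map_dvd (T.subgroupOf (centralizer ({z} : Set G))) R.hom_surj))

/-- `A ≠ 1` -/
theorem img_ne (h : Ab T V z) (hx : Pt2 V z x) (hnc : ∃ a ∈ ws V z, ∃ b ∈ ws V x, a * b ≠ b * a)
    (R : Rep V z M X) : ∃ a ∈ R.img (ws V x), a ≠ 1 := by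
  by_contra hcon
  push Not at hcon
  have h1 : ws V x ≤ kq V z := by
    intro w hw
    exact (Rep.rho_eq_one R (wx_le_cz h hx hw)).1 (hcon _ (R.rho_mem_img (wx_le_cz h hx) hw))
  obtain ⟨g, hg, h2, h3⟩ := exists_g h hx
  have h4 : ws V z ≤ kq V x := by
    have h5 := cj_mono (g := g) h1
    rwa [cj_ws, h3, Line.cj_kq, h2] at h5
  obtain ⟨a, ha, b, hb, hab⟩ := hnc
  apply hab
  have h5 := (h1 hb).2.1 a ha
  have h6 := (h4 ha).2.1 b hb
  rcases (mem_zpowers_iff_of_mul_self h.zz).1 h5 with e | e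
  · calc a * b = (b * a * b⁻¹ * a⁻¹)⁻¹ * (b * a) := by group
      _ = b * a := by rw [e, inv_one, one_mul]
  · rcases (mem_zpowers_iff_of_mul_self (Base.Pt.sq h.toGeoC (ptx h hx))).1 h6 with e' | e'
    · calc a * b = (a * b * a⁻¹ * b⁻¹) * (b * a) := by group
        _ = b * a := by rw [e', one_mul]
    · exfalso
      have e1 : a * b * a⁻¹ * b⁻¹ = (b * a * b⁻¹ * a⁻¹)⁻¹ := by group
      rw [e', e, inv_eq_self h.zz] at e1
      exact hx.ne e1

/-- `A ∩ L ≠ 1` -/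
theorem exists_inner (h : Ab T V z) (hx : Pt2 V z x) (hnc : ∃ a ∈ ws V z, ∃ b ∈ ws V x, a * b ≠ b * a)
    (R : Rep V z M X) [L.Normal] {e : SpecialLinearGroup (Fin 2) F ≃* L} (hc : Cfg L (R.img T) e) :
    ∃ t ∈ ws V x, R.rho t ∈ L ∧ R.rho t ≠ 1 := by
  have hfX : Finite X := R.finite_right
  by_contra hcon
  push Not at hcon
  have hA : ∀ a ∈ R.img (ws V x), a ∈ L → a = 1 := by
    intro a ha haL
    obtain ⟨t, ht, rfl⟩ := (R.mem_img (wx_le_cz h hx)).1 ha
    exact hcon t ht haL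
  obtain ⟨a, ha, ha1⟩ := img_ne h hx hnc R
  apply ha1
  refine hA a ha ?_
  have haP : a ∈ R.img T := img_mono R h.T_le (wx_le_T h hx) ha
  -- `a` centralises `P ∩ L`
  have hcomm : ∀ t : F, a * (e (up t) : X) * a⁻¹ = e (up t) := by
    intro t
    have hu := hc.up_mem_P t
    have h1 := conj_img h hx R (img_T_fix h hx R (inv_mem hu)) ha
    rw [inv_inv] at h1
    have h2 : (e (up t) : X)⁻¹ * a * e (up t) * a⁻¹ = 1 := by
      apply hA
      · exact mul_mem h1 (inv_mem ha)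
      · have h3 := (inferInstance : L.Normal).conj_mem _ (e (up t)).2 a
        have e1 : (e (up t) : X)⁻¹ * a * e (up t) * a⁻¹ = (e (up t) : X)⁻¹ * (a * e (up t) * a⁻¹) := by group
        rw [e1]; exact mul_mem (inv_mem (e (up t)).2) h3
    calc a * (e (up t) : X) * a⁻¹ = (e (up t) : X) * ((e (up t) : X)⁻¹ * a * e (up t) * a⁻¹) := by group
      _ = e (up t) := by rw [h2, mul_one]
  obtain ⟨c, hc0, hact⟩ := hc.exists_act haP
  rw [← hc.tp_eq_one]
  have h5 : ∀ t : F, c * tp e a t = t := by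
    intro t
    have h6 := hact t
    rw [hcomm] at h6
    exact (hc.up_inj h6).symm
  have h6 : c = 1 := by have := h5 1; rwa [map_one, mul_one] at this
  ext t
  have := h5 t
  rwa [h6, one_mul] at this

/-- **(8.1), (8.3)**: `q = 4`, `|A| = 2`, `|M : C_M(A)| = 4`, and `x`, `z` are commutators -/
theorem main (h : Ab T V z) (hx : Pt2 V z x) (hnc : ∃ a ∈ ws V z, ∃ b ∈ ws V x, a * b ≠ b * a)
    (R : Rep V z M X) (h4 : 4 ≤ Fintype.card F) (hL : L.Normal) (e : SpecialLinearGroup (Fin 2) F ≃* L)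
    (hcent : ∀ g : X, (∀ l ∈ L, g * l = l * g) → g = 1) (hout : ¬ R.img T ≤ L)
    (f3 : ∀ g : X, orderOf g = 3 → g • R.pi x ≠ R.pi x)
    (hred : ∀ w ∈ ws V z, (∀ y ∈ o2 (centralizer ({z} : Set G)), y * w = w * y) → ∀ l ∈ L, l • R.pi w = R.pi w) :
    Fintype.card F = 4 ∧ Nat.card (R.img (ws V x)) = 2 ∧ R.img (ws V x) ≤ L ∧
      Nat.card M = 4 * Nat.card (fx (R.img (ws V x)) (⊤ : AddSubgroup M)) ∧
      (∃ a ∈ ws V z, ∃ b ∈ ws V x, a * b * a⁻¹ * b⁻¹ = x) ∧ (∃ a ∈ ws V z, ∃ b ∈ ws V x, a * b * a⁻¹ * b⁻¹ = z) := by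
  have hfX : Finite X := R.finite_right
  have hfM : Finite M := R.finite_left
  obtain ⟨hP, hPi⟩ := img_T h R
  obtain ⟨e', hc⟩ := exists_cfg h4 e hcent hP hPi
  set A := R.img (ws V x) with hA
  set B := R.img (o2 (centralizer ({x} : Set G)) ⊓ centralizer ({z} : Set G)) with hB
  have hAB : A ≤ B := img_mono R inf_le_right (le_inf (Base.ws_le_o2 h (ptx h hx)) (wx_le_cz h hx))
  have hBP : B ≤ R.img T := img_mono R h.T_le (inf_le_T h hx)
  obtain ⟨t, ht, htL, ht1⟩ := exists_inner h hx hnc R hc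
  have htA : R.rho t ∈ A := R.rho_mem_img (wx_le_cz h hx) ht
  have htC := wx_le_cz h hx ht
  have ht2 : R.rho t * R.rho t = 1 := img_sq h hx R htA
  have hM1 := card_ge h4 e (Rep.two h (Base.Pt.refl z) R) (exists_ne R e) htL ht2 ht1
  obtain ⟨hM2, hM3⟩ := card_M_le h hx hnc R
  have hfx : Nat.card (fx A (⊤ : AddSubgroup M)) ≤ Nat.card {m : M // R.rho t • m = m} :=
    Nat.card_le_card_of_injective (fun m => (⟨m.1, m.2.2 _ htA⟩ : {m : M // R.rho t • m = m}))
      (fun a b hab => Subtype.ext (congrArg (fun m : {m : M // R.rho t • m = m} => (m : M)) hab))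
  have hpos : 0 < Nat.card {m : M // R.rho t • m = m} :=
    Nat.card_pos_iff.2 ⟨⟨⟨0, smul_zero _⟩⟩, inferInstance⟩
  have hq : Fintype.card F ≤ Nat.card A ^ 2 := by
    have h1 : Fintype.card F * Nat.card {m : M // R.rho t • m = m} ≤
        Nat.card A ^ 2 * Nat.card {m : M // R.rho t • m = m} := by
      calc Fintype.card F * Nat.card {m : M // R.rho t • m = m} ≤ Nat.card M := hM1
        _ ≤ (Nat.card A * Nat.card A) * Nat.card (fx A (⊤ : AddSubgroup M)) := hM2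
        _ ≤ (Nat.card A * Nat.card A) * Nat.card {m : M // R.rho t • m = m} := Nat.mul_le_mul_left _ hfx
        _ = _ := by rw [pow_two]
    exact Nat.le_of_mul_le_mul_right h1 hpos
  have hb : Fintype.card F * Nat.card A ≤ 2 * Nat.card B := by
    have h1 := star h hx R
    rw [swap_relIndex h hx] at h1
    have h2 := le_relIndex h hx R h4 hL e hred ht htL ht1
    calc Fintype.card F * Nat.card A ≤
        (dq V z x).relIndex (o2 (centralizer ({z} : Set G))) * Nat.card A := Nat.mul_le_mul_right _ h2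
      _ = Nat.card A * (dq V z x).relIndex (o2 (centralizer ({z} : Set G))) := mul_comm _ _
      _ ≤ 2 * Nat.card B := h1
  obtain ⟨hAL, h5⟩ := hc.main hP hout hAB hBP (fun a ha => img_sq h hx R ha)
    (fun a ha b hb => img_comm h hx R ha hb) (fun p hp a ha => conj_img h hx R (img_T_fix h hx R hp) ha) hq hb
  rcases h5 with ⟨hq4, hA2⟩ | ⟨hq16, hA4, hCB, τ, hτ, hτL, hτ2⟩
  · have hM : Nat.card M = 4 * Nat.card (fx A (⊤ : AddSubgroup M)) := by
      refine le_antisymm (by rw [hA2] at hM2; exact hM2) ?_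
      rw [hq4] at hM1
      exact (Nat.mul_le_mul_left _ hfx).trans hM1
    have hx' : ∃ a ∈ ws V z, ∃ b ∈ ws V x, a * b * a⁻¹ * b⁻¹ = x := by
      by_contra hcon
      push Not at hcon
      have h6 : Nat.card M ≤ Nat.card A * Nat.card (fx A (⊤ : AddSubgroup M)) := hM3 hcon
      rw [hA2, hM] at h6
      have h7 : 0 < Nat.card (fx A (⊤ : AddSubgroup M)) := Nat.card_pos
      omega
    refine ⟨hq4, hA2, hAL, hM, hx', ?_⟩
    obtain ⟨a, ha, b, hb, hab⟩ := hx'
    obtain ⟨g, hg, h1, h2⟩ := exists_g h hx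
    refine ⟨g * b * g⁻¹, ?_, g * a * g⁻¹, ?_, ?_⟩
    · have := conj_mem_cj (g := g) hb
      rwa [cj_ws, h2] at this
    · have := conj_mem_cj (g := g) ha
      rwa [cj_ws, h1] at this
    · have e1 : g * b * g⁻¹ * (g * a * g⁻¹) * (g * b * g⁻¹)⁻¹ * (g * a * g⁻¹)⁻¹ =
          g * (a * b * a⁻¹ * b⁻¹)⁻¹ * g⁻¹ := by group
      rw [e1, hab, inv_eq_self (Base.Pt.sq h.toGeoC (ptx h hx)), h2]
  · exfalso
    refine false_of_sixteen hc R.faithful (Rep.two h (Base.Pt.refl z) R) hq16 (hAB.trans hBP) hAL hA4 hτ hτL hτ2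
      (R.pi x) ?_ f3
    intro a ha m b hb
    obtain ⟨w', hw', rfl⟩ := (R.mem_img (wx_le_cz h hx)).1 ha
    obtain ⟨w, hw, rfl⟩ := R.pi_surj m
    obtain ⟨y, hy, rfl⟩ := (R.mem_img inf_le_right).1 (hCB hb)
    have hw'C := wx_le_cz h hx hw'
    obtain ⟨hd1, hd2⟩ := comm_mem h hx hw hw'
    have hyC : y ∈ centralizer ({z} : Set G) := (mem_inf.1 hy).2
    have e1 : R.rho w' • R.pi w - R.pi w = R.pi (w' * w * w'⁻¹ * w⁻¹) := by
      rw [R.smul_pi w' hw'C w hw, R.pi_mul _ (R.conj_mem hw'C hw) _ (inv_mem hw), R.pi_inv hw, sub_eq_add_neg]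
    obtain ⟨d, hd⟩ : ∃ d, d = w' * w * w'⁻¹ * w⁻¹ := ⟨_, rfl⟩
    rw [← hd] at e1 hd1 hd2
    rw [e1]
    have e2 : R.rho y • R.pi d - R.pi d = R.pi (y * d * y⁻¹ * d⁻¹) := by
      rw [R.smul_pi y hyC d hd1, R.pi_mul _ (R.conj_mem hyC hd1) _ (inv_mem hd1), R.pi_inv hd1, sub_eq_add_neg]
    rw [e2]
    rcases (mem_zpowers_iff_of_mul_self (Base.Pt.sq h.toGeoC (ptx h hx))).1 (q_comm h hx (mem_inf.1 hy).1 hd2) with
      e3 | e3
    · left; rw [e3, R.pi_one]
    · right; rw [e3]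

end Cfsg.Agent.OddCyclic.EN.OneQ

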