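import Cfsg.Agent.OddCyclic.EN.OneQ
import Cfsg.Agent.OddCyclic.EN.OneFour
import Cfsg.Agent.OddCyclic.EN.BbMain
import Cfsg.Agent.OddCyclic.EN.FThree
import Cfsg.Agent.OddCyclic.Om5Small

/-!
# (B-b), type (A_q), `n = 1`: the end

`OneQEnd.false`: `Star T V z L`, the image `J` of `L` in `X = C(z)/kq V z` is `SL₂(q)`, `q ≥ 4`, `C_X(J) = 1`, the image of
`T` is not in `J`, and `[ws V z, ws V x] ≠ 1` for a second point `x` of `V`: impossible.
-/

set_option autoImplicit false
set_option linter.unusedSectionVars false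
set_option linter.style.haveILetI false

namespace Cfsg.Agent.OddCyclic.EN.OneQEnd

open Matrix Subgroup Cfsg Cfsg.Agent.ZN Cfsg.Agent.MinSimple.Geo Cfsg.Agent.OddCyclic.GeoC Cfsg.Agent.OddCyclic.BTwoA
  Cfsg.Agent.OddCyclic.EN.Line Cfsg.Agent.OddCyclic.EN.Base Cfsg.Agent.MinSimple.SecRep
  Cfsg.Agent.OddCyclic.EN.RepM Cfsg.Agent.OddCyclic.EN.OneStar Cfsg.Agent.OddCyclic.EN.BbDefs
  Cfsg.Agent.OddCyclic.EN.OneGen
open Cfsg.Agent.OddCyclic.EO.Fit (fx mem_fx)
open Cfsg.Agent.OddCyclic.GamPerm (S5)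
open Equiv (Perm)

/-- `X` with a normal subgroup `L ≅ SL₂(4)`, `C_X(L) = 1`, `L ≠ X`, is `S₅` -/
theorem exists_iso {X : Type*} [Group X] [Finite X] {L : Subgroup X} [L.Normal] {F : Type*} [Field F] [Fintype F]
    [CharP F 2] (hF : Fintype.card F = 4) (e : SpecialLinearGroup (Fin 2) F ≃* L) (hC : centralizer (L : Set X) = ⊥)
    (hne : L ≠ ⊤) : Nonempty (X ≃* S5) := by
  have h1 : Nat.card (Sylow 2 (SpecialLinearGroup (Fin 2) F)) = 5 := by rw [FFOuter.card_syl, hF]
  have hfin : Finite (Sylow 2 (SpecialLinearGroup (Fin 2) F)) := Nat.finite_of_card_ne_zero (by rw [h1]; norm_num)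
  let g : Sylow 2 (SpecialLinearGroup (Fin 2) F) ≃ Fin 5 := Finite.equivFinOfCardEq h1
  let ψ : X →* Equiv.Perm (Fin 5) := g.permCongrHom.toMonoidHom.comp
    ((MulAction.toPermHom (MulAut (SpecialLinearGroup (Fin 2) F)) (Sylow 2 (SpecialLinearGroup (Fin 2) F))).comp
      (FFOuter.ac e))
  have hψ : Function.Injective ψ := by
    rw [injective_iff_map_eq_one]
    intro x hx
    have h2 : (MulAction.toPermHom (MulAut (SpecialLinearGroup (Fin 2) F)) (Sylow 2 (SpecialLinearGroup (Fin 2) F)))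
        (FFOuter.ac e x) = 1 := by
      apply g.permCongrHom.injective
      rw [map_one]
      exact hx
    have h3 : FFOuter.ac e x = 1 := by
      apply FFOuter.eq_one_of_syl
      intro U
      exact DFunLike.congr_fun h2 U
    exact (injective_iff_map_eq_one _).1 (Om5.ac_injective e hC) x h3
  have hcardL : Nat.card L = 60 := by
    rw [← Nat.card_congr e.toEquiv, T1Sl2.card_sl2, hF]
  have hP : Nat.card (Equiv.Perm (Fin 5)) = 120 := by
    rw [Nat.card_perm, Nat.card_fin]; rfl
  have hle : Nat.card X ≤ 120 := by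
    rw [← hP]; exact Nat.card_le_card_of_injective _ hψ
  have hmul := L.card_mul_index
  rw [hcardL] at hmul
  have hi1 : L.index ≠ 1 := by rw [Ne, index_eq_one]; exact hne
  have hi0 : L.index ≠ 0 := index_ne_zero_of_finite
  have hX : Nat.card X = 120 := by
    have h2 : L.index = 2 := by
      have : 60 * L.index ≤ 120 := by rw [hmul]; exact hle
      omega
    rw [← hmul, h2]
  have hb : Function.Bijective ψ := by
    rw [Nat.bijective_iff_injective_and_card]
    exact ⟨hψ, by rw [hX, hP]⟩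
  exact ⟨MulEquiv.ofBijective _ hb⟩

universe u

variable {G : Type u} [Group G] [Finite G] {T V L : Subgroup G} {z x : G}
  {M X : Type u} [AddCommGroup M] [Group X] [DistribMulAction X M]

/-- **(A_q), `n = 1`** -/
theorem false (h : Star T V z L) (R : Rep V z M X) {J : Subgroup X} (hJn : J.Normal)
    (hJL : ∀ j, j ∈ J ↔ ∃ l ∈ L, R.rho l = j) (hcent : centralizer (J : Set X) = ⊥)
    {F : Type*} [Field F] [Fintype F] [CharP F 2] (h4 : 4 ≤ Fintype.card F)
    (e : SpecialLinearGroup (Fin 2) F ≃* J) (hout : ¬ R.img T ≤ J) (hx : Pt2 V z x)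
    (hnc : ∃ a ∈ ws V z, ∃ b ∈ ws V x, a * b ≠ b * a) : False := by
  have hab := BbMain.toAb h
  have hzp : Pt z z := Pt.refl z
  have hfX : Finite X := R.finite_right
  have two := Rep.two hab hzp R
  have hc' : ∀ g : X, (∀ l ∈ J, g * l = l * g) → g = 1 := by
    intro g hg
    have h1 : g ∈ centralizer (J : Set X) := mem_centralizer_iff.mpr fun l hl => (hg l hl).symm
    rwa [hcent, mem_bot] at h1
  have hf3 : ∀ g : X, orderOf g = 3 → g • R.pi x ≠ R.pi x := by
    intro g hg
    have h3 : g ^ 3 = 1 := by rw [← hg]; exact pow_orderOf_eq_one g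
    refine OneEnd.three_move hab R hx.mem hx.ne_one hx.ne h.f3 (by rw [← h3, pow_succ, pow_two]) ?_
    rintro rfl
    rw [orderOf_one] at hg
    norm_num at hg
  have hred : ∀ w ∈ ws V z, (∀ y ∈ o2 (centralizer ({z} : Set G)), y * w = w * y) → ∀ l ∈ J, l • R.pi w = R.pi w := by
    intro w hw hy j hj
    obtain ⟨l, hl, rfl⟩ := (hJL j).mp hj
    have h1 := h.RED w hw (fun y hy' => hy y ?_) l hl
    · rw [R.smul_pi l (h.L_le hl) w hw, h1, mul_inv_cancel_right]
    · exact le_o2 ((o2_le _).trans h.L_le) (isPGroup_o2 _) (h.L_nor.trans (normalizer_le_normalizer_o2 L)) hy'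
  obtain ⟨hF4, hA2, hAJ, hidx, ⟨a, ha, b, hb, hxab⟩, -⟩ := OneQ.main hab hx hnc R h4 hJn e hc' hout hf3 hred
  have hJtop : J ≠ ⊤ := by
    rintro rfl; exact hout le_top
  haveI := hJn
  obtain ⟨φ⟩ := exists_iso hF4 e hcent hJtop
  -- `A = {1, t}`
  obtain ⟨t, htA, ht1⟩ : ∃ t ∈ R.img (ws V x), t ≠ 1 := by
    by_contra hcon
    push Not at hcon
    have h1 : R.img (ws V x) = ⊥ := by
      rw [eq_bot_iff]; intro y hy; rw [mem_bot]; exact hcon y hy
    rw [h1, Subgroup.card_bot] at hA2
    norm_num at hA2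
  have hAt : ∀ y ∈ R.img (ws V x), y = 1 ∨ y = t := by
    intro y hy
    by_contra hcon
    push Not at hcon
    have h1 : ({1, t, y} : Set X) ⊆ (R.img (ws V x) : Set X) := by
      rintro u (rfl | rfl | rfl)
      · exact one_mem _
      · exact htA
      · exact hy
    have h2 : ({1, t, y} : Set X).ncard = 3 := by
      rw [Set.ncard_insert_of_notMem, Set.ncard_pair (Ne.symm hcon.2)]
      rintro (e1 | e1)
      · exact ht1 e1.symm
      · exact hcon.1 (Set.mem_singleton_iff.mp e1).symm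
    have h3 := Set.ncard_le_ncard h1 (Set.toFinite _)
    rw [h2] at h3
    have h4 : (R.img (ws V x) : Set X).ncard = 2 := by
      rw [← hA2]; rfl
    omega
  obtain ⟨l, hl, hlt⟩ := (hJL t).mp (hAJ htA)
  have hls := LsD.of_star h
  have hyp : OneFour.Hyp T V L z x R φ t :=
    { toAb := hab
      ls := hls
      f3 := fun a ha haa ha1 haz hL hT => h.F3 ha haa ha1 haz hL hT
      x_mem := hx.mem
      x_ne := hx.ne_one
      x_nz := hx.ne
      t2 := img_sq hab hx R htA
      t1 := ht1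
      te := by rw [← hlt]; exact OneFour.sign_rho hls R φ hl
      htT := by
        intro c hc
        have h1 : R.rho c ∈ R.img T := R.rho_mem_img h.T_le hc
        have h2 := conj_img hab hx R (img_T_fix hab hx R h1) htA
        rcases hAt _ h2 with e1 | e1
        · exfalso
          apply ht1
          calc t = (R.rho c)⁻¹ * (R.rho c * t * (R.rho c)⁻¹) * R.rho c := by group
            _ = 1 := by rw [e1]; group
        · calc t * R.rho c = (R.rho c * t * (R.rho c)⁻¹) * R.rho c := by rw [e1]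
            _ = R.rho c * t := by group
      img := fun v hv => hAt _ (R.rho_mem_img (wx_le_cz hab hx) hv)
      ne := by
        obtain ⟨v, hv, hvt⟩ := (R.mem_img (wx_le_cz hab hx)).mp htA
        exact ⟨v, hv, hvt⟩ }
  refine OneFour.false hyp ?_ ?_ h.f3
  · rw [hidx]
    refine Nat.mul_le_mul_left 4 ?_
    have hfM : Finite M := R.finite_left
    exact Nat.card_le_card_of_injective (fun m => (⟨m.1, m.2.2 _ htA⟩ : {m : M // t • m = m}))
      (fun a b hab => Subtype.ext (congrArg (fun m : {m : M // t • m = m} => (m : M)) hab))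
  · have hbz := wx_le_cz hab hx hb
    have h5 : b * a⁻¹ * b⁻¹ ∈ ws V z := R.conj_mem hbz (inv_mem ha)
    have h6 : R.pi x = R.rho b • R.pi a + R.pi a := by
      have e1 : a * b * a⁻¹ * b⁻¹ = a * (b * a⁻¹ * b⁻¹) := by group
      rw [← hxab, e1, R.pi_mul a ha _ h5, ← R.smul_pi b hbz a⁻¹ (inv_mem ha), R.pi_inv ha, Rep.neg_eq hab hzp R,
        add_comm]
    rcases hyp.img b hb with e1 | e1
    · exfalso
      rw [e1, one_smul, two] at h6
      exact Rep.pi_line_ne_zero hab hzp R (col_of_mem h.toGeoC h.z_mem hx.mem h.z_ne hx.ne_one hx.ne.symm) h6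
    · exact ⟨R.pi a, by rw [← e1]; exact h6⟩

end Cfsg.Agent.OddCyclic.EN.OneQEnd
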