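import Cfsg.Agent.OddCyclic.EN.S7Key
import Cfsg.Agent.OddCyclic.EN.OneGen

/-!
# S0342 (B-b), type (B'), `n = 1`: the end
-/

set_option autoImplicit false
set_option linter.unusedSectionVars false

namespace Cfsg.Agent.OddCyclic.EN.S7One

open Subgroup Cfsg Cfsg.Agent.ZN Cfsg.Agent.MinSimple.Geo Cfsg.Agent.OddCyclic.GeoC Cfsg.Agent.OddCyclic.BTwoA
  Cfsg.Agent.OddCyclic.EN.Line Cfsg.Agent.OddCyclic.EN.Base Cfsg.Agent.MinSimple.SecRep
  Cfsg.Agent.OddCyclic.EN.RepM Cfsg.Agent.OddCyclic.EN.BbDefs Cfsg.Agent.OddCyclic.EN.OneStar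
  Cfsg.Agent.OddCyclic.EN.S7Grp Cfsg.Agent.OddCyclic.EN.S7Mod
open Cfsg.Agent.OddCyclic.BTwoB (kq_le centralizer_le_normalizer_kq)
open Cfsg.Agent.OddCyclic.T1Module (CS)
open Cfsg.Agent.OddCyclic.FFBasic (fx mem_fx cm cm_apply card_range_cm)
open Cfsg.Agent.ZN.Block (conj_mem_of_normalizer conj_mem_of_normalizer' le_normalizer_of_forall
  mem_normalizer_of)
open Cfsg.Agent.OddCyclic.EN.OneGen (cq LsD centralizer_le_normalizer_cws exists_beta)
open scoped commutatorElement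

universe u

variable {G : Type u} [Group G] [Finite G] {T V L : Subgroup G} {z x : G} {M X : Type u} [AddCommGroup M] [Group X]
  [DistribMulAction X M] [Finite M] [Finite X] {R : Rep V z M X} {J : Subgroup X}

/-- `ws V x ∩ C(ws V z) ≤ O₂(C(z))` -/
theorem inf_le_o2 (h : Ab T V z) (hx : Pt2 V z x) :
    ws V x ⊓ centralizer (ws V z : Set G) ≤ o2 (centralizer ({z} : Set G)) := by
  have hxW : x ∈ ws V z := x_mem_wz h hx
  have hzW : z ∈ ws V z := h.V_le_ws h.z_mem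
  have h1 : centralizer (ws V z : Set G) ≤
      normalizer ((ws V x ⊓ centralizer (ws V z : Set G) : Subgroup G) : Set G) := by
    refine le_normalizer_of_forall fun c hc y hy => mem_inf.mpr ⟨?_, ?_⟩
    · have hcx : c ∈ centralizer ({x} : Set G) := by
        rw [mem_centralizer_singleton_iff]
        exact (mem_centralizer_iff.mp hc x hxW).symm
      exact conj_mem_of_normalizer (Cfsg.Agent.MinSimple.Geo.centralizer_le_normalizer_ws V x) hcx hy.1
    · exact mul_mem (mul_mem hc hy.2) (inv_mem hc)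
  have h2 : ws V x ⊓ centralizer (ws V z : Set G) ≤ o2 (centralizer (ws V z : Set G)) :=
    le_o2 inf_le_right ((ws_isPGroup h (ptx h hx)).to_le inf_le_left) h1
  have hzc : centralizer (ws V z : Set G) ≤ centralizer ({z} : Set G) := by
    intro c hc
    rw [mem_centralizer_singleton_iff]
    exact (mem_centralizer_iff.mp hc z hzW).symm
  have h3 : o2 (centralizer (ws V z : Set G)) ≤ o2 (centralizer ({z} : Set G)) :=
    le_o2 ((o2_le _).trans hzc) (isPGroup_o2 _)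
      ((centralizer_le_normalizer_cws V z).trans (normalizer_le_normalizer_o2 _))
  exact h2.trans h3

namespace Tw

variable {t : X} {w : G}

/-- the image of `dd V` in `M` -/
def dP (V : Subgroup G) (R : Rep V z M X) (hle : dd V ≤ ws V z) : Subgroup (Multiplicative M) where
  carrier := {m | ∃ d ∈ dd V, R.pi d = m.toAdd}
  mul_mem' := by
    rintro a b ⟨d, hd, ha⟩ ⟨d', hd', hb⟩
    exact ⟨d * d', mul_mem hd hd', by rw [R.pi_mul d (hle hd) d' (hle hd'), ha, hb]; rfl⟩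
  one_mem' := ⟨1, one_mem _, R.pi_one⟩
  inv_mem' := by
    rintro a ⟨d, hd, ha⟩
    exact ⟨d⁻¹, inv_mem hd, by rw [R.pi_inv (hle hd), ha]; rfl⟩

theorem false_of (h : Tw T V z x L R J t w)
    (hc : ∀ c ∈ cq V z, ∀ g ∈ L, c * g * c⁻¹ * g⁻¹ ∈ ws V z) : False := by
  obtain ⟨δ, hδ, hδc, k, hk, hkV, hkδ⟩ := h.exists_key
  have hddz : dd V ≤ ws V z := h.ab.dd_le_ws h.ab.z_mem h.ab.z_ne
  have hddx : dd V ≤ ws V x := h.ab.dd_le_ws h.pt.mem h.pt.ne_one
  have hzd : z ∈ dd V := h.ab.V_le_dd h.ab.z_mem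
  -- `δ ∉ ws V z`
  have hδW : δ ∉ ws V z := by
    intro hW
    apply hkδ
    rcases h.q_cases hk hW with e | e
    · rw [e, mul_inv_cancel]; exact one_mem _
    · rw [e, mul_inv_cancel_right]; exact h.z_mem_D
  have hδC : δ ∈ centralizer (ws V z : Set G) := by
    rw [mem_centralizer_iff]
    exact fun v hv => (hδc v hv).symm
  have hδcq : δ ∈ cq V z := ⟨inf_le_o2 h.ab h.pt ⟨hδ, hδC⟩, hδC⟩
  have hLs := LsD.of_star h.star
  obtain ⟨β, hβ⟩ := exists_beta h.ab hLs R h.pt.mem h.pt.ne_one h.pt.ne hδ hδC hδW (fun g hg => hc δ hδcq g hg)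
  have two := h.two
  have hxW : x ∈ ws V z := x_mem_wz h.ab h.pt
  -- `N`
  let N : Subgroup (Multiplicative M) := AddSubgroup.toSubgroup (hβ.rg two)
  have hNm : ∀ m : Multiplicative M, m ∈ N ↔ ∃ k ∈ L ⊓ o2 (centralizer ({z} : Set G)), β k = m.toAdd := fun m => Iff.rfl
  have hconj : ∀ c ∈ L, ∀ k ∈ L ⊓ o2 (centralizer ({z} : Set G)),
      c * k * c⁻¹ ∈ L ⊓ o2 (centralizer ({z} : Set G)) := fun c hc k hk =>
    ⟨conj_mem_of_normalizer hLs.norm (hLs.le hc) hk.1, conj_mem_of_normalizer (le_normalizer_o2 _) (hLs.le hc) hk.2⟩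
  have hN : ∀ j ∈ J, ∀ d ∈ N, hm X M j d ∈ N := by
    intro j hj d hd
    obtain ⟨l, hl, rfl⟩ := (h.img j).1 hj
    obtain ⟨k, hk, hkd⟩ := (hNm d).1 hd
    refine (hNm _).2 ⟨_, hconj l hl k hk, ?_⟩
    rw [← hβ.conj l hl k hk, hkd]; rfl
  have hchar : centralizer ({z} : Set G) ≤ normalizer ((o2 L : Subgroup G) : Set G) :=
    h.star.L_nor.trans (normalizer_le_normalizer_o2 L)
  have ho2 : o2 L ≤ L ⊓ o2 (centralizer ({z} : Set G)) :=
    le_inf (o2_le _) (le_o2 ((o2_le _).trans h.star.L_le) (isPGroup_o2 _) hchar)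
  have hN1 : N ≠ ⊥ := by
    intro e
    apply h.star.mv
    intro q hq
    refine mem_cV h.ab h.pt (h.q_z hq) ((hβ.iff q (ho2 hq)).1 ⟨1, one_mem _, ?_⟩)
    have h1 : Multiplicative.ofAdd (β q) ∈ N := (hNm _).2 ⟨q, ho2 hq, rfl⟩
    rw [e, mem_bot] at h1
    rw [R.pi_one]
    exact (Multiplicative.ofAdd.injective h1).symm
  -- `P`
  let P := dP V R hddz
  have hPm : ∀ m : Multiplicative M, m ∈ P ↔ ∃ d ∈ dd V, R.pi d = m.toAdd := fun m => Iff.rfl
  have hP : P ≤ fx (hm X M) t := by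
    intro m hm'
    obtain ⟨d, hd, hdm⟩ := (hPm m).1 hm'
    have e1 : m = Multiplicative.ofAdd (R.pi d) := by rw [hdm]; rfl
    rw [mem_fx, e1, ← h.wt, h.act h.wz (hddz hd)]
    congr 2
    rw [Base.ws_comm h.ab (ptx h.ab h.pt) h.wx (hddx hd), mul_inv_cancel_right]
  have hPN : P.relIndex N ≤ 2 := by
    refine index_le_two fun a b ha hb => ?_
    rw [mem_subgroupOf] at ha hb ⊢
    obtain ⟨k1, hk1, e1⟩ := (hNm _).1 a.2
    obtain ⟨k2, hk2, e2⟩ := (hNm _).1 b.2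
    have hmv : ∀ c ∈ L ⊓ o2 (centralizer ({z} : Set G)), ∀ a : N, β c = (a : Multiplicative M).toAdd →
        (a : Multiplicative M) ∉ P → c * x * c⁻¹ = z * x := by
      intro c hc a he ha
      rcases kq_ws h.ab.toGeoC (OneGen.o2_le_kq h.ab.toGeoC hc.2) hxW with e | e
      · exfalso
        apply ha
        obtain ⟨d, hd, hde⟩ := (hβ.iff c hc).2 (by rwa [mul_inv_eq_iff_eq_mul] at e)
        exact (hPm _).2 ⟨d, hd, by rw [hde, he]⟩
      · exact e
    have f1 := hmv k1 hk1 a e1 ha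
    have f2 := hmv k2 hk2 b e2 hb
    have hk1z : k1 * z = z * k1 := mem_centralizer_singleton_iff.1 (hLs.le hk1.1)
    have f3 : k1 * k2 * x = x * (k1 * k2) := by
      have : k1 * k2 * x * (k1 * k2)⁻¹ = x := by
        calc k1 * k2 * x * (k1 * k2)⁻¹ = k1 * (k2 * x * k2⁻¹) * k1⁻¹ := by group
          _ = (k1 * z) * x * k1⁻¹ := by rw [f2]; group
          _ = z * (k1 * x * k1⁻¹) := by rw [hk1z]; group
          _ = (z * z) * x := by rw [f1]; group
          _ = x := by rw [h.ab.zz, one_mul]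
      rwa [mul_inv_eq_iff_eq_mul] at this
    obtain ⟨d, hd, hde⟩ := (hβ.iff _ (mul_mem hk1 hk2)).2 f3
    refine (hPm _).2 ⟨d, hd, ?_⟩
    rw [hde, hβ.add k1 hk1 k2 hk2, e1, e2]; rfl
  obtain ⟨s, hsT, hsJ⟩ := exists_outer h.amb h.ne_top (TX h.ab.toGeoC R)
  have hPs : ∀ p ∈ P, hm X M s p ∈ P := by
    intro p hp
    obtain ⟨c, hcT, rfl⟩ := (mem_TX h.ab.toGeoC R).1 hsT
    obtain ⟨d, hd, hdp⟩ := (hPm p).1 hp
    have e1 : p = Multiplicative.ofAdd (R.pi d) := by rw [hdp]; rfl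
    rw [e1, h.act (h.ab.T_le hcT) (hddz hd)]
    exact (hPm _).2 ⟨c * d * c⁻¹, conj_mem_dd (h.ab.T_norm hcT) hd, rfl⟩
  have hfin := S7Mod.final h.amb h.ne_top h.sq h.CS_bot.1 h.CS_bot.2 h.tJ h.t1 h.tt h.idx hN hN1 hP hPN hsJ hPs
  -- elements of `ws V z` commuting with `w`
  have key : ∀ v ∈ ws V z, w * v = v * w → v ∈ dd V := by
    intro v hv hvw
    have h1 : Multiplicative.ofAdd (R.pi v) ∈ fx (hm X M) t := by
      rw [mem_fx, ← h.wt, h.act h.wz hv, hvw, mul_inv_cancel_right]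
    rw [← hfin] at h1
    obtain ⟨d, hd, hdv⟩ := (hPm _).1 h1
    have hdv' : R.pi d = R.pi v := hdv
    rw [Rep.pi_eq_pi h.ab (Pt.refl z) R (hddz hd) hv] at hdv'
    rcases hdv' with e | e
    · rw [← e]; exact hd
    · have e2 : v = z⁻¹ * d := by rw [e]; group
      rw [e2]; exact mul_mem (inv_mem hzd) hd
  obtain ⟨g, hg⟩ := exists_sw h.ab h.pt
  have h1 : g * δ * g⁻¹ ∈ dd V := by
    refine key _ (hg.wx hδ) ?_
    have h2 : g⁻¹ * w * g ∈ ws V z := by
      have := hg.inv.wx h.wx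
      rwa [inv_inv] at this
    calc w * (g * δ * g⁻¹) = g * (g⁻¹ * w * g * δ) * g⁻¹ := by group
      _ = g * (δ * (g⁻¹ * w * g)) * g⁻¹ := by rw [hδc _ h2]
      _ = g * δ * g⁻¹ * w := by group
  have h2 := conj_mem_dd (inv_mem hg.mem) h1
  have e : g⁻¹ * (g * δ * g⁻¹) * g⁻¹⁻¹ = δ := by group
  rw [e] at h2
  exact hδW (hddz h2)

end Tw

end Cfsg.Agent.OddCyclic.EN.S7One
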