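import Cfsg.Agent.OddCyclic.EN.S7Mod

/-!
# S0342 (B-b), types (B), (B'), `n = 1`: the module, second part

* `Std`: the two four-groups of `T ∩ J`;
* `Md.false_of_four`: no four-group `A ≤ J ∩ T` with `|V : C_V(A)| ≤ 4`;
* `false_of_nor`: if `J ≠ X` then `T` does not normalise a four-group;
* `Md.fix_id`, `Md.syl_trivial`: `T ∩ J` centralises `[V, z]`;
* `Md.card_eq`: if `J ≠ X`: `|V| = 64`, `C_V(J) = 1`; `Md.exists_move`; `Md.final`.
-/

set_option autoImplicit false
set_option linter.unusedSectionVars false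

namespace Cfsg.Agent.OddCyclic.EN.S7Mod

open Subgroup Cfsg.Agent.OddCyclic.T1Module Cfsg.Agent.OddCyclic.FFBasic
  Cfsg.Agent.OddCyclic.FFRed Cfsg.Agent.OddCyclic.FFPsl Cfsg.Agent.OddCyclic.FFThree Cfsg.Agent.GH.L2Aut
  Cfsg.Agent.OddCyclic.FFSl2 Cfsg.Agent.OddCyclic.EN.S7Grp

variable {X : Type*} [Group X] [Finite X] {V : Type*} [CommGroup V] [Finite V] {ρ : X →* MulAut V}
  {J : Subgroup X} {T : Sylow 2 X}

/-- the two four-groups `{1, z, a, za}`, `{1, z, b, zb}` of `T ∩ J` -/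
structure Std (J : Subgroup X) (T : Sylow 2 X) (z a b : J) : Prop where
  za : Four z a
  zb : Four z b
  zT : (z : X) ∈ (T : Subgroup X)
  aT : (a : X) ∈ (T : Subgroup X)
  bT : (b : X) ∈ (T : Subgroup X)
  ab : a * b * a⁻¹ = z * b
  ne : za.sub ≠ zb.sub
  only : ∀ C : Subgroup J, IsFour C → (∀ c ∈ C, (c : X) ∈ (T : Subgroup X)) → C = za.sub ∨ C = zb.sub
  gen : normalizer (za.sub : Set J) ⊔ normalizer (zb.sub : Set J) = ⊤
  sup : ∀ s : J, (s : X) ∈ (T : Subgroup X) → s ∈ za.sub ⊔ zb.sub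

theorem exists_std (h : Amb J) (T : Sylow 2 X) : ∃ z a b : J, Std J T z a b := by
  have hnor := h.nor
  have : Fact (Nat.Prime 2) := ⟨Nat.prime_two⟩
  obtain ⟨p, q, hpq⟩ := h.l32.four
  have h2 : IsPGroup 2 hpq.sub := IsPGroup.of_card (n := 2) (by rw [card_sub hpq]; norm_num)
  obtain ⟨Q, hQ⟩ := h2.exists_le_sylow
  obtain ⟨g, hg⟩ := MulAction.exists_smul_eq J Q (syl T J)
  have hf : Four (g * p * g⁻¹) (g * q * g⁻¹) := hpq.map (MulAut.conj g)
  have hle : hf.sub ≤ (syl T J : Subgroup J) := by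
    have key : ∀ x ∈ (Q : Subgroup J), g * x * g⁻¹ ∈ (syl T J : Subgroup J) := by
      intro x hx
      rw [← hg]
      exact ⟨x, hx, rfl⟩
    have h1 : p ∈ hpq.sub := Or.inr (Or.inl rfl)
    have h3 : q ∈ hpq.sub := Or.inr (Or.inr (Or.inl rfl))
    rintro x (rfl | rfl | rfl | rfl)
    · exact one_mem _
    · exact key _ (hQ h1)
    · exact key _ (hQ h3)
    · exact mul_mem (key _ (hQ h1)) (key _ (hQ h3))
  obtain ⟨z, a, b, hza, hzb, hA, hbT, hab, hne, hsup, honly, hgen⟩ := exists_other h.l32 (syl T J) (isFour_sub hf) hle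
  rw [hA] at hle hne hsup honly hgen
  have m1 : z ∈ hza.sub := Or.inr (Or.inl rfl)
  have m2 : a ∈ hza.sub := Or.inr (Or.inr (Or.inl rfl))
  have m3 : b ∈ hzb.sub := Or.inr (Or.inr (Or.inl rfl))
  exact ⟨z, a, b, hza, hzb, hle m1, hle m2, hbT m3, hab, hne, fun C hC hCT => honly C hC hCT, hgen,
    fun s hs => by rw [hsup]; exact hs⟩

/-- the centre of `T ∩ J` -/
theorem Std.eq (h : Amb J) {z a b : J} (hs : Std J T z a b) {t : X} (htJ : t ∈ J) (ht1 : t ≠ 1)
    (htT : ∀ s ∈ (T : Subgroup X), s * t = t * s) : t = z := by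
  have h1 := eq_of_comm h.l32 (x := z) (b := b) (c := a) (y := ⟨t, htJ⟩) hs.zb hs.ab hs.za
    (fun e => ht1 (congrArg Subtype.val e)) (Subtype.ext (htT _ hs.zT).symm) (Subtype.ext (htT _ hs.bT).symm)
    (Subtype.ext (htT _ hs.aT).symm)
  exact congrArg Subtype.val h1

/-- `T` is not contained in `J` -/
theorem exists_outer (h : Amb J) (hJ : J ≠ ⊤) (T : Sylow 2 X) : ∃ s ∈ (T : Subgroup X), s ∉ J := by
  have : Fact (Nat.Prime 2) := ⟨Nat.prime_two⟩
  by_contra hcon
  push Not at hcon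
  have h1 : J.index ∣ (T : Subgroup X).index := index_dvd_of_le hcon
  obtain ⟨i, hi, -⟩ := h.exists_inv hJ
  have h2 : J.index = 2 := by
    rw [index_eq_two_iff]
    refine ⟨i, fun b => ?_⟩
    by_cases hb : b ∈ J
    · right
      exact ⟨hb, fun h2 => hi ((mul_mem_cancel_left hb).1 h2)⟩
    · left
      exact ⟨h.mul_mem' hb hi, hb⟩
  rw [h2] at h1
  exact T.not_dvd_index h1

/-- if `J ≠ X` then `T` does not normalise a four-group -/
theorem false_of_nor (h : Amb J) (hJ : J ≠ ⊤) {A : Subgroup X} (hA : ∀ a ∈ A, a * a = 1) (h4 : Nat.card A = 4)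
    (hAT : A ≤ T) (hn : ∀ t ∈ (T : Subgroup X), ∀ a ∈ A, t * a * t⁻¹ ∈ A) : False := by
  have hnor := h.nor
  by_cases hAJ : A ≤ J
  · obtain ⟨s, hs, hsJ⟩ := exists_outer h hJ T
    apply hsJ
    have hB : IsFour (A.subgroupOf J) := ⟨by
      rw [← h4]
      exact Nat.card_congr (Subgroup.subgroupOfEquivOfLe hAJ).toEquiv, fun b hb => Subtype.ext (hA _ hb)⟩
    obtain ⟨z, hz, a, ha, hf, hmem⟩ := hB.exists_four
    have key : ∀ c : J, c ∈ A.subgroupOf J → c ≠ 1 → s * c * s⁻¹ = z ∨ s * c * s⁻¹ = a ∨ s * c * s⁻¹ = z * a := by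
      intro c hc hc1
      have h1 : s * c * s⁻¹ ∈ A := hn s hs _ hc
      have h2 := (hmem ⟨s * c * s⁻¹, hAJ h1⟩).1 h1
      rcases h2 with e | e | e | e
      · exfalso
        have e1 : s * (c : X) * s⁻¹ = 1 := congrArg Subtype.val e
        apply hc1
        apply Subtype.ext
        calc (c : X) = s⁻¹ * (s * c * s⁻¹) * s := by group
          _ = 1 := by rw [e1]; group
      · left; exact congrArg Subtype.val e
      · right; left; exact congrArg Subtype.val e
      · right; right; exact congrArg Subtype.val e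
    exact h.mem_of_four hf (key z hz hf.a1) (key a ha hf.b1)
  · obtain ⟨s, hs, hsJ⟩ : ∃ s ∈ A, s ∉ J := by
      by_contra hcon
      push Not at hcon
      exact hAJ hcon
    have hmulJ : ∀ x ∈ A, x ∉ J → s * x ∈ J := fun x _ hx => h.mul_mem' hsJ hx
    -- `A ∩ J = {1, t}`
    have h2 : Nat.card (A ⊓ J : Subgroup X) = 2 := by
      have h1 := card_mul_relIndex (inf_le_left : A ⊓ J ≤ A)
      rw [inf_relIndex_left, h4] at h1
      have h3 : J.relIndex A = 2 := by
        change (J.subgroupOf A).index = 2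
        rw [index_eq_two_iff]
        refine ⟨⟨s, hs⟩, fun b => ?_⟩
        by_cases hb : b ∈ J.subgroupOf A
        · right
          exact ⟨hb, fun h2 => hsJ ((mul_mem_cancel_left (H := J) (x := (b : X)) hb).1 h2)⟩
        · left
          exact ⟨h.mul_mem' hb hsJ, hb⟩
      rw [h3] at h1
      omega
    obtain ⟨t, ht, ht1⟩ : ∃ t ∈ A ⊓ J, t ≠ 1 := by
      have : Nontrivial (A ⊓ J : Subgroup X) := by
        rw [← Finite.one_lt_card_iff_nontrivial, h2]; norm_num
      obtain ⟨t, ht⟩ := exists_ne (1 : (A ⊓ J : Subgroup X))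
      exact ⟨t, t.2, fun e => ht (Subtype.ext e)⟩
    have huniq : ∀ r ∈ A ⊓ J, r = 1 ∨ r = t := by
      intro r hr
      by_contra hcon
      push Not at hcon
      have h3 : ({1, t, r} : Set X) ⊆ (A ⊓ J : Subgroup X) := by
        rintro x (rfl | rfl | rfl)
        · exact one_mem _
        · exact ht
        · exact hr
      have h5 := Set.ncard_le_ncard h3 (Set.toFinite _)
      rw [Set.ncard_eq_three.2 ⟨1, t, r, ht1.symm, hcon.1.symm, hcon.2.symm, rfl⟩, ← Nat.card_coe_set_eq] at h5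
      change 3 ≤ Nat.card (A ⊓ J : Subgroup X) at h5
      omega
    have htc : ∀ τ ∈ (T : Subgroup X), τ * t = t * τ := by
      intro τ hτ
      have h3 : τ * t * τ⁻¹ ∈ A ⊓ J := ⟨hn τ hτ t ht.1, hnor.conj_mem t ht.2 τ⟩
      rcases huniq _ h3 with e | e
      · exfalso
        apply ht1
        calc t = τ⁻¹ * (τ * t * τ⁻¹) * τ := by group
          _ = 1 := by rw [e]; group
      · calc τ * t = (τ * t * τ⁻¹) * τ := by group
          _ = t * τ := by rw [e]
    obtain ⟨z, a, b, hstd⟩ := exists_std h T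
    have htz : t = z := hstd.eq h ht.2 ht1 htc
    apply hsJ
    have hsT := hAT hs
    have h5 : (a : X) * s * (a : X)⁻¹ * s⁻¹ ∈ A ⊓ J := by
      refine ⟨A.mul_mem (hn _ hstd.aT s hs) (A.inv_mem hs), ?_⟩
      have : (a : X) * s * (a : X)⁻¹ * s⁻¹ = a * (s * (a : X)⁻¹ * s⁻¹) := by group
      rw [this]
      exact mul_mem a.2 (hnor.conj_mem _ (inv_mem a.2) s)
    have h6 : s * a * s⁻¹ = ((a : X) * s * (a : X)⁻¹ * s⁻¹)⁻¹ * a := by group
    have hzs : s * z * s⁻¹ = z := by
      have := htc s hsT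
      rw [← htz, this]; group
    refine h.mem_of_four hstd.za (Or.inl hzs) ?_
    rcases huniq _ h5 with e | e
    · right; left
      rw [h6, e]; group
    · right; right
      rw [h6, e, htz]
      have : (z : X)⁻¹ = z := inv_eq_of_mul_eq_one_left (congrArg Subtype.val hstd.za.aa)
      rw [this]

namespace Md

variable {e : V}

/-- no four-group `A ≤ J ∩ T` has `|V : C_V(A)| ≤ 4` -/
theorem false_of_four (h : Md ρ J T e) {A : Subgroup X} (hAJ : A ≤ J) (h4 : Nat.card A = 4) (hA : ∀ a ∈ A, a * a = 1)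
    (hAT : A ≤ T) (hi : (CS ρ A).index ≤ 4) : False := by
  have hnor := h.nor
  have hB : IsFour (A.subgroupOf J) := ⟨by
    rw [← h4]
    exact Nat.card_congr (Subgroup.subgroupOfEquivOfLe hAJ).toEquiv, fun b hb => Subtype.ext (hA _ hb)⟩
  obtain ⟨z, a, b, hzA, haA, hza, hzb, hbT, hab, -⟩ := exists_partner h.l32 (syl T J) hB (fun x hx => hAT hx)
  have h1 : fx (ρ.comp J.subtype) z ≤ fx (ρ.comp J.subtype) a := by
    have h2 : CS ρ A = fx ρ (z : X) := eq_of_index_le (CS_le_fx hzA)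
      (hi.trans (h.four_le z.2 (fun e => hza.a1 (Subtype.ext e)) (congrArg Subtype.val hza.aa)))
    intro v hv
    have h3 : v ∈ fx ρ (z : X) := hv
    rw [← h2] at h3
    exact h3 _ haA
  obtain ⟨y, hy3, hy1, hy2⟩ := h.l32.fuse z b hzb
  have h5 : e ∈ fx (ρ.comp J.subtype) y := par_core h.l32 hza hzb hab h1 (h.fix _ (hAT hzA)) (h.fix _ hbT)
    (by rw [hy1]; exact Or.inr (Or.inr (Or.inl rfl))) (by rw [hy2]; exact Or.inr (Or.inr (Or.inr rfl)))
  refine h.f3 y (congrArg Subtype.val hy3) ?_ h5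
  intro e1
  have e2 : y = 1 := Subtype.ext e1
  rw [e2, one_mul, inv_one, mul_one] at hy1
  exact hzb.ne hy1

theorem four_cases (sq : ∀ v : V, v * v = 1) {D : Subgroup V} (hD : Nat.card D ≤ 4) {a b x : V} (ha : a ∈ D)
    (hb : b ∈ D) (ha0 : a ≠ 1) (hb0 : b ≠ 1) (hab : a ≠ b) (hx : x ∈ D) : x = 1 ∨ x = a ∨ x = b ∨ x = a * b := by
  classical
  by_contra hcon
  push Not at hcon
  obtain ⟨c1, c2, c3, c4⟩ := hcon
  have hab1 : a * b ≠ 1 := fun e1 => hab (eq_of_mul_eq_one sq e1)
  have haba : a * b ≠ a := fun e1 => hb0 (mul_eq_left.1 e1)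
  have habb : a * b ≠ b := fun e1 => ha0 (mul_eq_right.1 e1)
  have h1 : ((({1, a, b, a * b, x} : Finset V) : Set V)) ⊆ (D : Set V) := by
    intro y hy
    simp only [Finset.coe_insert, Finset.coe_singleton, Set.mem_insert_iff, Set.mem_singleton_iff] at hy
    rcases hy with rfl | rfl | rfl | rfl | rfl
    · exact D.one_mem
    · exact ha
    · exact hb
    · exact mul_mem ha hb
    · exact hx
  have h2 := Set.ncard_le_ncard h1 (Set.toFinite _)
  rw [Set.ncard_coe_finset, ← Nat.card_coe_set_eq] at h2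
  have e1 : (1 : V) ∉ ({a, b, a * b, x} : Finset V) := by
    simp only [Finset.mem_insert, Finset.mem_singleton, not_or]
    exact ⟨ha0.symm, hb0.symm, hab1.symm, c1.symm⟩
  have e2 : a ∉ ({b, a * b, x} : Finset V) := by
    simp only [Finset.mem_insert, Finset.mem_singleton, not_or]
    exact ⟨hab, haba.symm, c2.symm⟩
  have e3 : b ∉ ({a * b, x} : Finset V) := by
    simp only [Finset.mem_insert, Finset.mem_singleton, not_or]
    exact ⟨habb.symm, c3.symm⟩
  have e4 : a * b ∉ ({x} : Finset V) := by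
    simp only [Finset.mem_singleton]
    exact c4.symm
  rw [Finset.card_insert_of_notMem e1, Finset.card_insert_of_notMem e2, Finset.card_insert_of_notMem e3,
    Finset.card_insert_of_notMem e4, Finset.card_singleton] at h2
  change 5 ≤ Nat.card D at h2
  omega

/-- **(ID)** -/
theorem fix_id (h : Md ρ J T e) {t s : J} (hf : Four t s) (hi : (fx ρ (t : X)).index ≤ 4)
    (he : e ∈ (cm ρ (t : X)).range) (hs : ρ s e = e) {r : V} (hr : r ∈ (cm ρ (t : X)).range) : ρ s r = r := by
  have hinv : ∀ v : V, v⁻¹ = v := fun v => inv_eq_of_mul_eq_one_right (h.sq v)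
  have hst : (s : X) * t = t * s := congrArg Subtype.val hf.comm.symm
  set R := (cm ρ (t : X)).range with hR
  have hRc : Nat.card R ≤ 4 := by rw [hR, card_range_cm]; exact hi
  have he1 := h.ne_one
  have key : ∀ r ∈ R, ρ s r ≠ r → ρ s r * r = e := by
    intro r hr hne
    have hr1 : r ≠ 1 := by rintro rfl; exact hne (map_one _)
    have hre : e ≠ r := by rintro rfl; exact hne hs
    have hd : ρ s r * r ∈ R := mul_mem (apply_mem_range ρ hst hr) hr
    rcases four_cases h.sq hRc he hr he1 hr1 hre hd with e1 | e1 | e1 | e1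
    · exact absurd (eq_of_mul_eq_one h.sq e1) hne
    · exact e1
    · exfalso
      have e2 : ρ s r = 1 := mul_eq_right.1 e1
      exact hr1 ((ρ (s : X)).injective (by rw [e2, map_one]))
    · exfalso
      have e2 : ρ s r = e := mul_right_cancel e1
      exact hre ((ρ (s : X)).injective (by rw [e2, hs]))
  by_contra hne
  obtain ⟨v, rfl⟩ := hr
  obtain ⟨y, hy3, hy1, hy2⟩ := h.l32.fuse t s hf
  have hy1' : (y : X) * t * (y : X)⁻¹ = s := congrArg Subtype.val hy1
  have hy2' : (y : X) * s * (y : X)⁻¹ = t * s := congrArg Subtype.val hy2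
  have hN : ∀ w : V, ρ s (cm ρ (t : X) w) * cm ρ (t : X) w = ρ ((s : X) * t) w * ρ s w * (ρ t w * w) := by
    intro w
    rw [cm_apply, hinv, map_mul, map_mul ρ, MulAut.mul_apply]
  have h1 := key _ ⟨v, rfl⟩ hne
  rw [hN] at h1
  set w := ρ y v with hw
  have h2 : ρ y e = ρ s (cm ρ (t : X) w) * cm ρ (t : X) w := by
    rw [hN, ← h1, map_mul (ρ (y : X)), map_mul (ρ (y : X)), map_mul (ρ (y : X))]
    have a1 : ρ y (ρ ((s : X) * t) v) = ρ t w := by
      rw [hw, ← MulAut.mul_apply, ← MulAut.mul_apply, ← map_mul, ← map_mul]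
      have : (y : X) * (s * t) = t * y := by
        calc (y : X) * (s * t) = (y * s * (y : X)⁻¹) * (y * t * (y : X)⁻¹) * y := by group
          _ = t * (s * s) * y := by rw [hy1', hy2']; group
          _ = t * y := by
            have : (s : X) * s = 1 := congrArg Subtype.val hf.bb
            rw [this, mul_one]
      rw [this]
    have a2 : ρ y (ρ (s : X) v) = ρ ((s : X) * t) w := by
      rw [hw, ← MulAut.mul_apply, ← MulAut.mul_apply, ← map_mul, ← map_mul]
      have : (y : X) * s = s * t * y := by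
        calc (y : X) * s = (y * s * (y : X)⁻¹) * y := by group
          _ = s * t * y := by rw [hy2', hst]
      rw [this]
    have a3 : ρ y (ρ (t : X) v) = ρ s w := by
      rw [hw, ← MulAut.mul_apply, ← MulAut.mul_apply, ← map_mul, ← map_mul]
      have : (y : X) * t = s * y := by
        calc (y : X) * t = (y * t * (y : X)⁻¹) * y := by group
          _ = s * y := by rw [hy1']
      rw [this]
    rw [a1, a2, a3]
    calc ρ t w * ρ ((s : X) * t) w * (ρ s w * w) = ρ ((s : X) * t) w * ρ t w * (ρ s w * w) := by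
          rw [mul_comm (ρ t w)]
      _ = ρ ((s : X) * t) w * (ρ t w * ρ s w) * w := by simp only [mul_assoc]
      _ = ρ ((s : X) * t) w * (ρ s w * ρ t w) * w := by rw [mul_comm (ρ t w)]
      _ = ρ ((s : X) * t) w * ρ s w * (ρ t w * w) := by simp only [mul_assoc]
  have hye : ρ y e = e := by
    by_cases hc : ρ s (cm ρ (t : X) w) = cm ρ (t : X) w
    · exfalso
      rw [hc, h.sq] at h2
      exact he1 ((ρ (y : X)).injective (by rw [h2, map_one]))
    · rw [h2]; exact key _ ⟨w, rfl⟩ hc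
  refine h.f3 y (congrArg Subtype.val hy3) ?_ hye
  intro e1
  have e2 : y = 1 := Subtype.ext e1
  rw [e2, one_mul, inv_one, mul_one] at hy1
  exact hf.ne hy1

/-- `T ∩ J` centralises `[V, z]` -/
theorem syl_trivial (h : Md ρ J T e) {z a b : J} (hstd : Std J T z a b) (hi : (fx ρ (z : X)).index ≤ 4)
    (he : e ∈ (cm ρ (z : X)).range) {s : X} (hs : s ∈ (T : Subgroup X)) (hsJ : s ∈ J) {r : V}
    (hr : r ∈ (cm ρ (z : X)).range) : ρ s r = r := by
  have hz : ρ (z : X) r = r := apply_cm h.sq (congrArg Subtype.val hstd.za.aa) hr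
  have ha : ρ (a : X) r = r := h.fix_id hstd.za hi he (h.fix _ hstd.aT) hr
  have hb : ρ (b : X) r = r := h.fix_id hstd.zb hi he (h.fix _ hstd.bT) hr
  have h1 : hstd.za.sub ⊔ hstd.zb.sub ≤ (stb ρ r).comap J.subtype := by
    refine sup_le ?_ ?_
    · rintro x (rfl | rfl | rfl | rfl)
      · exact one_mem _
      · exact hz
      · exact ha
      · exact mul_mem (show z ∈ (stb ρ r).comap J.subtype from hz) (show a ∈ (stb ρ r).comap J.subtype from ha)
    · rintro x (rfl | rfl | rfl | rfl)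
      · exact one_mem _
      · exact hz
      · exact hb
      · exact mul_mem (show z ∈ (stb ρ r).comap J.subtype from hz) (show b ∈ (stb ρ r).comap J.subtype from hb)
  exact h1 (hstd.sup ⟨s, hsJ⟩ hs)

end Md

end Cfsg.Agent.OddCyclic.EN.S7Mod
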