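import Cfsg.Agent.OddCyclic.EN.S7Fac

/-!
# S0342 (B-b), type (B'), `n = 1`: the module, third part

* `Md.card_eq`: if `J ≠ X`, `|V : C_V(t)| ≤ 4`, `e ∈ [V, t]`: `|V| = 64`, `C_V(J) = 1`;
* `Md.exists_move`: `κ ∈ T`, `κ ∉ J`: `[C_V(z), κ] ≰ [V, z]`;
* `Md.final`: `N` a `J`-submodule, `P ≤ C_V(z)` invariant under `s ∉ J`, `|N : N ∩ P| ≤ 2`: `P = C_V(z)`.
-/

set_option autoImplicit false
set_option linter.unusedSectionVars false

namespace Cfsg.Agent.OddCyclic.EN.S7Mod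

open Subgroup Cfsg.Agent.OddCyclic.T1Module Cfsg.Agent.OddCyclic.FFBasic
  Cfsg.Agent.OddCyclic.FFRed Cfsg.Agent.OddCyclic.FFPsl Cfsg.Agent.OddCyclic.FFThree Cfsg.Agent.GH.L2Aut
  Cfsg.Agent.OddCyclic.FFSl2 Cfsg.Agent.OddCyclic.EN.S7Grp

variable {X : Type*} [Group X] [Finite X] {V : Type*} [CommGroup V] [Finite V] {ρ : X →* MulAut V}
  {J : Subgroup X} {T : Sylow 2 X}

/-- `[V, J]` is contained in the product of three `[V, a]` -/
theorem exists_W (h : Amb J) {a : X} (haJ : a ∈ J) (ha1 : a ≠ 1) (ha : a * a = 1) :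
    ∃ W : Subgroup V, Nat.card W ≤ (fx ρ a).index ^ 3 ∧ ∀ j ∈ J, ∀ v, ρ j v * v⁻¹ ∈ W := by
  obtain ⟨w, b, c, hw, hw1, hb, hb1, hc, hc1, -, hgen⟩ := h.l32.gen
  have hidx : ∀ x : J, x * x = 1 → x ≠ 1 → Nat.card (cm ρ (x : X)).range = (fx ρ a).index := by
    intro x hx hx1
    rw [card_range_cm]
    obtain ⟨g, hg⟩ := h.l32.conj ⟨a, haJ⟩ x (fun e => ha1 (congrArg Subtype.val e)) (Subtype.ext ha) hx1 hx
    have hg' : (g : X) * a * (g : X)⁻¹ = x := congrArg Subtype.val hg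
    rw [← hg', index_fx_conj]
  set W := (cm ρ (w : X)).range ⊔ ((cm ρ (b : X)).range ⊔ (cm ρ (c : X)).range) with hW
  refine ⟨W, ?_, ?_⟩
  · have h1 := card_sup_le (cm ρ (w : X)).range ((cm ρ (b : X)).range ⊔ (cm ρ (c : X)).range)
    have h2 := card_sup_le (cm ρ (b : X)).range (cm ρ (c : X)).range
    rw [hidx w hw hw1] at h1
    rw [hidx b hb hb1, hidx c hc hc1] at h2
    calc Nat.card W ≤ (fx ρ a).index * ((fx ρ a).index * (fx ρ a).index) := h1.trans (Nat.mul_le_mul_left _ h2)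
      _ = (fx ρ a).index ^ 3 := by ring
  · let K : Subgroup J :=
      { carrier := {j | ∀ v, ρ j v * v⁻¹ ∈ W}
        mul_mem' := by
          intro i j hi hj v
          have e : ρ ((i * j : J) : X) v * v⁻¹ = (ρ i (ρ j v) * (ρ j v)⁻¹) * (ρ j v * v⁻¹) := by
            rw [Subgroup.coe_mul, map_mul, MulAut.mul_apply]; group
          rw [e]
          exact mul_mem (hi _) (hj _)
        one_mem' := by
          intro v
          rw [Subgroup.coe_one, map_one, MulAut.one_apply, mul_inv_cancel]; exact one_mem _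
        inv_mem' := by
          intro i hi v
          have h1 := inv_mem (hi (ρ ((i⁻¹ : J) : X) v))
          have e : ρ (i : X) (ρ ((i⁻¹ : J) : X) v) = v := by
            rw [← MulAut.mul_apply, ← map_mul, Subgroup.coe_inv, mul_inv_cancel, map_one]; rfl
          rw [e, mul_inv, inv_inv, mul_comm] at h1
          exact h1 }
    have hle1 : (cm ρ (w : X)).range ≤ W := le_sup_left
    have hle2 : (cm ρ (b : X)).range ≤ W := le_sup_left.trans le_sup_right
    have hle3 : (cm ρ (c : X)).range ≤ W := le_sup_right.trans le_sup_right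
    have hwK : w ∈ K := fun v => hle1 ⟨v, rfl⟩
    have hbK : b ∈ K := fun v => hle2 ⟨v, rfl⟩
    have hcK : c ∈ K := fun v => hle3 ⟨v, rfl⟩
    have htop : (⊤ : Subgroup J) ≤ K := by
      rw [← hgen, closure_le]
      rintro x (rfl | rfl)
      · exact hwK
      · exact mul_mem (mul_mem hbK hcK) hwK
    intro j hj
    exact htop (mem_top (⟨j, hj⟩ : J))

namespace Md

variable {e : V}

/-- `|V| = 64`, `C_V(J) = 1` -/
theorem card_eq (h : Md ρ J T e) (hJ : J ≠ ⊤) (gen : ∀ N : Subgroup V, (∀ g, ρ g e ∈ N) → N = ⊤) {t : X}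
    (htJ : t ∈ J) (ht1 : t ≠ 1) (htt : t * t = 1) (hi : (fx ρ t).index ≤ 4) (he : e ∈ (cm ρ t).range) :
    CS ρ J = ⊥ ∧ Nat.card V = 64 := by
  have hnor := h.nor
  obtain ⟨u, hu, hu7, hu64⟩ := exists_seven h.toAmb hJ h.sq h.nt
  have hC64 : (CS ρ J).index ≤ 64 := (index_le_cube' (ρ := ρ) h.toAmb h.sq htJ ht1 htt).trans
    (Nat.pow_le_pow_left hi 3)
  have hfu : CS ρ J = fx ρ u := eq_of_index_le (fx_ge ρ hu) (hC64.trans hu64)
  obtain ⟨W, hW, hWJ⟩ := exists_W (ρ := ρ) h.toAmb htJ ht1 htt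
  have hW64 : Nat.card W ≤ 64 := hW.trans (Nat.pow_le_pow_left hi 3)
  have hRu : (cm ρ u).range ≤ W := by
    rintro _ ⟨v, rfl⟩
    exact hWJ u hu v
  have hRW : (cm ρ u).range = W := Subgroup.eq_of_le_of_card_ge hRu (by
    rw [card_range_cm]; exact hW64.trans hu64)
  have hWtop : W = ⊤ := by
    apply gen
    intro g
    obtain ⟨v, hv⟩ := he
    have e1 : ρ g e = ρ (g * t * g⁻¹) (ρ g v) * (ρ g v)⁻¹ := by
      rw [← hv, cm_apply, map_mul, map_inv]
      congr 1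
      rw [← MulAut.mul_apply, ← MulAut.mul_apply, ← map_mul, ← map_mul]
      congr 2; group
    rw [e1]
    exact hWJ _ (hnor.conj_mem t htJ g) _
  rw [hWtop] at hRW hW64
  have hcard : Nat.card (⊤ : Subgroup V) = Nat.card V := Subgroup.card_top
  have hV : Nat.card V = 64 := by
    have h1 := card_range_cm ρ u
    rw [hRW, hcard] at h1
    rw [hcard] at hW64
    omega
  refine ⟨?_, hV⟩
  rw [hfu, eq_bot_iff]
  intro v hv
  rw [mem_bot]
  exact eq_one_of_fix h.sq (by rw [hu7]; decide) (by rw [hRW]; trivial) hv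

theorem apply_fx {κ : X} {A B : Subgroup J} (hAB : ∀ b ∈ B, ∃ a ∈ A, κ * (a : X) * κ⁻¹ = b) {m : V}
    (hm : ∀ a ∈ A, ρ (a : X) m = m) : ∀ b ∈ B, ρ (b : X) (ρ κ m) = ρ κ m := by
  intro b hb
  obtain ⟨a, ha, e1⟩ := hAB b hb
  rw [← e1, ← MulAut.mul_apply, ← map_mul, inv_mul_cancel_right, map_mul, MulAut.mul_apply, hm a ha]

/-- an element `κ ∈ T` outside `J` interchanges the two four-groups -/
theorem swap_four (h : Amb J) {z a b : J} (hstd : Std J T z a b) {κ : X} (hκT : κ ∈ (T : Subgroup X)) (hκ : κ ∉ J) :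
    (∀ x ∈ hstd.zb.sub, ∃ y ∈ hstd.za.sub, κ * (y : X) * κ⁻¹ = x) ∧
    (∀ x ∈ hstd.za.sub, ∃ y ∈ hstd.zb.sub, κ * (y : X) * κ⁻¹ = x) := by
  have hnor := h.nor
  have key : ∀ {p q : J} (hpq : Four p q), (p : X) ∈ (T : Subgroup X) → (q : X) ∈ (T : Subgroup X) →
      hpq.sub.map (MulAut.conjNormal κ : MulAut J).toMonoidHom ≠ hpq.sub ∧
      (hpq.sub.map (MulAut.conjNormal κ : MulAut J).toMonoidHom = hstd.za.sub ∨
        hpq.sub.map (MulAut.conjNormal κ : MulAut J).toMonoidHom = hstd.zb.sub) := by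
    intro p q hpq hp hq
    constructor
    · intro heq
      apply hκ
      have key2 : ∀ c ∈ hpq.sub, c ≠ 1 → κ * (c : X) * κ⁻¹ = p ∨ κ * (c : X) * κ⁻¹ = q ∨ κ * (c : X) * κ⁻¹ = p * q := by
        intro c hc hc1
        have h1 : (MulAut.conjNormal κ : MulAut J) c ∈ hpq.sub := by
          rw [← heq]; exact ⟨c, hc, rfl⟩
        have h2 : (((MulAut.conjNormal κ : MulAut J) c : J) : X) = κ * c * κ⁻¹ := MulAut.conjNormal_apply _ _
        rw [← h2]
        rcases h1 with e1 | e1 | e1 | e1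
        · exfalso
          exact hc1 ((MulAut.conjNormal κ : MulAut J).injective (by rw [e1, map_one]))
        · left; rw [e1]
        · right; left; rw [e1]
        · right; right; rw [e1]; rfl
      exact h.mem_of_four hpq (key2 p (Or.inr (Or.inl rfl)) hpq.a1) (key2 q (Or.inr (Or.inr (Or.inl rfl))) hpq.b1)
    · apply hstd.only
      · exact RedSevenA.isFour_map (isFour_sub hpq) _ (MulAut.conjNormal κ : MulAut J).injective
      · rintro _ ⟨c, hc, rfl⟩
        change ((((MulAut.conjNormal κ : MulAut J) c : J)) : X) ∈ _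
        rw [MulAut.conjNormal_apply]
        refine mul_mem (mul_mem hκT ?_) (inv_mem hκT)
        rcases hc with rfl | rfl | rfl | rfl
        · exact one_mem _
        · exact hp
        · exact hq
        · exact mul_mem hp hq
  obtain ⟨k1, k2⟩ := key hstd.za hstd.zT hstd.aT
  obtain ⟨k3, k4⟩ := key hstd.zb hstd.zT hstd.bT
  constructor
  · rcases k2 with e1 | e1
    · exact absurd e1 k1
    · intro x hx
      rw [← e1] at hx
      obtain ⟨y, hy, rfl⟩ := hx
      exact ⟨y, hy, (MulAut.conjNormal_apply _ _).symm⟩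
  · rcases k4 with e1 | e1
    · intro x hx
      rw [← e1] at hx
      obtain ⟨y, hy, rfl⟩ := hx
      exact ⟨y, hy, (MulAut.conjNormal_apply _ _).symm⟩
    · exact absurd e1 k3

/-- `C_V(E)` for `E ≤ J` -/
def cf (ρ : X →* MulAut V) (A : Subgroup J) : Subgroup V := CS (ρ.comp J.subtype) A

theorem mem_cf {A : Subgroup J} {v : V} : v ∈ cf ρ A ↔ ∀ a ∈ A, ρ (a : X) v = v := Iff.rfl

theorem cf_inv {A : Subgroup J} {v : V} (hv : v ∈ cf ρ A) {j : J} (hj : j ∈ normalizer (A : Set J)) :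
    ρ (j : X) v ∈ cf ρ A := by
  intro a ha
  have h1 : j⁻¹ * a * j ∈ A := by
    have := (mem_normalizer_iff.1 (inv_mem hj) a).1 ha
    rwa [inv_inv] at this
  have h2 : ρ ((j⁻¹ * a * j : J) : X) v = v := hv _ h1
  change ρ (a : X) (ρ (j : X) v) = ρ (j : X) v
  have e : ρ (a : X) (ρ (j : X) v) = ρ (j : X) (ρ ((j⁻¹ * a * j : J) : X) v) := by
    rw [← MulAut.mul_apply, ← MulAut.mul_apply, ← map_mul, ← map_mul]
    congr 2
    rw [Subgroup.coe_mul, Subgroup.coe_mul, Subgroup.coe_inv]; group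
  rw [e, h2]

/-- `κ ∈ T`, `κ ∉ J`: `[C_V(z), κ] ≰ [V, z]` -/
theorem exists_move (h : Md ρ J T e) {z a b : J} (hstd : Std J T z a b) (hi : (fx ρ (z : X)).index ≤ 4)
    (he : e ∈ (cm ρ (z : X)).range) {κ : X} (hκT : κ ∈ (T : Subgroup X)) (hκ : κ ∉ J) :
    ∃ m ∈ fx ρ (z : X), ρ κ m * m⁻¹ ∉ (cm ρ (z : X)).range := by
  have hnor := h.nor
  have hsimp := h.simple
  by_contra hcon
  push Not at hcon
  obtain ⟨s1, s2⟩ := swap_four h.toAmb hstd hκT hκ
  have hmemT : ∀ x ∈ hstd.za.sub, (x : X) ∈ (T : Subgroup X) := by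
    rintro x (rfl | rfl | rfl | rfl)
    · exact one_mem _
    · exact hstd.zT
    · exact hstd.aT
    · exact mul_mem hstd.zT hstd.aT
  -- `C_V(E₁) ≤ C_V(E₂)`
  have hR : (cm ρ (z : X)).range ≤ cf ρ hstd.za.sub := fun r hr x hx =>
    h.syl_trivial hstd hi he (hmemT x hx) x.2 hr
  have key : ∀ m ∈ cf ρ hstd.za.sub, ρ κ m ∈ cf ρ hstd.za.sub := by
    intro m hm
    have h1 : m ∈ fx ρ (z : X) := hm z (Or.inr (Or.inl rfl))
    have h2 := hR (hcon m h1)
    have e1 : ρ κ m = (ρ κ m * m⁻¹) * m := by group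
    rw [e1]
    exact mul_mem h2 hm
  have key2 : ∀ m ∈ cf ρ hstd.za.sub, ρ κ m ∈ cf ρ hstd.zb.sub := fun m hm => apply_fx s1 hm
  -- `ρ κ` maps `C_V(E₁)` onto itself
  have hmap : (cf ρ hstd.za.sub).map (ρ κ : V ≃* V).toMonoidHom = cf ρ hstd.za.sub := by
    apply Subgroup.eq_of_le_of_card_ge
    · rintro _ ⟨m, hm, rfl⟩
      exact key m hm
    · rw [Subgroup.card_map_of_injective (f := (ρ κ : V ≃* V).toMonoidHom) (ρ κ).injective]
  have hle : cf ρ hstd.za.sub ≤ cf ρ hstd.zb.sub := by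
    rw [← hmap]
    rintro _ ⟨m, hm, rfl⟩
    exact key2 m hm
  have hcard : Nat.card (cf ρ hstd.zb.sub) ≤ Nat.card (cf ρ hstd.za.sub) := by
    rw [← Subgroup.card_map_of_injective (K := cf ρ hstd.zb.sub) (f := (ρ κ : V ≃* V).toMonoidHom) (ρ κ).injective]
    apply Subgroup.card_le_of_le
    rintro _ ⟨m, hm, rfl⟩
    exact apply_fx s2 hm
  have heq : cf ρ hstd.za.sub = cf ρ hstd.zb.sub := Subgroup.eq_of_le_of_card_ge hle hcard
  -- `J`-invariant
  have hinv : ∀ j : J, ∀ v ∈ cf ρ hstd.za.sub, ρ (j : X) v ∈ cf ρ hstd.za.sub := by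
    let K : Subgroup J :=
      { carrier := {j | (∀ v ∈ cf ρ hstd.za.sub, ρ (j : X) v ∈ cf ρ hstd.za.sub) ∧
          ∀ v ∈ cf ρ hstd.za.sub, ρ (j : X)⁻¹ v ∈ cf ρ hstd.za.sub}
        mul_mem' := by
          rintro i j ⟨hi, hi'⟩ ⟨hj, hj'⟩
          refine ⟨fun v hv => ?_, fun v hv => ?_⟩
          · rw [Subgroup.coe_mul, map_mul]; exact hi _ (hj _ hv)
          · rw [Subgroup.coe_mul, mul_inv_rev, map_mul]; exact hj' _ (hi' _ hv)
        one_mem' := by
          refine ⟨fun v hv => ?_, fun v hv => ?_⟩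
          · rw [Subgroup.coe_one, map_one]; exact hv
          · rw [Subgroup.coe_one, inv_one, map_one]; exact hv
        inv_mem' := by
          rintro i ⟨hi, hi'⟩
          refine ⟨fun v hv => ?_, fun v hv => ?_⟩
          · rw [Subgroup.coe_inv]; exact hi' v hv
          · rw [Subgroup.coe_inv, inv_inv]; exact hi v hv }
    have hK : (⊤ : Subgroup J) ≤ K := by
      rw [← hstd.gen]
      refine sup_le ?_ ?_
      · intro j hj
        refine ⟨fun v hv => cf_inv hv hj, fun v hv => ?_⟩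
        have := cf_inv hv (inv_mem hj)
        rwa [Subgroup.coe_inv] at this
      · intro j hj
        refine ⟨fun v hv => ?_, fun v hv => ?_⟩
        · rw [heq] at hv ⊢; exact cf_inv hv hj
        · rw [heq] at hv ⊢
          have := cf_inv hv (inv_mem hj)
          rwa [Subgroup.coe_inv] at this
    intro j
    exact (hK (mem_top j)).1
  -- `z` is trivial on all `ρ j e`
  have heC : e ∈ cf ρ hstd.za.sub := hR he
  obtain ⟨y, hy3, hy1, hy2⟩ := h.l32.fuse z a hstd.za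
  -- the stabiliser of all of `C_V(E₁)` in `J` is normal
  let N : Subgroup J :=
    { carrier := {j | ∀ v ∈ cf ρ hstd.za.sub, ρ (j : X) v = v}
      mul_mem' := by
        intro i j hi hj v hv
        rw [Subgroup.coe_mul, map_mul, MulAut.mul_apply, hj v hv, hi v hv]
      one_mem' := by
        intro v hv
        rw [Subgroup.coe_one, map_one]; rfl
      inv_mem' := by
        intro i hi v hv
        rw [Subgroup.coe_inv]
        have h1 := hi v hv
        calc ρ (i : X)⁻¹ v = ρ (i : X)⁻¹ (ρ (i : X) v) := by rw [h1]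
          _ = v := by rw [← MulAut.mul_apply, ← map_mul, inv_mul_cancel, map_one]; rfl }
  have hN : N.Normal := by
    refine ⟨fun n hn g => ?_⟩
    intro v hv
    have h1 := hn _ (hinv g⁻¹ v hv)
    have e1 : ρ ((g * n * g⁻¹ : J) : X) v = ρ (g : X) (ρ (n : X) (ρ ((g⁻¹ : J) : X) v)) := by
      rw [← MulAut.mul_apply, ← MulAut.mul_apply, ← map_mul, ← map_mul]
      congr 2
    rw [e1, h1, ← MulAut.mul_apply, ← map_mul, ← Subgroup.coe_mul, mul_inv_cancel, Subgroup.coe_one, map_one]; rfl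
  have hzN : z ∈ N := fun v hv => hv z (Or.inr (Or.inl rfl))
  rcases IsSimpleGroup.eq_bot_or_eq_top_of_normal N hN with h1 | h1
  · rw [h1, mem_bot] at hzN
    exact hstd.za.a1 hzN
  · have hyN : y ∈ N := by rw [h1]; trivial
    refine h.f3 y (congrArg Subtype.val hy3) ?_ (hyN e heC)
    intro e1
    have e2 : y = 1 := Subtype.ext e1
    rw [e2, one_mul, inv_one, mul_one] at hy1
    exact hstd.za.ne hy1

end Md

/-- restriction to an invariant subgroup -/
def res {Y : Type*} [Group Y] (ρ : Y →* MulAut V) (N : Subgroup V) (hN : ∀ x, ∀ n ∈ N, ρ x n ∈ N) :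
    Y →* MulAut N where
  toFun x :=
    { toFun := fun n => ⟨ρ x n, hN x n n.2⟩
      invFun := fun n => ⟨ρ x⁻¹ n, hN x⁻¹ n n.2⟩
      left_inv := fun n => by
        apply Subtype.ext
        change ρ x⁻¹ (ρ x n) = n
        rw [← MulAut.mul_apply, ← map_mul, inv_mul_cancel, map_one]; rfl
      right_inv := fun n => by
        apply Subtype.ext
        change ρ x (ρ x⁻¹ n) = n
        rw [← MulAut.mul_apply, ← map_mul, mul_inv_cancel, map_one]; rfl
      map_mul' := fun a b => by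
        apply Subtype.ext
        change ρ x (a * b : V) = ρ x a * ρ x b
        rw [map_mul] }
  map_one' := by
    ext n
    change ρ 1 (n : V) = n
    rw [map_one]; rfl
  map_mul' x y := by
    ext n
    change ρ (x * y) (n : V) = ρ x (ρ y (n : V))
    rw [map_mul]; rfl

theorem res_apply {Y : Type*} [Group Y] (ρ : Y →* MulAut V) (N : Subgroup V) (hN : ∀ x, ∀ n ∈ N, ρ x n ∈ N) (x : Y)
    (n : N) : ((res ρ N hN x n : N) : V) = ρ x n := rfl

/-- `J` acts nontrivially on the `J`-submodules -/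
theorem nontriv_of (hC : CS ρ J = ⊥) {D : Subgroup V} (hD1 : D ≠ ⊥) : ∃ j ∈ J, ∃ v ∈ D, ρ j v ≠ v := by
  by_contra hcon
  push Not at hcon
  apply hD1
  rw [eq_bot_iff, ← hC]
  exact fun v hv j hj => hcon j hj v hv

/-- `J`-submodules have order at least 8 -/
theorem eight_le_card (h : Amb J) (sq : ∀ v : V, v * v = 1) (hC : CS ρ J = ⊥) {D : Subgroup V}
    (hD : ∀ j ∈ J, ∀ d ∈ D, ρ j d ∈ D) (hD1 : D ≠ ⊥) : 8 ≤ Nat.card D := by
  have hsimp := h.simple
  obtain ⟨j, hj, v, hv, hjv⟩ := nontriv_of hC hD1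
  let σ : J →* MulAut D := res (ρ.comp J.subtype) D (fun x n hn => hD x x.2 n hn)
  have hmod : Mod σ := by
    refine ⟨h.l32, fun v => Subtype.ext (sq v), fun y hy => ?_⟩
    by_contra hcon
    push Not at hcon
    have hk : y ∈ σ.ker := by
      rw [MonoidHom.mem_ker]
      ext v
      rw [hcon v]; rfl
    rcases IsSimpleGroup.eq_bot_or_eq_top_of_normal σ.ker inferInstance with h1 | h1
    · rw [h1, mem_bot] at hk
      exact hy hk
    · apply hjv
      have h2 : (⟨j, hj⟩ : J) ∈ σ.ker := by rw [h1]; trivial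
      rw [MonoidHom.mem_ker] at h2
      have h3 := congrArg (fun α : MulAut D => ((α ⟨v, hv⟩ : D) : V)) h2
      exact h3
  have h1 := hmod.top_le
  exact h1.trans (Nat.le_of_dvd Nat.card_pos (Subgroup.index_dvd_card _))

/-- `X`-submodules have order at least 64 -/
theorem card_ge (h : Amb J) (hJ : J ≠ ⊤) (sq : ∀ v : V, v * v = 1) (hC : CS ρ J = ⊥) {D : Subgroup V}
    (hD : ∀ x : X, ∀ d ∈ D, ρ x d ∈ D) (hD1 : D ≠ ⊥) : 64 ≤ Nat.card D := by
  obtain ⟨j, hj, v, hv, hjv⟩ := nontriv_of hC hD1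
  obtain ⟨u, -, -, hi⟩ := exists_seven (ρ := res ρ D hD) h hJ (fun v => Subtype.ext (sq v))
    ⟨j, hj, ⟨v, hv⟩, fun e => hjv (congrArg Subtype.val e)⟩
  exact hi.trans (Nat.le_of_dvd Nat.card_pos (Subgroup.index_dvd_card _))

/-- the end -/
theorem final (h : Amb J) (hJ : J ≠ ⊤) (sq : ∀ v : V, v * v = 1) (hC : CS ρ J = ⊥) (hV : Nat.card V = 64) {z : X}
    (hzJ : z ∈ J) (hz1 : z ≠ 1) (hzz : z * z = 1) (hi : (fx ρ z).index = 4) {N P : Subgroup V}
    (hN : ∀ j ∈ J, ∀ d ∈ N, ρ j d ∈ N) (hN1 : N ≠ ⊥) (hP : P ≤ fx ρ z) (hPN : P.relIndex N ≤ 2) {s : X} (hs : s ∉ J)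
    (hPs : ∀ p ∈ P, ρ s p ∈ P) : P = fx ρ z := by
  have hnor := h.nor
  have hinv : ∀ v : V, v⁻¹ = v := fun v => inv_eq_of_mul_eq_one_right (sq v)
  -- `|N| ≤ 8`
  have hzN : (fx ρ z).relIndex N ≤ 2 := by
    refine le_trans ?_ hPN
    have h1 : (fx ρ z).relIndex N ∣ P.relIndex N := relIndex_dvd_of_le_left N hP
    exact Nat.le_of_dvd (Nat.pos_of_ne_zero (by
      rw [Subgroup.relIndex]; exact index_ne_zero_of_finite)) h1
  have hN8 : Nat.card N ≤ 8 := by
    obtain ⟨w, b, c, hw, hw1, hb, hb1, hc, hc1, -, hgen⟩ := h.l32.gen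
    have hidx : ∀ x : J, x * x = 1 → x ≠ 1 → (fx ρ (x : X)).relIndex N = (fx ρ z).relIndex N := by
      intro x hx hx1
      obtain ⟨g, hg⟩ := h.l32.conj ⟨z, hzJ⟩ x (fun e => hz1 (congrArg Subtype.val e)) (Subtype.ext hzz) hx1 hx
      have hg' : (g : X) * z * (g : X)⁻¹ = x := congrArg Subtype.val hg
      have e1 : N = N.map (ρ (g : X) : V ≃* V).toMonoidHom := by
        symm
        apply Subgroup.eq_of_le_of_card_ge
        · rintro _ ⟨n, hn, rfl⟩
          exact hN g g.2 n hn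
        · rw [Subgroup.card_map_of_injective (f := (ρ (g : X) : V ≃* V).toMonoidHom) (ρ (g : X)).injective]
      rw [← hg', fx_conj]
      nth_rewrite 1 [e1]
      exact relIndex_map_map_of_injective _ _ (f := (ρ (g : X) : V ≃* V).toMonoidHom) (ρ (g : X)).injective
    have hbot : (fx ρ (w : X) ⊓ (fx ρ (b : X) ⊓ fx ρ (c : X))) ⊓ N = ⊥ := by
      rw [eq_bot_iff, ← hC]
      rintro v ⟨⟨h1, h2, h3⟩, -⟩
      have h4 : (⊤ : Subgroup J) ≤ (stb ρ v).comap J.subtype := by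
        rw [← hgen, closure_le]
        rintro x (rfl | rfl)
        · exact h1
        · exact mul_mem (mul_mem (show b ∈ (stb ρ v).comap J.subtype from h2)
            (show c ∈ (stb ρ v).comap J.subtype from h3)) (show w ∈ (stb ρ v).comap J.subtype from h1)
      intro j hj
      exact h4 (mem_top (⟨j, hj⟩ : J))
    have h1 : Nat.card N = (fx ρ (w : X) ⊓ (fx ρ (b : X) ⊓ fx ρ (c : X))).relIndex N := by
      rw [← inf_relIndex_right, hbot, relIndex_bot_left]
    have h2 := relIndex_inf_le (H := fx ρ (w : X)) (K := fx ρ (b : X) ⊓ fx ρ (c : X)) (L := N)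
    have h3 := relIndex_inf_le (H := fx ρ (b : X)) (K := fx ρ (c : X)) (L := N)
    rw [hidx w hw hw1] at h2
    rw [hidx b hb hb1, hidx c hc hc1] at h3
    rw [h1]
    calc _ ≤ (fx ρ z).relIndex N * ((fx ρ z).relIndex N * (fx ρ z).relIndex N) := h2.trans (Nat.mul_le_mul_left _ h3)
      _ ≤ 2 * (2 * 2) := Nat.mul_le_mul hzN (Nat.mul_le_mul hzN hzN)
  -- `N ∩ N^s = 1`
  have hD : N ⊓ N.map (ρ s : V ≃* V).toMonoidHom = ⊥ := by
    by_contra hne
    have hinv' : ∀ j ∈ J, ∀ d ∈ N ⊓ N.map (ρ s : V ≃* V).toMonoidHom, ρ j d ∈ N ⊓ N.map (ρ s : V ≃* V).toMonoidHom := by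
      rintro j hj d ⟨h1, ⟨n, hn, rfl⟩⟩
      refine ⟨hN j hj _ h1, ⟨ρ (s⁻¹ * j * s) n, hN _ ?_ n hn, ?_⟩⟩
      · have := hnor.conj_mem j hj s⁻¹
        rwa [inv_inv] at this
      · change ρ s (ρ (s⁻¹ * j * s) n) = ρ j (ρ s n)
        rw [← MulAut.mul_apply, ← MulAut.mul_apply, ← map_mul, ← map_mul]
        congr 2; group
    have h1 := eight_le_card h sq hC hinv' hne
    have h2 : N ⊓ N.map (ρ s : V ≃* V).toMonoidHom = N :=
      Subgroup.eq_of_le_of_card_ge inf_le_left (hN8.trans h1)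
    have h3 : N.map (ρ s : V ≃* V).toMonoidHom = N := by
      symm
      apply Subgroup.eq_of_le_of_card_ge (inf_eq_left.1 h2)
      rw [Subgroup.card_map_of_injective (f := (ρ s : V ≃* V).toMonoidHom) (ρ s).injective]
    have h4 : ∀ x : X, ∀ d ∈ N, ρ x d ∈ N := by
      intro x d hd
      by_cases hx : x ∈ J
      · exact hN x hx d hd
      · have h5 : x * s⁻¹ ∈ J := h.mul_mem' hx (fun h6 => hs (by
          have := inv_mem h6; rwa [inv_inv] at this))
        have h6 : ρ s d ∈ N := by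
          rw [← h3]; exact ⟨d, hd, rfl⟩
        have h7 := hN _ h5 _ h6
        rwa [← MulAut.mul_apply, ← map_mul, inv_mul_cancel_right] at h7
    have h5 := card_ge h hJ sq hC h4 hN1
    omega
  have hN8' := eight_le_card h sq hC hN hN1
  -- `|P ∩ N| ≥ 4`
  have hPN4 : 4 ≤ Nat.card (P ⊓ N : Subgroup V) := by
    have h1 := card_mul_relIndex (inf_le_right : P ⊓ N ≤ N)
    rw [inf_relIndex_right] at h1
    have h2 : Nat.card (P ⊓ N : Subgroup V) * 2 ≥ 8 := by
      calc 8 ≤ Nat.card N := hN8'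
        _ = _ := h1.symm
        _ ≤ _ := Nat.mul_le_mul_left _ hPN
    omega
  -- `|P| ≥ 16`
  have hP16 : 16 ≤ Nat.card P := by
    have h1 : Nat.card ((P ⊓ N : Subgroup V) × (P ⊓ N : Subgroup V)) ≤ Nat.card P := by
      refine Nat.card_le_card_of_injective
        (fun p => (⟨p.1 * ρ s p.2, mul_mem p.1.2.1 (hPs _ p.2.2.1)⟩ : P)) ?_
      rintro ⟨⟨a, ha⟩, ⟨b, hb⟩⟩ ⟨⟨a', ha'⟩, ⟨b', hb'⟩⟩ he
      have he' : a * ρ s b = a' * ρ s b' := congrArg Subtype.val he
      have h2 : a'⁻¹ * a ∈ N ⊓ N.map (ρ s : V ≃* V).toMonoidHom := by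
        refine ⟨N.mul_mem (N.inv_mem ha'.2) ha.2, ⟨b' * b⁻¹, N.mul_mem hb'.2 (N.inv_mem hb.2), ?_⟩⟩
        change ρ s (b' * b⁻¹) = a'⁻¹ * a
        rw [map_mul, map_inv, eq_inv_mul_iff_mul_eq, ← mul_assoc, ← he', mul_inv_cancel_right]
      rw [hD, mem_bot, inv_mul_eq_one] at h2
      subst h2
      have h3 : b = b' := (ρ s).injective (mul_left_cancel he')
      subst h3
      rfl
    rw [Nat.card_prod] at h1
    calc 16 = 4 * 4 := by norm_num
      _ ≤ _ := Nat.mul_le_mul hPN4 hPN4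
      _ ≤ _ := h1
  apply Subgroup.eq_of_le_of_card_ge hP
  have h1 := (fx ρ z).card_mul_index
  rw [hi, hV] at h1
  omega

end Cfsg.Agent.OddCyclic.EN.S7Mod
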