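import Cfsg.Agent.OddCyclic.EN.S7Kz
import Cfsg.Agent.Lib.NormalAbelian

/-!
# S0342 (B-b), type (B'), `n = 1`: the element `δ`, and `[C_{O₂(C(z))}(ws V z), L] ≤ ws V z`
-/

set_option autoImplicit false
set_option linter.unusedSectionVars false

namespace Cfsg.Agent.OddCyclic.EN.S7One

open Subgroup Cfsg Cfsg.Agent.ZN Cfsg.Agent.MinSimple.Geo Cfsg.Agent.OddCyclic.GeoC Cfsg.Agent.OddCyclic.BTwoA
  Cfsg.Agent.OddCyclic.EN.Line Cfsg.Agent.OddCyclic.EN.Base Cfsg.Agent.MinSimple.SecRep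
  Cfsg.Agent.OddCyclic.EN.RepM Cfsg.Agent.OddCyclic.EN.BbDefs Cfsg.Agent.OddCyclic.EN.OneStar
  Cfsg.Agent.OddCyclic.EN.S7Grp Cfsg.Agent.OddCyclic.EN.S7Mod
open Cfsg.Agent.OddCyclic.BTwoB (kq_le centralizer_le_normalizer_kq)
open Cfsg.Agent.OddCyclic.T1Module (CS)
open Cfsg.Agent.OddCyclic.FFBasic (fx mem_fx cm cm_apply card_range_cm)
open Cfsg.Agent.ZN.Block (conj_mem_of_normalizer conj_mem_of_normalizer' le_normalizer_of_forall
  mem_normalizer_of)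
open scoped commutatorElement

universe u

variable {G : Type u} [Group G] [Finite G] {T V L : Subgroup G} {z x : G} {M X : Type u} [AddCommGroup M] [Group X]
  [DistribMulAction X M] [Finite M] [Finite X] {R : Rep V z M X} {J : Subgroup X}

namespace Tw

variable {t : X} {w : G}

theorem CS_bot (h : Tw T V z x L R J t w) : CS (hm X M) J = ⊥ ∧ Nat.card (Multiplicative M) = 64 :=
  h.md.card_eq h.ne_top h.gen h.tJ h.t1 h.tt h.idx.le h.e

theorem exists_q (h : Tw T V z x L R J t w) {v : G} (hv : v ∈ ws V z) (hv1 : v ≠ 1) (hvz : v ≠ z) :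
    ∃ q ∈ o2 L, q * v * q⁻¹ = z * v := by
  by_contra hcon
  push Not at hcon
  have h1 : ∀ q ∈ o2 L, q * v = v * q := by
    intro q hq
    rcases h.q_cases hq hv with e | e
    · rwa [mul_inv_eq_iff_eq_mul] at e
    · exact absurd e (hcon q hq)
  have h2 := h.mem_CS hv (h.star.RED v hv h1)
  rw [h.CS_bot.1, mem_bot] at h2
  have h3 : R.pi v = 0 := Multiplicative.ofAdd.injective h2
  rcases (Rep.pi_eq_zero' h.ab (Pt.refl z) R hv).1 h3 with e | e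
  · exact hv1 e
  · exact hvz e

/-- `[O₂(L) ∩ C(V), d] ∋ z` for `d ∉ V` -/
theorem exists_k (h : Tw T V z x L R J t w) {d : G} (hd : d ∈ ws V z) (hdV : d ∉ V) :
    ∃ k ∈ o2 L, k ∈ centralizer (V : Set G) ∧ k * d * k⁻¹ = z * d := by
  have hxz := x_mem_wz h.ab h.pt
  have hdz : d * z = z * d := h.ab.ab _ hd _ (h.ab.V_le_ws h.ab.z_mem)
  have hdx : d * x = x * d := h.ab.ab _ hd _ hxz
  have hinvx : x⁻¹ = x := inv_eq_of_mul_eq_one_left h.xx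
  obtain ⟨q, hq, hqd⟩ := h.exists_q hd (fun e => hdV (e ▸ one_mem _)) (fun e => hdV (e ▸ h.ab.z_mem))
  have hqz := h.q_z hq
  rcases h.q_cases hq hxz with e | e
  · exact ⟨q, hq, mem_cV h.ab h.pt hqz (by rwa [mul_inv_eq_iff_eq_mul] at e), hqd⟩
  obtain ⟨r, hr, hrd⟩ := h.exists_q (mul_mem hd hxz) (fun e1 => hdV (by
      have : d = x⁻¹ := eq_inv_of_mul_eq_one_left e1
      rw [this]; exact inv_mem h.pt.mem)) (fun e1 => hdV (by
      have : d = z * x⁻¹ := eq_mul_inv_of_mul_eq e1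
      rw [this]; exact mul_mem h.ab.z_mem (inv_mem h.pt.mem)))
  have hrz := h.q_z hr
  have e2 : r * d * r⁻¹ = (r * (d * x) * r⁻¹) * (r * x * r⁻¹)⁻¹ := by group
  rcases h.q_cases hr hxz with e' | e'
  · refine ⟨r, hr, mem_cV h.ab h.pt hrz (by rwa [mul_inv_eq_iff_eq_mul] at e'), ?_⟩
    rw [e2, hrd, e']; group
  · have e3 : r * d * r⁻¹ = d := by
      rw [e2, hrd, e', hdx]
      calc z * (x * d) * (z * x)⁻¹ = z * (x * d) * x⁻¹ * z⁻¹ := by group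
        _ = z * (d * x) * x⁻¹ * z⁻¹ := by rw [hdx]
        _ = (z * d) * z⁻¹ := by group
        _ = d := by rw [← hdz]; group
    refine ⟨q * r, mul_mem hq hr, mem_cV h.ab h.pt ?_ ?_, ?_⟩
    · rw [mul_assoc, hrz, ← mul_assoc, hqz, mul_assoc]
    · have e4 : q * r * x * (q * r)⁻¹ = x := by
        calc q * r * x * (q * r)⁻¹ = q * (r * x * r⁻¹) * q⁻¹ := by group
          _ = (q * z) * x * q⁻¹ := by rw [e']; group
          _ = z * (q * x * q⁻¹) := by rw [hqz]; group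
          _ = (z * z) * x := by rw [e]; group
          _ = x := by rw [h.ab.zz, one_mul]
      rwa [mul_inv_eq_iff_eq_mul] at e4
    · calc q * r * d * (q * r)⁻¹ = q * (r * d * r⁻¹) * q⁻¹ := by group
        _ = z * d := by rw [e3, hqd]

theorem pow_two_of (_ : Tw T V z x L R J t w) {k : G} (hk : k ∈ o2 L) : ∃ n : ℕ, k ^ 2 ^ n = 1 := by
  obtain ⟨n, hn⟩ := (isPGroup_o2 L) ⟨k, hk⟩
  exact ⟨n, congrArg Subtype.val hn⟩

/-- **(KEY)** -/
theorem exists_key (h : Tw T V z x L R J t w) : ∃ δ ∈ ws V x, (∀ v ∈ ws V z, δ * v = v * δ) ∧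
    ∃ k ∈ o2 L, k ∈ centralizer (V : Set G) ∧ k * δ * k⁻¹ * δ⁻¹ ∉ ⁅ws V z, ws V x⁆ := by
  have hnor := h.amb.nor
  obtain ⟨g, hg⟩ := exists_sw h.ab h.pt
  obtain ⟨d, hd, hdV⟩ := h.exists_d
  obtain ⟨k, hk, hkV, hkd⟩ := h.exists_k (h.D_le_z hd) hdV
  obtain ⟨n, hn⟩ := h.pow_two_of hk
  have hcz : ∀ c ∈ centralizer (V : Set G), c ∈ centralizer ({z} : Set G) := fun c hc =>
    mem_centralizer_singleton_iff.2 (mem_centralizer_iff.1 hc z h.ab.z_mem).symm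
  have hcx : ∀ c ∈ centralizer (V : Set G), c ∈ centralizer ({x} : Set G) := fun c hc =>
    mem_centralizer_singleton_iff.2 (mem_centralizer_iff.1 hc x h.pt.mem).symm
  set k' := g * k * g⁻¹ with hk'
  have hk'V : k' ∈ centralizer (V : Set G) := hg.cV hkV
  have hk'n : k' ^ 2 ^ n = 1 := by rw [hk', conj_pow, hn]; group
  have hk'J : R.rho k' ∉ J := by
    intro hJ
    have h1 : g * d * g⁻¹ ∈ ⁅ws V z, ws V x⁆ := by
      have := conj_mem_cj (g := g) hd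
      rwa [sw_D hg] at this
    have h2 : k' * (g * d * g⁻¹) * k'⁻¹ = x * (g * d * g⁻¹) := by
      calc k' * (g * d * g⁻¹) * k'⁻¹ = g * (k * d * k⁻¹) * g⁻¹ := by rw [hk']; group
        _ = (g * z * g⁻¹) * (g * d * g⁻¹) := by rw [hkd]; group
        _ = x * (g * d * g⁻¹) := by rw [hg.hz]
    rcases h.act_D hk'V hk'n hJ h1 with e | e
    · rw [e] at h2
      exact h.pt.ne_one (mul_eq_right.1 h2.symm)
    · rw [e] at h2
      exact h.zx_ne (mul_right_cancel h2)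
  obtain ⟨u, hu, huT⟩ := exists_conj_T h.ab hk'V hk'n
  set κ := u * k' * u⁻¹ with hκ
  have hκJ : R.rho κ ∉ J := by
    rw [hκ, R.rho_conj (hcz u hu) (hcz _ hk'V)]
    intro h1
    apply hk'J
    have h2 := hnor.conj_mem _ h1 (R.rho u)⁻¹
    have e : (R.rho u)⁻¹ * (R.rho u * R.rho k' * (R.rho u)⁻¹) * (R.rho u)⁻¹⁻¹ = R.rho k' := by group
    rwa [e] at h2
  have hκz : κ ∈ centralizer ({z} : Set G) := h.ab.T_le huT
  obtain ⟨z', a, b, hs, ez⟩ := h.exists_std'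
  obtain ⟨m, hm1, hm2⟩ := h.md.exists_move hs (by rw [ez, h.idx]) (by rw [ez]; exact h.e)
    ((mem_TX h.ab.toGeoC R).2 ⟨κ, huT, rfl⟩) hκJ
  rw [ez] at hm1 hm2
  obtain ⟨v, hv, hvm⟩ := R.pi_surj m.toAdd
  have e1 : m = Multiplicative.ofAdd (R.pi v) := by rw [hvm]; rfl
  subst e1
  have hvf : w * v * w⁻¹ * v⁻¹ ∈ zpowers z := by
    rw [← R.pi_eq_iff (R.conj_mem h.wz hv) hv, ← R.smul_pi w h.wz v hv, h.wt]
    exact Multiplicative.ofAdd.injective hm1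
  have hvc := h.F_comm hv hvf
  have hκD : κ * v * κ⁻¹ * v⁻¹ ∉ ⁅ws V z, ws V x⁆ := by
    intro h1
    apply hm2
    have h2 := (h.mem_D.1 h1).2
    rw [← h.cm_eq hκz hv] at h2
    exact h2
  set v₁ := u⁻¹ * v * u with hv₁
  have huz := hcz u hu
  have hux := hcx u hu
  have hv₁z : v₁ ∈ ws V z := by
    have := R.conj_mem (inv_mem huz) hv
    rwa [inv_inv] at this
  have hv₁c : ∀ b ∈ ws V x, v₁ * b = b * v₁ := by
    intro b hb
    have h1 : u * b * u⁻¹ ∈ ws V x := conj_mem_of_normalizer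
      (Cfsg.Agent.MinSimple.Geo.centralizer_le_normalizer_ws V x) hux hb
    have h2 := hvc _ h1
    calc v₁ * b = u⁻¹ * (v * (u * b * u⁻¹)) * u := by rw [hv₁]; group
      _ = u⁻¹ * (u * b * u⁻¹ * v) * u := by rw [h2]
      _ = b * v₁ := by rw [hv₁]; group
  refine ⟨g⁻¹ * v₁ * g, ?_, ?_, k, hk, hkV, ?_⟩
  · have := hg.inv.wz hv₁z
    rwa [inv_inv] at this
  · intro y hy
    have h1 := hv₁c _ (hg.wz hy)
    calc g⁻¹ * v₁ * g * y = g⁻¹ * (v₁ * (g * y * g⁻¹)) * g := by group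
      _ = g⁻¹ * (g * y * g⁻¹ * v₁) * g := by rw [h1]
      _ = y * (g⁻¹ * v₁ * g) := by group
  · intro h1
    apply hκD
    have h2 := conj_mem_cj (g := u * g) h1
    rw [← cj_cj, sw_D hg, cV_D h.ab h.pt hu] at h2
    have e2 : u * g * (k * (g⁻¹ * v₁ * g) * k⁻¹ * (g⁻¹ * v₁ * g)⁻¹) * (u * g)⁻¹ = κ * v * κ⁻¹ * v⁻¹ := by
      rw [hκ, hk', hv₁]; group
    rwa [e2] at h2

end Tw

/-! ### sections -/

/-- the elements `w ∈ A ∩ N(N)` with `[w, K] ≤ N` -/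
def cmod (A K N : Subgroup G) : Subgroup G where
  carrier := {w | w ∈ A ∧ w ∈ normalizer (N : Set G) ∧ ∀ k ∈ K, k * w * k⁻¹ * w⁻¹ ∈ N}
  mul_mem' := by
    rintro a b ⟨ha, ha1, ha2⟩ ⟨hb, hb1, hb2⟩
    refine ⟨mul_mem ha hb, mul_mem ha1 hb1, fun k hk => ?_⟩
    have h1 := conj_mem_of_normalizer le_rfl ha1 (hb2 k hk)
    have e : k * (a * b) * k⁻¹ * (a * b)⁻¹ = (k * a * k⁻¹ * a⁻¹) * (a * (k * b * k⁻¹ * b⁻¹) * a⁻¹) := by group
    rw [e]; exact mul_mem (ha2 k hk) h1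
  one_mem' := ⟨one_mem _, one_mem _, fun k _ => by simp⟩
  inv_mem' := by
    rintro a ⟨ha, ha1, ha2⟩
    refine ⟨inv_mem ha, inv_mem ha1, fun k hk => ?_⟩
    have h1 := conj_mem_of_normalizer' le_rfl ha1 (N.inv_mem (ha2 k hk))
    have e : k * a⁻¹ * k⁻¹ * a⁻¹⁻¹ = a⁻¹ * (k * a * k⁻¹ * a⁻¹)⁻¹ * a := by group
    rw [e]; exact h1

theorem mem_cmod {A K N : Subgroup G} {w : G} :
    w ∈ cmod A K N ↔ w ∈ A ∧ w ∈ normalizer (N : Set G) ∧ ∀ k ∈ K, k * w * k⁻¹ * w⁻¹ ∈ N := Iff.rfl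

theorem cmod_inv {C A K N : Subgroup G} (hA : C ≤ normalizer (A : Set G)) (hK : C ≤ normalizer (K : Set G))
    (hN : C ≤ normalizer (N : Set G)) : C ≤ normalizer ((cmod A K N : Subgroup G) : Set G) := by
  refine le_normalizer_of_forall fun c hc w hw => ⟨conj_mem_of_normalizer hA hc hw.1,
    mul_mem (mul_mem (hN hc) hw.2.1) (inv_mem (hN hc)), fun k hk => ?_⟩
  have h1 := conj_mem_of_normalizer hN hc (hw.2.2 _ (conj_mem_of_normalizer' hK hc hk))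
  have e : c * (c⁻¹ * k * c * w * (c⁻¹ * k * c)⁻¹ * w⁻¹) * c⁻¹ = k * (c * w * c⁻¹) * k⁻¹ * (c * w * c⁻¹)⁻¹ := by group
  rwa [e] at h1

/-- the elements of `A` with square in `N` -/
def sqm (A N : Subgroup G) (hA : A ≤ normalizer (N : Set G)) (hab : ∀ a ∈ A, ∀ b ∈ A, a * b * a⁻¹ * b⁻¹ ∈ N) :
    Subgroup G where
  carrier := {w | w ∈ A ∧ w * w ∈ N}
  mul_mem' := by
    rintro a b ⟨ha, ha1⟩ ⟨hb, hb1⟩
    refine ⟨mul_mem ha hb, ?_⟩
    have h1 := conj_mem_of_normalizer hA ha (hab b hb a ha)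
    have h2 := N.mul_mem (N.mul_mem h1 ha1) hb1
    have e : a * (b * a * b⁻¹ * a⁻¹) * a⁻¹ * (a * a) * (b * b) = a * b * (a * b) := by group
    rwa [e] at h2
  one_mem' := ⟨one_mem _, by rw [one_mul]; exact one_mem _⟩
  inv_mem' := by
    rintro a ⟨ha, ha1⟩
    refine ⟨inv_mem ha, ?_⟩
    have e : a⁻¹ * a⁻¹ = (a * a)⁻¹ := by group
    rw [e]; exact N.inv_mem ha1

/-- three subgroups -/
theorem three_sub {C L N W₁ W₂ : Subgroup G} (hLC : L ≤ C) (hL : ⁅L, L⁆ = L) (hN : C ≤ normalizer (N : Set G))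
    (h1C : W₁ ≤ C) (h12 : ∀ l ∈ L, ∀ w ∈ W₁, l * w * l⁻¹ * w⁻¹ ∈ W₂)
    (h2 : ∀ l ∈ L, ∀ w ∈ W₂, l * w * l⁻¹ * w⁻¹ ∈ N) : ∀ l ∈ L, ∀ w ∈ W₁, l * w * l⁻¹ * w⁻¹ ∈ N := by
  have hNn : (N.subgroupOf C).Normal := normal_subgroupOf_of_le_normalizer hN
  let π := QuotientGroup.mk' (N.subgroupOf C)
  have hπ : ∀ c : C, π c = 1 ↔ (c : G) ∈ N := fun c => QuotientGroup.eq_one_iff _
  set L' := (L.subgroupOf C).map π with hL'
  set W' := (W₁.subgroupOf C).map π with hW'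
  have hL'p : ⁅L', L'⁆ = L' := by
    rw [hL', ← map_commutator]
    congr 1
    apply map_injective C.subtype_injective
    rw [map_commutator, subgroupOf_map_subtype, inf_of_le_left hLC, hL]
  have hcomm : ⁅⁅L', W'⁆, L'⁆ = ⊥ := by
    have h3 : ⁅L', W'⁆ ≤ (W₂.subgroupOf C).map π := by
      rw [commutator_le]
      rintro _ ⟨l, hl, rfl⟩ _ ⟨w, hw, rfl⟩
      rw [← map_commutatorElement]
      exact ⟨⁅l, w⁆, h12 l hl w hw, rfl⟩
    rw [eq_bot_iff]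
    refine (commutator_mono h3 le_rfl).trans ?_
    rw [commutator_le]
    rintro _ ⟨w, hw, rfl⟩ _ ⟨l, hl, rfl⟩
    rw [← map_commutatorElement, mem_bot, hπ]
    exact inv_comm_mem (h2 l hl w hw)
  have h3 := commutator_commutator_eq_bot_of_rotate (H₁ := L') (H₂ := L') (H₃ := W') hcomm (by
    rw [commutator_comm W' L']; exact hcomm)
  rw [hL'p, commutator_eq_bot_iff_le_centralizer] at h3
  intro l hl w hw
  have h4 : π ⟨l, hLC hl⟩ ∈ centralizer (W' : Set _) := h3 ⟨⟨l, hLC hl⟩, hl, rfl⟩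
  have h5 := mem_centralizer_iff.1 h4 (π ⟨w, h1C hw⟩) ⟨⟨w, h1C hw⟩, hw, rfl⟩
  rw [← map_mul, ← map_mul] at h5
  have h6 : π (⟨l, hLC hl⟩ * ⟨w, h1C hw⟩ * (⟨w, h1C hw⟩ * ⟨l, hLC hl⟩)⁻¹) = 1 := by
    rw [map_mul, map_inv, h5, mul_inv_cancel]
  rw [hπ] at h6
  have e : l * w * l⁻¹ * w⁻¹ = l * w * (w * l)⁻¹ := by group
  rw [e]; exact h6

end Cfsg.Agent.OddCyclic.EN.S7One
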