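import Cfsg.Agent.OddCyclic.EN.S7Two

/-!
# S0342 (B-b), types (B), (B'), `n = 1`: `kq V z` is a 2-group; the sections of `O₂(C(z))`

* `On.kq_two`: `kq V z` is a 2-group;
* `Sc`: `C(z)`-invariant subgroups of `C_{O₂(C(z))}(ws V z)`.
-/

set_option autoImplicit false
set_option linter.unusedSectionVars false

namespace Cfsg.Agent.OddCyclic.EN.S7One

open Subgroup Cfsg Cfsg.Agent.ZN Cfsg.Agent.MinSimple.Geo Cfsg.Agent.OddCyclic.GeoC Cfsg.Agent.OddCyclic.BTwoA
  Cfsg.Agent.OddCyclic.EN.Line Cfsg.Agent.OddCyclic.EN.Base Cfsg.Agent.MinSimple.SecRep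
  Cfsg.Agent.OddCyclic.EN.RepM Cfsg.Agent.OddCyclic.EN.BbDefs Cfsg.Agent.OddCyclic.EN.OneStar
  Cfsg.Agent.OddCyclic.EN.S7Grp Cfsg.Agent.OddCyclic.EN.S7Mod
open Cfsg.Agent.OddCyclic.BTwoB (kq_le centralizer_le_normalizer_kq)
open Cfsg.Agent.OddCyclic.T1Module (CS)
open Cfsg.Agent.OddCyclic.FFBasic (fx mem_fx cm cm_apply card_range_cm)
open Cfsg.Agent.ZN.Block (conj_mem_of_normalizer conj_mem_of_normalizer' le_normalizer_of_forall
  mem_normalizer_of)
open scoped commutatorElement

universe u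

section st

variable {X : Type*} [Group X] [Finite X] {V : Type*} [CommGroup V] [Finite V] {ρ : X →* MulAut V}
  {J : Subgroup X} {T : Sylow 2 X} {e : V}

/-- the stabiliser of `e` in `J` has order 8 -/
theorem card_st (h : Md ρ J T e) : Nat.card (st ρ J e) = 8 := by
  have hnor := h.nor
  have hsimp := h.simple
  set K := st ρ J e with hK
  have hSK : (syl T J : Subgroup J) ≤ K := by
    intro s hs
    show ρ s e * e⁻¹ ∈ CS ρ J
    rw [h.fix _ (mem_syl.1 hs), mul_inv_cancel]; exact one_mem _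
  have h8 : 8 ∣ Nat.card K := by
    have h1 := Subgroup.card_dvd_of_le hSK
    change Nat.card (syl T J) ∣ _ at h1
    rwa [FFThree.card_sylow h.l32] at h1
  have h1 := K.card_mul_index
  rw [h.card] at h1
  have h3 := h.not_three
  obtain ⟨k, hk⟩ := h8
  rw [← hK] at h3
  rw [hk] at h1 h3 ⊢
  have h4 : k * K.index = 21 := by
    have : 8 * (k * K.index) = 8 * 21 := by rw [← mul_assoc, h1]
    omega
  have h5 : k ∣ 21 := ⟨K.index, h4.symm⟩
  have h7 : k = 1 ∨ k = 3 ∨ k = 7 ∨ k = 21 := by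
    have h6 : k ≤ 21 := Nat.le_of_dvd (by norm_num) h5
    interval_cases k <;> revert h5 <;> decide
  rcases h7 with h7 | h7 | h7 | h7
  · rw [h7]
  · rw [h7] at h3
    exact absurd (by norm_num) h3
  · exfalso
    rw [h7] at h4
    have h8 : K.index = 3 := by omega
    refine not_index_le h.l32 (K := K) ?_ (by rw [h8]; norm_num)
    intro h9
    rw [h9, index_top] at h8
    omega
  · rw [h7] at h3
    exact absurd (by norm_num) h3

/-- elements of odd order fixing `e` are trivial -/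
theorem eq_one_of_fix_odd (h : Md ρ J T e) {y : X} (hy : Odd (orderOf y)) (hye : ρ y e = e) : y = 1 := by
  have hnor := h.nor
  have hyJ : y ∈ J := by
    by_contra hyJ
    have h1 : y * y ∈ J := h.mul_mem' hyJ hyJ
    obtain ⟨k, hk⟩ := hy
    apply hyJ
    have h2 : (y * y) ^ (k + 1) = y := by
      rw [← pow_two, ← pow_mul]
      have : 2 * (k + 1) = orderOf y + 1 := by omega
      rw [this, pow_succ, pow_orderOf_eq_one, one_mul]
    rw [← h2]
    exact pow_mem h1 _
  have h1 : (⟨y, hyJ⟩ : J) ∈ st ρ J e := by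
    show ρ y e * e⁻¹ ∈ CS ρ J
    rw [hye, mul_inv_cancel]; exact one_mem _
  have h2 : orderOf (⟨⟨y, hyJ⟩, h1⟩ : st ρ J e) ∣ 8 := by
    rw [← card_st h]; exact orderOf_dvd_natCard _
  rw [← Subgroup.orderOf_coe, ← Subgroup.orderOf_coe] at h2
  change orderOf y ∣ 2 ^ 3 at h2
  obtain ⟨i, hi, hi2⟩ := (Nat.dvd_prime_pow Nat.prime_two).1 h2
  rw [hi2] at hy
  rcases Nat.eq_zero_or_pos i with h0 | h0
  · rw [h0, pow_zero] at hi2
    exact orderOf_eq_one_iff.1 hi2
  · exfalso
    have : Even (2 ^ i) := (Nat.even_pow.2 ⟨even_two, h0.ne'⟩)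
    exact (Nat.not_even_iff_odd.2 hy) this

end st

variable {G : Type u} [Group G] [Finite G] {T V L : Subgroup G} {z x : G} {M X : Type u} [AddCommGroup M] [Group X]
  [DistribMulAction X M] [Finite M] [Finite X] {R : Rep V z M X} {J : Subgroup X}

theorem odd_conj {g y : G} (hy : Odd (orderOf y)) : Odd (orderOf (g * y * g⁻¹)) := by
  have : orderOf (g * y * g⁻¹) = orderOf y := (MulAut.conj g).orderOf_eq y
  rwa [this]

/-- `kq V z` has no elements of odd order -/
theorem On.kq_odd (h : On T V z x L R J) {y : G} (hy : y ∈ kq V z) (hyo : Odd (orderOf y)) : y = 1 := by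
  have hxz := x_mem_wz h.ab h.pt
  have hCV : centralizer (V : Set G) ≤ centralizer ({z} : Set G) := centralizer_le (by
    rintro _ rfl; exact h.ab.z_mem)
  -- odd elements of `kq V z` are those of `C(V)`
  have k1 : ∀ y ∈ kq V z, Odd (orderOf y) → y ∈ centralizer (V : Set G) := by
    intro y hy hyo
    have hyz : y * z = z * y := mem_centralizer_singleton_iff.1 (kq_le V z hy)
    refine mem_cV h.ab h.pt hyz ?_
    rcases kq_ws h.ab.toGeoC hy hxz with e | e
    · rwa [mul_inv_eq_iff_eq_mul] at e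
    · have h2 : y * y * x = x * (y * y) := by
        calc y * y * x = y * (y * x * y⁻¹) * y⁻¹ * (y * y) := by group
          _ = (y * z) * x * y⁻¹ * (y * y) := by rw [e]; group
          _ = z * (y * x * y⁻¹) * (y * y) := by rw [hyz]; group
          _ = (z * z) * x * (y * y) := by rw [e]; group
          _ = x * (y * y) := by rw [h.ab.zz, one_mul]
      obtain ⟨k, hk⟩ := hyo
      have h3 : (y * y) ^ (k + 1) = y := by
        rw [← pow_two, ← pow_mul]
        have : 2 * (k + 1) = orderOf y + 1 := by omega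
        rw [this, pow_succ, pow_orderOf_eq_one, one_mul]
      have h4 : Commute ((y * y) ^ (k + 1)) x := (show Commute (y * y) x from h2).pow_left _
      rw [h3] at h4
      exact h4
  have k2 : ∀ y ∈ centralizer (V : Set G), Odd (orderOf y) → y ∈ kq V z := by
    intro y hy hyo
    have hyz := hCV hy
    rw [← Rep.rho_eq_one R hyz]
    apply eq_one_of_fix_odd h.md
    · have h1 : orderOf (R.rho y) ∣ orderOf y := by
        apply orderOf_dvd_of_pow_eq_one
        rw [← R.rho_pow hyz, pow_orderOf_eq_one, R.rho_one]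
      exact Odd.of_dvd_nat hyo h1
    · rw [h.act hyz hxz]
      have : x * y = y * x := mem_centralizer_iff.1 hy x h.pt.mem
      rw [← this, mul_inv_cancel_right]
  set O := closure {y : G | y ∈ kq V z ∧ Odd (orderOf y)} with hO
  have hOgen : ∀ {K : Subgroup G}, (∀ g ∈ K, ∀ y, y ∈ kq V z → Odd (orderOf y) → g * y * g⁻¹ ∈ kq V z) →
      K ≤ normalizer (O : Set G) := by
    intro K hK
    refine le_normalizer_of_forall fun g hg y hy => ?_
    have h1 : O ≤ cj g⁻¹ O := by
      rw [hO, closure_le]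
      rintro y ⟨hy1, hy2⟩
      rw [SetLike.mem_coe, mem_cj, inv_inv]
      exact subset_closure ⟨hK g hg y hy1 hy2, odd_conj hy2⟩
    have h2 := h1 hy
    rwa [mem_cj, inv_inv] at h2
  have hOC : centralizer ({z} : Set G) ≤ normalizer (O : Set G) := hOgen fun g hg y hy _ =>
    conj_mem_of_normalizer (centralizer_le_normalizer_kq V z) hg hy
  have hON : normalizer (V : Set G) ≤ normalizer (O : Set G) := hOgen fun g hg y hy hyo =>
    k2 _ (conj_mem_of_normalizer (BbMain.le_normalizer_cent le_rfl) hg (k1 y hy hyo)) (odd_conj hyo)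
  have hOle : O ≤ kq V z := by
    rw [hO, closure_le]
    exact fun y hy => hy.1
  have hU : o2 O = ⊥ := h.ab.core _ (isPGroup_o2 O) (hON.trans (normalizer_le_normalizer_o2 O))
    (hOC.trans (normalizer_le_normalizer_o2 O))
  have hOz : O ≤ centralizer ({z} : Set G) := hOle.trans (kq_le V z)
  -- `O ∩ O₂(C(z)) = 1`
  have h1 : O ⊓ o2 (centralizer ({z} : Set G)) ≤ o2 O := by
    refine le_o2 inf_le_left ((isPGroup_o2 _).to_le inf_le_right) ?_
    refine le_normalizer_of_forall fun l hl a ha => ⟨O.mul_mem (O.mul_mem hl ha.1) (O.inv_mem hl), ?_⟩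
    exact conj_mem_of_normalizer (le_normalizer_o2 _) (hOz hl) ha.2
  rw [hU] at h1
  have h2 : O ≤ o2 (centralizer ({z} : Set G)) := by
    intro l hl
    refine BbMain.mem_o2_of_cent h.ab.toGeoC (hOz hl) fun q hq => ?_
    have hqC := o2_le _ hq
    have h3 : l * q * l⁻¹ * q⁻¹ ∈ O ⊓ o2 (centralizer ({z} : Set G)) := by
      refine ⟨?_, ?_⟩
      · have e : l * q * l⁻¹ * q⁻¹ = l * (q * l⁻¹ * q⁻¹) := by group
        rw [e]
        exact O.mul_mem hl (conj_mem_of_normalizer hOC hqC (O.inv_mem hl))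
      · exact (o2 _).mul_mem (conj_mem_of_normalizer (le_normalizer_o2 _) (hOz hl) hq) ((o2 _).inv_mem hq)
    have h4 := h1 h3
    rw [mem_bot, comm_iff] at h4
    exact h4.symm
  have hyO : y ∈ O := subset_closure ⟨hy, hyo⟩
  obtain ⟨k, hk⟩ := (isPGroup_o2 (centralizer ({z} : Set G))) ⟨y, h2 hyO⟩
  have hk' : y ^ 2 ^ k = 1 := congrArg Subtype.val hk
  have h3 : orderOf y ∣ 2 ^ k := orderOf_dvd_of_pow_eq_one hk'
  obtain ⟨i, hi, hi2⟩ := (Nat.dvd_prime_pow Nat.prime_two).1 h3
  rw [hi2] at hyo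
  rcases Nat.eq_zero_or_pos i with h0 | h0
  · rw [h0, pow_zero] at hi2
    exact orderOf_eq_one_iff.1 hi2
  · exfalso
    have : Even (2 ^ i) := (Nat.even_pow.2 ⟨even_two, h0.ne'⟩)
    exact (Nat.not_even_iff_odd.2 hyo) this

/-- `kq V z` is a 2-group -/
theorem On.kq_two (h : On T V z x L R J) : IsPGroup 2 (kq V z) := by
  rintro ⟨c, hc⟩
  obtain ⟨a, m, hm, e⟩ := Nat.exists_eq_pow_mul_and_not_dvd (orderOf_pos c).ne' 2 (by norm_num)
  refine ⟨a, Subtype.ext ?_⟩
  change c ^ 2 ^ a = 1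
  apply h.kq_odd (pow_mem hc _)
  rw [orderOf_pow' c (pow_pos (by norm_num) a).ne', e, Nat.gcd_mul_right_left, Nat.mul_div_cancel_left _ (pow_pos (by norm_num) a)]
  exact Nat.not_even_iff_odd.mp fun h1 => hm (even_iff_two_dvd.mp h1)

end Cfsg.Agent.OddCyclic.EN.S7One
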