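import Cfsg.Agent.OddCyclic.EN.S7Fin
import Cfsg.Agent.OddCyclic.EN.OneStar
import Cfsg.Agent.OddCyclic.EN.OneEnd
import Cfsg.Agent.OddCyclic.EN.BbMain

/-!
# S0342 (B-b), types (B), (B'), `n = 1`: the reduction to `|A| = 2`, and type (B)

`On T V z x L R J`: `Star T V z L`, `J` simple of order 168, `C_X(J) = 1`, `x ∈ V`, `[ws V z, ws V x] ≠ 1`.
-/

set_option autoImplicit false
set_option linter.unusedSectionVars false

namespace Cfsg.Agent.OddCyclic.EN.S7One

open Subgroup Cfsg Cfsg.Agent.ZN Cfsg.Agent.MinSimple.Geo Cfsg.Agent.OddCyclic.GeoC Cfsg.Agent.OddCyclic.BTwoA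
  Cfsg.Agent.OddCyclic.EN.Line Cfsg.Agent.OddCyclic.EN.Base Cfsg.Agent.MinSimple.SecRep
  Cfsg.Agent.OddCyclic.EN.RepM Cfsg.Agent.OddCyclic.EN.BbDefs Cfsg.Agent.OddCyclic.EN.OneStar
  Cfsg.Agent.OddCyclic.EN.S7Grp Cfsg.Agent.OddCyclic.EN.S7Mod
open Cfsg.Agent.OddCyclic.BTwoB (kq_le centralizer_le_normalizer_kq)
open Cfsg.Agent.OddCyclic.T1Module (CS)
open Cfsg.Agent.OddCyclic.FFBasic (fx mem_fx cm cm_apply card_range_cm)
open Cfsg.Agent.ZN.Block (conj_mem_of_normalizer conj_mem_of_normalizer' le_normalizer_of_forall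
  mem_normalizer_of)
open scoped commutatorElement

universe u

/-- the action on `Multiplicative M` -/
def hm (X M : Type*) [Group X] [AddCommGroup M] [DistribMulAction X M] : X →* MulAut (Multiplicative M) where
  toFun x :=
    { toFun := fun m => Multiplicative.ofAdd (x • m.toAdd)
      invFun := fun m => Multiplicative.ofAdd (x⁻¹ • m.toAdd)
      left_inv := fun m => by
        change Multiplicative.ofAdd (x⁻¹ • x • m.toAdd) = m
        rw [inv_smul_smul]; rfl
      right_inv := fun m => by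
        change Multiplicative.ofAdd (x • x⁻¹ • m.toAdd) = m
        rw [smul_inv_smul]; rfl
      map_mul' := fun a b => by
        change Multiplicative.ofAdd (x • (a.toAdd + b.toAdd)) = _
        rw [smul_add]; rfl }
  map_one' := by
    ext m
    change Multiplicative.ofAdd ((1 : X) • m.toAdd) = m
    rw [one_smul]; rfl
  map_mul' x y := by
    ext m
    change Multiplicative.ofAdd ((x * y) • m.toAdd) = Multiplicative.ofAdd (x • y • m.toAdd)
    rw [mul_smul]

theorem hm_apply {X M : Type*} [Group X] [AddCommGroup M] [DistribMulAction X M] (x : X) (m : M) :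
    hm X M x (Multiplicative.ofAdd m) = Multiplicative.ofAdd (x • m) := rfl

variable {G : Type u} [Group G] [Finite G] {T V L : Subgroup G} {z x : G} {M X : Type u} [AddCommGroup M] [Group X]
  [DistribMulAction X M] [Finite M] [Finite X]

/-! ### the image of `T` -/

/-- the image of `T`, as a Sylow 2-subgroup of `X` -/
noncomputable def TX (h : GeoC T V z) (R : Rep V z M X) : Sylow 2 X :=
  haveI : Fact (Nat.Prime 2) := ⟨Nat.prime_two⟩
  IsPGroup.toSylow (P := R.img T) ((h.two.comap_subtype (K := centralizer ({z} : Set G))).map R.hom) (fun h2 =>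
    h.T_syl (h2.trans (Subgroup.index_map_dvd (H := T.subgroupOf (centralizer ({z} : Set G))) (f := R.hom) R.hom_surj)))

theorem mem_TX (h : GeoC T V z) (R : Rep V z M X) {g : X} :
    g ∈ (TX h R : Subgroup X) ↔ ∃ t ∈ T, R.rho t = g := R.mem_img h.T_le

/-! ### interchanging `z` and `x` -/

/-- `g ∈ N(V)` interchanges `z` and `x` -/
structure Sw (V : Subgroup G) (z x g : G) : Prop where
  mem : g ∈ normalizer (V : Set G)
  hz : g * z * g⁻¹ = x
  hx : g * x * g⁻¹ = z

theorem exists_sw (h : Ab T V z) (hx : Pt2 V z x) : ∃ g, Sw V z x g := by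
  obtain ⟨g, h1, h2, h3⟩ := exists_g h hx
  exact ⟨g, h1, h2, h3⟩

namespace Sw

variable {g : G}

theorem inv (h : Sw V z x g) : Sw V z x g⁻¹ :=
  ⟨inv_mem h.mem, by rw [← h.hx]; group, by rw [← h.hz]; group⟩

theorem wz (h : Sw V z x g) {v : G} (hv : v ∈ ws V z) : g * v * g⁻¹ ∈ ws V x := by
  have h1 := conj_mem_cj (g := g) hv
  rwa [cj_ws, h.hz] at h1

theorem wx (h : Sw V z x g) {v : G} (hv : v ∈ ws V x) : g * v * g⁻¹ ∈ ws V z := by
  have h1 := conj_mem_cj (g := g) hv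
  rwa [cj_ws, h.hx] at h1

theorem kz (h : Sw V z x g) {v : G} (hv : v ∈ kq V z) : g * v * g⁻¹ ∈ kq V x := by
  have h1 := conj_mem_cj (g := g) hv
  rwa [Base.cj_kq, h.hz] at h1

theorem kx (h : Sw V z x g) {v : G} (hv : v ∈ kq V x) : g * v * g⁻¹ ∈ kq V z := by
  have h1 := conj_mem_cj (g := g) hv
  rwa [Base.cj_kq, h.hx] at h1

theorem cz (h : Sw V z x g) {c : G} (hc : c ∈ centralizer ({z} : Set G)) : g * c * g⁻¹ ∈ centralizer ({x} : Set G) := by
  have h1 := conj_mem_cj (g := g) hc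
  rwa [cj_centralizer_singleton, h.hz] at h1

theorem cx (h : Sw V z x g) {c : G} (hc : c ∈ centralizer ({x} : Set G)) : g * c * g⁻¹ ∈ centralizer ({z} : Set G) := by
  have h1 := conj_mem_cj (g := g) hc
  rwa [cj_centralizer_singleton, h.hx] at h1

theorem cV (h : Sw V z x g) {c : G} (hc : c ∈ centralizer (V : Set G)) : g * c * g⁻¹ ∈ centralizer (V : Set G) := by
  rw [mem_centralizer_iff] at hc ⊢
  intro v hv
  have h1 := hc (g⁻¹ * v * g) (by
    have := (mem_normalizer_iff.1 (inv_mem h.mem) v).1 hv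
    rwa [inv_inv] at this)
  calc v * (g * c * g⁻¹) = g * (g⁻¹ * v * g * c) * g⁻¹ := by group
    _ = g * (c * (g⁻¹ * v * g)) * g⁻¹ := by rw [h1]
    _ = g * c * g⁻¹ * v := by group

end Sw

/-! ### basic facts -/

theorem inf_one (h : Ab T V z) (hx : Pt2 V z x) {y : G} (h1 : y ∈ zpowers z) (h2 : y ∈ zpowers x) : y = 1 := by
  rcases (mem_zpowers_iff_of_mul_self h.zz).1 h1 with e | e
  · exact e
  · rcases (mem_zpowers_iff_of_mul_self (Base.Pt.sq h.toGeoC (ptx h hx))).1 h2 with e' | e'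
    · exact e'
    · exact absurd (e.symm.trans e').symm hx.ne

theorem comm_iff {a b : G} : b * a * b⁻¹ * a⁻¹ = 1 ↔ a * b = b * a := by
  rw [mul_inv_eq_one, mul_inv_eq_iff_eq_mul]
  exact eq_comm

/-- elements of `kq V z` and of `ws V z` -/
theorem kq_comm {k v : G} (hk : k ∈ kq V z) (hv : v ∈ ws V z) : k * v * k⁻¹ * v⁻¹ ∈ zpowers z := hk.2.1 v hv

theorem inv_comm_mem {C : Subgroup G} {a b : G} (h : a * b * a⁻¹ * b⁻¹ ∈ C) : b * a * b⁻¹ * a⁻¹ ∈ C := by
  have h1 := inv_mem h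
  have e : (a * b * a⁻¹ * b⁻¹)⁻¹ = b * a * b⁻¹ * a⁻¹ := by group
  rwa [e] at h1

/-- `C(V) = C(z) ∩ C(x)` -/
theorem mem_cV (h : Ab T V z) (hx : Pt2 V z x) {c : G} (h1 : c * z = z * c) (h2 : c * x = x * c) :
    c ∈ centralizer (V : Set G) := by
  rw [mem_centralizer_iff]
  intro v hv
  rcases h.four h.z_mem hx.mem h.z_ne hx.ne_one hx.ne.symm hv with rfl | rfl | rfl | rfl
  · simp
  · exact h1.symm
  · exact h2.symm
  · rw [mul_assoc, ← h2, ← mul_assoc, ← h1, mul_assoc]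

theorem index_le_two {A : Type*} [CommGroup A] {K : Subgroup A} (h : ∀ a b, a ∉ K → b ∉ K → a * b ∈ K) :
    K.index ≤ 2 := by
  by_cases hK : K = ⊤
  · rw [hK, index_top]; norm_num
  · obtain ⟨a, ha⟩ : ∃ a, a ∉ K := by
      by_contra hcon
      push Not at hcon
      exact hK (eq_top_iff.2 fun a _ => hcon a)
    have : K.index = 2 := by
      rw [index_eq_two_iff]
      refine ⟨a, fun b => ?_⟩
      by_cases hb : b ∈ K
      · right
        exact ⟨hb, fun h2 => ha ((mul_mem_cancel_left hb).1 h2)⟩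
      · left
        exact ⟨h b a hb ha, hb⟩
    rw [this]

/-- the situation -/
structure On (T V : Subgroup G) (z x : G) (L : Subgroup G) (R : Rep V z M X) (J : Subgroup X) : Prop where
  star : BbDefs.Star T V z L
  amb : Amb J
  img : ∀ j : X, j ∈ J ↔ ∃ l ∈ L, R.rho l = j
  pt : Pt2 V z x
  nc : ∃ a ∈ ws V z, ∃ b ∈ ws V x, a * b ≠ b * a

namespace On

variable {R : Rep V z M X} {J : Subgroup X}

theorem ab (h : On T V z x L R J) : Ab T V z := BbMain.toAb h.star

theorem two (h : On T V z x L R J) (m : M) : m + m = 0 := Rep.two h.ab (Pt.refl z) R m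

theorem sq (h : On T V z x L R J) (v : Multiplicative M) : v * v = 1 := h.two v.toAdd

theorem inv_eq (h : On T V z x L R J) (v : Multiplicative M) : v⁻¹ = v := inv_eq_of_mul_eq_one_left (h.sq v)

/-- the action on the image of an element of `ws V z` -/
theorem act (_ : On T V z x L R J) {c v : G} (hc : c ∈ centralizer ({z} : Set G)) (hv : v ∈ ws V z) :
    hm X M (R.rho c) (Multiplicative.ofAdd (R.pi v)) = Multiplicative.ofAdd (R.pi (c * v * c⁻¹)) := by
  rw [hm_apply, R.smul_pi c hc v hv]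

theorem cm_eq (h : On T V z x L R J) {c v : G} (hc : c ∈ centralizer ({z} : Set G)) (hv : v ∈ ws V z) :
    cm (hm X M) (R.rho c) (Multiplicative.ofAdd (R.pi v)) = Multiplicative.ofAdd (R.pi (c * v * c⁻¹ * v⁻¹)) := by
  rw [cm_apply, h.act hc hv, R.pi_mul _ (R.conj_mem hc hv) _ (inv_mem hv), R.pi_inv hv]
  rfl

theorem md (h : On T V z x L R J) : Md (hm X M) J (TX h.ab.toGeoC R) (Multiplicative.ofAdd (R.pi x)) where
  toAmb := h.amb
  sq := h.sq
  fix := by
    intro t ht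
    rw [hm_apply]
    congr 1
    exact img_T_fix h.ab h.pt R ht
  f3 := by
    intro g hg hg1 he
    refine OneEnd.three_move h.ab R h.pt.mem h.pt.ne_one h.pt.ne h.star.f3 hg hg1 ?_
    rw [hm_apply] at he
    exact Multiplicative.ofAdd.injective he

theorem gen (h : On T V z x L R J) (N : Subgroup (Multiplicative M))
    (hN : ∀ g, hm X M g (Multiplicative.ofAdd (R.pi x)) ∈ N) : N = ⊤ := by
  let N' : AddSubgroup M :=
    { carrier := {m | Multiplicative.ofAdd m ∈ N}
      add_mem' := fun {a b} ha hb => N.mul_mem ha hb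
      zero_mem' := N.one_mem
      neg_mem' := fun {a} ha => N.inv_mem ha }
  have hcol : Col V z x := col_of_mem h.ab.toGeoC h.ab.z_mem h.pt.mem h.ab.z_ne h.pt.ne_one h.pt.ne.symm
  have h1 := Rep.eq_top_of_line h.ab (Pt.refl z) R hcol N' fun g => hN g
  rw [eq_top_iff]
  intro m _
  have : m.toAdd ∈ N' := by rw [h1]; trivial
  exact this

/-- elements of `ws V z` centralised by `L` -/
theorem mem_CS (h : On T V z x L R J) {v : G} (hv : v ∈ ws V z) (hL : ∀ l ∈ L, l * v = v * l) :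
    Multiplicative.ofAdd (R.pi v) ∈ CS (hm X M) J := by
  intro j hj
  obtain ⟨l, hl, rfl⟩ := (h.img j).1 hj
  rw [h.act (h.star.L_le hl) hv, hL l hl, mul_inv_cancel_right]

/-! ### `A` -/

theorem A_sq (h : On T V z x L R J) {a : X} (ha : a ∈ R.img (ws V x)) : a * a = 1 := img_sq h.ab h.pt R ha

theorem A_nor (h : On T V z x L R J) {τ a : X} (hτ : τ ∈ (TX h.ab.toGeoC R : Subgroup X)) (ha : a ∈ R.img (ws V x)) :
    τ * a * τ⁻¹ ∈ R.img (ws V x) := conj_img h.ab h.pt R (img_T_fix h.ab h.pt R hτ) ha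

theorem A_le (h : On T V z x L R J) : R.img (ws V x) ≤ (TX h.ab.toGeoC R : Subgroup X) := by
  intro a ha
  obtain ⟨w, hw, rfl⟩ := (R.mem_img (wx_le_cz h.ab h.pt)).1 ha
  exact (mem_TX h.ab.toGeoC R).2 ⟨w, wx_le_T h.ab h.pt hw, rfl⟩

theorem A_ne (h : On T V z x L R J) : R.img (ws V x) ≠ ⊥ := by
  intro hA
  have key : ∀ w ∈ ws V x, w ∈ kq V z := by
    intro w hw
    have h1 := R.rho_mem_img (wx_le_cz h.ab h.pt) hw
    rw [hA, mem_bot, Rep.rho_eq_one R (wx_le_cz h.ab h.pt hw)] at h1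
    exact h1
  obtain ⟨g, hg⟩ := exists_sw h.ab h.pt
  have key2 : ∀ v ∈ ws V z, v ∈ kq V x := by
    intro v hv
    have h1 := hg.inv.kz (key _ (hg.wz hv))
    have e : g⁻¹ * (g * v * g⁻¹) * g⁻¹⁻¹ = v := by group
    rwa [e] at h1
  obtain ⟨a, ha, b, hb, hab⟩ := h.nc
  apply hab
  rw [← comm_iff]
  exact inf_one h.ab h.pt (kq_comm (key b hb) ha) (inv_comm_mem (kq_comm (key2 a ha) hb))

theorem index_CS (h : On T V z x L R J) :
    (CS (hm X M) (R.img (ws V x))).index ≤ Nat.card (R.img (ws V x)) * Nat.card (R.img (ws V x)) ∧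
    ((∀ a ∈ ws V z, ∀ b ∈ ws V x, a * b * a⁻¹ * b⁻¹ ≠ x) →
      (CS (hm X M) (R.img (ws V x))).index ≤ Nat.card (R.img (ws V x))) := by
  have h9 : Nat.card (EO.Fit.fx (R.img (ws V x)) (⊤ : AddSubgroup M)) = Nat.card (CS (hm X M) (R.img (ws V x))) := by
    refine Nat.card_congr
      { toFun := fun m => ⟨Multiplicative.ofAdd (m : M), fun a ha => ?_⟩
        invFun := fun m => ⟨(m : Multiplicative M).toAdd, trivial, fun a ha => ?_⟩
        left_inv := fun _ => rfl
        right_inv := fun _ => rfl }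
    · rw [hm_apply, m.2.2 a ha]
    · have := m.2 a ha
      exact congrArg Multiplicative.toAdd this
  obtain ⟨h1, h2⟩ := card_M_le h.ab h.pt h.nc R
  rw [h9] at h1 h2
  have h3 := (CS (hm X M) (R.img (ws V x))).card_mul_index
  change _ = Nat.card M at h3
  have hpos : 0 < Nat.card (CS (hm X M) (R.img (ws V x))) := Nat.card_pos
  constructor
  · rw [← h3, mul_comm] at h1
    exact Nat.le_of_mul_le_mul_right h1 hpos
  · intro hn
    have h4 := h2 hn
    rw [← h3, mul_comm] at h4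
    exact Nat.le_of_mul_le_mul_right h4 hpos

/-- an element of `O₂(L)` acts on `ws V z` -/
theorem q_cases (h : On T V z x L R J) {q v : G} (hq : q ∈ o2 L) (hv : v ∈ ws V z) :
    q * v * q⁻¹ = v ∨ q * v * q⁻¹ = z * v :=
  kq_ws h.ab.toGeoC (mem_inf.1 (BbMain.o2L_le_T h.star hq)).2 hv

theorem q_z (h : On T V z x L R J) {q : G} (hq : q ∈ o2 L) : q * z = z * q :=
  mem_centralizer_singleton_iff.1 (h.star.L_le (o2_le L hq))

/-- `|A| ≠ 4` -/
theorem card_A_ne (h : On T V z x L R J) : Nat.card (R.img (ws V x)) ≠ 4 := by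
  intro h4
  have hnor := h.amb.nor
  by_cases hJ : J = ⊤
  swap
  · exact false_of_nor h.amb hJ (fun a ha => h.A_sq ha) h4 h.A_le (fun t ht a ha => h.A_nor ht ha)
  -- `C_X(A) = A`
  have hAJ : R.img (ws V x) ≤ J := by rw [hJ]; exact le_top
  have hB : FFThree.IsFour ((R.img (ws V x)).subgroupOf J) := ⟨by
    rw [← h4]
    exact Nat.card_congr (Subgroup.subgroupOfEquivOfLe hAJ).toEquiv, fun b hb => Subtype.ext (h.A_sq hb)⟩
  obtain ⟨a, ha, b, hb, hf, -⟩ := hB.exists_four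
  have hcA : ∀ y : X, (∀ c ∈ R.img (ws V x), y * c = c * y) → y ∈ R.img (ws V x) := by
    intro y hy
    rcases h.amb.cent_four hf (hy a ha) (hy b hb) with e | e | e | e
    · rw [e]; exact one_mem _
    · rw [e]; exact ha
    · rw [e]; exact hb
    · rw [e]; exact mul_mem (show (a : X) ∈ R.img (ws V x) from ha) (show (b : X) ∈ R.img (ws V x) from hb)
  obtain ⟨g, hg⟩ := exists_sw h.ab h.pt
  have hzx := z_mem_wx h.ab h.pt
  have hxz := x_mem_wz h.ab h.pt
  have hxx : x * x = 1 := Base.Pt.sq h.ab.toGeoC (ptx h.ab h.pt)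
  -- `O₂(L) ∩ C(x)` centralises `ws V z ∩ ws V x`
  have c1 : ∀ q ∈ o2 L, q * x = x * q → ∀ d ∈ ws V z, d ∈ ws V x → q * d = d * q := by
    intro q hq hqx d hdz hdx
    have hqz := h.q_z hq
    have hq' : g * q * g⁻¹ ∈ centralizer ({z} : Set G) := hg.cx (mem_centralizer_singleton_iff.2 hqx)
    have h1 : R.rho (g * q * g⁻¹) ∈ R.img (ws V x) := by
      apply hcA
      intro c hc
      obtain ⟨w, hw, rfl⟩ := (R.mem_img (wx_le_cz h.ab h.pt)).1 hc
      have hwz := wx_le_cz h.ab h.pt hw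
      rw [← R.rho_mul _ hq' _ hwz, ← R.rho_mul _ hwz _ hq', Rep.rho_eq_rho R (mul_mem hq' hwz) (mul_mem hwz hq')]
      -- `[g q g⁻¹, w] ∈ ⟨x⟩ ≤ kq V z`
      have h2 : g⁻¹ * w * g ∈ ws V z := by
        have := hg.inv.wx hw
        rwa [inv_inv] at this
      have h3 : g * q * g⁻¹ * w * (w * (g * q * g⁻¹))⁻¹ = 1 ∨ g * q * g⁻¹ * w * (w * (g * q * g⁻¹))⁻¹ = x := by
        rcases h.q_cases hq h2 with e | e
        · left
          calc g * q * g⁻¹ * w * (w * (g * q * g⁻¹))⁻¹ = g * (q * (g⁻¹ * w * g) * q⁻¹) * (g⁻¹ * w * g)⁻¹ * g⁻¹ := by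
                group
            _ = 1 := by rw [e]; group
        · right
          calc g * q * g⁻¹ * w * (w * (g * q * g⁻¹))⁻¹ = g * (q * (g⁻¹ * w * g) * q⁻¹) * (g⁻¹ * w * g)⁻¹ * g⁻¹ := by
                group
            _ = g * z * g⁻¹ := by rw [e]; group
            _ = x := hg.hz
      rcases h3 with e | e
      · rw [e]; exact one_mem _
      · rw [e]
        have : R.rho x = 1 := by
          rw [R.rho_eq_one_iff (wx_le_cz h.ab h.pt (Base.self_mem_ws h.ab.toGeoC (ptx h.ab h.pt)))]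
          intro v hv
          have e : x * v * x⁻¹ * v⁻¹ = 1 := by rw [h.ab.ab x hxz v hv]; group
          rw [e]; exact one_mem _
        exact (Rep.rho_eq_one R (wx_le_cz h.ab h.pt (Base.self_mem_ws h.ab.toGeoC (ptx h.ab h.pt)))).1 this
    obtain ⟨w, hw, hwe⟩ := (R.mem_img (wx_le_cz h.ab h.pt)).1 h1
    -- `q = v' k`
    have h2 := (Rep.rho_eq_rho R (wx_le_cz h.ab h.pt hw) hq').1 hwe
    set k' := w⁻¹ * (g * q * g⁻¹) with hk'
    have hk : k' ∈ kq V z := by
      have h3 : R.rho k' = 1 := by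
        rw [hk', R.rho_mul _ (inv_mem (wx_le_cz h.ab h.pt hw)) _ hq', R.rho_inv (wx_le_cz h.ab h.pt hw), hwe,
          inv_mul_cancel]
      exact (Rep.rho_eq_one R (mul_mem (inv_mem (wx_le_cz h.ab h.pt hw)) hq')).1 h3
    set v' := g⁻¹ * w * g with hv'
    set k := g⁻¹ * k' * g with hkd
    have hv'z : v' ∈ ws V z := by
      have := hg.inv.wx hw
      rwa [inv_inv] at this
    have hkx : k ∈ kq V x := by
      have := hg.inv.kz hk
      rwa [inv_inv] at this
    have hqe : q = v' * k := by rw [hv', hkd, hk']; group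
    have e1 : q * d * q⁻¹ * d⁻¹ ∈ zpowers z := kq_comm (mem_inf.1 (BbMain.o2L_le_T h.star hq)).2 hdz
    have e2 : q * d * q⁻¹ * d⁻¹ ∈ zpowers x := by
      have h3 : k * d * k⁻¹ * d⁻¹ ∈ zpowers x := kq_comm hkx hdx
      have hvd : v' * d = d * v' := h.ab.ab _ hv'z _ hdz
      have hvx : v' * x = x * v' := h.ab.ab _ hv'z _ hxz
      rcases (mem_zpowers_iff_of_mul_self hxx).1 h3 with e | e
      · have h5 : k * d * k⁻¹ = d := by rwa [mul_inv_eq_one] at e
        have : q * d * q⁻¹ * d⁻¹ = 1 := by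
          rw [hqe]
          calc v' * k * d * (v' * k)⁻¹ * d⁻¹ = v' * (k * d * k⁻¹) * v'⁻¹ * d⁻¹ := by group
            _ = (v' * d) * v'⁻¹ * d⁻¹ := by rw [h5]
            _ = 1 := by rw [hvd]; group
        rw [this]; exact one_mem _
      · have h5 : k * d * k⁻¹ = x * d := by rwa [mul_inv_eq_iff_eq_mul] at e
        have : q * d * q⁻¹ * d⁻¹ = x := by
          rw [hqe]
          calc v' * k * d * (v' * k)⁻¹ * d⁻¹ = v' * (k * d * k⁻¹) * v'⁻¹ * d⁻¹ := by group
            _ = (v' * x) * d * v'⁻¹ * d⁻¹ := by rw [h5]; group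
            _ = x * (v' * d) * v'⁻¹ * d⁻¹ := by rw [hvx]; group
            _ = x := by rw [hvd]; group
        rw [this]; exact mem_zpowers x
    have h3 := inf_one h.ab h.pt e1 e2
    rw [comm_iff] at h3
    exact h3.symm
  -- an element of `O₂(L)` moving `x`
  obtain ⟨q₀, hq₀, hq₀x⟩ : ∃ q ∈ o2 L, q * x ≠ x * q := by
    by_contra hcon
    push Not at hcon
    exact h.star.mv fun q hq => mem_cV h.ab h.pt (h.q_z hq) (hcon q hq)
  have hmvx : ∀ q ∈ o2 L, q * x ≠ x * q → q * x * q⁻¹ = z * x := by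
    intro q hq hqx
    rcases h.q_cases hq hxz with e | e
    · exact absurd (by rw [mul_inv_eq_iff_eq_mul] at e; exact e) hqx
    · exact e
  -- `d` commuting with `q₀`
  have c2 : ∀ d ∈ ws V z, d ∈ ws V x → q₀ * d = d * q₀ → Multiplicative.ofAdd (R.pi d) ∈ CS (hm X M) J := by
    intro d hdz hdx hd
    refine h.mem_CS hdz (h.star.RED d hdz fun q hq => ?_)
    by_cases hqx : q * x = x * q
    · exact c1 q hq hqx d hdz hdx
    · have h1 := hmvx q hq hqx
      have h2 := hmvx q₀ hq₀ hq₀x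
      have h3 : q₀⁻¹ * q ∈ o2 L := mul_mem (inv_mem hq₀) hq
      have h4 : q₀⁻¹ * q * x = x * (q₀⁻¹ * q) := by
        calc q₀⁻¹ * q * x = q₀⁻¹ * (q * x * q⁻¹) * q := by group
          _ = q₀⁻¹ * (q₀ * x * q₀⁻¹) * q := by rw [h1, h2]
          _ = x * (q₀⁻¹ * q) := by group
      have h5 := c1 _ h3 h4 d hdz hdx
      calc q * d = q₀ * (q₀⁻¹ * q * d) := by group
        _ = q₀ * (d * (q₀⁻¹ * q)) := by rw [h5]
        _ = (q₀ * d) * (q₀⁻¹ * q) := by group
        _ = (d * q₀) * (q₀⁻¹ * q) := by rw [hd]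
        _ = d * q := by group
  -- the index
  obtain ⟨w, hw, hwa⟩ := (R.mem_img (wx_le_cz h.ab h.pt)).1 ha
  have hwa : R.rho w = (a : X) := hwa
  have hwz := wx_le_cz h.ab h.pt hw
  have h5 : ((CS (hm X M) J).comap (cm (hm X M) (a : X))).index ≤ 2 := by
    apply index_le_two
    intro m m' hm1 hm2
    obtain ⟨v, hv, hvm⟩ := R.pi_surj m.toAdd
    obtain ⟨v', hv', hvm'⟩ := R.pi_surj m'.toAdd
    have e1 : m = Multiplicative.ofAdd (R.pi v) := by rw [hvm]; rfl
    have e2 : m' = Multiplicative.ofAdd (R.pi v') := by rw [hvm']; rfl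
    subst e1 e2
    have key : ∀ v ∈ ws V z, Multiplicative.ofAdd (R.pi v) ∉ (CS (hm X M) J).comap (cm (hm X M) (a : X)) →
        q₀ * (w * v * w⁻¹ * v⁻¹) * q₀⁻¹ = z * (w * v * w⁻¹ * v⁻¹) := by
      intro v hv hnv
      obtain ⟨d1, d2⟩ := OneStar.comm_mem h.ab h.pt hv hw
      rcases h.q_cases hq₀ d1 with e | e
      · exfalso
        apply hnv
        rw [mem_comap, ← hwa, h.cm_eq hwz hv]
        exact c2 _ d1 d2 (by rwa [mul_inv_eq_iff_eq_mul] at e)
      · exact e
    have k1 := key v hv hm1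
    have k2 := key v' hv' hm2
    obtain ⟨d1, d2⟩ := OneStar.comm_mem h.ab h.pt hv hw
    obtain ⟨d1', d2'⟩ := OneStar.comm_mem h.ab h.pt hv' hw
    rw [mem_comap, map_mul, ← hwa, h.cm_eq hwz hv, h.cm_eq hwz hv', ← ofAdd_add, ← R.pi_mul _ d1 _ d1']
    refine c2 _ (mul_mem d1 d1') (mul_mem d2 d2') ?_
    set f := w * v * w⁻¹ * v⁻¹ with hf1
    set f' := w * v' * w⁻¹ * v'⁻¹ with hf2
    have hfz : f * z = z * f := h.ab.ab _ d1 _ (h.ab.V_le_ws h.ab.z_mem)
    have : q₀ * (f * f') * q₀⁻¹ = f * f' := by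
      calc q₀ * (f * f') * q₀⁻¹ = (q₀ * f * q₀⁻¹) * (q₀ * f' * q₀⁻¹) := by group
        _ = z * (f * z) * f' := by rw [k1, k2]; group
        _ = (z * z) * (f * f') := by rw [hfz]; group
        _ = f * f' := by rw [h.ab.zz, one_mul]
    rwa [mul_inv_eq_iff_eq_mul] at this
  have h6 := h.md.two_lt_comap a.2 (fun e => hf.a1 (Subtype.ext e)) (congrArg Subtype.val hf.aa)
  omega

end On

end Cfsg.Agent.OddCyclic.EN.S7One
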