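import Cfsg.Agent.OddCyclic.EN.S7End
import Cfsg.Agent.OddCyclic.EN.S7Thr
import Cfsg.Agent.OddCyclic.EN.Shape

/-!
# (B-b): `bOne` of `EN/Final.lean`, types (B) and (B'), `n = 1`
-/

set_option autoImplicit false
set_option linter.unusedSectionVars false

namespace Cfsg.Agent.OddCyclic.EN.S7One

open Subgroup Cfsg Cfsg.Agent.ZN Cfsg.Agent.MinSimple.Geo Cfsg.Agent.OddCyclic.GeoC Cfsg.Agent.OddCyclic.BTwoA
  Cfsg.Agent.OddCyclic.EN.Line Cfsg.Agent.OddCyclic.EN.Base Cfsg.Agent.OddCyclic.EN.BbDefs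
  Cfsg.Agent.OddCyclic.EN.OneStar Cfsg.Agent.OddCyclic.EN.S7Grp
open Cfsg.Agent.OddCyclic.EN.Shape (Cfg TypeB)

universe u

theorem card_of_typeB {X : Type u} [Group X] {J : Subgroup X} (hB : TypeB J) : Nat.card J = 168 := by
  obtain ⟨F, i1, i2, hF, ⟨e⟩⟩ := hB
  rw [Nat.card_congr e.toEquiv]
  have h1 := Cfsg.Agent.ClassicalGeometry.PSL2Basic.card_PSL2_odd F (by rw [hF]; decide)
  rw [hF] at h1
  omega

/-- **`bOne`** of `EN/Final.lean` -/
theorem bOne {G : Type u} [Group G] [Finite G] {T V L : Subgroup G} {z : G} {M X : Type u} [AddCommGroup M] [Group X]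
    [DistribMulAction X M] {R : RepM.Rep V z M X} {J : Subgroup X} (h : Cfg T V z L R J) (hB : TypeB J)
    {x : G} (hx : x ∈ V) (hx1 : x ≠ 1) (hxz : x ≠ z) (hnc : ∃ a ∈ ws V z, ∃ b ∈ ws V x, a * b ≠ b * a) : False := by
  have hfM : Finite M := R.finite_left
  have hfX : Finite X := R.finite_right
  have hOn : On T V z x L R J := ⟨h.star, ⟨h.nor, h.simple, card_of_typeB hB, h.cent⟩, h.mem, ⟨hx, hx1, hxz⟩, hnc⟩
  obtain ⟨t, w, ht⟩ := hOn.exists_tw
  exact ht.false_of ht.comm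

end Cfsg.Agent.OddCyclic.EN.S7One
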