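import Cfsg.Agent.OddCyclic.EN.S7One

/-!
# S0342 (B-b), types (B), (B'), `n = 1`: `|A| = 2`, and the end of type (B)

* `Tw`: `A = ⟨t⟩`, `t ∈ J ∩ Z(T̄)`, `|M : C_M(t)| = 4`, the line vector is in `[M, t]`;
* `D = ⁅ws V z, ws V x⁆` is the preimage of `[M, t]`;
* `Tw.act_D`: 2-elements of `C(V)` with image in `J` centralise `D / ⟨z⟩`;
* `Tw.ne_top`: `J ≠ X`.
-/

set_option autoImplicit false
set_option linter.unusedSectionVars false

namespace Cfsg.Agent.OddCyclic.EN.S7One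

open Subgroup Cfsg Cfsg.Agent.ZN Cfsg.Agent.MinSimple.Geo Cfsg.Agent.OddCyclic.GeoC Cfsg.Agent.OddCyclic.BTwoA
  Cfsg.Agent.OddCyclic.EN.Line Cfsg.Agent.OddCyclic.EN.Base Cfsg.Agent.MinSimple.SecRep
  Cfsg.Agent.OddCyclic.EN.RepM Cfsg.Agent.OddCyclic.EN.BbDefs Cfsg.Agent.OddCyclic.EN.OneStar
  Cfsg.Agent.OddCyclic.EN.S7Grp Cfsg.Agent.OddCyclic.EN.S7Mod
open Cfsg.Agent.OddCyclic.BTwoB (kq_le centralizer_le_normalizer_kq)
open Cfsg.Agent.OddCyclic.T1Module (CS)
open Cfsg.Agent.OddCyclic.FFBasic (fx mem_fx cm cm_apply card_range_cm)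
open Cfsg.Agent.ZN.Block (conj_mem_of_normalizer conj_mem_of_normalizer' le_normalizer_of_forall
  mem_normalizer_of)
open scoped commutatorElement

universe u

variable {G : Type u} [Group G] [Finite G] {T V L : Subgroup G} {z x : G} {M X : Type u} [AddCommGroup M] [Group X]
  [DistribMulAction X M] [Finite M] [Finite X] {R : Rep V z M X} {J : Subgroup X}

/-- the situation with `A = ⟨t⟩`, `t` the image of `w` -/
structure Tw (T V : Subgroup G) (z x : G) (L : Subgroup G) (R : Rep V z M X) (J : Subgroup X) (t : X) (w : G) :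
    Prop extends On T V z x L R J where
  tJ : t ∈ J
  t1 : t ≠ 1
  tt : t * t = 1
  wx : w ∈ ws V x
  wt : R.rho w = t
  cases : ∀ b ∈ ws V x, R.rho b = 1 ∨ R.rho b = t
  idx : (fx (hm X M) t).index = 4
  e : Multiplicative.ofAdd (R.pi x) ∈ (cm (hm X M) t).range
  com : ∃ a ∈ ws V z, ∃ b ∈ ws V x, a * b * a⁻¹ * b⁻¹ = x
  cen : ∀ τ ∈ (TX toOn.ab.toGeoC R : Subgroup X), τ * t = t * τ

theorem On.exists_tw (h : On T V z x L R J) : ∃ (t : X) (w : G), Tw T V z x L R J t w := by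
  have hwxz := wx_le_cz h.ab h.pt
  set A := R.img (ws V x) with hA
  have hAsq : ∀ a ∈ A, a * a = 1 := fun a ha => h.A_sq ha
  have h4 : Nat.card A ≤ 4 := h.amb.card_le hAsq
  have hne4 := h.card_A_ne
  have h2 : Nat.card A = 2 := by
    have : Fact (Nat.Prime 2) := ⟨Nat.prime_two⟩
    have hp : IsPGroup 2 A := fun b => ⟨1, by
      rw [pow_one, pow_two]; exact Subtype.ext (hAsq b b.2)⟩
    obtain ⟨n, hn⟩ := IsPGroup.iff_card.1 hp
    have h1 : Nat.card A ≠ 1 := by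
      rw [Ne, Subgroup.card_eq_one]; exact h.A_ne
    rw [← hA] at hne4
    rw [hn] at h4 h1 hne4 ⊢
    have : n ≤ 2 := by
      by_contra hcon
      have h3 : 3 ≤ n := by omega
      have := Nat.pow_le_pow_right (n := 2) (by norm_num) h3
      omega
    interval_cases n
    · exact absurd rfl h1
    · rfl
    · exact absurd rfl hne4
  obtain ⟨t, htA, ht1⟩ : ∃ t ∈ A, t ≠ 1 := by
    obtain ⟨⟨t, ht⟩, ht1⟩ := Subgroup.ne_bot_iff_exists_ne_one.1 h.A_ne
    exact ⟨t, ht, fun e => ht1 (Subtype.ext e)⟩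
  have huniq : ∀ r ∈ A, r = 1 ∨ r = t := by
    intro r hr
    by_contra hcon
    push Not at hcon
    have h3 : ({1, t, r} : Set X) ⊆ (A : Set X) := by
      rintro y (rfl | rfl | rfl)
      · exact one_mem _
      · exact htA
      · exact hr
    have h5 := Set.ncard_le_ncard h3 (Set.toFinite _)
    rw [Set.ncard_eq_three.2 ⟨1, t, r, ht1.symm, hcon.1.symm, hcon.2.symm, rfl⟩, ← Nat.card_coe_set_eq] at h5
    change 3 ≤ Nat.card A at h5
    omega
  obtain ⟨w, hw, hwt⟩ := (R.mem_img hwxz).1 htA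
  have htt := hAsq t htA
  have hcases : ∀ b ∈ ws V x, R.rho b = 1 ∨ R.rho b = t := fun b hb => huniq _ (R.rho_mem_img hwxz hb)
  have hCS : CS (hm X M) A = fx (hm X M) t := by
    ext v
    constructor
    · intro hv; exact hv t htA
    · intro hv a ha
      rcases huniq a ha with rfl | rfl
      · rw [map_one]; rfl
      · exact hv
  have hidx := h.index_CS
  rw [← hA, hCS, h2] at hidx
  obtain ⟨hi4, hi2⟩ := hidx
  have hlow : 2 < (fx (hm X M) t).index := by
    by_cases htJ : t ∈ J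
    · exact h.md.two_lt htJ ht1 htt
    · have := outer h.amb h.sq h.md.nt htJ htt
      omega
  have htJ : t ∈ J := by
    by_contra htJ
    have := outer h.amb h.sq h.md.nt htJ htt
    omega
  have hidx4 : (fx (hm X M) t).index = 4 := le_antisymm hi4 (h.md.four_le htJ ht1 htt)
  have hcom : ∃ a ∈ ws V z, ∃ b ∈ ws V x, a * b * a⁻¹ * b⁻¹ = x := by
    by_contra hcon
    push Not at hcon
    have := hi2 hcon
    omega
  refine ⟨t, w, ⟨h, htJ, ht1, htt, hw, hwt, hcases, hidx4, ?_, hcom, ?_⟩⟩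
  · obtain ⟨a, ha, b, hb, hab⟩ := hcom
    have hbz := hwxz hb
    have hbt : R.rho b = t := by
      rcases hcases b hb with e | e
      · exfalso
        have h1 : b ∈ kq V z := (Rep.rho_eq_one R hbz).1 e
        have h3 : x ∈ zpowers z := by
          rw [← hab]; exact inv_comm_mem (kq_comm h1 ha)
        have h4 := inf_one h.ab h.pt h3 (mem_zpowers x)
        exact h.pt.ne_one h4
      · exact e
    refine ⟨Multiplicative.ofAdd (R.pi a⁻¹), ?_⟩
    rw [← hbt, h.cm_eq hbz (inv_mem ha)]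
    congr 1
    rw [← hab, inv_inv]
    have e1 : a * b * a⁻¹ * b⁻¹ = a * (b * a⁻¹ * b⁻¹) := by group
    have m1 : b * a⁻¹ * b⁻¹ ∈ ws V z := R.conj_mem hbz (inv_mem ha)
    rw [e1, R.pi_mul _ m1 _ ha, R.pi_mul _ ha _ m1, add_comm]
  · intro τ hτ
    have h1 := h.A_nor hτ htA
    rcases huniq _ h1 with e | e
    · exfalso
      apply ht1
      calc t = τ⁻¹ * (τ * t * τ⁻¹) * τ := by group
        _ = 1 := by rw [e]; group
    · rwa [mul_inv_eq_iff_eq_mul] at e

/-- `T ∩ C(V)` is a Sylow 2-subgroup of `C(V)` -/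
theorem exists_conj_T (h : Ab T V z) {c : G} (hc : c ∈ centralizer (V : Set G)) {k : ℕ} (hk : c ^ 2 ^ k = 1) :
    ∃ u ∈ centralizer (V : Set G), u * c * u⁻¹ ∈ T := by
  have : Fact (Nat.Prime 2) := ⟨Nat.prime_two⟩
  set C := centralizer (V : Set G) with hC
  have hCz : C ≤ centralizer ({z} : Set G) := centralizer_le (by
    rintro _ rfl; exact h.z_mem)
  set N₀ := normalizer (V : Set G) ⊓ centralizer ({z} : Set G) with hN₀
  have hCN : C ≤ N₀ := le_inf (centralizer_le_normalizer _) hCz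
  have hTN : T ≤ N₀ := le_inf h.T_norm h.T_le
  have hnC : (C.subgroupOf N₀).Normal := normal_subgroupOf_of_le_normalizer
    ((inf_le_left : N₀ ≤ normalizer (V : Set G)).trans (BbMain.le_normalizer_cent le_rfl))
  have h0 : ¬ 2 ∣ (T.subgroupOf N₀).index := by
    intro h2
    apply h.T_syl
    have := relIndex_mul_relIndex T N₀ (centralizer ({z} : Set G)) hTN inf_le_right
    rw [← this]
    exact Dvd.dvd.mul_right h2 _
  let S₀ : Sylow 2 N₀ := IsPGroup.toSylow (P := T.subgroupOf N₀) (h.two.comap_subtype (K := N₀)) h0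
  have h1 : ¬ 2 ∣ T.relIndex C := by
    have h2 := Cfsg.Agent.Lib.SylowNormalInf.not_dvd_relIndex S₀ (C.subgroupOf N₀)
    change ¬ 2 ∣ (T.subgroupOf N₀).relIndex (C.subgroupOf N₀) at h2
    rwa [relIndex_subgroupOf hCN] at h2
  let S : Sylow 2 C := IsPGroup.toSylow (P := T.subgroupOf C) (h.two.comap_subtype (K := C)) h1
  have hz : IsPGroup 2 (zpowers (⟨c, hc⟩ : C)) := by
    rintro ⟨y, hy⟩
    obtain ⟨n, rfl⟩ := hy
    refine ⟨k, Subtype.ext ?_⟩
    change ((⟨c, hc⟩ : C) ^ n) ^ 2 ^ k = 1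
    have e : (⟨c, hc⟩ : C) ^ 2 ^ k = 1 := Subtype.ext hk
    rw [← zpow_natCast, ← zpow_mul, mul_comm, zpow_mul, zpow_natCast, e, one_zpow]
  obtain ⟨Q, hQ⟩ := hz.exists_le_sylow
  obtain ⟨u, hu⟩ := MulAction.exists_smul_eq C Q S
  refine ⟨u, u.2, ?_⟩
  have h2 : u * ⟨c, hc⟩ * u⁻¹ ∈ (S : Subgroup C) := by
    rw [← hu]
    exact ⟨_, hQ (mem_zpowers _), rfl⟩
  exact h2

theorem cj_comm (g : G) (A B : Subgroup G) : cj g ⁅A, B⁆ = ⁅cj g A, cj g B⁆ := map_commutator _ _ _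

theorem sw_D {g : G} (hg : Sw V z x g) : cj g ⁅ws V z, ws V x⁆ = ⁅ws V z, ws V x⁆ := by
  rw [cj_comm, cj_ws, cj_ws, hg.hz, hg.hx, commutator_comm]

theorem cV_D (h : Ab T V z) (hx : Pt2 V z x) {u : G} (hu : u ∈ centralizer (V : Set G)) :
    cj u ⁅ws V z, ws V x⁆ = ⁅ws V z, ws V x⁆ := by
  have h1 := mem_centralizer_iff.1 hu
  have e1 : u * z * u⁻¹ = z := by rw [← h1 z h.z_mem, mul_inv_cancel_right]
  have e2 : u * x * u⁻¹ = x := by rw [← h1 x hx.mem, mul_inv_cancel_right]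
  rw [cj_comm, cj_ws, cj_ws, e1, e2]

theorem D_le (h : Ab T V z) (hx : Pt2 V z x) : ⁅ws V z, ws V x⁆ ≤ ws V z ⊓ ws V x := by
  rw [commutator_le]
  intro a ha b hb
  obtain ⟨h1, h2⟩ := OneStar.comm_mem h hx ha hb
  have e : ⁅a, b⁆ = (b * a * b⁻¹ * a⁻¹)⁻¹ := by rw [commutatorElement_def]; group
  rw [e]
  exact ⟨(ws V z).inv_mem h1, (ws V x).inv_mem h2⟩

namespace Tw

variable {t : X} {w : G}

theorem wz (h : Tw T V z x L R J t w) : w ∈ centralizer ({z} : Set G) := wx_le_cz h.ab h.pt h.wx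

theorem zx_ne (h : Tw T V z x L R J t w) : z ≠ x := h.pt.ne.symm

theorem xx (h : Tw T V z x L R J t w) : x * x = 1 := Base.Pt.sq h.ab.toGeoC (ptx h.ab h.pt)

theorem mul_kz (h : Tw T V z x L R J t w) {a b : G} (ha : a ∈ ws V x) (hb : b ∈ ws V x) (ha' : a ∉ kq V z)
    (hb' : b ∉ kq V z) : a * b ∈ kq V z := by
  have haz := wx_le_cz h.ab h.pt ha
  have hbz := wx_le_cz h.ab h.pt hb
  have key : ∀ b ∈ ws V x, b ∉ kq V z → R.rho b = t := by
    intro b hb hb'
    rcases h.cases b hb with e | e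
    · exact absurd ((Rep.rho_eq_one R (wx_le_cz h.ab h.pt hb)).1 e) hb'
    · exact e
  rw [← Rep.rho_eq_one R (mul_mem haz hbz), R.rho_mul _ haz _ hbz, key a ha ha', key b hb hb', h.tt]

theorem mul_kx (h : Tw T V z x L R J t w) {a b : G} (ha : a ∈ ws V z) (hb : b ∈ ws V z) (ha' : a ∉ kq V x)
    (hb' : b ∉ kq V x) : a * b ∈ kq V x := by
  obtain ⟨g, hg⟩ := exists_sw h.ab h.pt
  have key : ∀ a : G, a ∉ kq V x → g * a * g⁻¹ ∉ kq V z := by
    intro a ha h1
    apply ha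
    have h2 := hg.inv.kz h1
    have e : g⁻¹ * (g * a * g⁻¹) * g⁻¹⁻¹ = a := by group
    rwa [e] at h2
  have h1 := h.mul_kz (hg.wz ha) (hg.wz hb) (key a ha') (key b hb')
  have h2 := hg.inv.kz h1
  have e : g⁻¹ * (g * a * g⁻¹ * (g * b * g⁻¹)) * g⁻¹⁻¹ = a * b := by group
  rwa [e] at h2

/-- the commutators with `w` -/
theorem cm_w (h : Tw T V z x L R J t w) {v : G} (hv : v ∈ ws V z) :
    cm (hm X M) t (Multiplicative.ofAdd (R.pi v)) = Multiplicative.ofAdd (R.pi (w * v * w⁻¹ * v⁻¹)) := by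
  have h1 := h.cm_eq h.wz hv
  rwa [h.wt] at h1

theorem card_range (h : Tw T V z x L R J t w) : Nat.card (cm (hm X M) t).range = 4 := by
  rw [card_range_cm, h.idx]

theorem not_range_le (h : Tw T V z x L R J t w)
    (hr : ∀ r ∈ (cm (hm X M) t).range, r = 1 ∨ r = Multiplicative.ofAdd (R.pi x)) : False := by
  have h1 : ((cm (hm X M) t).range : Set (Multiplicative M)) ⊆ {1, Multiplicative.ofAdd (R.pi x)} := fun r h1 => hr r h1
  have h2 := Set.ncard_le_ncard h1 (Set.toFinite _)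
  have h3 := Set.ncard_insert_le (1 : Multiplicative M) {Multiplicative.ofAdd (R.pi x)}
  rw [Set.ncard_singleton] at h3
  rw [← Nat.card_coe_set_eq] at h2
  have h4 := h.card_range
  change Nat.card (cm (hm X M) t).range ≤ _ at h2
  omega

theorem pi_x_cases (h : Tw T V z x L R J t w) {y : G} (hy : y ∈ zpowers x) :
    Multiplicative.ofAdd (R.pi y) = 1 ∨ Multiplicative.ofAdd (R.pi y) = Multiplicative.ofAdd (R.pi x) := by
  rcases (mem_zpowers_iff_of_mul_self h.xx).1 hy with e | e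
  · left; rw [e, R.pi_one]; rfl
  · right; rw [e]

/-- `C_M(t)` is the image of `C_{ws V z}(ws V x)` -/
theorem F_comm (h : Tw T V z x L R J t w) {v : G} (hv : v ∈ ws V z) (hf : w * v * w⁻¹ * v⁻¹ ∈ zpowers z) :
    ∀ b ∈ ws V x, v * b = b * v := by
  by_contra hcon
  push Not at hcon
  obtain ⟨b, hb, hbv⟩ := hcon
  have hbz := wx_le_cz h.ab h.pt hb
  by_cases hvx : v ∈ kq V x
  · apply hbv
    have h1 : v * b * v⁻¹ * b⁻¹ ∈ zpowers x := kq_comm hvx hb
    have h2 : b * v * b⁻¹ * v⁻¹ ∈ zpowers z := by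
      rcases h.cases b hb with e | e
      · exact kq_comm ((Rep.rho_eq_one R hbz).1 e) hv
      · rw [← R.pi_eq_iff (R.conj_mem hbz hv) hv, ← R.smul_pi b hbz v hv, e, ← h.wt, R.smul_pi w h.wz v hv,
          R.pi_eq_iff (R.conj_mem h.wz hv) hv]
        exact hf
    have h3 := inf_one h.ab h.pt h2 (inv_comm_mem h1)
    rwa [comm_iff] at h3
  · apply h.not_range_le
    rintro r ⟨m, rfl⟩
    obtain ⟨v', hv', hvm⟩ := R.pi_surj m.toAdd
    have e1 : m = Multiplicative.ofAdd (R.pi v') := by rw [hvm]; rfl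
    subst e1
    by_cases hv'x : v' ∈ kq V x
    · rw [h.cm_w hv']
      exact h.pi_x_cases (inv_comm_mem (kq_comm hv'x h.wx))
    · have h1 := h.mul_kx hv hv' hvx hv'x
      have h2 := h.pi_x_cases (inv_comm_mem (kq_comm h1 h.wx))
      rw [← h.cm_w (mul_mem hv hv'), R.pi_mul v hv v' hv', ofAdd_add, map_mul, h.cm_w hv] at h2
      have h3 : Multiplicative.ofAdd (R.pi (w * v * w⁻¹ * v⁻¹)) = 1 := by
        rw [(R.pi_eq_zero _ (mul_mem (R.conj_mem h.wz hv) (inv_mem hv))).2 hf]; rfl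
      rwa [h3, one_mul] at h2

theorem x_mem_D (h : Tw T V z x L R J t w) : x ∈ ⁅ws V z, ws V x⁆ := by
  obtain ⟨a, ha, b, hb, e⟩ := h.com
  have h1 := commutator_mem_commutator ha hb
  rwa [commutatorElement_def, e] at h1

theorem z_mem_D (h : Tw T V z x L R J t w) : z ∈ ⁅ws V z, ws V x⁆ := by
  obtain ⟨g, hg⟩ := exists_sw h.ab h.pt
  have h1 := conj_mem_cj (g := g) h.x_mem_D
  rwa [sw_D hg, hg.hx] at h1

theorem mem_D (h : Tw T V z x L R J t w) {d : G} :
    d ∈ ⁅ws V z, ws V x⁆ ↔ d ∈ ws V z ∧ Multiplicative.ofAdd (R.pi d) ∈ (cm (hm X M) t).range := by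
  constructor
  · intro hd
    let K : Subgroup G :=
      { carrier := {d | d ∈ ws V z ∧ Multiplicative.ofAdd (R.pi d) ∈ (cm (hm X M) t).range}
        mul_mem' := by
          rintro a b ⟨ha, ha1⟩ ⟨hb, hb1⟩
          refine ⟨mul_mem ha hb, ?_⟩
          rw [R.pi_mul a ha b hb, ofAdd_add]
          exact mul_mem ha1 hb1
        one_mem' := ⟨one_mem _, by rw [R.pi_one]; exact one_mem _⟩
        inv_mem' := by
          rintro a ⟨ha, ha1⟩
          refine ⟨inv_mem ha, ?_⟩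
          rw [R.pi_inv ha, ofAdd_neg]
          exact inv_mem ha1 }
    have hK : ⁅ws V z, ws V x⁆ ≤ K := by
      rw [commutator_le]
      intro a ha b hb
      have hbz := wx_le_cz h.ab h.pt hb
      have e : ⁅a, b⁆ = (b * a * b⁻¹ * a⁻¹)⁻¹ := by rw [commutatorElement_def]; group
      rw [e]
      refine K.inv_mem ⟨mul_mem (R.conj_mem hbz ha) (inv_mem ha), ?_⟩
      rw [← h.cm_eq hbz ha]
      rcases h.cases b hb with e | e
      · rw [e]
        refine ⟨1, ?_⟩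
        rw [map_one, cm_apply, map_one, MulAut.one_apply, mul_inv_cancel]
      · rw [e]; exact ⟨_, rfl⟩
    exact hK hd
  · rintro ⟨hd, m, hm⟩
    obtain ⟨v, hv, hvm⟩ := R.pi_surj m.toAdd
    have e1 : m = Multiplicative.ofAdd (R.pi v) := by rw [hvm]; rfl
    rw [e1, h.cm_w hv] at hm
    have hm' : R.pi (w * v * w⁻¹ * v⁻¹) = R.pi d := Multiplicative.ofAdd.injective hm
    have h1 : w * v * w⁻¹ * v⁻¹ ∈ ⁅ws V z, ws V x⁆ := by
      rw [commutator_comm]
      exact commutator_mem_commutator h.wx hv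
    rw [Rep.pi_eq_pi h.ab (Pt.refl z) R (mul_mem (R.conj_mem h.wz hv) (inv_mem hv)) hd] at hm'
    rcases hm' with e | e
    · rw [← e]; exact h1
    · have e2 : d = z * (w * v * w⁻¹ * v⁻¹) := by
        rw [e, ← mul_assoc, h.ab.zz, one_mul]
      rw [e2]
      exact mul_mem h.z_mem_D h1

theorem D_le_z (h : Tw T V z x L R J t w) {d : G} (hd : d ∈ ⁅ws V z, ws V x⁆) : d ∈ ws V z :=
  (mem_inf.1 (D_le h.ab h.pt hd)).1

theorem D_le_x (h : Tw T V z x L R J t w) {d : G} (hd : d ∈ ⁅ws V z, ws V x⁆) : d ∈ ws V x :=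
  (mem_inf.1 (D_le h.ab h.pt hd)).2

/-- the standard pair -/
theorem exists_std' (h : Tw T V z x L R J t w) : ∃ z' a b : J, Std J (TX h.ab.toGeoC R) z' a b ∧ (z' : X) = t := by
  obtain ⟨z', a, b, hs⟩ := exists_std h.amb (TX h.ab.toGeoC R)
  exact ⟨z', a, b, hs, (hs.eq h.amb h.tJ h.t1 h.cen).symm⟩

/-- elements of `T` with image in `J` centralise `D / ⟨z⟩` -/
theorem act_T (h : Tw T V z x L R J t w) {c d : G} (hc : c ∈ T) (hcJ : R.rho c ∈ J) (hd : d ∈ ⁅ws V z, ws V x⁆) :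
    c * d * c⁻¹ = d ∨ c * d * c⁻¹ = z * d := by
  obtain ⟨z', a, b, hs, e⟩ := h.exists_std'
  have hcz := h.ab.T_le hc
  obtain ⟨hdz, hr⟩ := h.mem_D.1 hd
  have h1 := h.md.syl_trivial hs (by rw [e, h.idx]) (by rw [e]; exact h.e)
    ((mem_TX h.ab.toGeoC R).2 ⟨c, hc, rfl⟩) hcJ (by rw [e]; exact hr)
  rw [h.act hcz hdz] at h1
  exact (Rep.pi_eq_pi h.ab (Pt.refl z) R (R.conj_mem hcz hdz) hdz).1 (Multiplicative.ofAdd.injective h1)

/-- 2-elements of `C(V)` with image in `J` centralise `D / ⟨z⟩` -/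
theorem act_D (h : Tw T V z x L R J t w) {c d : G} (hc : c ∈ centralizer (V : Set G)) {k : ℕ} (hk : c ^ 2 ^ k = 1)
    (hcJ : R.rho c ∈ J) (hd : d ∈ ⁅ws V z, ws V x⁆) : c * d * c⁻¹ = d ∨ c * d * c⁻¹ = z * d := by
  have hnor := h.amb.nor
  obtain ⟨u, hu, huc⟩ := exists_conj_T h.ab hc hk
  have hcz : ∀ c ∈ centralizer (V : Set G), c ∈ centralizer ({z} : Set G) := fun c hc =>
    mem_centralizer_singleton_iff.2 (mem_centralizer_iff.1 hc z h.ab.z_mem).symm
  have h1 : R.rho (u * c * u⁻¹) ∈ J := by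
    rw [R.rho_conj (hcz u hu) (hcz c hc)]
    exact hnor.conj_mem _ hcJ _
  have h2 : u * d * u⁻¹ ∈ ⁅ws V z, ws V x⁆ := by
    rw [← cV_D h.ab h.pt hu]; exact conj_mem_cj hd
  have huz : u * z = z * u := mem_centralizer_singleton_iff.1 (hcz u hu)
  rcases h.act_T huc h1 h2 with e | e
  · left
    calc c * d * c⁻¹ = u⁻¹ * (u * c * u⁻¹ * (u * d * u⁻¹) * (u * c * u⁻¹)⁻¹) * u := by group
      _ = d := by rw [e]; group
  · right
    calc c * d * c⁻¹ = u⁻¹ * (u * c * u⁻¹ * (u * d * u⁻¹) * (u * c * u⁻¹)⁻¹) * u := by group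
      _ = u⁻¹ * (z * u) * d := by rw [e]; group
      _ = z * d := by rw [← huz]; group

theorem exists_d (h : Tw T V z x L R J t w) : ∃ d ∈ ⁅ws V z, ws V x⁆, d ∉ V := by
  by_contra hcon
  push Not at hcon
  apply h.not_range_le
  rintro r ⟨m, rfl⟩
  obtain ⟨v, hv, hvm⟩ := R.pi_surj m.toAdd
  have e1 : m = Multiplicative.ofAdd (R.pi v) := by rw [hvm]; rfl
  subst e1
  rw [h.cm_w hv]
  have h1 : w * v * w⁻¹ * v⁻¹ ∈ ⁅ws V z, ws V x⁆ := by
    rw [commutator_comm]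
    exact commutator_mem_commutator h.wx hv
  have hxz := x_mem_wz h.ab h.pt
  rcases h.ab.four h.ab.z_mem h.pt.mem h.ab.z_ne h.pt.ne_one h.zx_ne (hcon _ h1) with e | e | e | e
  · left; rw [e, R.pi_one]; rfl
  · left; rw [e, Rep.pi_self h.ab (Pt.refl z) R]; rfl
  · right; rw [e]
  · right; rw [e, Rep.pi_self_mul h.ab (Pt.refl z) R hxz]

/-- `T = (T ∩ C(V)) ∪ k (T ∩ C(V))` -/
theorem T_cases (h : Tw T V z x L R J t w) {k s : G} (hk : k ∈ T) (hkx : k * x * k⁻¹ = z * x) (hs : s ∈ T) :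
    s ∈ centralizer (V : Set G) ∨ k⁻¹ * s ∈ centralizer (V : Set G) := by
  have hsz := mem_centralizer_singleton_iff.1 (h.ab.T_le hs)
  have hkz := mem_centralizer_singleton_iff.1 (h.ab.T_le (T.mul_mem (T.inv_mem hk) hs))
  rcases h.ab.conj_cases h.ab.z_mem h.pt.mem h.ab.z_ne hsz (h.ab.T_norm hs) with e | e
  · left
    exact mem_cV h.ab h.pt hsz (by rwa [mul_inv_eq_iff_eq_mul] at e)
  · right
    refine mem_cV h.ab h.pt hkz ?_
    calc k⁻¹ * s * x = k⁻¹ * (s * x * s⁻¹) * s := by group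
      _ = k⁻¹ * (k * x * k⁻¹) * s := by rw [e, hkx]
      _ = x * (k⁻¹ * s) := by group

/-- type (B) -/
theorem ne_top (h : Tw T V z x L R J t w) : J ≠ ⊤ := by
  intro hJ
  obtain ⟨g, hg⟩ := exists_sw h.ab h.pt
  have hxz := x_mem_wz h.ab h.pt
  -- `T ∩ C(V)` centralises `D`
  have key : ∀ c ∈ T, c ∈ centralizer (V : Set G) → ∀ d ∈ ⁅ws V z, ws V x⁆, c * d = d * c := by
    intro c hcT hcV d hd
    obtain ⟨k, hk⟩ := h.ab.two ⟨c, hcT⟩
    have hk' : c ^ 2 ^ k = 1 := congrArg Subtype.val hk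
    have h1 := h.act_D hcV hk' (by rw [hJ]; trivial) hd
    -- the other side
    have h2 : g⁻¹ * d * g ∈ ⁅ws V z, ws V x⁆ := by
      have := conj_mem_cj (g := g⁻¹) hd
      rwa [sw_D hg.inv, inv_inv] at this
    have h3 : g⁻¹ * c * g ∈ centralizer (V : Set G) := by
      have := hg.inv.cV hcV
      rwa [inv_inv] at this
    have h4 : (g⁻¹ * c * g) ^ 2 ^ k = 1 := by
      have : g⁻¹ * c * g = g⁻¹ * c * g⁻¹⁻¹ := by group
      rw [this, conj_pow, hk']; group
    have h5 := h.act_D h3 h4 (by rw [hJ]; trivial) h2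
    have h6 : c * d * c⁻¹ * d⁻¹ ∈ zpowers z := by
      rcases h1 with e | e
      · rw [e, mul_inv_cancel]; exact one_mem _
      · rw [e, mul_inv_cancel_right]; exact mem_zpowers z
    have h7 : c * d * c⁻¹ * d⁻¹ ∈ zpowers x := by
      have e1 : c * d * c⁻¹ = g * (g⁻¹ * c * g * (g⁻¹ * d * g) * (g⁻¹ * c * g)⁻¹) * g⁻¹ := by group
      rcases h5 with e | e
      · rw [e1, e]
        have : g * (g⁻¹ * d * g) * g⁻¹ * d⁻¹ = 1 := by group
        rw [this]; exact one_mem _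
      · rw [e1, e]
        have : g * (z * (g⁻¹ * d * g)) * g⁻¹ * d⁻¹ = g * z * g⁻¹ := by group
        rw [this, hg.hz]; exact mem_zpowers x
    have h8 := inf_one h.ab h.pt h6 h7
    rw [comm_iff] at h8
    exact h8.symm
  obtain ⟨d, hd, hdV⟩ := h.exists_d
  have hdz := h.D_le_z hd
  obtain ⟨k, hk, hkm⟩ := h.ab.exists_swap
  have hkT := (mem_inf.1 hk).1
  have hkq := (mem_inf.1 hk).2
  have hkx : k * x * k⁻¹ = z * x := hkm x h.pt.mem h.pt.ne_one h.pt.ne
  have hkz : k * z = z * k := mem_centralizer_singleton_iff.1 (h.ab.T_le hkT)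
  -- an element of `ws V z` commuting with `k` and `T ∩ C(V)` lies in `⟨z⟩`
  have fin : ∀ f ∈ ws V z, k * f = f * k → (∀ c ∈ T, c ∈ centralizer (V : Set G) → c * f = f * c) → f = 1 ∨ f = z := by
    intro f hf hkf hcf
    refine h.ab.soc f (h.ab.ws_le_T hf) (h.ab.ws_sq hf) fun s hs => ?_
    rcases h.T_cases hkT hkx hs with h1 | h1
    · exact hcf s hs h1
    · have h2 := hcf _ (mul_mem (inv_mem hkT) hs) h1
      calc s * f = k * (k⁻¹ * s * f) := by group
        _ = k * (f * (k⁻¹ * s)) := by rw [h2]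
        _ = (k * f) * k⁻¹ * s := by group
        _ = f * s := by rw [hkf]; group
  rcases kq_ws h.ab.toGeoC hkq hdz with e | e
  · rcases fin d hdz (by rwa [mul_inv_eq_iff_eq_mul] at e) (fun c hc hcV => key c hc hcV d hd) with e1 | e1
    · exact hdV (e1 ▸ one_mem _)
    · exact hdV (e1 ▸ h.ab.z_mem)
  · have hdzz : d * z = z * d := h.ab.ab _ hdz _ (h.ab.V_le_ws h.ab.z_mem)
    have h1 : k * (d * x) * k⁻¹ = d * x := by
      calc k * (d * x) * k⁻¹ = (k * d * k⁻¹) * (k * x * k⁻¹) := by group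
        _ = z * (d * z) * x := by rw [e, hkx]; group
        _ = (z * z) * (d * x) := by rw [hdzz]; group
        _ = d * x := by rw [h.ab.zz, one_mul]
    have h2 : ∀ c ∈ T, c ∈ centralizer (V : Set G) → c * (d * x) = d * x * c := by
      intro c hc hcV
      have h3 := key c hc hcV d hd
      have h4 := mem_centralizer_iff.1 hcV x h.pt.mem
      calc c * (d * x) = (c * d) * x := by group
        _ = d * (c * x) := by rw [h3]; group
        _ = d * x * c := by rw [← h4]; group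
    have hxV := h.pt.mem
    rcases fin (d * x) (mul_mem hdz hxz) (by rwa [mul_inv_eq_iff_eq_mul] at h1) h2 with e1 | e1
    · apply hdV
      have : d = x := by
        calc d = d * x * x⁻¹ := by group
          _ = x⁻¹ := by rw [e1, one_mul]
          _ = x := inv_eq_of_mul_eq_one_left h.xx
      rw [this]; exact hxV
    · apply hdV
      have : d = z * x⁻¹ := by
        calc d = d * x * x⁻¹ := by group
          _ = z * x⁻¹ := by rw [e1]
      rw [this]; exact mul_mem h.ab.z_mem (inv_mem hxV)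

end Tw

end Cfsg.Agent.OddCyclic.EN.S7One
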