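import Cfsg.Agent.OddCyclic.EN.BbConj
import Cfsg.Agent.OddCyclic.EN.PiComp

/-!
# (B-b), 3.5: from the pi-frame to the full frame

`R : Rep V z M X` the module at `z`, `K ⊴ X`, `R'` the module of a pi-frame `Fr T V P z`, `R.pre K ≤ P`:
`exists_iso`: `K ≃* R'.img (R.pre K)` (`inj_of_cyclic`); `img_T_le`; `o2_eq_bot`: `O₂(X) = 1`.
-/

set_option autoImplicit false
set_option linter.unusedSectionVars false

namespace Cfsg.Agent.OddCyclic.EN.ShapeA

open Subgroup Cfsg Cfsg.Agent.ZN Cfsg.Agent.MinSimple.Geo Cfsg.Agent.OddCyclic.GeoC Cfsg.Agent.OddCyclic.BTwoA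
  Cfsg.Agent.MinSimple.SecRep Cfsg.Agent.OddCyclic.EN.Pi
open Cfsg.Agent.OddCyclic.EN.Line (mem_kq0)
open Cfsg.Agent.ZN.Block (conj_mem_of_normalizer conj_mem_of_normalizer' le_normalizer_of_forall
  mem_normalizer_of)

universe u

variable {G : Type u} [Group G] [Finite G] {T V P : Subgroup G} {z : G}
variable {M X : Type u} [AddCommGroup M] [Group X] [DistribMulAction X M]
variable {M' X' : Type u} [AddCommGroup M'] [Group X'] [DistribMulAction X' M']

/-- the stabiliser of the line vector `R.pi y` -/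
theorem smul_line_iff (h : GeoC T V z) (R : RepM.Rep V z M X) {c y : G} (hc : c ∈ centralizer ({z} : Set G))
    (hy : y ∈ V) (hy1 : y ≠ 1) (hyz : y ≠ z) : R.rho c • R.pi y = R.pi y ↔ c ∈ normalizer (V : Set G) := by
  have hyw := h.V_le_ws hy
  have hzz := h.zz
  have hcz : c * z * c⁻¹ = z := mul_inv_eq_iff_eq_mul.mpr (mem_centralizer_singleton_iff.mp hc)
  rw [R.smul_pi c hc y hyw, R.pi_eq_iff (R.conj_mem hc hyw) hyw, mem_zpowers_iff_of_mul_self hzz, mul_inv_eq_one]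
  constructor
  · intro hcy
    have hcy' : c * y * c⁻¹ ∈ V := by
      rcases hcy with e | e
      · rw [e]; exact hy
      · rw [mul_inv_eq_iff_eq_mul.mp e]; exact mul_mem h.z_mem hy
    have key : ∀ v ∈ V, c * v * c⁻¹ ∈ V := by
      intro v hv
      rcases h.four h.z_mem hy h.z_ne hy1 (Ne.symm hyz) hv with rfl | rfl | rfl | rfl
      · simp
      · rw [hcz]; exact h.z_mem
      · exact hcy'
      · have e : c * (z * y) * c⁻¹ = (c * z * c⁻¹) * (c * y * c⁻¹) := by group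
        rw [e, hcz]; exact mul_mem h.z_mem hcy'
    rw [mem_normalizer_iff_cj]
    have h1 : cj c V ≤ V := by
      rintro _ ⟨v, hv, rfl⟩
      exact key v hv
    exact eq_of_le_of_card_ge h1 (by rw [card_cj])
  · intro hn
    rcases h.conj_cases h.z_mem hy h.z_ne (mem_centralizer_singleton_iff.mp hc) hn with e | e
    · exact Or.inl e
    · right
      rw [e, mul_inv_cancel_right]

/-- `λ^X` generates `M` -/
theorem span (h : GeoC T V z) (R : RepM.Rep V z M X) {y : G} (hy : y ∈ V) (hy1 : y ≠ 1) (hyz : y ≠ z)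
    (N : AddSubgroup M) (hN : ∀ g : X, g • R.pi y ∈ N) : N = ⊤ := by
  rw [eq_top_iff]
  rintro m -
  obtain ⟨w, hw, rfl⟩ := R.pi_surj m
  let U : Subgroup G :=
    { carrier := {w | w ∈ ws V z ∧ R.pi w ∈ N}
      mul_mem' := by
        rintro a b ⟨ha, ha1⟩ ⟨hb, hb1⟩
        refine ⟨mul_mem ha hb, ?_⟩
        rw [R.pi_mul a ha b hb]; exact add_mem ha1 hb1
      one_mem' := ⟨one_mem _, by rw [R.pi_one]; exact zero_mem _⟩
      inv_mem' := by
        rintro a ⟨ha, ha1⟩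
        refine ⟨inv_mem ha, ?_⟩
        rw [R.pi_inv ha]; exact neg_mem ha1 }
  refine (ws_le (U := U) (fun L hL w hw => ⟨le_ws hL hw, ?_⟩) hw).2
  obtain ⟨c, hc, rfl⟩ := h.exists_of_mem_lines hL
  have hzW : z ∈ ws V z := h.V_le_ws h.z_mem
  have hz0 : R.pi z = 0 := (R.pi_eq_zero z hzW).mpr (mem_zpowers z)
  rw [mem_cj] at hw
  set v := c⁻¹ * w * c with hv
  have hwv : w = c * v * c⁻¹ := by rw [hv]; group
  have hvW := h.V_le_ws hw
  rw [hwv, ← R.smul_pi c hc v hvW]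
  rcases h.four h.z_mem hy h.z_ne hy1 (Ne.symm hyz) hw with e | e | e | e
  · rw [e, R.pi_one, smul_zero]; exact zero_mem _
  · rw [e, hz0, smul_zero]; exact zero_mem _
  · rw [e]; exact hN _
  · rw [e, R.pi_mul z hzW y (h.V_le_ws hy), hz0, zero_add]; exact hN _

/-- a normal subgroup fixing the line vector is trivial -/
theorem eq_bot_of_fix (h : GeoC T V z) (R : RepM.Rep V z M X) {y : G} (hy : y ∈ V) (hy1 : y ≠ 1) (hyz : y ≠ z)
    {N : Subgroup X} (hN : N.Normal) (hf : ∀ n ∈ N, n • R.pi y = R.pi y) : N = ⊥ := by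
  rw [eq_bot_iff]
  intro n hn
  rw [mem_bot]
  apply R.faithful
  intro m
  let F : AddSubgroup M :=
    { carrier := {m | ∀ n ∈ N, n • m = m}
      add_mem' := by
        intro a b ha hb n hn
        rw [smul_add, ha n hn, hb n hn]
      zero_mem' := fun n _ => smul_zero n
      neg_mem' := by
        intro a ha n hn
        rw [smul_neg, ha n hn] }
  have hF : F = ⊤ := span h R hy hy1 hyz F fun x n hn => by
    have h1 : x⁻¹ * n * x ∈ N := by
      have := hN.conj_mem n hn x⁻¹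
      rwa [inv_inv] at this
    have h2 := hf _ h1
    calc n • x • R.pi y = (x * (x⁻¹ * n * x)) • R.pi y := by rw [smul_smul]; congr 1; group
      _ = x • R.pi y := by rw [mul_smul, h2]
  have : m ∈ F := by rw [hF]; trivial
  exact this n hn

/-- `O₂(X) = 1` -/
theorem o2_eq_bot (h : GeoC T V z) (R : RepM.Rep V z M X) {N : Subgroup X} (hN : N.Normal) (h2 : IsPGroup 2 N) :
    N = ⊥ := by
  have hle : R.pre N ≤ kq V z := by
    refine BTwoB.le_kq h (R.pre_le N) (R.le_normalizer_pre hN) fun c hc => ?_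
    rw [R.mem_pre] at hc
    obtain ⟨k, hk⟩ := h2 ⟨R.rho c, hc.2⟩
    refine ⟨k, ?_⟩
    rw [← RepM.Rep.rho_eq_one R (pow_mem hc.1 _), R.rho_pow hc.1]
    exact congrArg Subtype.val hk
  rw [eq_bot_iff]
  intro n hn
  obtain ⟨c, hc, rfl⟩ := R.rho_surj n
  rw [mem_bot, RepM.Rep.rho_eq_one R hc]
  exact hle (R.mem_pre.mpr ⟨hc, hn⟩)

/-- `kq V z ≤ kp V P z` -/
theorem kq_le_kp (hF : Fr T V P z) (R' : Pair.Rep V P z M' X') {c : G} (hc : c ∈ kq V z) (hcP : c ∈ P) :
    R'.rho c = 1 := by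
  rw [R'.rho_eq_one_iff hcP]
  intro w hw
  exact (mem_kq0.mp hc).2.1 w (hF.wp_le_ws hw)

/-- elements of the kernel of the pi-frame fix the line -/
theorem norm_of_ker (hF : Fr T V P z) (R' : Pair.Rep V P z M' X') {c : G} (hcP : c ∈ P) (hc : R'.rho c = 1) :
    c ∈ normalizer (V : Set G) := by
  obtain ⟨y, hy, hy1, hyz⟩ := hF.geo.exists_y
  rw [← Pi.Rep.smul_line_iff hF R' hcP hy hy1 hyz, hc, one_smul]

section Iso

variable {K : Subgroup X}

/-- injectivity for a cyclic normal subgroup -/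
theorem inj_of_cyclic (hF : Fr T V P z) (R : RepM.Rep V z M X) (R' : Pair.Rep V P z M' X') (hKn : K.Normal)
    (hKc : IsCyclic K) (hKP : R.pre K ≤ P) :
    ∀ c ∈ R.pre K, R'.rho c = 1 → R.rho c = 1 := by
  obtain ⟨y, hy, hy1, hyz⟩ := hF.geo.exists_y
  -- the stabiliser of the line in `K`
  let D : Subgroup X :=
    { carrier := {x | x ∈ K ∧ x • R.pi y = R.pi y}
      mul_mem' := by
        rintro a b ⟨ha, ha1⟩ ⟨hb, hb1⟩
        exact ⟨mul_mem ha hb, by rw [mul_smul, hb1, ha1]⟩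
      one_mem' := ⟨one_mem _, one_smul _ _⟩
      inv_mem' := by
        rintro a ⟨ha, ha1⟩
        refine ⟨inv_mem ha, ?_⟩
        rw [inv_smul_eq_iff, ha1] }
  have hDK : D ≤ K := fun x hx => hx.1
  have hDn : D.Normal := by
    obtain ⟨⟨g, hg⟩, hgen⟩ := (hKc).exists_generator
    have hz : ∀ x ∈ K, ∃ n : ℤ, g ^ n = x := by
      intro x hx
      obtain ⟨n, hn⟩ := mem_zpowers_iff.mp (hgen ⟨x, hx⟩)
      exact ⟨n, congrArg Subtype.val hn⟩
    refine ⟨fun d hd x => ?_⟩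
    -- `x g x⁻¹ = g ^ k`
    obtain ⟨k, hk⟩ := hz _ (hKn.conj_mem g hg x)
    obtain ⟨n, hn⟩ := hz d hd.1
    have e : x * d * x⁻¹ = d ^ k := by
      rw [← hn]
      calc x * g ^ n * x⁻¹ = (x * g * x⁻¹) ^ n := by rw [conj_zpow]
        _ = (g ^ n) ^ k := by rw [← hk, ← zpow_mul, ← zpow_mul, mul_comm]
    rw [e]
    exact zpow_mem hd k
  have hDb := eq_bot_of_fix hF.geo R hy hy1 hyz hDn fun n hn => hn.2
  intro c hc hc1
  have h1 : R.rho c ∈ D := ⟨(R.mem_pre.mp hc).2,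
    (smul_line_iff hF.geo R (R.pre_le K hc) hy hy1 hyz).mpr (norm_of_ker hF R' (hKP hc) hc1)⟩
  rw [hDb, mem_bot] at h1
  exact h1

/-- **`K` and its image in the pi-frame** -/
theorem exists_iso (hF : Fr T V P z) (R : RepM.Rep V z M X) (R' : Pair.Rep V P z M' X')
    (hKP : R.pre K ≤ P) (hinj : ∀ c ∈ R.pre K, R'.rho c = 1 → R.rho c = 1) :
    Nonempty (K ≃* R'.img (R.pre K)) := by
  let f1 : R.pre K →* K :=
    { toFun := fun c => ⟨R.rho c, (R.mem_pre.mp c.2).2⟩
      map_one' := Subtype.ext R.rho_one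
      map_mul' := fun a b => Subtype.ext (R.rho_mul a (R.pre_le K a.2) b (R.pre_le K b.2)) }
  have hf1 : Function.Surjective f1 := by
    rintro ⟨x, hx⟩
    obtain ⟨c, hc, rfl⟩ := R.rho_surj x
    exact ⟨⟨c, R.mem_pre.mpr ⟨hc, hx⟩⟩, rfl⟩
  let f2 : R.pre K →* R'.img (R.pre K) :=
    { toFun := fun c => ⟨R'.rho c, R'.rho_mem_img hKP c.2⟩
      map_one' := Subtype.ext R'.rho_one
      map_mul' := fun a b => Subtype.ext (R'.rho_mul a (hKP a.2) b (hKP b.2)) }
  have hf2 : Function.Surjective f2 := by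
    rintro ⟨x, hx⟩
    obtain ⟨c, hc, rfl⟩ := (R'.mem_img hKP).mp hx
    exact ⟨⟨c, hc⟩, rfl⟩
  have hker : f1.ker = f2.ker := by
    ext c
    rw [MonoidHom.mem_ker, MonoidHom.mem_ker]
    constructor
    · intro e
      have e1 : R.rho (c : G) = 1 := congrArg Subtype.val e
      rw [RepM.Rep.rho_eq_one R (R.pre_le K c.2)] at e1
      exact Subtype.ext (kq_le_kp hF R' e1 (hKP c.2))
    · intro e
      have e1 : R'.rho (c : G) = 1 := congrArg Subtype.val e
      exact Subtype.ext (hinj c c.2 e1)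
  exact ⟨(QuotientGroup.quotientKerEquivOfSurjective f1 hf1).symm.trans
    ((QuotientGroup.quotientMulEquivOfEq hker).trans (QuotientGroup.quotientKerEquivOfSurjective f2 hf2))⟩

/-- if the image of `T` in `X` lies in `K` then also in the pi-frame -/
theorem img_T_le (hF : Fr T V P z) (R : RepM.Rep V z M X) (R' : Pair.Rep V P z M' X') (hKP : R.pre K ≤ P)
    (hT : R.img T ≤ K) : R'.img T ≤ R'.img (R.pre K) := by
  intro x hx
  obtain ⟨t, ht, rfl⟩ := (R'.mem_img hF.T_le).mp hx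
  have htC : T ≤ centralizer ({z} : Set G) := hF.geo.T_le
  exact R'.rho_mem_img hKP (R.mem_pre.mpr ⟨htC ht, hT (R.rho_mem_img htC ht)⟩)

end Iso

end Cfsg.Agent.OddCyclic.EN.ShapeA
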